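import Mathlib
import Cfsg.Prelude.Def_TwoFusion

set_option autoImplicit false

namespace Cfsg.Agent.Helper6

variable {G : Type*} [Group G]

theorem inv_eq_self_of_mul_self {x : G} (hx : x * x = 1) : x⁻¹ = x :=
  inv_eq_of_mul_eq_one_left hx

/-- For involutions `x`, `y`: `x (xy)^n = (xy)^{-n} x`. -/
theorem invol_mul_pow {x y : G} (hx : x * x = 1) (hy : y * y = 1) (n : ℕ) :
    x * (x * y) ^ n = ((x * y)⁻¹) ^ n * x := by
  have hxi := inv_eq_self_of_mul_self hx
  have hyi := inv_eq_self_of_mul_self hy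
  have h1 : x * (x * y) * x⁻¹ = (x * y)⁻¹ := by
    rw [mul_inv_rev, hxi, hyi, ← mul_assoc, hx, one_mul]
  have h2 : x * (x * y) ^ n * x⁻¹ = ((x * y)⁻¹) ^ n := by
    rw [← conj_pow, h1]
  rw [← h2, hxi, mul_assoc (x * (x * y) ^ n), hx, mul_one]

theorem invol_conj_even {x y : G} (hx : x * x = 1) (hy : y * y = 1) (j : ℕ) :
    ((x * y) ^ j)⁻¹ * x * (x * y) ^ j = x * (x * y) ^ (2 * j) := by
  rw [two_mul, pow_add, ← mul_assoc, invol_mul_pow hx hy, inv_pow]

theorem invol_conj_odd {x y : G} (hx : x * x = 1) (hy : y * y = 1) (j : ℕ) :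
    ((x * y) ^ j)⁻¹ * y * (x * y) ^ j = x * (x * y) ^ (2 * j + 1) := by
  have e : (x * y) ^ (2 * j + 1) = (x * y) ^ j * (x * y) * (x * y) ^ j := by
    rw [← pow_succ, ← pow_add]; congr 1; ring
  rw [e, ← mul_assoc, ← mul_assoc, invol_mul_pow hx hy, inv_pow]
  congr 1
  rw [mul_assoc, ← mul_assoc x x y, hx, one_mul]

/-- If `x`, `y` are involutions and `(xy)^(2j+1) = 1` then `x` is conjugate to `y` by a power of `xy`. -/
theorem invol_conj_of_odd {x y : G} (hx : x * x = 1) (hy : y * y = 1) (j : ℕ)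
    (h : (x * y) ^ (2 * j + 1) = 1) : ((x * y) ^ j)⁻¹ * y * (x * y) ^ j = x := by
  rw [invol_conj_odd hx hy, h, mul_one]

theorem orderOf_conj_eq (g x : G) : orderOf (g * x * g⁻¹) = orderOf x := by
  have h : SemiconjBy g x (g * x * g⁻¹) := by
    show g * x = g * x * g⁻¹ * g
    group
  exact (h.orderOf_eq g).symm

theorem isolated_mul_self {z : G} (hz : Cfsg.IsIsolatedInvolution z) : z * z = 1 := by
  rw [← pow_two, ← hz.1, pow_orderOf_eq_one]

theorem isolated_ne_one {z : G} (hz : Cfsg.IsIsolatedInvolution z) : z ≠ 1 := by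
  intro h
  have := hz.1
  rw [h, orderOf_one] at this
  omega

theorem conj_mul_self {z : G} (hz : z * z = 1) (g : G) : (g * z * g⁻¹) * (g * z * g⁻¹) = 1 := by
  calc g * z * g⁻¹ * (g * z * g⁻¹) = g * (z * z) * g⁻¹ := by group
    _ = 1 := by rw [hz]; group

/-- Key lemma: the product of an isolated involution with any of its conjugates has odd order. -/
theorem isolated_mul_conj_odd [Finite G] {z : G} (hz : Cfsg.IsIsolatedInvolution z) (g : G) :
    Odd (orderOf (z * (g * z * g⁻¹))) := by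
  have hzz := isolated_mul_self hz
  set y := g * z * g⁻¹ with hy
  have hyy : y * y = 1 := conj_mul_self hzz g
  have hzi := inv_eq_self_of_mul_self hzz
  have hyi := inv_eq_self_of_mul_self hyy
  by_contra hodd
  rw [Nat.not_odd_iff_even] at hodd
  obtain ⟨k, hk⟩ := hodd
  set r := z * y with hr
  have hpos : 0 < orderOf r := orderOf_pos r
  have hk1 : 1 ≤ k := by omega
  set w := r ^ k with hw
  have hw1 : w ≠ 1 := by
    intro h
    have := Nat.le_of_dvd (by omega) (orderOf_dvd_of_pow_eq_one h)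
    omega
  have hw2 : w * w = 1 := by
    rw [hw, ← pow_add, ← hk, pow_orderOf_eq_one]
  have hwi : w⁻¹ = w := inv_eq_self_of_mul_self hw2
  have hzw : z * w = w * z := by
    rw [hw, hr, invol_mul_pow hzz hyy, inv_pow, ← hr, ← hw, hwi]
  -- z * w is a conjugate of z
  have hconj : ∃ c : G, c * z * c⁻¹ = z * w := by
    rcases Nat.even_or_odd' k with ⟨j, hj | hj⟩
    · refine ⟨(r ^ j)⁻¹, ?_⟩
      rw [inv_inv, hw, hj, hr, invol_conj_even hzz hyy]
    · refine ⟨(r ^ j)⁻¹ * g, ?_⟩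
      rw [hw, hj, hr, ← invol_conj_odd hzz hyy, hy]
      group
  obtain ⟨c, hc⟩ := hconj
  have hcomm : Commute z (c * z * c⁻¹) := by
    rw [hc]
    show z * (z * w) = z * w * z
    rw [mul_assoc, hzw]
  have := hz.2 c hcomm
  rw [hc] at this
  apply hw1
  have h2 : z * w = z * 1 := by rw [mul_one]; exact this
  exact mul_left_cancel h2

theorem isolated_conj_mul_odd [Finite G] {z : G} (hz : Cfsg.IsIsolatedInvolution z) (g : G) :
    Odd (orderOf ((g * z * g⁻¹) * z)) := by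
  have h := isolated_mul_conj_odd hz g
  have hzi := inv_eq_self_of_mul_self (isolated_mul_self hz)
  have : (g * z * g⁻¹) * z = z⁻¹ * (z * (g * z * g⁻¹)) * z⁻¹⁻¹ := by group
  rw [this, orderOf_conj_eq]
  exact h

/-- A conjugate of an isolated involution is isolated. -/
theorem isolated_conj {z : G} (hz : Cfsg.IsIsolatedInvolution z) (g : G) :
    Cfsg.IsIsolatedInvolution (g * z * g⁻¹) := by
  refine ⟨by rw [orderOf_conj_eq]; exact hz.1, ?_⟩
  intro h hcomm
  have h1 : Commute z ((g⁻¹ * h * g) * z * (g⁻¹ * h * g)⁻¹) := by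
    have : g⁻¹ * (g * z * g⁻¹) * g = z := by group
    have h2 : g⁻¹ * (h * (g * z * g⁻¹) * h⁻¹) * g = (g⁻¹ * h * g) * z * (g⁻¹ * h * g)⁻¹ := by group
    have h3 := hcomm.eq
    show z * _ = _ * z
    rw [← h2]
    nth_rewrite 1 [← this]
    nth_rewrite 4 [← this]
    calc g⁻¹ * (g * z * g⁻¹) * g * (g⁻¹ * (h * (g * z * g⁻¹) * h⁻¹) * g)
        = g⁻¹ * ((g * z * g⁻¹) * (h * (g * z * g⁻¹) * h⁻¹)) * g := by group
      _ = g⁻¹ * ((h * (g * z * g⁻¹) * h⁻¹) * (g * z * g⁻¹)) * g := by rw [h3]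
      _ = _ := by group
  have h4 := hz.2 _ h1
  calc h * (g * z * g⁻¹) * h⁻¹ = g * ((g⁻¹ * h * g) * z * (g⁻¹ * h * g)⁻¹) * g⁻¹ := by group
    _ = g * z * g⁻¹ := by rw [h4]

/-- For an isolated involution `z` and a conjugate `z' = g z g⁻¹` there is `n` with
`((z' z)^n)⁻¹ z (z' z)^n = z'`. -/
theorem isolated_exists_pow_conj [Finite G] {z : G} (hz : Cfsg.IsIsolatedInvolution z) (g : G) :
    ∃ n : ℕ, (((g * z * g⁻¹) * z) ^ n)⁻¹ * z * ((g * z * g⁻¹) * z) ^ n = g * z * g⁻¹ := by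
  obtain ⟨j, hj⟩ := isolated_conj_mul_odd hz g
  refine ⟨j, ?_⟩
  apply invol_conj_of_odd (conj_mul_self (isolated_mul_self hz) g) (isolated_mul_self hz) j
  rw [← hj, pow_orderOf_eq_one]

end Cfsg.Agent.Helper6
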