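import Mathlib

/-!
A finite abelian group of odd order carrying additive endomorphisms `I`, `J` with
`I² = J² = -1`, `IJ = -JI` (a module over the Lipschitz quaternions) has square order.
-/

set_option autoImplicit false

namespace Cfsg.Agent.Helper6.QuatSquare

universe u

section Elem

variable {A : Type*} [AddCommGroup A]

/-- Elementary abelian case. -/
theorem isSquare_card_of_prime [Finite A] (p : ℕ) [hp : Fact p.Prime] (hp2 : p ≠ 2)
    (hpA : ∀ x : A, p • x = 0)
    (I J : A →+ A) (hI : ∀ x, I (I x) = -x) (hJ : ∀ x, J (J x) = -x)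
    (hIJ : ∀ x, I (J x) = -J (I x)) : IsSquare (Nat.card A) := by
  obtain ⟨a, b, -, -, hab⟩ := Nat.sq_add_sq_zmodEq p (-1)
  obtain ⟨t, ht⟩ := (Int.modEq_iff_dvd.mp hab)
  -- `(a² + b² + 1) • x = 0`
  have hpz : ∀ x : A, (p : ℤ) • x = 0 := by
    intro x
    rw [natCast_zsmul]; exact hpA x
  have hab0 : ∀ x : A, ((a : ℤ) ^ 2 + (b : ℤ) ^ 2 + 1) • x = 0 := by
    intro x
    have e : (a : ℤ) ^ 2 + (b : ℤ) ^ 2 + 1 = (p : ℤ) * (-t) := by linarith
    rw [e, mul_smul, hpz]
  -- the involution `u = aI + bJ`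
  let u : A →+ A := (a : ℤ) • I + (b : ℤ) • J
  have hu : ∀ x, u x = (a : ℤ) • I x + (b : ℤ) • J x := fun x => rfl
  have hJI : ∀ x, J (I x) = -I (J x) := by
    intro x; rw [hIJ, neg_neg]
  have huu : ∀ x, u (u x) = x := by
    intro x
    have h1 : u (u x) = -(((a : ℤ) ^ 2 + (b : ℤ) ^ 2) • x) := by
      rw [hu, hu, map_add, map_add, map_zsmul, map_zsmul, map_zsmul, map_zsmul, hI, hJ, hIJ]
      module
    have h2 := hab0 x
    rw [h1]
    have h3 : ((a : ℤ) ^ 2 + (b : ℤ) ^ 2 + 1) • x = ((a : ℤ) ^ 2 + (b : ℤ) ^ 2) • x + x := by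
      module
    rw [h3] at h2
    exact (neg_eq_of_add_eq_zero_right h2)
  have hJIJ : ∀ x, J (I (J x)) = I x := by
    intro x
    rw [hJI (J x), hJ, map_neg, neg_neg]
  have hIJI : ∀ x, I (J (I x)) = J x := by
    intro x
    rw [hJI x, map_neg, hI, neg_neg]
  -- `K = IJ`
  have hKK : ∀ x, I (J (I (J x))) = -x := by
    intro x
    rw [hJIJ, hI]
  have huK : ∀ x, u (I (J x)) = -I (J (u x)) := by
    intro x
    have e1 : u (I (J x)) = (a : ℤ) • (-(J x)) + (b : ℤ) • I x := by
      rw [hu, hI, hJIJ]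
    have e2 : I (J (u x)) = (a : ℤ) • J x + (b : ℤ) • (-(I x)) := by
      rw [hu, map_add, map_zsmul, map_zsmul, map_add, map_zsmul, map_zsmul, hIJI, hJ, map_neg]
    rw [e1, e2]
    module
  -- arithmetic with the odd prime `p`
  obtain ⟨k, hk⟩ : ∃ k, p = 2 * k + 1 := by
    rcases Nat.Prime.eq_two_or_odd' hp.out with h | h
    · exact absurd h hp2
    · exact h
  have htf : ∀ d : A, d = -d → d = 0 := by
    intro d hd
    have h2 : d + d = 0 := by
      nth_rewrite 2 [hd]
      exact add_neg_cancel d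
    have hpd : (2 * k + 1) • d = 0 := by rw [← hk]; exact hpA d
    calc d = (2 * k + 1) • d - k • (d + d) := by module
      _ = 0 := by rw [hpd, h2, smul_zero, sub_zero]
  have hhalf : ∀ y : A, (k + 1) • (y + y) = y := by
    intro y
    have hpd : (2 * k + 1) • y = 0 := by rw [← hk]; exact hpA y
    calc (k + 1) • (y + y) = (2 * k + 1) • y + y := by module
      _ = y := by rw [hpd, zero_add]
  -- the `+1`-eigenspace of `u`
  let V : AddSubgroup A :=
    { carrier := {x | u x = x}
      zero_mem' := map_zero u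
      add_mem' := fun {x y} hx hy => by
        have hx' : u x = x := hx
        have hy' : u y = y := hy
        show u (x + y) = x + y
        rw [map_add, hx', hy']
      neg_mem' := fun {x} hx => by
        have hx' : u x = x := hx
        show u (-x) = -x
        rw [map_neg, hx'] }
  have hV : ∀ v : V, u (v : A) = v := fun v => v.2
  let φ : V × V → A := fun vw => (vw.1 : A) + I (J (vw.2 : A))
  have hinj : Function.Injective φ := by
    rintro ⟨v, w⟩ ⟨v', w'⟩ hvw
    have hvw' : (v : A) + I (J (w : A)) = (v' : A) + I (J (w' : A)) := hvw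
    have hd : (v : A) - v' = I (J ((w' : A) - w)) := by
      rw [map_sub, map_sub]
      have : (v : A) = (v' : A) + I (J (w' : A)) - I (J (w : A)) := by
        rw [← hvw']; abel
      rw [this]; abel
    have hud : u ((v : A) - v') = (v : A) - v' := by
      rw [map_sub, hV, hV]
    have hud' : u ((v : A) - v') = -((v : A) - v') := by
      rw [hd, huK, map_sub, hV, hV]
    have hd0 : (v : A) - v' = 0 := htf _ (hud.symm.trans hud')
    have hvv : (v : A) = v' := sub_eq_zero.mp hd0
    have hKw : I (J (w : A)) = I (J (w' : A)) := by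
      rw [hvv] at hvw'
      exact add_left_cancel hvw'
    have hww : (w : A) = w' := by
      have := congrArg (fun z => I (J z)) hKw
      simp only [hKK] at this
      exact neg_injective this
    exact Prod.ext (Subtype.ext hvv) (Subtype.ext hww)
  have hsurj : Function.Surjective φ := by
    intro x
    set v : A := (k + 1) • (x + u x) with hv
    set y : A := (k + 1) • (x - u x) with hy
    have huv : u v = v := by
      rw [hv, map_nsmul, map_add, huu, add_comm (u x) x]
    have huy : u y = -y := by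
      rw [hy, map_nsmul, map_sub, huu, ← smul_neg, neg_sub]
    have huw : u (-(I (J y))) = -(I (J y)) := by
      rw [map_neg, huK, huy, map_neg, map_neg, neg_neg]
    refine ⟨(⟨v, huv⟩, ⟨-(I (J y)), huw⟩), ?_⟩
    show v + I (J (-(I (J y)))) = x
    rw [map_neg, map_neg, hKK, neg_neg, hv, hy, ← smul_add]
    have e : x + u x + (x - u x) = x + x := by abel
    rw [e, hhalf]
  have hcard : Nat.card A = Nat.card V * Nat.card V := by
    rw [← Nat.card_prod]
    exact (Nat.card_congr (Equiv.ofBijective φ ⟨hinj, hsurj⟩)).symm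
  exact ⟨Nat.card V, hcard⟩

end Elem

/-- restriction of an endomorphism to an invariant subgroup -/
def restr {A : Type*} [AddCommGroup A] (V : AddSubgroup A) (I : A →+ A)
    (hI : ∀ x ∈ V, I x ∈ V) : V →+ V :=
  (I.comp V.subtype).codRestrict V (fun x => hI x x.2)

@[simp] theorem restr_coe {A : Type*} [AddCommGroup A] (V : AddSubgroup A) (I : A →+ A)
    (hI : ∀ x ∈ V, I x ∈ V) (x : V) : ((restr V I hI x : V) : A) = I x := rfl

/-- A finite abelian group of odd order with endomorphisms `I`, `J`, `I² = J² = -1`,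
`IJ = -JI`, has square order. -/
theorem isSquare_card_aux :
    ∀ (n : ℕ) (A : Type u) [AddCommGroup A] [Finite A], Nat.card A = n → Odd n →
      ∀ (I J : A →+ A), (∀ x, I (I x) = -x) → (∀ x, J (J x) = -x) →
        (∀ x, I (J x) = -J (I x)) → IsSquare n := by
  intro n
  induction n using Nat.strong_induction_on with
  | _ n ih =>
  intro A _ _ hn hodd I J hI hJ hIJ
  by_cases hn1 : n = 1
  · rw [hn1]; exact ⟨1, rfl⟩
  have hp : (n.minFac).Prime := Nat.minFac_prime hn1
  set p := n.minFac with hpdef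
  have : Fact p.Prime := ⟨hp⟩
  have hpn : p ∣ n := Nat.minFac_dvd n
  have hp2 : p ≠ 2 := by
    intro h2
    rw [h2] at hpn
    exact (Nat.not_even_iff_odd.mpr hodd) (even_iff_two_dvd.mpr hpn)
  let f : A →+ A := nsmulAddMonoidHom p
  have hf : ∀ x, f x = p • x := fun x => rfl
  set V : AddSubgroup A := f.ker with hV
  set W : AddSubgroup A := f.range with hW
  have hcard : n = Nat.card V * Nat.card W := by
    rw [← hn, AddSubgroup.card_eq_card_quotient_mul_card_addSubgroup V,
      Nat.card_congr (QuotientAddGroup.quotientKerEquivRange f).toEquiv, mul_comm]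
  have hIV : ∀ x ∈ V, I x ∈ V := by
    intro x hx
    rw [hV, AddMonoidHom.mem_ker, hf] at hx ⊢
    rw [← map_nsmul, hx, map_zero]
  have hJV : ∀ x ∈ V, J x ∈ V := by
    intro x hx
    rw [hV, AddMonoidHom.mem_ker, hf] at hx ⊢
    rw [← map_nsmul, hx, map_zero]
  have hIW : ∀ x ∈ W, I x ∈ W := by
    rintro x ⟨y, rfl⟩
    exact ⟨I y, by rw [hf, hf, map_nsmul]⟩
  have hJW : ∀ x ∈ W, J x ∈ W := by
    rintro x ⟨y, rfl⟩
    exact ⟨J y, by rw [hf, hf, map_nsmul]⟩
  -- `V` is nontrivial
  have hV1 : 1 < Nat.card V := by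
    obtain ⟨x, hx⟩ := exists_prime_addOrderOf_dvd_card' (G := A) p (by rw [hn]; exact hpn)
    have hxV : x ∈ V := by
      rw [hV, AddMonoidHom.mem_ker, hf, ← hx]
      exact addOrderOf_nsmul_eq_zero x
    have hx0 : x ≠ 0 := by
      intro h0
      rw [h0, addOrderOf_zero] at hx
      exact hp.one_lt.ne hx
    rw [Finite.one_lt_card_iff_nontrivial]
    exact ⟨⟨⟨x, hxV⟩, 0, fun h => hx0 (congrArg Subtype.val h)⟩⟩
  have hoddVW : Odd (Nat.card V) ∧ Odd (Nat.card W) := by
    rw [← Nat.odd_mul, ← hcard]; exact hodd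
  have hnpos : 0 < n := hodd.pos
  have hWpos : 0 < Nat.card W := Nat.card_pos
  have hVpos : 0 < Nat.card V := Nat.card_pos
  by_cases hVtop : V = ⊤
  · -- elementary abelian
    have hpA : ∀ x : A, p • x = 0 := by
      intro x
      have : x ∈ V := by rw [hVtop]; exact AddSubgroup.mem_top x
      rw [hV, AddMonoidHom.mem_ker, hf] at this
      exact this
    rw [← hn]
    exact isSquare_card_of_prime p hp2 hpA I J hI hJ hIJ
  · have hW1 : 1 < Nat.card W := by
      by_contra hcon
      have hW1' : Nat.card W = 1 := by omega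
      apply hVtop
      rw [← AddSubgroup.card_eq_iff_eq_top, hn, hcard, hW1', mul_one]
    have hVlt : Nat.card V < n := by
      rw [hcard]
      calc Nat.card V = Nat.card V * 1 := (mul_one _).symm
        _ < Nat.card V * Nat.card W := Nat.mul_lt_mul_of_pos_left hW1 hVpos
    have hWlt : Nat.card W < n := by
      rw [hcard]
      calc Nat.card W = 1 * Nat.card W := (one_mul _).symm
        _ < Nat.card V * Nat.card W := Nat.mul_lt_mul_of_pos_right hV1 hWpos
    have sqV := ih _ hVlt V rfl hoddVW.1 (restr V I hIV) (restr V J hJV)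
      (fun x => Subtype.ext (by simp [hI])) (fun x => Subtype.ext (by simp [hJ]))
      (fun x => Subtype.ext (by simp [hIJ]))
    have sqW := ih _ hWlt W rfl hoddVW.2 (restr W I hIW) (restr W J hJW)
      (fun x => Subtype.ext (by simp [hI])) (fun x => Subtype.ext (by simp [hJ]))
      (fun x => Subtype.ext (by simp [hIJ]))
    rw [hcard]
    exact sqV.mul sqW

theorem isSquare_card {A : Type*} [AddCommGroup A] [Finite A] (hodd : Odd (Nat.card A))
    (I J : A →+ A) (hI : ∀ x, I (I x) = -x) (hJ : ∀ x, J (J x) = -x)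
    (hIJ : ∀ x, I (J x) = -J (I x)) : IsSquare (Nat.card A) :=
  isSquare_card_aux _ A rfl hodd I J hI hJ hIJ

section GroupForm

variable {L : Type*} [Group L]

/-- a fixed-point-free involution inverts -/
theorem conj_eq_inv_of_fpf' (N : Subgroup L) [N.Normal] [Finite N] {e : L} (he : e * e = 1)
    (hfpf : ∀ n ∈ N, e * n = n * e → n = 1) : ∀ n ∈ N, e * n * e⁻¹ = n⁻¹ := by
  have heinv : e⁻¹ = e := inv_eq_of_mul_eq_one_left he
  let f : N → N := fun r =>
    ⟨(r : L)⁻¹ * (e * r * e⁻¹), N.mul_mem (N.inv_mem r.2) (Subgroup.Normal.conj_mem ‹_› _ r.2 e)⟩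
  have hinj : Function.Injective f := by
    intro r s hrs
    have h1 : (r : L)⁻¹ * (e * r * e⁻¹) = (s : L)⁻¹ * (e * s * e⁻¹) := congrArg Subtype.val hrs
    have h2 : e * ((s : L) * (r : L)⁻¹) = ((s : L) * (r : L)⁻¹) * e := by
      have h3 : (s : L) * (r : L)⁻¹ = e * s * e⁻¹ * (e * r * e⁻¹)⁻¹ := by
        have : (s : L) * ((r : L)⁻¹ * (e * r * e⁻¹)) = e * s * e⁻¹ := by
          rw [h1]; group
        calc (s : L) * (r : L)⁻¹ = (s : L) * ((r : L)⁻¹ * (e * r * e⁻¹)) * (e * r * e⁻¹)⁻¹ := by
              group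
          _ = e * s * e⁻¹ * (e * r * e⁻¹)⁻¹ := by rw [this]
      have h4 : e * s * e⁻¹ * (e * r * e⁻¹)⁻¹ = e * ((s : L) * (r : L)⁻¹) * e⁻¹ := by group
      rw [h4] at h3
      calc e * ((s : L) * (r : L)⁻¹) = e * ((s : L) * (r : L)⁻¹) * e⁻¹ * e := by group
        _ = ((s : L) * (r : L)⁻¹) * e := by rw [← h3]
    have h5 := hfpf _ (N.mul_mem s.2 (N.inv_mem r.2)) h2
    have h6 : (s : L) = r := by
      have := mul_inv_eq_one.mp h5
      exact this
    exact Subtype.ext h6.symm
  have hsurj : Function.Surjective f := Finite.surjective_of_injective hinj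
  intro n hn
  obtain ⟨r, hr⟩ := hsurj ⟨n, hn⟩
  have hr' : (r : L)⁻¹ * (e * r * e⁻¹) = n := congrArg Subtype.val hr
  rw [← hr', heinv]
  have e1 : e * ((r : L)⁻¹ * (e * r * e)) * e = e * (r : L)⁻¹ * e * r * (e * e) := by group
  have e2 : ((r : L)⁻¹ * (e * r * e))⁻¹ = e⁻¹ * (r : L)⁻¹ * e⁻¹ * r := by group
  rw [e1, e2, he, mul_one, heinv]

/-- If `i, j` generate a quaternion-like group acting by conjugation on the finite normal subgroup
`N` with the central involution `i²` acting fixed-point-freely, then `|N|` is an odd square. -/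
theorem card_isSquare_of_quaternion (N : Subgroup L) [N.Normal] [Finite N] (i j : L)
    (hij : i * i = j * j) (hz2 : (i * i) * (i * i) = 1) (hji : j * i * j⁻¹ = i⁻¹)
    (hfix : ∀ r ∈ N, (i * i) * r = r * (i * i) → r = 1) :
    Odd (Nat.card N) ∧ IsSquare (Nat.card N) := by
  set z := i * i with hz
  have hinv := conj_eq_inv_of_fpf' N hz2 hfix
  have hcomm : ∀ a b : N, a * b = b * a := by
    intro a b
    apply Subtype.ext
    have h1 := hinv _ (a * b).2
    have h2 := hinv _ a.2
    have h3 := hinv _ b.2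
    have h4 : z * ((a : L) * b) * z⁻¹ = (z * a * z⁻¹) * (z * b * z⁻¹) := by group
    rw [Subgroup.coe_mul] at h1
    rw [h4, h2, h3] at h1
    have h5 : ((b : L) * a)⁻¹ = ((a : L) * b)⁻¹ := by rw [mul_inv_rev]; exact h1
    exact (inv_injective h5).symm
  have hodd : Odd (Nat.card N) := by
    rw [← Nat.not_even_iff_odd, even_iff_two_dvd]
    intro h2
    obtain ⟨t, ht⟩ := exists_prime_orderOf_dvd_card' (G := N) 2 h2
    have htt : (t : L) * t = 1 := by
      have := pow_orderOf_eq_one t
      rw [ht, pow_two] at this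
      exact congrArg Subtype.val this
    have h1 := hinv _ t.2
    have htinv : (t : L)⁻¹ = t := inv_eq_of_mul_eq_one_left htt
    rw [htinv] at h1
    have h2' : z * (t : L) = t * z := by
      nth_rewrite 2 [← h1]; group
    have h3 : t = 1 := Subtype.ext (hfix _ t.2 h2')
    rw [h3, orderOf_one] at ht
    norm_num at ht
  refine ⟨hodd, ?_⟩
  let _ : CommGroup N := { (inferInstance : Group N) with mul_comm := hcomm }
  let I : Additive N →+ Additive N :=
    MonoidHom.toAdditive (MulAut.conjNormal i : MulAut N).toMonoidHom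
  let J : Additive N →+ Additive N :=
    MonoidHom.toAdditive (MulAut.conjNormal j : MulAut N).toMonoidHom
  have hIc : ∀ x : Additive N, ((I x).toMul : L) = i * (x.toMul : L) * i⁻¹ := fun x => rfl
  have hJc : ∀ x : Additive N, ((J x).toMul : L) = j * (x.toMul : L) * j⁻¹ := fun x => rfl
  have hneg : ∀ x : Additive N, ((-x).toMul : L) = ((x.toMul : N) : L)⁻¹ := fun x => rfl
  have key : ∀ m ∈ N, i * m * i⁻¹ = (i⁻¹ * m * i)⁻¹ := by
    intro m hm
    have hm' : i⁻¹ * m * i ∈ N := by
      have := Subgroup.Normal.conj_mem ‹N.Normal› m hm i⁻¹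
      rwa [inv_inv] at this
    rw [← hinv _ hm', hz]
    group
  have h := isSquare_card (A := Additive N) hodd I J
    (fun x => by
      apply Additive.toMul.injective
      apply Subtype.ext
      rw [hIc, hIc, hneg, ← hinv _ (x.toMul).2, hz]
      group)
    (fun x => by
      apply Additive.toMul.injective
      apply Subtype.ext
      rw [hJc, hJc, hneg, ← hinv _ (x.toMul).2, hij]
      group)
    (fun x => by
      apply Additive.toMul.injective
      apply Subtype.ext
      rw [hIc, hJc, hneg, hJc, hIc]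
      have hm : j * ((x.toMul : N) : L) * j⁻¹ ∈ N :=
        Subgroup.Normal.conj_mem ‹N.Normal› _ (x.toMul).2 j
      rw [key _ hm]
      congr 1
      have hji' : j * i = i⁻¹ * j := by
        rw [← hji]; group
      calc i⁻¹ * (j * ((x.toMul : N) : L) * j⁻¹) * i
          = (i⁻¹ * j) * ((x.toMul : N) : L) * (i⁻¹ * j)⁻¹ := by group
        _ = (j * i) * ((x.toMul : N) : L) * (j * i)⁻¹ := by rw [hji']
        _ = j * (i * ((x.toMul : N) : L) * i⁻¹) * j⁻¹ := by group)
  exact h

end GroupForm

section QuatElems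

open QuaternionGroup

/-- the quaternion group `Q_{4m}`, `m` even, contains the configuration `i, j` -/
theorem quat_elems (m m' : ℕ) (hm : m = 2 * m') (hm0 : m ≠ 0) :
    ∃ ia ja : QuaternionGroup m, ia * ia = ja * ja ∧ (ia * ia) * (ia * ia) = 1 ∧
      ja * ia * ja⁻¹ = ia⁻¹ ∧ ia * ia ≠ 1 := by
  have hc : ((m' : ZMod (2 * m)) + m') = (m : ZMod (2 * m)) := by
    rw [← Nat.cast_add, ← two_mul, ← hm]
  have hc2 : ((m : ZMod (2 * m)) + m) = 0 := by
    rw [← Nat.cast_add, ← two_mul, ZMod.natCast_self]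
  refine ⟨a (m' : ZMod (2 * m)), xa 0, ?_, ?_, ?_, ?_⟩
  · rw [a_mul_a, xa_mul_xa, add_zero, sub_zero, hc]
  · rw [a_mul_a, a_mul_a, hc, hc2, a_zero]
  · have hinv : (a (m' : ZMod (2 * m)) : QuaternionGroup m)⁻¹ = a (-(m' : ZMod (2 * m))) := by
      apply inv_eq_of_mul_eq_one_right
      rw [a_mul_a, add_neg_cancel, a_zero]
    have h1 : (xa 0 : QuaternionGroup m) * a (m' : ZMod (2 * m)) =
        (a (m' : ZMod (2 * m)))⁻¹ * xa 0 := by
      rw [hinv, xa_mul_a, a_mul_xa, zero_add, zero_sub, neg_neg]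
    rw [h1, mul_inv_cancel_right]
  · rw [a_mul_a, hc, one_def]
    intro h
    have h2 : ((m : ℕ) : ZMod (2 * m)) = 0 := by
      injection h
    rw [ZMod.natCast_eq_zero_iff] at h2
    have := Nat.le_of_dvd (Nat.pos_of_ne_zero hm0) h2
    omega

end QuatElems

end Cfsg.Agent.Helper6.QuatSquare
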