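import Mathlib
import Cfsg.Agent.Helper25.QPSwap
import Cfsg.Agent.Helper18.SL2Ext5
import Cfsg.Agent.Helper19.QPFIT
import Cfsg.Agent.Helper14.QPVANU
import Cfsg.Agent.Helper20.QPIDEM
import Cfsg.Agent.Helper21.QPFAITH
import Cfsg.Agent.Helper27.QPACT1
import Cfsg.Agent.Helper13.QPDEPTH

set_option autoImplicit false

/-! # QUADPAIR, piece STEP3 (board `qppieces`, driver helper25).
Math: `departures/helper25_qp_pieces.md`. -/

noncomputable section

namespace Cfsg.Agent.QPP

open Cfsg Cfsg.Agent.Helper25.QP Cfsg.Agent.Helper25.QuadPair Polynomial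

section general

/-- group homomorphisms commute with iterated commutators -/
theorem STEP3_aux_map_icomm {Γ Γ' : Type*} [Group Γ] [Group Γ'] (f : Γ →* Γ') (h g : Γ) (n : ℕ) :
    f (icomm h n g) = icomm (f h) n (f g) := by
  induction n with
  | zero => rfl
  | succ n ih =>
    show f (icomm h n g * h * (icomm h n g)⁻¹ * h⁻¹) = icomm (f h) n (f g) * f h * (icomm (f h) n (f g))⁻¹ * (f h)⁻¹
    rw [map_mul, map_mul, map_mul, map_inv, map_inv, ih]

theorem STEP3_aux_icomm_mem {Γ : Type*} [Group Γ] (S : Subgroup Γ) {h g : Γ} (hh : h ∈ S) (hg : g ∈ S)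
    (n : ℕ) : icomm h n g ∈ S := by
  induction n with
  | zero => exact hg
  | succ n ih =>
    exact S.mul_mem (S.mul_mem (S.mul_mem ih hh) (S.inv_mem ih)) (S.inv_mem hh)

variable {R : Type*} [CommRing R]

theorem STEP3_aux_e12_diag (g : Matrix.SpecialLinearGroup (Fin 2) R) (h01 : g 0 1 = 0)
    (h10 : g 1 0 = 0) (y : R) :
    e12 y * g * (e12 y)⁻¹ * g⁻¹ = e12 (y * (1 - g 0 0 ^ 2)) := by
  have hdet : g 0 0 * g 1 1 = 1 := by
    have := g.det_coe
    rw [Matrix.det_fin_two, h01, h10] at this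
    simpa using this
  have key : ∀ (α δ : R), α * δ = 1 →
      (!![1, y; 0, 1] * !![α, 0; 0, δ] * Matrix.adjugate !![1, y; 0, 1]
        * Matrix.adjugate !![α, 0; 0, δ] : Matrix (Fin 2) (Fin 2) R) = !![1, y * (1 - α ^ 2); 0, 1] := by
    intro α δ h
    simp only [Matrix.adjugate_fin_two_of, Matrix.mul_fin_two]
    ext i j
    fin_cases i <;> fin_cases j <;> simp
    · linear_combination h
    · linear_combination y * h
    · linear_combination h
  have hg : (g : Matrix (Fin 2) (Fin 2) R) = !![g 0 0, 0; 0, g 1 1] := by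
    ext i j
    fin_cases i <;> fin_cases j <;> simp [h01, h10]
  apply Subtype.ext
  simp only [Matrix.SpecialLinearGroup.coe_mul, Matrix.SpecialLinearGroup.coe_inv]
  have := key (g 0 0) (g 1 1) hdet
  rw [← hg] at this
  exact this

theorem STEP3_aux_icomm_e12 (g : Matrix.SpecialLinearGroup (Fin 2) R) (h01 : g 0 1 = 0)
    (h10 : g 1 0 = 0) (y : R) (n : ℕ) :
    icomm g n (e12 y) = e12 (y * (1 - g 0 0 ^ 2) ^ n) := by
  induction n with
  | zero => show e12 y = _; rw [pow_zero, mul_one]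
  | succ n ih =>
    show icomm g n (e12 y) * g * (icomm g n (e12 y))⁻¹ * g⁻¹ = _
    rw [ih, STEP3_aux_e12_diag g h01 h10, pow_succ ((1 : R) - g 0 0 ^ 2) n, mul_assoc]

end general

section main

variable {k : Type*} [Field k] {M : Type*} [AddCommGroup M] [Module k M]

local notation "GLkM" => LinearMap.GeneralLinearGroup k M

/-! ### auxiliary lemmas -/

/-- `X` is a unit modulo `Van1` -/
theorem STEP3_aux_Xcancel [FiniteDimensional k M] (a b : Module.End k M) (f : k[X])
    (h : X * f ∈ Van1 a b) : f ∈ Van1 a b := by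
  obtain ⟨w, hw⟩ := FIT_invpoly (zz a b)
  have hw' : X * w - 1 ∈ Van1 a b := hw
  have e : f = w * (X * f) - (X * w - 1) * f := by ring
  rw [e]
  exact Ideal.sub_mem _ (Ideal.mul_mem_left _ _ h) (Ideal.mul_mem_right _ _ hw')

theorem STEP3_aux_ca {a b : Module.End k M} (ha : a * a = 0) (f : k[X]) (v : M) :
    a (aeval (zz a b) f v) = aeval (zz a b) f (a v) := by
  have := LinearMap.congr_fun (commute_aeval_a (b := b) ha f).eq v
  simpa [Module.End.mul_apply] using this.symm

theorem STEP3_aux_cb {a b : Module.End k M} (hb : b * b = 0) (f : k[X]) (v : M) :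
    b (aeval (zz a b) f v) = aeval (zz a b) f (b v) := by
  have := LinearMap.congr_fun (commute_aeval_b (a := a) hb f).eq v
  simpa [Module.End.mul_apply] using this.symm

theorem STEP3_aux_aa {a : Module.End k M} (ha : a * a = 0) (v : M) : a (a v) = 0 := by
  have := LinearMap.congr_fun ha v
  simpa [Module.End.mul_apply] using this

theorem STEP3_aux_X {a b : Module.End k M} (f : k[X]) (v : M) :
    aeval (zz a b) (X * f) v = aeval (zz a b) f (a (b v) + b (a v)) := by
  rw [mul_comm, map_mul, aeval_X, Module.End.mul_apply]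
  rfl

/-- the action on `A₁` -/
theorem STEP3_aux_opn_A {a b : Module.End k M} (P : Co k) {u : M}
    (hu : a u = 0) :
    (1 + opn a b P) u = aeval (zz a b) (Co.al P) u + aeval (zz a b) P.s (b u) := by
  have e : aeval (zz a b) (Co.al P) u = u + aeval (zz a b) P.p (a (b u)) := by
    unfold Co.al
    rw [map_add, map_one, LinearMap.add_apply, STEP3_aux_X, hu, map_zero, add_zero]
    rfl
  rw [e]
  simp only [opn, LinearMap.add_apply, Module.End.mul_apply, Module.End.one_apply, hu, map_zero,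
    add_zero]
  abel

theorem STEP3_aux_act_A {a b : Module.End k M} (ha : a * a = 0) (P : Co k) {u : M}
    (hu : a u = 0) :
    a ((1 + opn a b P) u) = aeval (zz a b) (Co.ga P) u := by
  rw [STEP3_aux_opn_A P hu, map_add, STEP3_aux_ca ha, STEP3_aux_ca ha, hu, map_zero, zero_add]
  unfold Co.ga
  rw [STEP3_aux_X, hu, map_zero, add_zero]

/-- the action on `B₁` -/
theorem STEP3_aux_act_B {a b : Module.End k M} (hb : b * b = 0) (P : Co k) {u : M}
    (hu : b u = 0) :
    b ((1 + opn a b P) u) = aeval (zz a b) (X * Co.be P) u := by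
  unfold Co.be
  rw [STEP3_aux_X, hu, map_zero, zero_add]
  simp only [opn, LinearMap.add_apply, Module.End.mul_apply, Module.End.one_apply, hu, map_zero,
    add_zero, zero_add, map_add, STEP3_aux_cb hb, STEP3_aux_aa hb]

theorem STEP3_aux_map_apply {R S : Type*} [CommRing R] [CommRing S] (f : R →+* S)
    (g : Matrix.SpecialLinearGroup (Fin 2) R) (i j : Fin 2) :
    (Matrix.SpecialLinearGroup.map f g) i j = f (g i j) := by
  rw [Matrix.SpecialLinearGroup.map_apply_coe]
  rfl

theorem STEP3_aux_map_e12 {R S : Type*} [CommRing R] [CommRing S] (f : R →+* S) (y : R) :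
    Matrix.SpecialLinearGroup.map f (e12 y) = e12 (f y) := by
  apply Subtype.ext
  ext i j
  rw [STEP3_aux_map_apply]
  fin_cases i <;> fin_cases j <;> simp [e12]

/-- decomposition `M = M₀ + M₁` -/
theorem STEP3_aux_dec [FiniteDimensional k M] (a b : Module.End k M) (m : M) :
    ∃ m0 ∈ M0 a b, ∃ m1 ∈ M1 a b, m0 + m1 = m := by
  have h : M0 a b ⊔ M1 a b = ⊤ := (FIT_compl (zz a b)).sup_eq_top
  have hm : m ∈ M0 a b ⊔ M1 a b := by rw [h]; trivial
  exact Submodule.mem_sup.mp hm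

theorem STEP3_aux_M1_a {a b : Module.End k M} (ha : a * a = 0) {m : M} (hm : m ∈ M1 a b) :
    a m ∈ M1 a b :=
  FIT_inv1 (zz a b) a (zz_mul_a ha).symm m hm

theorem STEP3_aux_M1_b {a b : Module.End k M} (hb : b * b = 0) {m : M} (hm : m ∈ M1 a b) :
    b m ∈ M1 a b :=
  FIT_inv1 (zz a b) b (zz_mul_b hb).symm m hm

theorem STEP3_aux_M1_f {a b : Module.End k M} (f : k[X]) {m : M} (hm : m ∈ M1 a b) :
    aeval (zz a b) f m ∈ M1 a b :=
  FIT_inv1 (zz a b) (aeval (zz a b) f) (commute_aeval_of_commute (Commute.refl _) f) m hm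

/-- `Hgrp ≤ G` -/
theorem STEP3_aux_Hgrp_le {G : Subgroup GLkM} {a b : Module.End k M} (qa : QFam G a) (qb : QFam G b) :
    Hgrp a b qa.1 qb.1 ≤ G := by
  unfold Hgrp
  rw [Subgroup.closure_le]
  rintro _ (⟨c, rfl⟩ | ⟨c, rfl⟩)
  · exact InG.mem (by rw [val_uu]; exact qa.2 c)
  · exact InG.mem (by rw [val_uu]; exact qb.2 c)

theorem STEP3_aux_pow_eigen (T : Module.End k M) (u : M) (l : k) (h : T u = l • u) (n : ℕ) :
    (T ^ n) u = l ^ n • u := by
  induction n with
  | zero => simp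
  | succ j ih =>
    rw [pow_succ, Module.End.mul_apply, h, map_smul, ih, smul_smul, pow_succ, mul_comm]

/-- STEP3 -/
theorem STEP3 [FiniteDimensional k M] (h2 : (2 : k) ≠ 0) {G : Subgroup GLkM} {d : ℕ}
    {a b : Module.End k M} (hp : QPair G d a b) (hnu : ¬ UnipPair a b)
    (h : GLkM) (hh : h ∈ Hgrp a b hp.qa.1.1 hp.qb.1.1)
    (hA : ∀ u ∈ A1 a b, a ((h : Module.End k M) u) = 0)
    (hB : ∀ u ∈ B1 a b, b ((h : Module.End k M) u) = 0)
    (hs : ∃ u ∈ A1 a b, u ≠ 0 ∧ ∃ s : k, s * s ≠ 1 ∧ (h : Module.End k M) u = s • u) :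
    ∀ m ∈ M0 a b, a m = 0 := by
  have ha : a * a = 0 := hp.qa.1.1
  have hb : b * b = 0 := hp.qb.1.1
  have hh0 : h ∈ Hgrp a b ha hb := hh
  -- Step 1: coordinates of `h`
  have hh' := hh
  rw [← map_fst_Hpair a b ha hb] at hh'
  obtain ⟨x, hx, hxh⟩ := hh'
  have hx1 : x.1 = h := hxh
  obtain ⟨P, hP1, hP2⟩ := COORD ha hb x hx
  have hh1 : (h : Module.End k M) = 1 + opn a b P := by rw [← hx1]; exact hP2
  -- Step 2: `γ, β ∈ Van1`
  have hγ : Co.ga P ∈ Van1 a b := by
    apply FAITH_A a b ha hb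
    intro u hu
    rw [← STEP3_aux_act_A ha P (LinearMap.mem_ker.mp hu.2), ← hh1]
    exact hA u hu
  have hβ : Co.be P ∈ Van1 a b := by
    apply STEP3_aux_Xcancel
    apply FAITH_B a b ha hb
    intro u hu
    rw [← STEP3_aux_act_B hb P (LinearMap.mem_ker.mp hu.2), ← hh1]
    exact hB u hu
  have hPs : P.s ∈ Van1 a b := STEP3_aux_Xcancel a b P.s hγ
  -- Step 3: the quotient ring
  obtain ⟨n, hn⟩ := NILP a b ha hb
  let mk : k[X] →+* k[X] ⧸ Van1 a b := Ideal.Quotient.mk (Van1 a b)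
  have hmk0 : ∀ {f : k[X]}, f ∈ Van1 a b → mk f = 0 := fun hf => Ideal.Quotient.eq_zero_iff_mem.mpr hf
  have hmk0' : ∀ {f : k[X]}, mk f = 0 → f ∈ Van1 a b := fun hf => Ideal.Quotient.eq_zero_iff_mem.mp hf
  let φ := Matrix.SpecialLinearGroup.map (n := Fin 2) mk
  obtain ⟨e00, e01, e10, e11⟩ := matn_entries P
  have h01 : (φ x.2) 0 1 = 0 := by
    rw [STEP3_aux_map_apply, hP1, e01]; exact hmk0 hβ
  have h10 : (φ x.2) 1 0 = 0 := by
    rw [STEP3_aux_map_apply, hP1, e10]; exact hmk0 hγ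
  have h00 : (φ x.2) 0 0 = mk (Co.al P) := by
    rw [STEP3_aux_map_apply, hP1, e00]
  -- the polynomial `f_n = (1 - α²)^n`
  set fn : k[X] := (1 - Co.al P ^ 2) ^ n with hfn
  -- Step 4: the iterated commutators
  let X0 : k → GLkM × Matrix.SpecialLinearGroup (Fin 2) k[X] := fun c => (uu a ha c, e12 (C c))
  have hX0 : ∀ c, X0 c ∈ Hpair a b ha hb := fun c => Subgroup.subset_closure (Or.inl ⟨c, rfl⟩)
  let Xn : k → GLkM × Matrix.SpecialLinearGroup (Fin 2) k[X] := fun c => icomm x n (X0 c)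
  have hXn : ∀ c, Xn c ∈ Hpair a b ha hb := fun c => STEP3_aux_icomm_mem _ hx (hX0 c) n
  have hXn1 : ∀ c, (Xn c).1 = icomm h n (uu a ha c) := fun c => by
    have := STEP3_aux_map_icomm (MonoidHom.fst GLkM (Matrix.SpecialLinearGroup (Fin 2) k[X])) x (X0 c) n
    rw [← hx1]; exact this
  have hXn2 : ∀ c, φ (Xn c).2 = e12 (mk (C c * fn)) := fun c => by
    have e1 := STEP3_aux_map_icomm (MonoidHom.snd GLkM (Matrix.SpecialLinearGroup (Fin 2) k[X])) x (X0 c) n
    have e1' : (Xn c).2 = icomm x.2 n (e12 (C c)) := e1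
    rw [e1', STEP3_aux_map_icomm φ, STEP3_aux_map_e12, STEP3_aux_icomm_e12 _ h01 h10, h00, hfn]
    simp only [map_mul, map_pow, map_sub, map_one]
  -- the action of `X_n(c)` on `M₁`
  have hact1 : ∀ c, ∀ m ∈ M1 a b,
      ((Xn c).1 : Module.End k M) m = m + c • aeval (zz a b) fn (a m) := by
    intro c m hm
    obtain ⟨Q, hQ1, hQ2⟩ := COORD ha hb (Xn c) (hXn c)
    obtain ⟨q00, q01, q10, q11⟩ := matn_entries Q
    have key := hXn2 c
    have k00 : mk (Co.al Q) = 1 := by
      have e : (φ (Xn c).2) 0 0 = (e12 (mk (C c * fn))) 0 0 := by rw [key]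
      rw [STEP3_aux_map_apply, hQ1, q00] at e
      rw [e]; simp [e12]
    have k01 : mk (Co.be Q) = mk (C c * fn) := by
      have e : (φ (Xn c).2) 0 1 = (e12 (mk (C c * fn))) 0 1 := by rw [key]
      rw [STEP3_aux_map_apply, hQ1, q01] at e
      rw [e]; simp [e12]
    have k10 : mk (Co.ga Q) = 0 := by
      have e : (φ (Xn c).2) 1 0 = (e12 (mk (C c * fn))) 1 0 := by rw [key]
      rw [STEP3_aux_map_apply, hQ1, q10] at e
      rw [e]; simp [e12]
    have k11 : mk (Co.de Q) = 1 := by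
      have e : (φ (Xn c).2) 1 1 = (e12 (mk (C c * fn))) 1 1 := by rw [key]
      rw [STEP3_aux_map_apply, hQ1, q11] at e
      rw [e]; simp [e12]
    have vp : Q.p ∈ Van1 a b := by
      apply STEP3_aux_Xcancel; apply hmk0'
      have : mk (Co.al Q) = 1 + mk (X * Q.p) := by unfold Co.al; rw [map_add, map_one]
      rw [this] at k00
      exact add_eq_left.mp k00
    have vt : Q.t ∈ Van1 a b := by
      apply STEP3_aux_Xcancel; apply hmk0'
      have : mk (Co.de Q) = 1 + mk (X * Q.t) := by unfold Co.de; rw [map_add, map_one]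
      rw [this] at k11
      exact add_eq_left.mp k11
    have vs : Q.s ∈ Van1 a b := STEP3_aux_Xcancel a b Q.s (hmk0' k10)
    have vq : Q.q - C c * fn ∈ Van1 a b := by
      apply hmk0'
      rw [map_sub]; exact sub_eq_zero.mpr k01
    have hz := (ACT1 a b ha hb ⟨Q.p, Q.q - C c * fn, Q.s, Q.t⟩).mpr ⟨vp, vq, vs, vt⟩ m hm
    have hsplit : opn a b ⟨Q.p, Q.q - C c * fn, Q.s, Q.t⟩ m
        = opn a b Q m - c • aeval (zz a b) fn (a m) := by
      simp only [opn, LinearMap.add_apply, Module.End.mul_apply, map_sub, map_mul, aeval_C,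
        LinearMap.sub_apply, Module.algebraMap_end_apply]
      abel
    rw [hsplit, sub_eq_zero] at hz
    rw [hQ2, LinearMap.add_apply, Module.End.one_apply, hz]
  -- the action on `M₀`
  have hact0 : ∀ c, ∀ m ∈ M0 a b, ((Xn c).1 : Module.End k M) m = m := by
    intro c m hm
    rw [hXn1]
    exact hn (uu a ha c) (Subgroup.subset_closure (Or.inl ⟨c, rfl⟩)) h hh0 m hm
  -- Step 6: the endomorphism `N`
  set N : Module.End k M := ((Xn 1).1 : Module.End k M) - 1 with hN
  have hN0 : ∀ m ∈ M0 a b, N m = 0 := fun m hm => by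
    rw [hN, LinearMap.sub_apply, hact0 1 m hm, Module.End.one_apply, sub_self]
  have hN1 : ∀ m ∈ M1 a b, N m = aeval (zz a b) fn (a m) := fun m hm => by
    rw [hN, LinearMap.sub_apply, hact1 1 m hm, Module.End.one_apply, one_smul, add_sub_cancel_left]
  have hNc : ∀ c : k, ((Xn c).1 : Module.End k M) = 1 + c • N := by
    intro c
    apply LinearMap.ext
    intro m
    obtain ⟨m0, hm0, m1, hm1, rfl⟩ := STEP3_aux_dec a b m
    rw [map_add, map_add, hact0 c m0 hm0, hact1 c m1 hm1]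
    simp only [LinearMap.add_apply, Module.End.one_apply, LinearMap.smul_apply, hN0 m0 hm0,
      hN1 m1 hm1, smul_zero, add_zero]
  have hFM1 : ∀ m ∈ M1 a b, aeval (zz a b) fn (a m) ∈ M1 a b := fun m hm =>
    STEP3_aux_M1_f fn (STEP3_aux_M1_a ha hm)
  have hNN : N * N = 0 := by
    apply LinearMap.ext
    intro m
    obtain ⟨m0, hm0, m1, hm1, rfl⟩ := STEP3_aux_dec a b m
    rw [Module.End.mul_apply, map_add, hN0 m0 hm0, zero_add, hN1 m1 hm1, hN1 _ (hFM1 m1 hm1),
      STEP3_aux_ca ha, STEP3_aux_aa ha, map_zero, map_zero]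
    rfl
  have hQN : QFam G N := by
    refine ⟨hNN, fun c => ?_⟩
    rw [← hNc c]
    exact InG.of_mem (STEP3_aux_Hgrp_le hp.qa.1 hp.qb.1 (by
      have := (map_fst_Hpair a b ha hb) ▸ Subgroup.mem_map_of_mem
        (MonoidHom.fst GLkM (Matrix.SpecialLinearGroup (Fin 2) k[X])) (hXn c)
      exact this))
  -- `N ≠ 0`
  obtain ⟨u, hu, hu0, s, hs1, hsu⟩ := hs
  have hua : a u = 0 := LinearMap.mem_ker.mp hu.2
  have hαu : aeval (zz a b) (Co.al P) u = s • u := by
    have e := STEP3_aux_opn_A (a := a) (b := b) P hua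
    rw [← hh1, hsu] at e
    have hz : aeval (zz a b) P.s (b u) = 0 := hPs (b u) (STEP3_aux_M1_b hb hu.1)
    rw [hz, add_zero] at e
    exact e.symm
  have hfu : aeval (zz a b) fn u = ((1 - s * s) ^ n) • u := by
    have e1 : aeval (zz a b) (1 - Co.al P ^ 2) u = (1 - s * s) • u := by
      rw [map_sub, map_one, map_pow, pow_two, LinearMap.sub_apply, Module.End.one_apply,
        Module.End.mul_apply, hαu, map_smul, hαu, smul_smul, sub_smul, one_smul]
    rw [hfn, map_pow]
    exact STEP3_aux_pow_eigen _ u _ e1 n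
  have huB : u ∈ (B1 a b).map a := by rw [IDEM_a_B1 a b ha hb]; exact hu
  obtain ⟨u', hu'B, hu'u⟩ := huB
  have hNu' : N u' = ((1 - s * s) ^ n) • u := by
    rw [hN1 u' hu'B.1, hu'u, hfu]
  have hNne : N ≠ 0 := by
    intro h0
    rw [h0, LinearMap.zero_apply] at hNu'
    have h1 : (1 - s * s) ^ n ≠ 0 := pow_ne_zero _ (sub_ne_zero.mpr (Ne.symm hs1))
    exact (smul_ne_zero h1 hu0) hNu'.symm
  -- `range N ≤ A₁`
  have hrange : LinearMap.range N ≤ A1 a b := by
    rintro _ ⟨m, rfl⟩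
    obtain ⟨m0, hm0, m1, hm1, rfl⟩ := STEP3_aux_dec a b m
    rw [map_add, hN0 m0 hm0, zero_add, hN1 m1 hm1]
    refine ⟨hFM1 m1 hm1, ?_⟩
    show a (aeval (zz a b) fn (a m1)) = 0
    rw [STEP3_aux_ca ha, STEP3_aux_aa ha, map_zero]
  -- conclusion
  have hd1 : d ≤ Module.finrank k (LinearMap.range N) := hp.min N hQN hNne
  have hd2 : Module.finrank k (LinearMap.range N) ≤ Module.finrank k (A1 a b) :=
    Submodule.finrank_mono hrange
  have hd3 := IDEM_rank_a a b ha hb
  have hd4 : Module.finrank k (LinearMap.range a) = d := hp.qa.2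
  have hzero : Module.finrank k ((M0 a b).map a) = 0 := by omega
  have hbot : (M0 a b).map a = ⊥ := Submodule.finrank_eq_zero.mp hzero
  intro m hm
  have : a m ∈ (M0 a b).map a := Submodule.mem_map_of_mem hm
  rw [hbot, Submodule.mem_bot] at this
  exact this

end main

end Cfsg.Agent.QPP

end
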