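import Mathlib
import Cfsg.Agent.S4314

/-!
Groups in which the centralizer of every noncentral element is a maximal subgroup: basics.
-/

set_option autoImplicit false

namespace Cfsg.Agent.Helper6.MaxCent

open Subgroup
open scoped commutatorElement
open Cfsg.Agent.S4314 (centralizer_singleton_eq_top_iff centralizer_le_of_pow
  exists_pow_mul_eq_left exists_pow_mul_eq_right exists_pow_primePow cen mem_centralizer_conj
  conj_not_mem_center mem_of_pow_mem_of_coprime)

variable {G : Type*} [Group G]

/-- the hypothesis: every noncentral centralizer is a maximal subgroup -/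
def Hyp2 (G : Type*) [Group G] : Prop :=
  ∀ g : G, g ∉ center G → IsCoatom (centralizer ({g} : Set G))

theorem ne_top_of_not_mem {x : G} (hx : x ∉ center G) : centralizer ({x} : Set G) ≠ ⊤ :=
  fun h => hx ((centralizer_singleton_eq_top_iff x).mp h)

theorem Hyp2.maximal (h : Hyp2 G) {x : G} (hx : x ∉ center G) {K : Subgroup G}
    (hK : centralizer ({x} : Set G) ≤ K) (hKt : K ≠ ⊤) : K = centralizer ({x} : Set G) := by
  rcases eq_or_lt_of_le hK with e | e
  · exact e.symm
  · exact absurd ((h x hx).2 K e) hKt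

theorem center_le_centralizer (x : G) : center G ≤ centralizer ({x} : Set G) := by
  intro z hz
  rw [mem_centralizer_singleton_iff]
  exact (mem_center_iff.mp hz x).symm

theorem self_mem_centralizer (x : G) : x ∈ centralizer ({x} : Set G) := by
  rw [mem_centralizer_singleton_iff]

theorem Hyp2.pow_centralizer_eq (h : Hyp2 G) {y : G} {k : ℕ} (hk : y ^ k ∉ center G) :
    centralizer ({y ^ k} : Set G) = centralizer ({y} : Set G) := by
  have hy : y ∉ center G := fun hy => hk ((center G).pow_mem hy k)
  exact h.maximal hy (centralizer_le_of_pow y k) (ne_top_of_not_mem hk)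

/-- Key lemma: an element of `C(u)` of order coprime to that of the noncentral `u` is central in
`C(u)`. -/
theorem Hyp2.key [Finite G] (h : Hyp2 G) {u y : G} (hu : u ∉ center G)
    (hy : y ∈ centralizer ({u} : Set G)) (hco : (orderOf u).Coprime (orderOf y)) :
    centralizer ({u} : Set G) ≤ centralizer ({y} : Set G) := by
  have hc : Commute u y := by
    rw [mem_centralizer_singleton_iff] at hy
    exact hy.symm
  obtain ⟨j, hj⟩ := exists_pow_mul_eq_left hc hco
  obtain ⟨j', hj'⟩ := exists_pow_mul_eq_right hc hco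
  have h1 : centralizer ({(u * y) ^ j} : Set G) = centralizer ({u * y} : Set G) :=
    h.pow_centralizer_eq (by rw [hj]; exact hu)
  rw [hj] at h1
  rw [h1]
  have h2 := centralizer_le_of_pow (u * y) j'
  rwa [hj'] at h2

/-- as `key`, with equality when `y` is also noncentral -/
theorem Hyp2.key_eq [Finite G] (h : Hyp2 G) {u y : G} (hu : u ∉ center G) (hyc : y ∉ center G)
    (hy : y ∈ centralizer ({u} : Set G)) (hco : (orderOf u).Coprime (orderOf y)) :
    centralizer ({y} : Set G) = centralizer ({u} : Set G) :=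
  h.maximal hu (h.key hu hy hco) (ne_top_of_not_mem hyc)

/-- every noncentral element has a noncentral power of prime power order with the same
centralizer -/
theorem Hyp2.exists_primePow [Finite G] (h : Hyp2 G) {g : G} (hg : g ∉ center G) :
    ∃ (j s k : ℕ), s.Prime ∧ orderOf (g ^ j) = s ^ k ∧ g ^ j ∉ center G ∧
      centralizer ({g ^ j} : Set G) = centralizer ({g} : Set G) := by
  obtain ⟨j, s, k, hs, hord, hx⟩ := exists_pow_primePow (center G) (orderOf g) g rfl hg
  exact ⟨j, s, k, hs, hord, hx, h.pow_centralizer_eq hx⟩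

/-- `M / Z(M)` is an `s`-group when `M = C(x)` for a noncentral `s`-element `x` -/
theorem Hyp2.isPGroup_quotient_cen [Finite G] (h : Hyp2 G) {x : G} {s k : ℕ} (hs : s.Prime)
    (hx : x ∉ center G) (hord : orderOf x = s ^ k) :
    IsPGroup s (↥(centralizer ({x} : Set G)) ⧸
      (cen (centralizer ({x} : Set G))).subgroupOf (centralizer ({x} : Set G))) := by
  set M := centralizer ({x} : Set G) with hM
  intro g
  obtain ⟨m, rfl⟩ := QuotientGroup.mk_surjective g
  obtain ⟨j, l, hsl, hjl⟩ :=
    Nat.exists_eq_pow_mul_and_not_dvd (orderOf_pos (m : G)).ne' s hs.ne_one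
  refine ⟨j, ?_⟩
  rw [← QuotientGroup.mk_pow, QuotientGroup.eq_one_iff, mem_subgroupOf]
  have hsj0 : s ^ j ≠ 0 := pow_ne_zero _ hs.ne_zero
  have hordl : orderOf ((m : G) ^ (s ^ j)) = l := by
    rw [orderOf_pow_of_dvd hsj0 (by rw [hjl]; exact Dvd.intro _ rfl), hjl]
    exact Nat.mul_div_cancel_left _ (Nat.pos_of_ne_zero hsj0)
  have hmem : (m : G) ^ (s ^ j) ∈ M := M.pow_mem m.2 _
  have hco : (orderOf x).Coprime (orderOf ((m : G) ^ (s ^ j))) := by
    rw [hord, hordl]
    exact Nat.Coprime.pow_left k ((Nat.Prime.coprime_iff_not_dvd hs).mpr hsl)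
  have hle := h.key hx hmem hco
  rw [Subgroup.coe_pow]
  unfold cen
  refine Subgroup.mem_inf.mpr ⟨hmem, ?_⟩
  rw [mem_centralizer_iff]
  intro g' hg'
  have := hle hg'
  rw [mem_centralizer_singleton_iff] at this
  exact this

theorem cen_subgroupOf_le_center (M : Subgroup G) : (cen M).subgroupOf M ≤ center M := by
  intro a ha
  rw [mem_subgroupOf] at ha
  rw [mem_center_iff]
  intro m
  have hc : (m : G) * (a : G) = (a : G) * (m : G) := (mem_centralizer_iff.mp ha.2) m m.2
  exact Subtype.ext hc

/-- every noncentral centralizer is nilpotent -/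
theorem Hyp2.nilpotent [Finite G] (h : Hyp2 G) {g : G} (hg : g ∉ center G) :
    Group.IsNilpotent (centralizer ({g} : Set G)) := by
  obtain ⟨j, s, k, hs, hord, hx, hC⟩ := h.exists_primePow hg
  rw [← hC]
  set x := g ^ j with hxdef
  have hp := h.isPGroup_quotient_cen hs hx hord
  have : Fact s.Prime := ⟨hs⟩
  have hnil := hp.isNilpotent
  refine Subgroup.isNilpotent_of_ker_le_center
    (QuotientGroup.mk' ((cen (centralizer ({x} : Set G))).subgroupOf (centralizer ({x} : Set G))))
    ?_
  rw [QuotientGroup.ker_mk']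
  exact cen_subgroupOf_le_center _

/-- if some noncentral centralizer is normal then `G` is solvable -/
theorem Hyp2.solvable_of_normal [Finite G] (h : Hyp2 G) {g : G} (hg : g ∉ center G)
    (hn : (centralizer ({g} : Set G)).Normal) : Group.IsSolvable G := by
  set M := centralizer ({g} : Set G) with hM
  have hnil : Group.IsNilpotent M := h.nilpotent hg
  have hsolM : Group.IsSolvable M := inferInstance
  have hMt : M ≠ ⊤ := ne_top_of_not_mem hg
  obtain ⟨t, -, ht⟩ := SetLike.exists_of_lt (lt_top_iff_ne_top.mpr hMt)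
  have hsup : M ⊔ zpowers t = ⊤ := by
    apply (h g hg).2
    apply lt_of_le_of_ne le_sup_left
    intro e
    apply ht
    rw [hM, e]
    exact (le_sup_right : zpowers t ≤ _) (mem_zpowers t)
  have hcomm : _root_.commutator G ≤ M :=
    Subgroup.Normal.commutator_le_of_self_sup_commutative_eq_top hsup inferInstance
  have hq : Group.IsSolvable (G ⧸ M) := by
    apply Group.isSolvable_of_comm
    intro a b
    obtain ⟨a, rfl⟩ := QuotientGroup.mk_surjective a
    obtain ⟨b, rfl⟩ := QuotientGroup.mk_surjective b
    rw [← QuotientGroup.mk_mul, ← QuotientGroup.mk_mul, QuotientGroup.eq]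
    apply hcomm
    have : (a * b)⁻¹ * (b * a) = ⁅b⁻¹, a⁻¹⁆ := by
      rw [commutatorElement_def]; group
    rw [this]
    exact Subgroup.commutator_mem_commutator (mem_top _) (mem_top _)
  refine Group.isSolvable_of_ker_le_range M.subtype (QuotientGroup.mk' M) ?_
  rw [QuotientGroup.ker_mk', Subgroup.range_subtype]

/-- a non-normal noncentral centralizer is self-normalizing -/
theorem Hyp2.normalizer_eq (h : Hyp2 G) {g : G} (hg : g ∉ center G)
    (hn : ¬ (centralizer ({g} : Set G)).Normal) :
    normalizer ((centralizer ({g} : Set G) : Subgroup G) : Set G) = centralizer ({g} : Set G) := by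
  apply h.maximal hg le_normalizer
  intro e
  exact hn (normalizer_eq_top_iff.mp e)


/-- `C(x)` is abelian -/
def AbelianCent (x : G) : Prop :=
  ∀ a ∈ centralizer ({x} : Set G), ∀ b ∈ centralizer ({x} : Set G), a * b = b * a

/-- if all noncentral elements of `M = C(x)` have centralizer `M`, then `M` is abelian -/
theorem abelianCent_of_forall {x : G}
    (hall : ∀ w ∈ centralizer ({x} : Set G), w ∉ center G →
      centralizer ({w} : Set G) = centralizer ({x} : Set G)) : AbelianCent x := by
  intro a ha b hb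
  by_cases hac : a ∈ center G
  · exact (mem_center_iff.mp hac b).symm
  · have := hall a ha hac
    rw [← this, mem_centralizer_singleton_iff] at hb
    exact hb.symm

/-- in an abelian noncentral centralizer `M`, all noncentral elements have centralizer `M` -/
theorem Hyp2.centralizer_eq_of_abelian (h : Hyp2 G) {x : G} (hx : x ∉ center G)
    (hab : AbelianCent x) {w : G} (hw : w ∈ centralizer ({x} : Set G)) (hwc : w ∉ center G) :
    centralizer ({w} : Set G) = centralizer ({x} : Set G) := by
  apply h.maximal hx _ (ne_top_of_not_mem hwc)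
  intro m hm
  rw [mem_centralizer_singleton_iff]
  exact hab m hm w hw

/-- a noncentral element of `C(x)` of order prime to `s` (the prime of `x`) forces `C(x)` to be
abelian -/
theorem Hyp2.abelian_of_coprime [Finite G] (h : Hyp2 G) {x y : G} {s k : ℕ} (hs : s.Prime)
    (hx : x ∉ center G) (hord : orderOf x = s ^ k) (hy : y ∈ centralizer ({x} : Set G))
    (hyc : y ∉ center G) (hco : (orderOf y).Coprime s) : AbelianCent x := by
  have hCy : centralizer ({y} : Set G) = centralizer ({x} : Set G) :=
    h.key_eq hx hyc hy (by rw [hord]; exact (Nat.Coprime.pow_right k hco).symm)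
  apply abelianCent_of_forall
  intro w hw hwc
  obtain ⟨j, t, f, ht, hordw, hwc', hCw⟩ := h.exists_primePow hwc
  rw [← hCw]
  have hw' : w ^ j ∈ centralizer ({x} : Set G) := Subgroup.pow_mem _ hw j
  by_cases hts : t = s
  · -- `w ^ j` is an `s`-element of `C(y)`
    rw [← hCy] at hw' ⊢
    refine h.key_eq hyc hwc' hw' ?_
    rw [hordw, hts]
    exact Nat.Coprime.pow_right f hco
  · refine h.key_eq hx hwc' hw' ?_
    rw [hord, hordw]
    exact Nat.Coprime.pow _ _ ((Nat.coprime_primes hs ht).mpr (Ne.symm hts))

/-- if no noncentral centralizer is abelian then `C(x) / Z(G)` is an `s`-group for every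
noncentral `s`-element `x` -/
theorem Hyp2.exists_pow_mem_center [Finite G] (h : Hyp2 G)
    (hna : ∀ x : G, x ∉ center G → ¬ AbelianCent x) {x : G} {s k : ℕ} (hs : s.Prime)
    (hx : x ∉ center G) (hord : orderOf x = s ^ k) {m : G}
    (hm : m ∈ centralizer ({x} : Set G)) : ∃ j : ℕ, m ^ (s ^ j) ∈ center G := by
  obtain ⟨j, l, hsl, hjl⟩ :=
    Nat.exists_eq_pow_mul_and_not_dvd (orderOf_pos m).ne' s hs.ne_one
  refine ⟨j, ?_⟩
  by_contra hmc
  have hsj0 : s ^ j ≠ 0 := pow_ne_zero _ hs.ne_zero
  have hordl : orderOf (m ^ (s ^ j)) = l := by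
    rw [orderOf_pow_of_dvd hsj0 (by rw [hjl]; exact Dvd.intro _ rfl), hjl]
    exact Nat.mul_div_cancel_left _ (Nat.pos_of_ne_zero hsj0)
  refine hna x hx (h.abelian_of_coprime hs hx hord (Subgroup.pow_mem _ hm _) hmc ?_)
  rw [hordl]
  exact ((Nat.Prime.coprime_iff_not_dvd hs).mpr hsl).symm

/-- the TI property of an abelian, non-normal, noncentral centralizer -/
theorem Hyp2.ti_of_abelian (h : Hyp2 G) {x : G} (hx : x ∉ center G)
    (hn : ¬ (centralizer ({x} : Set G)).Normal) (hab : AbelianCent x) {g w : G}
    (hg : g ∉ centralizer ({x} : Set G)) (hw : w ∈ centralizer ({x} : Set G))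
    (hw' : g⁻¹ * w * g ∈ centralizer ({x} : Set G)) : w ∈ center G := by
  by_contra hwc
  have hwc' : g⁻¹ * w * g ∉ center G := by
    have := conj_not_mem_center (h := g⁻¹) hwc
    rwa [inv_inv] at this
  have h1 := h.centralizer_eq_of_abelian hx hab hw hwc
  have h2 := h.centralizer_eq_of_abelian hx hab hw' hwc'
  apply hg
  rw [← h.normalizer_eq hx hn]
  -- `g⁻¹` normalizes `M`, hence so does `g`
  have hinv : g⁻¹ ∈ normalizer ((centralizer ({x} : Set G) : Subgroup G) : Set G) := by
    rw [mem_normalizer_iff]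
    intro m
    have e := mem_centralizer_conj g⁻¹ w (g⁻¹ * m * g⁻¹⁻¹)
    rw [inv_inv] at e ⊢
    have e2 : g * (g⁻¹ * m * g) * g⁻¹ = m := by group
    rw [e2, h1, h2] at e
    exact e.symm
  have := Subgroup.inv_mem _ hinv
  rwa [inv_inv] at this

end Cfsg.Agent.Helper6.MaxCent
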