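import Mathlib
import Cfsg.Agent.Helper6.MaxCentBasic
import Cfsg.Agent.Helper1.FrobeniusThm
import Cfsg.Agent.Helper1.FrobeniusConj

/-!
Groups in which the centralizer of every noncentral element is a maximal subgroup:
an abelian noncentral centralizer is normal (via Frobenius' theorem applied to `G / Z(G)`).
-/

set_option autoImplicit false

namespace Cfsg.Agent.Helper6.MaxCent

open Subgroup

variable {G : Type*} [Group G]

theorem mk_mem_map_iff {Z M : Subgroup G} [Z.Normal] (hZM : Z ≤ M) (a : G) :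
    (QuotientGroup.mk' Z) a ∈ M.map (QuotientGroup.mk' Z) ↔ a ∈ M := by
  constructor
  · rintro ⟨b, hb, e⟩
    rw [QuotientGroup.mk'_apply, QuotientGroup.mk'_apply, QuotientGroup.eq] at e
    have : a = b * (b⁻¹ * a) := by group
    rw [this]
    exact M.mul_mem hb (hZM e)
  · intro ha
    exact ⟨a, ha, rfl⟩

/-- if no noncentral centralizer is normal, then none is abelian -/
theorem Hyp2.false_of_abelian [Finite G] (h : Hyp2 G)
    (hnn : ∀ g : G, g ∉ center G → ¬ (centralizer ({g} : Set G)).Normal)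
    {x : G} (hx : x ∉ center G) (hab : AbelianCent x) : False := by
  classical
  set Z := center G with hZ
  set M := centralizer ({x} : Set G) with hM
  have hZM : Z ≤ M := center_le_centralizer x
  set π := QuotientGroup.mk' Z with hπ
  have hπ1 : ∀ a : G, π a = 1 ↔ a ∈ Z := fun a => by
    rw [hπ, QuotientGroup.mk'_apply, QuotientGroup.eq_one_iff]
  set H := M.map π with hH
  have hmem : ∀ a : G, π a ∈ H ↔ a ∈ M := fun a => mk_mem_map_iff hZM a
  have hH1 : H ≠ ⊥ := by
    intro e
    have h1 : π x ∈ H := (hmem x).mpr (self_mem_centralizer x)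
    rw [e, mem_bot, hπ1] at h1
    exact hx h1
  have hMt : M ≠ ⊤ := ne_top_of_not_mem hx
  have hH2 : H ≠ ⊤ := by
    intro e
    apply hMt
    rw [eq_top_iff]
    intro a _
    rw [← hmem a, e]
    exact mem_top _
  have hfrob : Cfsg.IsFrobeniusComplement H := by
    refine ⟨hH1, hH2, ?_⟩
    intro g' hg'
    obtain ⟨g, rfl⟩ := QuotientGroup.mk'_surjective Z g'
    rw [eq_bot_iff]
    intro a' ha'
    obtain ⟨a, rfl⟩ := QuotientGroup.mk'_surjective Z a'
    rw [mem_inf, Cfsg.Agent.Helper1.mem_conj_smul_iff] at ha'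
    rw [mem_bot]
    change π a = 1
    rw [hπ1]
    have hg : g ∉ M := fun hg => hg' ((hmem g).mpr hg)
    have ha1 : a ∈ M := (hmem a).mp ha'.1
    have ha2 : g⁻¹ * a * g ∈ M := by
      rw [← hmem]
      have := ha'.2
      rwa [← map_inv, ← map_mul, ← map_mul] at this
    exact h.ti_of_abelian hx (hnn x hx) hab hg ha1 ha2
  have : Fintype (G ⧸ Z) := Fintype.ofFinite _
  obtain ⟨N, hN, hNn, hNc⟩ := Cfsg.Agent.Helper1.frobenius_theorem hfrob
  have hNmem : ∀ a : G ⧸ Z, a ∈ N ↔ a ∈ Cfsg.frobeniusKernel H := fun a => by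
    rw [← hN]; rfl
  have hdisj : ∀ a : G ⧸ Z, a ∈ N → a ∈ H → a = 1 := by
    intro a h1 h2
    have := hNc.disjoint
    rw [disjoint_iff] at this
    have h3 : a ∈ N ⊓ H := mem_inf.mpr ⟨h1, h2⟩
    rw [this, mem_bot] at h3
    exact h3
  set K := N.comap π with hK
  have hKn : K.Normal := hNn.comap π
  have hKt : K ≠ ⊤ := by
    intro e
    apply hH1
    rw [eq_bot_iff]
    intro a' ha'
    obtain ⟨a, rfl⟩ := QuotientGroup.mk'_surjective Z a'
    rw [mem_bot]
    apply hdisj _ _ ha'
    have : a ∈ K := by rw [e]; exact mem_top _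
    exact this
  -- `K ≤ Z`
  have hKZ : K ≤ Z := by
    intro n hnK
    by_contra hnZ
    have hle : centralizer ({n} : Set G) ≤ K := by
      intro c hc
      rw [mem_centralizer_singleton_iff] at hc
      change π c ∈ N
      by_contra hcN
      rw [hNmem, Cfsg.Agent.Helper1.not_mem_frobeniusKernel_iff] at hcN
      obtain ⟨hc1, g', hg'⟩ := hcN
      have hn' : g' * π n * g'⁻¹ ∈ N := hNn.conj_mem _ hnK g'
      have hcomm : (g' * π n * g'⁻¹) * (g' * π c * g'⁻¹) = (g' * π c * g'⁻¹) * (g' * π n * g'⁻¹) := by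
        have e1 : (g' * π n * g'⁻¹) * (g' * π c * g'⁻¹) = g' * π (n * c) * g'⁻¹ := by
          rw [map_mul]; group
        have e2 : (g' * π c * g'⁻¹) * (g' * π n * g'⁻¹) = g' * π (c * n) * g'⁻¹ := by
          rw [map_mul]; group
        rw [e1, e2, hc]
      have hne : g' * π c * g'⁻¹ ≠ 1 := by
        intro e
        apply hc1
        have : π c = g'⁻¹ * (g' * π c * g'⁻¹) * g' := by group
        rw [this, e]; group
      have hnH := Cfsg.Agent.Helper1.frob_centralizer_le hfrob hg' hne hcomm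
      have h1 := hdisj _ hn' hnH
      apply hnZ
      rw [← hπ1]
      have : π n = g'⁻¹ * (g' * π n * g'⁻¹) * g' := by group
      rw [this, h1]; group
    have hKe := h.maximal hnZ hle hKt
    apply hnn n hnZ
    rw [← hKe]
    exact hKn
  -- hence `N = ⊥` and `H = ⊤`
  apply hH2
  have hNbot : N = ⊥ := by
    rw [eq_bot_iff]
    intro a' ha'
    obtain ⟨a, rfl⟩ := QuotientGroup.mk'_surjective Z a'
    rw [mem_bot]
    change π a = 1
    rw [hπ1]
    exact hKZ ha'
  have := hNc.sup_eq_top
  rwa [hNbot, bot_sup_eq] at this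

end Cfsg.Agent.Helper6.MaxCent
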