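import Mathlib
import Cfsg.Agent.Helper6.MaxCentBasic
import Cfsg.Agent.Helper6.MaxCentFrob
import Cfsg.Agent.Helper1.SylowBasic

/-!
Groups in which the centralizer of every noncentral element is a maximal subgroup:
the counting argument excluding the case where no noncentral centralizer is abelian.
-/

set_option autoImplicit false

namespace Cfsg.Agent.Helper6.MaxCent

open Subgroup
open Cfsg.Agent.S4314 (cen mem_of_pow_mem_of_coprime)

variable {G : Type*} [Group G]

/-- the standing assumptions of the final case -/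
structure CaseB (G : Type*) [Group G] : Prop where
  hyp : Hyp2 G
  nna : ∀ x : G, x ∉ center G → ¬ AbelianCent x
  nnp : ∀ p : ℕ, p.Prime → ¬ IsPGroup p (G ⧸ center G)

/-- in case B the image of `C(x)` in `G / Z(G)` is a Sylow subgroup -/
theorem CaseB.exists_sylow [Finite G] (c : CaseB G) {x : G} {s k : ℕ} (hs : s.Prime)
    (hx : x ∉ center G) (hord : orderOf x = s ^ k) :
    ∃ P : Sylow s (G ⧸ center G), ∀ a : G,
      (QuotientGroup.mk' (center G)) a ∈ (P : Subgroup (G ⧸ center G)) ↔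
        a ∈ centralizer ({x} : Set G) := by
  set M := centralizer ({x} : Set G) with hM
  set π := QuotientGroup.mk' (center G) with hπ
  have hp : IsPGroup s (M.map π) := by
    rintro ⟨a', ha'⟩
    obtain ⟨a, ha, rfl⟩ := ha'
    obtain ⟨j, hj⟩ := c.hyp.exists_pow_mem_center c.nna hs hx hord ha
    refine ⟨j, ?_⟩
    apply Subtype.ext
    rw [Subgroup.coe_pow, Subgroup.coe_one]
    change π a ^ (s ^ j) = 1
    rw [← map_pow, hπ, QuotientGroup.mk'_apply, QuotientGroup.eq_one_iff]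
    exact hj
  obtain ⟨P, hP⟩ := hp.exists_le_sylow
  refine ⟨P, ?_⟩
  have hle : M ≤ (P : Subgroup (G ⧸ center G)).comap π := fun a ha => hP ⟨a, ha, rfl⟩
  have hne : (P : Subgroup (G ⧸ center G)).comap π ≠ ⊤ := by
    intro e
    apply c.nnp s hs
    intro a'
    obtain ⟨a, rfl⟩ := QuotientGroup.mk'_surjective _ a'
    have h1 : a ∈ (P : Subgroup (G ⧸ center G)).comap π := by rw [e]; exact mem_top _
    have h2 : π a ∈ (P : Subgroup (G ⧸ center G)) := h1
    obtain ⟨j, hj⟩ := P.isPGroup' ⟨π a, h2⟩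
    refine ⟨j, ?_⟩
    have h3 := congrArg Subtype.val hj
    have h4 : π a ^ s ^ j = 1 := by simpa using h3
    exact h4
  have he := c.hyp.maximal hx hle hne
  intro a
  rw [hM, ← he]
  rfl

/-- in case B the centralizers of noncentral `s`-elements are conjugate -/
theorem CaseB.conj [Finite G] (c : CaseB G) {x₁ x₂ : G} {s k₁ k₂ : ℕ} (hs : s.Prime)
    (hx₁ : x₁ ∉ center G) (hord₁ : orderOf x₁ = s ^ k₁)
    (hx₂ : x₂ ∉ center G) (hord₂ : orderOf x₂ = s ^ k₂) :
    ∃ g : G, ∀ m : G, m ∈ centralizer ({x₂} : Set G) ↔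
      g⁻¹ * m * g ∈ centralizer ({x₁} : Set G) := by
  have : Fact s.Prime := ⟨hs⟩
  obtain ⟨P₁, h₁⟩ := c.exists_sylow hs hx₁ hord₁
  obtain ⟨P₂, h₂⟩ := c.exists_sylow hs hx₂ hord₂
  obtain ⟨g', hg'⟩ := MulAction.exists_smul_eq (G ⧸ center G) P₁ P₂
  obtain ⟨g, rfl⟩ := QuotientGroup.mk'_surjective _ g'
  refine ⟨g, fun m => ?_⟩
  rw [← h₂, ← h₁, ← hg', Sylow.coe_subgroup_smul, Cfsg.Agent.Helper1.mem_conj_smul_iff,
    map_mul, map_mul, map_inv]

/-- noncentral elements that are `s`-elements modulo the centre -/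
def E (G : Type*) [Group G] (s : ℕ) : Set G :=
  {w | w ∉ center G ∧ ∃ j : ℕ, w ^ (s ^ j) ∈ center G}

theorem Hyp2.E_pow [Finite G] (h : Hyp2 G) {s : ℕ} (hs : s.Prime) {w : G} (hw : w ∈ E G s) :
    ∃ l a : ℕ, orderOf (w ^ l) = s ^ a ∧ w ^ l ∉ center G ∧
      centralizer ({w ^ l} : Set G) = centralizer ({w} : Set G) := by
  obtain ⟨hwc, j, hj⟩ := hw
  obtain ⟨a, l, hsl, hal⟩ := Nat.exists_eq_pow_mul_and_not_dvd (orderOf_pos w).ne' s hs.ne_one
  have hl0 : l ≠ 0 := by
    rintro rfl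
    exact hsl (dvd_zero s)
  have hord : orderOf (w ^ l) = s ^ a := by
    rw [orderOf_pow_of_dvd hl0 (by rw [hal]; exact Dvd.intro_left _ rfl), hal]
    exact Nat.mul_div_cancel _ (Nat.pos_of_ne_zero hl0)
  have hnc : w ^ l ∉ center G := by
    intro hc
    apply hwc
    exact mem_of_pow_mem_of_coprime (center G) hc hj
      (Nat.Coprime.pow_right j ((Nat.Prime.coprime_iff_not_dvd hs).mpr hsl).symm)
  exact ⟨l, a, hord, hnc, h.pow_centralizer_eq hnc⟩

theorem Hyp2.card_cen_mul_sq_le [Finite G] (h : Hyp2 G) {x : G} {s k : ℕ} (hs : s.Prime)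
    (hx : x ∉ center G) (hord : orderOf x = s ^ k) (hna : ¬ AbelianCent x) :
    Nat.card (cen (centralizer ({x} : Set G))) * s ^ 2 ≤
      Nat.card (centralizer ({x} : Set G)) := by
  set M := centralizer ({x} : Set G) with hM
  have : Fact s.Prime := ⟨hs⟩
  have hp := h.isPGroup_quotient_cen hs hx hord
  obtain ⟨n, hn⟩ := IsPGroup.iff_card.mp hp
  have hcard : Nat.card M =
      Nat.card (M ⧸ (cen M).subgroupOf M) * Nat.card ((cen M).subgroupOf M) :=
    Subgroup.card_eq_card_quotient_mul_card_subgroup _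
  have hcen : Nat.card ((cen M).subgroupOf M) = Nat.card (cen M) :=
    Nat.card_congr (Subgroup.subgroupOfEquivOfLe (inf_le_left)).toEquiv
  have hn2 : 2 ≤ n := by
    by_contra hlt
    apply hna
    have hcyc : IsCyclic (M ⧸ (cen M).subgroupOf M) := by
      have hn' : n = 0 ∨ n = 1 := by omega
      rcases hn' with rfl | rfl
      · rw [pow_zero] at hn
        have : Subsingleton (M ⧸ (cen M).subgroupOf M) :=
          (Nat.card_eq_one_iff_unique.mp hn).1
        exact isCyclic_of_subsingleton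
      · rw [pow_one] at hn
        exact isCyclic_of_prime_card (p := s) hn
    have hcomm := (QuotientGroup.mk' ((cen M).subgroupOf M)).isMulCommutative_of_isCyclic_of_ker_le_center
      (by rw [QuotientGroup.ker_mk']; exact cen_subgroupOf_le_center M)
    intro a ha b hb
    have := hcomm.is_comm.comm (⟨a, ha⟩ : M) ⟨b, hb⟩
    exact congrArg Subtype.val this
  rw [hcard, hn, hcen, mul_comm]
  exact Nat.mul_le_mul_right _ (Nat.pow_le_pow_right hs.pos hn2)

theorem CaseB.card_E_le [Finite G] (c : CaseB G) {s : ℕ} (hs : s.Prime) :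
    (E G s).ncard * s ^ 2 ≤ Nat.card G := by
  by_cases hE : (E G s) = ∅
  · rw [hE, Set.ncard_empty, zero_mul]
    exact Nat.zero_le _
  obtain ⟨w₀, hw₀⟩ := Set.nonempty_iff_ne_empty.mpr hE
  obtain ⟨l₀, a₀, hord₀, hnc₀, hC₀⟩ := c.hyp.E_pow hs hw₀
  set x₀ := w₀ ^ l₀ with hx₀
  set M₀ := centralizer ({x₀} : Set G) with hM₀
  let ψ : (G ⧸ M₀) × cen M₀ → G := fun p => p.1.out * (p.2 : G) * (p.1.out)⁻¹
  have hsub : E G s ⊆ Set.range ψ := by
    intro w hw
    obtain ⟨l, a, hord, hnc, hC⟩ := c.hyp.E_pow hs hw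
    obtain ⟨g, hg⟩ := c.conj hs hnc₀ hord₀ hnc hord
    rw [hC] at hg
    have hw1 : g⁻¹ * w * g ∈ M₀ := (hg w).mp (self_mem_centralizer w)
    have hw2 : g⁻¹ * w * g ∈ cen M₀ := by
      refine mem_inf.mpr ⟨hw1, ?_⟩
      rw [mem_centralizer_iff]
      intro m hm
      have h1 : g * m * g⁻¹ ∈ centralizer ({w} : Set G) := by
        apply (hg _).mpr
        have : g⁻¹ * (g * m * g⁻¹) * g = m := by group
        rw [this]
        exact hm
      rw [mem_centralizer_singleton_iff] at h1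
      calc m * (g⁻¹ * w * g) = g⁻¹ * (g * m * g⁻¹ * w) * g := by group
        _ = g⁻¹ * (w * (g * m * g⁻¹)) * g := by rw [h1]
        _ = g⁻¹ * w * g * m := by group
    obtain ⟨m, hm⟩ := QuotientGroup.mk_out_eq_mul M₀ g
    refine ⟨((g : G ⧸ M₀), ⟨g⁻¹ * w * g, hw2⟩), ?_⟩
    change (g : G ⧸ M₀).out * (g⁻¹ * w * g) * ((g : G ⧸ M₀).out)⁻¹ = w
    rw [hm]
    have hcm : (m : G) * (g⁻¹ * w * g) = (g⁻¹ * w * g) * m :=
      (mem_centralizer_iff.mp (mem_inf.mp hw2).2) m m.2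
    calc g * m * (g⁻¹ * w * g) * (g * m)⁻¹ = g * (m * (g⁻¹ * w * g)) * (m : G)⁻¹ * g⁻¹ := by group
      _ = g * ((g⁻¹ * w * g) * m) * (m : G)⁻¹ * g⁻¹ := by rw [hcm]
      _ = w := by group
  have h1 : (E G s).ncard ≤ Nat.card ((G ⧸ M₀) × cen M₀) := by
    calc (E G s).ncard ≤ (Set.range ψ).ncard := Set.ncard_le_ncard hsub
      _ = (ψ '' Set.univ).ncard := by rw [Set.image_univ]
      _ ≤ (Set.univ : Set ((G ⧸ M₀) × cen M₀)).ncard := Set.ncard_image_le
      _ = Nat.card ((G ⧸ M₀) × cen M₀) := Set.ncard_univ _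
  rw [Nat.card_prod] at h1
  have h2 := c.hyp.card_cen_mul_sq_le hs hnc₀ hord₀ (c.nna x₀ hnc₀)
  calc (E G s).ncard * s ^ 2 ≤ (Nat.card (G ⧸ M₀) * Nat.card (cen M₀)) * s ^ 2 :=
        Nat.mul_le_mul_right _ h1
    _ = Nat.card (G ⧸ M₀) * (Nat.card (cen M₀) * s ^ 2) := by ring
    _ ≤ Nat.card (G ⧸ M₀) * Nat.card M₀ := Nat.mul_le_mul_left _ h2
    _ = Nat.card G := (Subgroup.card_eq_card_quotient_mul_card_subgroup M₀).symm

theorem CaseB.cover [Finite G] (c : CaseB G) :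
    ((center G : Set G))ᶜ ⊆ ⋃ s ∈ (Nat.card G).primeFactors, E G s := by
  intro g hg
  have hg' : g ∉ center G := hg
  obtain ⟨j, s, k, hs, hord, hx, hC⟩ := c.hyp.exists_primePow hg'
  have hgM : g ∈ centralizer ({g ^ j} : Set G) := by
    rw [hC]
    exact self_mem_centralizer g
  obtain ⟨j', hj'⟩ := c.hyp.exists_pow_mem_center c.nna hs hx hord hgM
  have hk : k ≠ 0 := by
    rintro rfl
    rw [pow_zero, orderOf_eq_one_iff] at hord
    apply hx
    rw [hord]
    exact one_mem _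
  have hdvd : s ∣ Nat.card G := by
    have h1 : s ^ k ∣ Nat.card G := hord ▸ orderOf_dvd_natCard _
    exact dvd_trans (dvd_pow_self s hk) h1
  rw [Set.mem_iUnion₂]
  refine ⟨s, ?_, hg', j', hj'⟩
  rw [Nat.mem_primeFactors]
  exact ⟨hs, hdvd, Nat.card_pos.ne'⟩

theorem sum_inv_sq_le (N : ℕ) (hN : 2 ≤ N) :
    ∑ n ∈ Finset.Icc 2 N, (1 : ℚ) / (n : ℚ) ^ 2 ≤ 3 / 4 - 1 / N := by
  induction N, hN using Nat.le_induction with
  | base => norm_num [Finset.Icc_self]
  | succ N hN ih =>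
    rw [Finset.sum_Icc_succ_top (by omega)]
    have hNpos : (0 : ℚ) < N := by exact_mod_cast (by omega : 0 < N)
    have key : (1 : ℚ) / ((N + 1 : ℕ) : ℚ) ^ 2 ≤ 1 / N - 1 / ((N + 1 : ℕ) : ℚ) := by
      push_cast
      have h1 : (0 : ℚ) < (N : ℚ) + 1 := by linarith
      rw [div_sub_div _ _ hNpos.ne' h1.ne', div_le_div_iff₀ (by positivity) (by positivity)]
      nlinarith
    linarith

theorem CaseB.false [Finite G] (c : CaseB G) : False := by
  classical
  set n := Nat.card G with hn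
  set z := Nat.card (center G) with hz
  have hnz : n = Nat.card (G ⧸ center G) * z :=
    Subgroup.card_eq_card_quotient_mul_card_subgroup _
  have hq4 : 4 ≤ Nat.card (G ⧸ center G) := by
    by_contra hlt
    have hpos : 0 < Nat.card (G ⧸ center G) := Nat.card_pos
    have hcases : Nat.card (G ⧸ center G) = 2 ^ 0 ∨ Nat.card (G ⧸ center G) = 2 ^ 1 ∨
        Nat.card (G ⧸ center G) = 3 ^ 1 := by omega
    rcases hcases with e | e | e
    · exact c.nnp 2 Nat.prime_two (IsPGroup.of_card e)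
    · exact c.nnp 2 Nat.prime_two (IsPGroup.of_card e)
    · exact c.nnp 3 Nat.prime_three (IsPGroup.of_card e)
  have hzpos : 0 < z := Nat.card_pos
  have h4 : 4 * z ≤ n := by
    rw [hnz]
    exact Nat.mul_le_mul_right _ hq4
  have hcount : n - z ≤ ∑ s ∈ n.primeFactors, (E G s).ncard := by
    calc n - z = (((center G : Set G))ᶜ).ncard := by
          rw [Set.ncard_compl, hn, hz]
          rfl
      _ ≤ (⋃ s ∈ n.primeFactors, E G s).ncard := Set.ncard_le_ncard c.cover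
      _ ≤ _ := Finset.set_ncard_biUnion_le _ _
  have hn2 : 2 ≤ n := by omega
  have hnpos : (0 : ℚ) < n := by exact_mod_cast (by omega : 0 < n)
  have hbound : ∀ s ∈ n.primeFactors, ((E G s).ncard : ℚ) ≤ n * (1 / (s : ℚ) ^ 2) := by
    intro s hs
    have hsp : s.Prime := Nat.prime_of_mem_primeFactors hs
    have h1 := c.card_E_le hsp
    have h2 : ((E G s).ncard : ℚ) * (s : ℚ) ^ 2 ≤ n := by exact_mod_cast h1
    have hs0 : (0 : ℚ) < (s : ℚ) ^ 2 := by
      have : (0 : ℚ) < s := by exact_mod_cast hsp.pos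
      positivity
    rw [mul_one_div, le_div_iff₀ hs0]
    exact h2
  have hsub : n.primeFactors ⊆ Finset.Icc 2 n := by
    intro s hs
    rw [Finset.mem_Icc]
    have hsp : s.Prime := Nat.prime_of_mem_primeFactors hs
    exact ⟨hsp.two_le, Nat.le_of_dvd (by omega) (Nat.dvd_of_mem_primeFactors hs)⟩
  have hsum : ((n - z : ℕ) : ℚ) ≤ n * (3 / 4 - 1 / n) := by
    calc ((n - z : ℕ) : ℚ) ≤ ((∑ s ∈ n.primeFactors, (E G s).ncard : ℕ) : ℚ) := by
          exact_mod_cast hcount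
      _ = ∑ s ∈ n.primeFactors, ((E G s).ncard : ℚ) := by push_cast; rfl
      _ ≤ ∑ s ∈ n.primeFactors, (n : ℚ) * (1 / (s : ℚ) ^ 2) := Finset.sum_le_sum hbound
      _ = n * ∑ s ∈ n.primeFactors, 1 / (s : ℚ) ^ 2 := by rw [Finset.mul_sum]
      _ ≤ n * ∑ s ∈ Finset.Icc 2 n, 1 / (s : ℚ) ^ 2 := by
          apply mul_le_mul_of_nonneg_left _ hnpos.le
          apply Finset.sum_le_sum_of_subset_of_nonneg hsub
          intro i _ _
          positivity
      _ ≤ n * (3 / 4 - 1 / n) := mul_le_mul_of_nonneg_left (sum_inv_sq_le n hn2) hnpos.le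
  have hcast : ((n - z : ℕ) : ℚ) = (n : ℚ) - z := by
    rw [Nat.cast_sub (by omega)]
  rw [hcast, mul_sub, mul_one_div, div_self hnpos.ne'] at hsum
  have h4' : (4 : ℚ) * z ≤ n := by exact_mod_cast h4
  linarith

end Cfsg.Agent.Helper6.MaxCent
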