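import Mathlib
import Cfsg.Agent.Helper1.S0997TDefs

set_option autoImplicit false

/-! # S0997 (Tuan half), piece T-NSTAB: the cyclic span `⟨a, u a, u² a⟩` of an `H`-eigenvector
killed by `u³` is `N`-stable -/

namespace Cfsg.Agent.S0997P

open Cfsg.Agent.Helper5.GC Module Cfsg.Agent.S4504P

namespace NSTAB

variable {k : Type*} [Field k] {A : Type*} [AddCommGroup A] [Module k A]

/-- `f` maps the submodule `C` into itself. -/
def Stab (C : Submodule k A) (f : Module.End k A) : Prop := ∀ b ∈ C, f b ∈ C

theorem stab_one (C : Submodule k A) : Stab C 1 := fun _ hb => hb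

theorem stab_sub {C : Submodule k A} {f g : Module.End k A} (hf : Stab C f) (hg : Stab C g) :
    Stab C (f - g) := fun b hb => by
  rw [LinearMap.sub_apply]; exact C.sub_mem (hf b hb) (hg b hb)

theorem stab_add {C : Submodule k A} {f g : Module.End k A} (hf : Stab C f) (hg : Stab C g) :
    Stab C (f + g) := fun b hb => by
  rw [LinearMap.add_apply]; exact C.add_mem (hf b hb) (hg b hb)

theorem stab_mul {C : Submodule k A} {f g : Module.End k A} (hf : Stab C f) (hg : Stab C g) :
    Stab C (f * g) := fun b hb => by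
  rw [Module.End.mul_apply]; exact hf _ (hg b hb)

theorem stab_pow {C : Submodule k A} {f : Module.End k A} (hf : Stab C f) (n : ℕ) :
    Stab C (f ^ n) := by
  induction n with
  | zero => rw [pow_zero]; exact stab_one C
  | succ n ih => rw [pow_succ]; exact stab_mul ih hf

theorem stab_of_gens {s : Set A} {f : Module.End k A}
    (h : ∀ b ∈ s, f b ∈ Submodule.span k s) : Stab (Submodule.span k s) f := by
  intro b hb
  have : Submodule.span k s ≤ (Submodule.span k s).comap f :=
    Submodule.span_le.mpr (fun c hc => h c hc)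
  exact this hb

end NSTAB

open NSTAB in
-- T-NSTAB
theorem cyc3_stable {k : Type*} [Field k] {G : Type*} [Group G] {N H : Subgroup G} {x : G}
    {p : ℕ} (hd : TIData G N H x p) {A : Type*} [AddCommGroup A] [Module k A]
    (ρ : Representation k G A) (a : A) (χ : G → k) (hχ : ∀ h ∈ H, ρ h a = χ h • a)
    (h3 : (uop ρ x ^ 3) a = 0) :
    ∀ g ∈ N, ∀ b ∈ Submodule.span k ({a, uop ρ x a, (uop ρ x ^ 2) a} : Set A),
      ρ g b ∈ Submodule.span k ({a, uop ρ x a, (uop ρ x ^ 2) a} : Set A) := by
  set u := uop ρ x with hu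
  set s : Set A := {a, u a, (u ^ 2) a} with hs
  set C := Submodule.span k s with hC
  have ha : a ∈ C := Submodule.subset_span (by simp [hs])
  have hua : u a ∈ C := Submodule.subset_span (by simp [hs])
  have hu2a : (u ^ 2) a ∈ C := Submodule.subset_span (by simp [hs])
  -- `C` is `u`-stable
  have hstu : Stab C u := by
    apply stab_of_gens
    intro b hb
    simp only [hs, Set.mem_insert_iff, Set.mem_singleton_iff] at hb
    rcases hb with rfl | rfl | rfl
    · exact hua
    · have : u (u a) = (u ^ 2) a := by rw [pow_two, Module.End.mul_apply]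
      rw [this]; exact hu2a
    · have : u ((u ^ 2) a) = (u ^ 3) a := by
        rw [pow_succ' u 2, Module.End.mul_apply]
      rw [this, h3]; exact C.zero_mem
  have hρx : ρ x = u + 1 := by rw [hu, uop]; abel
  have hstx : Stab C (ρ x) := by rw [hρx]; exact stab_add hstu (stab_one C)
  -- `C` is `ρ h`-stable for `h ∈ H`
  have hstH : ∀ h ∈ H, Stab C (ρ h) := by
    intro h hh
    obtain ⟨m, hm⟩ := hd.norm h⁻¹ (H.inv_mem hh)
    rw [inv_inv] at hm
    have hcomm : ρ h * ρ x = (ρ x) ^ m * ρ h := by
      have : h * x = x ^ m * h := by rw [← hm]; group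
      rw [← map_mul, this, map_mul, map_pow]
    set w := (ρ x) ^ m - 1 with hw
    have hstw : Stab C w := stab_sub (stab_pow hstx m) (stab_one C)
    have hcu : ρ h * u = w * ρ h := by
      rw [hu, uop, hw, mul_sub, sub_mul, hcomm, mul_one, one_mul]
    have hcuj : ∀ j : ℕ, ρ h * u ^ j = w ^ j * ρ h := by
      intro j
      induction j with
      | zero => simp
      | succ j ih => rw [pow_succ, ← mul_assoc, ih, mul_assoc, hcu, ← mul_assoc, ← pow_succ]
    have key : ∀ j : ℕ, ρ h ((u ^ j) a) ∈ C := by
      intro j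
      have h1 : ρ h ((u ^ j) a) = (w ^ j) (ρ h a) := by
        rw [← Module.End.mul_apply, hcuj j, Module.End.mul_apply]
      rw [h1, hχ h hh, map_smul]
      exact C.smul_mem _ (stab_pow hstw j a ha)
    apply stab_of_gens
    intro b hb
    simp only [hs, Set.mem_insert_iff, Set.mem_singleton_iff] at hb
    rcases hb with rfl | rfl | rfl
    · simpa using key 0
    · simpa using key 1
    · exact key 2
  intro g hg b hb
  obtain ⟨h, hh, i, rfl⟩ := hd.gen g hg
  rw [map_mul, Module.End.mul_apply, map_pow]
  exact hstH h hh _ (stab_pow hstx i b hb)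

end Cfsg.Agent.S0997P
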