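import Mathlib
import Cfsg.Agent.Helper1.S0997TDefs
import Cfsg.Agent.Helper5.FrobSchurIrr

set_option autoImplicit false

/-! # S0997 (Tuan half), piece T-FORM: a real irreducible representation of odd degree carries a
nonzero symmetric invariant form -/

namespace Cfsg.Agent.S0997P

open Cfsg.Agent.Helper5.GC Module Cfsg.Agent.S4504P

-- T-FORM
theorem exists_symm_invariant {G : Type*} [Group G] [Finite G] (n : ℕ)
    (ρ : Representation ℂ G (Fin n → ℂ)) (hirr : ρ.IsIrreducible) (hodd : Odd n)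
    (hreal : ∀ g : G, (ρ.character g).im = 0) :
    ∃ S : Matrix (Fin n) (Fin n) ℂ, S ≠ 0 ∧ S.transpose = S ∧
      ∀ g : G, (LinearMap.toMatrix' (ρ g)).transpose * S * LinearMap.toMatrix' (ρ g) = S := by
  classical
  haveI : Fintype G := Fintype.ofFinite G
  haveI := hirr
  have h1 := (Cfsg.Agent.Helper5.FrobSchur.finrank_invariants_eq_one_iff ρ).mpr hreal
  obtain ⟨v, hv0, -⟩ := finrank_eq_one_iff'.mp h1
  have hv0' : (v : Matrix (Fin n) (Fin n) ℂ) ≠ 0 := fun h => hv0 (Subtype.ext h)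
  have hT := Cfsg.Agent.Helper5.FrobSchur.transpose_eq_indicator_smul ρ h1.le v.2
  rw [Cfsg.Agent.Helper5.FrobSchur.indicator_eq_one_of_odd ρ hreal hodd, one_smul] at hT
  exact ⟨v, hv0', hT, (Cfsg.Agent.Helper5.FrobSchur.mem_invariants_formRep ρ _).1 v.2⟩

end Cfsg.Agent.S0997P
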