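import Mathlib
import Cfsg.Prelude.Def_LieClassical
import Cfsg.Agent.Helper29.S2263Defs
import Cfsg.Agent.Helper7.S2264FACS
import Cfsg.Agent.Helper19.S2264RECIP1
import Cfsg.Agent.Helper28.S2262RECIPMAP
import Cfsg.Agent.Helper29.S2262UREV

/-! S2263 piece MULTSYM (helper6): `dag σ` permutes the factors of `μ`, preserving multiplicity
and degree. -/

set_option autoImplicit false

namespace Cfsg.Agent.S2263P

open Polynomial
open Cfsg.Agent.S2264P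

section poly

variable {F : Type*} [Field F]

namespace MULTSYM

theorem dag_mul (σ : F ≃+* F) (f g : F[X]) : dag σ (f * g) = dag σ f * dag σ g := by
  unfold dag
  rw [Polynomial.map_mul, recip_mul]

theorem dag_pow (σ : F ≃+* F) (f : F[X]) (k : ℕ) : dag σ (f ^ k) = dag σ f ^ k := by
  unfold dag
  rw [Polynomial.map_pow, recip_pow]

theorem dag_dvd (σ : F ≃+* F) {f g : F[X]} (h : f ∣ g) : dag σ f ∣ dag σ g := by
  obtain ⟨r, rfl⟩ := h
  rw [dag_mul]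
  exact Dvd.intro _ rfl

theorem map_coeff_zero_ne (σ : F ≃+* F) {f : F[X]} (h0 : f.coeff 0 ≠ 0) :
    (f.map (σ : F →+* F)).coeff 0 ≠ 0 := by
  rw [Polynomial.coeff_map]
  intro h
  exact h0 ((map_eq_zero_iff (σ : F →+* F) σ.injective).1 h)

theorem dag_dag (σ : F ≃+* F) (hσ2 : ∀ x, σ (σ x) = x) {f : F[X]} (hm : f.Monic)
    (h0 : f.coeff 0 ≠ 0) : dag σ (dag σ f) = f := by
  unfold dag
  rw [← Cfsg.Agent.S2262P.recip_map, Polynomial.map_map]
  have h1 : ((σ : F →+* F).comp (σ : F →+* F)) = RingHom.id F := by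
    ext x
    exact hσ2 x
  rw [h1, Polynomial.map_id]
  exact recip_recip hm h0

theorem natDegree_dag (σ : F ≃+* F) {f : F[X]} (h0 : f.coeff 0 ≠ 0) :
    (dag σ f).natDegree = f.natDegree := by
  unfold dag
  rw [natDegree_recip (map_coeff_zero_ne σ h0)]
  exact Polynomial.natDegree_map_eq_of_injective (σ : F →+* F).injective f

theorem mult_le_mult_dag (σ : F ≃+* F) {μ φ : F[X]} (hμ : UGood σ μ) (hφ : φ ∈ facs μ) :
    mult μ φ ≤ mult μ (dag σ φ) := by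
  have hμ0 : μ ≠ 0 := hμ.monic.ne_zero
  obtain ⟨hirr, hfm, -⟩ := (mem_facs hμ0).1 hφ
  have hd : dag σ φ ∈ facs μ :=
    Cfsg.Agent.S2262P.urev_mem_facs σ hμ.monic hμ.coeff0 hμ.selfrec hφ
  obtain ⟨hirr', hfm', -⟩ := (mem_facs hμ0).1 hd
  rw [← pow_dvd_iff_le_mult hμ0 hirr' hfm', ← dag_pow]
  have h1 : φ ^ mult μ φ ∣ μ := (pow_dvd_iff_le_mult hμ0 hirr hfm _).mpr le_rfl
  have h2 := dag_dvd σ h1
  rwa [hμ.selfrec] at h2

end MULTSYM

/-- MULTSYM: `dag σ` permutes the factors of `μ` and preserves multiplicities and degrees -/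
theorem mult_dag (σ : F ≃+* F) (hσ2 : ∀ x, σ (σ x) = x) {μ φ : F[X]} (hμ : UGood σ μ)
    (hφ : φ ∈ facs μ) :
    dag σ φ ∈ facs μ ∧ mult μ (dag σ φ) = mult μ φ ∧ dag σ (dag σ φ) = φ ∧
      (dag σ φ).natDegree = φ.natDegree := by
  have hμ0 : μ ≠ 0 := hμ.monic.ne_zero
  obtain ⟨hirr, hfm, -⟩ := (mem_facs hμ0).1 hφ
  have h0 : φ.coeff 0 ≠ 0 := coeff_zero_ne_zero_of_mem_facs hμ.coeff0 hφ
  have hd : dag σ φ ∈ facs μ :=
    Cfsg.Agent.S2262P.urev_mem_facs σ hμ.monic hμ.coeff0 hμ.selfrec hφ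
  have hdd : dag σ (dag σ φ) = φ := MULTSYM.dag_dag σ hσ2 hfm h0
  refine ⟨hd, ?_, hdd, MULTSYM.natDegree_dag σ h0⟩
  apply le_antisymm
  · have := MULTSYM.mult_le_mult_dag σ hμ hd
    rwa [hdd] at this
  · exact MULTSYM.mult_le_mult_dag σ hμ hφ

end poly

end Cfsg.Agent.S2263P
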