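import Mathlib
import Cfsg.Prelude.Def_LieClassical
import Cfsg.Agent.Helper13.S2263Defs
import Cfsg.Agent.Helper16.S2496GENERATOR
import Cfsg.Agent.Helper7.PGU1
import Cfsg.Agent.Helper9.S2263BASIS

/-! S2263 piece REAL (helper6): an isometry with a nonzero fixed vector and exact order `N`
gives an element of order `N` of `PGU_d(q)`. -/

set_option autoImplicit false
set_option linter.unusedSectionVars false

namespace Cfsg.Agent.S2263P

open Cfsg.Agent.S2496P
open scoped Matrix

namespace REAL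

section general

variable {F : Type*} [Field F] [Fintype F] {p : ℕ} [Fact p.Prime] [CharP F p] {f q : ℕ}

/-- an isometry of `(V, H)` gives a matrix preserving the standard Hermitian form -/
theorem herm_toMatrix {V : Type*} [AddCommGroup V] [Module F V] {d : ℕ} {H : V → V → F}
    (b : Module.Basis (Fin d) F V)
    (hb : ∀ u v : V, H u v = Cfsg.hermForm d F q ⇑(b.repr u) ⇑(b.repr v))
    (X : V →ₗ[F] V) (hX : ∀ u v, H (X u) (X v) = H u v) (x y : Fin d → F) :
    Cfsg.hermForm d F q ((LinearMap.toMatrix b b X).mulVec x)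
      ((LinearMap.toMatrix b b X).mulVec y) = Cfsg.hermForm d F q x y := by
  have hx : ⇑(b.repr (b.equivFun.symm x)) = x := by
    rw [← Module.Basis.equivFun_apply, LinearEquiv.apply_symm_apply]
  have hy : ⇑(b.repr (b.equivFun.symm y)) = y := by
    rw [← Module.Basis.equivFun_apply, LinearEquiv.apply_symm_apply]
  have h1 := LinearMap.toMatrix_mulVec_repr b b X (b.equivFun.symm x)
  have h2 := LinearMap.toMatrix_mulVec_repr b b X (b.equivFun.symm y)
  rw [hx] at h1
  rw [hy] at h2
  rw [h1, h2, ← hb, hX, hb, hx, hy]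

/-- an element `a ≠ 1` of `F` with `a ^ (q + 1) = 1` -/
theorem exists_norm_one (hq : q = p ^ f) (hF : Fintype.card F = q ^ 2) :
    ∃ a : F, a ≠ 1 ∧ a ^ (q + 1) = 1 := by
  have hq1 : 1 ≤ q := by
    have hp : 0 < p := (Fact.out : p.Prime).pos
    rw [hq]
    exact Nat.one_le_pow _ _ hp
  have hdvd : q + 1 ∣ q ^ (2 * 1) - 1 := by
    obtain ⟨c, hc⟩ : ∃ c, q = c + 1 := ⟨q - 1, by omega⟩
    have h3 : q ^ (2 * 1) - 1 = (q + 1) * c := by
      rw [hc]
      have : (c + 1) ^ (2 * 1) = (c + 1 + 1) * c + 1 := by ring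
      rw [this, Nat.add_sub_cancel]
    rw [h3]
    exact Dvd.intro _ rfl
  obtain ⟨s, hs⟩ := exists_orderOf_eq (K := F) hq hF (Module.finrank_self F) le_rfl (q + 1) hdvd
  refine ⟨s, ?_, ?_⟩
  · intro h1
    rw [h1, orderOf_one] at hs
    omega
  · rw [← hs]
    exact pow_orderOf_eq_one s

/-- REAL, with the orthonormal basis as a hypothesis -/
theorem exists_pgu_orderOf_of_basis (hq : q = p ^ f) (hF : Fintype.card F = q ^ 2) {V : Type*}
    [AddCommGroup V] [Module F V] {d : ℕ} {H : V → V → F}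
    (b : Module.Basis (Fin d) F V)
    (hb : ∀ u v : V, H u v = Cfsg.hermForm d F q ⇑(b.repr u) ⇑(b.repr v))
    (X : V →ₗ[F] V)
    (hX : ∀ u v, H (X u) (X v) = H u v) (v₀ : V) (hv₀ : v₀ ≠ 0) (hfix : X v₀ = v₀)
    (N : ℕ) (hXN : X ^ N = 1) (hmin : ∀ k : ℕ, X ^ k = 1 → N ∣ k) :
    ∃ g : (↥(Cfsg.GU d F q) ⧸ Subgroup.center ↥(Cfsg.GU d F q)), orderOf g = N := by
  classical
  have hσ : ∀ x : F, frob F p f x = x ^ q := fun x => by rw [frob_apply, hq]
  have hd1 : 1 ≤ d := by
    rcases Nat.eq_zero_or_pos d with h0 | h0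
    · exfalso
      subst h0
      apply hv₀
      apply b.repr.injective
      ext i
      exact i.elim0
    · exact h0
  set M : Matrix (Fin d) (Fin d) F := LinearMap.toMatrix b b X with hM
  have hMu : Mᵀ * M.map (frob F p f) = 1 :=
    (Cfsg.Agent.Helper28.GUlib.preserves_iff (frob F p f) hσ M).mp (herm_toMatrix b hb X hX)
  set g : ↥(Cfsg.GU d F q) := Cfsg.Agent.Helper28.GUlib.mkGU (frob F p f) hσ M hMu with hg
  have hval : ∀ k : ℕ, Cfsg.Agent.Helper7.PGU.valM (g ^ k) = LinearMap.toMatrix b b (X ^ k) := by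
    intro k
    rw [Cfsg.Agent.Helper7.PGU.valM_pow]
    show M ^ k = _
    rw [hM, LinearMap.toMatrix_pow]
  obtain ⟨a, ha1, haq⟩ := exists_norm_one (F := F) hq hF
  have key : ∀ k : ℕ, (QuotientGroup.mk g :
      ↥(Cfsg.GU d F q) ⧸ Subgroup.center ↥(Cfsg.GU d F q)) ^ k = 1 ↔ X ^ k = 1 := by
    intro k
    rw [← QuotientGroup.mk_pow, QuotientGroup.eq_one_iff]
    constructor
    · intro hz
      obtain ⟨c, hc⟩ := Cfsg.Agent.Helper7.PGU.exists_scalar_of_mem_center (frob F p f) hσ hd1 a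
        ha1 haq (g ^ k) hz
      rw [hval k] at hc
      have h2 : LinearMap.toMatrix b b (X ^ k) =
          LinearMap.toMatrix b b (c • (LinearMap.id : V →ₗ[F] V)) := by
        rw [hc, map_smul, LinearMap.toMatrix_id, Matrix.smul_one_eq_diagonal]
        rfl
      have h3 : X ^ k = c • (LinearMap.id : V →ₗ[F] V) := (LinearMap.toMatrix b b).injective h2
      have h4 : (X ^ k) v₀ = v₀ := by
        clear h3 h2 hc hz
        induction k with
        | zero => rfl
        | succ k ih => rw [pow_succ, Module.End.mul_apply, hfix, ih]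
      rw [h3, LinearMap.smul_apply, LinearMap.id_apply] at h4
      have h5 : (c - 1) • v₀ = 0 := by rw [sub_smul, one_smul, h4, sub_self]
      have h6 : c = 1 := by
        rcases smul_eq_zero.mp h5 with h | h
        · exact sub_eq_zero.mp h
        · exact absurd h hv₀
      rw [h3, h6, one_smul]
      rfl
    · intro h1
      have h2 : g ^ k = 1 := by
        apply Cfsg.Agent.Helper7.PGU.valM_injective
        rw [hval k, h1, Cfsg.Agent.Helper7.PGU.valM_one]
        exact LinearMap.toMatrix_one b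
      rw [h2]
      exact Subgroup.one_mem _
  refine ⟨QuotientGroup.mk g, ?_⟩
  apply Nat.dvd_antisymm
  · exact orderOf_dvd_of_pow_eq_one ((key N).mpr hXN)
  · exact hmin _ ((key _).mp (pow_orderOf_eq_one _))

end general

end REAL

section general

variable {F : Type*} [Field F] [Fintype F] {p : ℕ} [Fact p.Prime] [CharP F p] {f q : ℕ}

/-- REAL: an isometry with a nonzero fixed vector and exact order `N` gives an element of order `N`
of `PGU_d(q)` -/
theorem exists_pgu_orderOf (hq : q = p ^ f) (hF : Fintype.card F = q ^ 2) {V : Type*}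
    [AddCommGroup V] [Module F V] [FiniteDimensional F V] {d : ℕ} (hd : Module.finrank F V = d)
    {H : V → V → F} (hH : IsHerm (frob F p f) H) (X : V →ₗ[F] V)
    (hX : ∀ u v, H (X u) (X v) = H u v) (v₀ : V) (hv₀ : v₀ ≠ 0) (hfix : X v₀ = v₀)
    (N : ℕ) (hN : 0 < N) (hXN : X ^ N = 1) (hmin : ∀ k : ℕ, X ^ k = 1 → N ∣ k) :
    ∃ g : (↥(Cfsg.GU d F q) ⧸ Subgroup.center ↥(Cfsg.GU d F q)), orderOf g = N := by
  obtain ⟨b, hb⟩ := exists_herm_basis hq hF hd hH
  exact REAL.exists_pgu_orderOf_of_basis hq hF b hb X hX v₀ hv₀ hfix N hXN hmin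

end general

end Cfsg.Agent.S2263P
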