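import Mathlib
import Cfsg.Prelude.Def_LieClassical
import Cfsg.Agent.Helper13.S2263Defs
import Cfsg.Agent.Helper16.S2496GENERATOR

/-! S2263 piece KTOR (helper6): the torus `mulLeft s` on `(K, Hk)`. -/

set_option autoImplicit false
set_option linter.unusedSectionVars false

namespace Cfsg.Agent.S2263P

open Cfsg.Agent.S2496P

section ext

variable {F K : Type*} [Field F] [Fintype F] [Field K] [Algebra F K] [Finite K] {p : ℕ}
  [Fact p.Prime] [CharP F p] [CharP K p] {f q : ℕ}

/-- KTOR -/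
theorem Hk_mulLeft (hq : q = p ^ f) (hF : Fintype.card F = q ^ 2) {m : ℕ}
    (hK : Module.finrank F K = m) (hm : Odd m) (s : K) (hs : s ^ (q ^ m + 1) = 1) (x y : K) :
    Hk F K p f m (LinearMap.mulLeft F s x) (LinearMap.mulLeft F s y) = Hk F K p f m x y := by
  rw [Hk_apply, Hk_apply, LinearMap.mulLeft_apply, LinearMap.mulLeft_apply]
  have h1 : p ^ (f * m) = q ^ m := by rw [hq, pow_mul]
  have h0 : frob K p (f * m) (s * y) = s ^ q ^ m * frob K p (f * m) y := by
    rw [map_mul, frob_apply K p (f * m) s, h1]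
  have h2 : s * x * (s ^ q ^ m * frob K p (f * m) y) =
      s ^ (q ^ m + 1) * (x * frob K p (f * m) y) := by
    rw [pow_succ]; ring
  rw [h0, h2, hs, one_mul]

namespace KTOR

theorem mulLeft_pow (s : K) (k : ℕ) :
    (LinearMap.mulLeft F s) ^ k = LinearMap.mulLeft F (s ^ k) := by
  induction k with
  | zero => rw [pow_zero, pow_zero, LinearMap.mulLeft_one]; rfl
  | succ k ih => rw [pow_succ, ih, pow_succ, LinearMap.mulLeft_mul]; rfl

end KTOR

/-- KTOR -/
theorem mulLeft_pow_eq_one_iff (s : K) (k : ℕ) :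
    (LinearMap.mulLeft F s) ^ k = 1 ↔ s ^ k = 1 := by
  rw [KTOR.mulLeft_pow]
  constructor
  · intro h
    have := congrArg (fun φ : K →ₗ[F] K => φ 1) h
    simpa using this
  · intro h
    rw [h, LinearMap.mulLeft_one]; rfl

/-- KTOR -/
theorem exists_orderOf_Hk (hq : q = p ^ f) (hF : Fintype.card F = q ^ 2) {m : ℕ}
    (hK : Module.finrank F K = m) (hm : 1 ≤ m) : ∃ s : K, orderOf s = q ^ m + 1 := by
  apply exists_orderOf_eq hq hF hK hm
  have h1 : 1 ≤ q ^ m := by
    have hp : 0 < p := (Fact.out : p.Prime).pos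
    rw [hq]
    exact Nat.one_le_pow _ _ (Nat.pow_pos hp)
  have h2 : q ^ (2 * m) - 1 = (q ^ m + 1) * (q ^ m - 1) := by
    have h3 : q ^ (2 * m) = q ^ m * q ^ m := by rw [two_mul, pow_add]
    rw [h3]
    obtain ⟨c, hc⟩ : ∃ c, q ^ m = c + 1 := ⟨q ^ m - 1, by omega⟩
    rw [hc]
    simp only [Nat.add_sub_cancel]
    have : (c + 1) * (c + 1) = (c + 1 + 1) * c + 1 := by ring
    rw [this, Nat.add_sub_cancel]
  rw [h2]
  exact Dvd.intro _ rfl

end ext

end Cfsg.Agent.S2263P
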