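import Mathlib
import Cfsg.Agent.Helper12.S2999Basic
import Cfsg.Agent.Helper26.Replacement
import Cfsg.Agent.S0599

/-! s2999pieces QUAD: under the hypotheses of S2999, `A` acts quadratically: `[V,A] ≤ C_V(A)`.  (`A` is a best offender by (i); Timmesfeld
replacement: `A* = C_A([V,A])` has the same value and is nontrivial; the strict part of (i) forces `A* = A`.) -/

set_option autoImplicit false

namespace Cfsg.Agent.S2999P

open Cfsg.Agent.S2789P
open scoped commutatorElement

variable {G : Type*} [Group G] [Finite G] {p : ℕ} [Fact p.Prime] {V P Mg Tg R A : Subgroup G}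

/-- `fval V ⊥ = |V|` -/
theorem QUAD_aux_fval_bot (V : Subgroup G) : Cfsg.Agent.Helper26.fval V ⊥ = Nat.card ↥V := by
  have h2 : Subgroup.centralizer (((⊥ : Subgroup G) : Subgroup G) : Set G) = ⊤ := by
    ext x; simp [Subgroup.mem_centralizer_iff]
  unfold Cfsg.Agent.Helper26.fval
  rw [h2, inf_top_eq, Subgroup.card_bot, one_mul]

/-- QUAD (M): blueprint (B1), as `Helper6.S2789GEOA.GEO_A`. -/
theorem QUAD (S : Setup p V P Mg Tg R A) : ⁅V, A⁆ ≤ fixV V A := by
  classical
  have hVab := Cfsg.Agent.Helper26.le_centralizer_of_isElementaryAbelian S.hV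
  have hAP : A ≤ P := S.hAT.trans (S.hTM.trans S.hMP)
  have hAV : A ≤ Subgroup.normalizer (V : Set G) := hAP.trans S.hPV
  have hle : ⁅V, A⁆ ≤ V := Cfsg.Agent.Helper26.commutator_le_of_le_of_le_normalizer le_rfl hAV
  by_cases hA0 : A = ⊥
  · rw [hA0, Subgroup.commutator_bot_right]
    exact bot_le
  have hAcomm : ∀ a ∈ A, ∀ b ∈ A, a * b = b * a := (Cfsg.Agent.Helper26.isElementaryAbelian_iff.mp S.hA).1
  have hab : ⁅A, A⁆ ≤ Subgroup.centralizer (V : Set G) := by
    have : ⁅A, A⁆ = ⊥ := by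
      rw [Subgroup.commutator_eq_bot_iff_le_centralizer]
      intro a ha
      rw [Subgroup.mem_centralizer_iff]
      intro b hb
      exact hAcomm b hb a ha
    rw [this]
    exact bot_le
  have hpow : ∀ a ∈ A, a ^ p ∈ Subgroup.centralizer (V : Set G) := by
    intro a ha
    rw [S.hA.2 a ha]
    exact Subgroup.one_mem _
  have hmax : ∀ B : Subgroup G, B ≤ A → Cfsg.Agent.Helper26.fval V B ≤ Cfsg.Agent.Helper26.fval V A := by
    intro B hB
    by_cases hB0 : B = ⊥
    · rw [hB0, QUAD_aux_fval_bot]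
      exact S.hi1
    by_cases hBA : B = A
    · rw [hBA]
    · exact (S.hi2 B hB hB0 hBA).le
  have hBO : Cfsg.IsBestOffenderOn p V A := ⟨hmax, hab, hpow⟩
  obtain ⟨hr1, -⟩ := Cfsg.Agent.Helper26.replProp_all hVab hAV hab hmax (le_rfl : V ≤ V)
  obtain ⟨-, -, hr3⟩ := Cfsg.Agent.S0599.result V A S.hV hAV hBO V le_rfl
  have hVA : ⁅V, A⁆ ≠ ⊥ := by
    intro h
    rw [Subgroup.commutator_eq_bot_iff_le_centralizer] at h
    apply hA0
    have h1 : A ≤ P ⊓ Subgroup.centralizer (V : Set G) := by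
      refine le_inf hAP ?_
      intro a ha
      rw [Subgroup.mem_centralizer_iff]
      intro v hv
      exact ((Subgroup.mem_centralizer_iff.mp (h hv)) a ha).symm
    rw [S.hf] at h1
    exact le_bot_iff.mp h1
  have hstar := hr3 hVA
  have hAstar : A ⊓ Subgroup.centralizer ((⁅V, A⁆ : Subgroup G) : Set G) = A := by
    have hne : A ⊓ Subgroup.centralizer ((⁅V, A⁆ : Subgroup G) : Set G) ≠ ⊥ := by
      intro h
      apply hstar
      rw [h]
      exact Subgroup.commutator_bot_right V
    by_contra hneq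
    have := S.hi2 _ inf_le_left hne hneq
    unfold Cfsg.Agent.Helper26.fval at hr1
    unfold fixV at this
    omega
  refine le_inf hle ?_
  rw [Subgroup.le_centralizer_iff]
  intro a ha
  have : a ∈ A ⊓ Subgroup.centralizer ((⁅V, A⁆ : Subgroup G) : Set G) := by rw [hAstar]; exact ha
  exact this.2

end Cfsg.Agent.S2999P
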