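import Mathlib

set_option autoImplicit false

namespace Cfsg.Agent.S3401P

/-- SIGN: a fixed-point-free involution on `2 f` points has sign `(-1)^f`. -/
theorem SIGN {F : Type*} [Fintype F] [DecidableEq F] (σ : Equiv.Perm F) (hfix : ∀ x, σ x ≠ x)
    (hinv : ∀ x, σ (σ x) = x) (f : ℕ) (hf : Fintype.card F = 2 * f) :
    Equiv.Perm.sign σ = (-1) ^ f := by
  classical
  have hsupp : σ.support = Finset.univ := by
    ext x
    simp [Equiv.Perm.mem_support, hfix x]
  have hsq : σ ^ 2 = 1 := by
    ext x
    simp [pow_two, hinv x]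
  have hall : ∀ n ∈ σ.cycleType, n = 2 := by
    intro n hn
    have h2 : 2 ≤ n := Equiv.Perm.two_le_of_mem_cycleType hn
    have hdvd : n ∣ orderOf σ := Equiv.Perm.dvd_of_mem_cycleType hn
    have hord : orderOf σ ∣ 2 := orderOf_dvd_of_pow_eq_one hsq
    have : n ∣ 2 := hdvd.trans hord
    have := Nat.le_of_dvd (by norm_num) this
    omega
  have hrep : σ.cycleType = Multiset.replicate (Multiset.card σ.cycleType) 2 :=
    Multiset.eq_replicate_card.mpr hall
  have hsum : σ.cycleType.sum = 2 * f := by
    rw [Equiv.Perm.sum_cycleType, hsupp, Finset.card_univ, hf]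
  have hcard : Multiset.card σ.cycleType = f := by
    rw [hrep, Multiset.sum_replicate] at hsum
    simp only [smul_eq_mul] at hsum
    omega
  rw [Equiv.Perm.sign_of_cycleType, hsum, hcard]
  have : 2 * f + f = 3 * f := by ring
  rw [this, pow_mul]
  norm_num

end Cfsg.Agent.S3401P
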