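import Cfsg.Agent.Helper11.S3786Defs

/-! Board `s3786pieces`, row Y_fix (Y1): `D_b` kills the fixed points of `w`. -/

set_option autoImplicit false

namespace Cfsg.Agent.S3786P

open Subgroup

universe u

section Y

variable {p : ℕ} [Fact p.Prime] {Γ : Type*} [Group Γ] {M : Type*} [AddCommGroup M] [DistribMulAction Γ M] {Z : Type*}
  [AddCommGroup Z] {B : Subgroup Γ} {w z : Γ} {N : ℕ} {β : M → M → Z}

/-- Y1. `D_b := b^z + b^{-z} + b + b⁻¹` kills the fixed points of `w`. -/
theorem Y_fix (S : YSet p B w z N β) {m : M} (hm : w • m = m) {b : Γ} (hb : b ∈ B) :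
    (z * b * z⁻¹) • m + (z * b⁻¹ * z⁻¹) • m + b • m + b⁻¹ • m = 0 := by
  -- basic facts on β
  have β0l : ∀ v, β 0 v = 0 := by
    intro v
    have h := S.βl 0 0 v
    rw [add_zero] at h
    exact left_eq_add.mp h
  have β2 : ∀ u v, β u v + β u v = 0 := by
    intro u v
    rw [← S.βl, S.two, β0l]
  have βsymm : ∀ u v, β u v = β v u := by
    intro u v
    have h := S.β0 (u + v)
    rw [S.βl, S.βr, S.βr, S.β0 u, S.β0 v, zero_add, add_zero] at h
    have h1 : β u v = -β v u := eq_neg_of_add_eq_zero_left h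
    have h2 : β v u = -β v u := eq_neg_of_add_eq_zero_left (β2 v u)
    rw [h1, ← h2]
  -- the key symmetry
  have key : ∀ c ∈ B, ∀ d ∈ B, β (c⁻¹ • m) (d⁻¹ • m) = β (c • m) (d • m) := by
    intro c hc d hd
    have hcd : c * d = d * c := S.Bcomm c hc d hd
    have h1 := (S.βB (c * d) (mul_mem hc hd) (c⁻¹ • m) (d⁻¹ • m)).symm
    have e1 : (c * d) • (c⁻¹ • m) = d • m := by
      rw [← mul_smul]
      congr 1
      rw [hcd]; group
    have e2 : (c * d) • (d⁻¹ • m) = c • m := by
      rw [← mul_smul]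
      congr 1
      group
    rw [e1, e2] at h1
    rw [h1]
    exact βsymm _ _
  have hgen : ∀ c ∈ B, ∀ d ∈ B, β (c • m + c⁻¹ • m) (d • m + d⁻¹ • m) = 0 := by
    intro c hc d hd
    have k1 := key c hc d hd
    have k2 := key c hc d⁻¹ (inv_mem hd)
    rw [inv_inv] at k2
    rw [S.βl, S.βr, S.βr, k1, k2]
    calc β (c • m) (d • m) + β (c • m) (d⁻¹ • m) + (β (c • m) (d⁻¹ • m) + β (c • m) (d • m))
        = (β (c • m) (d • m) + β (c • m) (d • m)) +
          (β (c • m) (d⁻¹ • m) + β (c • m) (d⁻¹ • m)) := by abel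
      _ = 0 := by rw [β2, β2, add_zero]
  -- the isotropic subgroup
  set I : AddSubgroup M := AddSubgroup.closure {x : M | ∃ c ∈ B, x = c • m + c⁻¹ • m} with hI
  have hneg : ∀ u : M, -u = u := by
    intro u
    exact neg_eq_of_add_eq_zero_left (S.two u)
  have hIiso1 : ∀ c ∈ B, ∀ v ∈ I, β (c • m + c⁻¹ • m) v = 0 := by
    intro c hc v hv
    induction hv using AddSubgroup.closure_induction with
    | mem x hx =>
      obtain ⟨d, hd, rfl⟩ := hx
      exact hgen c hc d hd
    | zero =>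
      rw [βsymm, β0l]
    | add x y _ _ hx hy =>
      rw [S.βr, hx, hy, add_zero]
    | neg x _ hx =>
      rw [hneg]; exact hx
  have hIiso : ∀ u ∈ I, ∀ v ∈ I, β u v = 0 := by
    intro u hu v hv
    induction hu using AddSubgroup.closure_induction with
    | mem x hx =>
      obtain ⟨c, hc, rfl⟩ := hx
      exact hIiso1 c hc v hv
    | zero => exact β0l v
    | add x y _ _ hx hy =>
      rw [S.βl, hx, hy, add_zero]
    | neg x _ hx =>
      rw [hneg]; exact hx
  -- `w`-invariance
  have hwg : ∀ g : Γ, w • (g • m) = (w * g * w⁻¹) • m := by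
    intro g
    calc w • (g • m) = (w * g) • m := (mul_smul _ _ _).symm
      _ = (w * g * w⁻¹ * w) • m := by congr 1; group
      _ = (w * g * w⁻¹) • (w • m) := mul_smul _ _ _
      _ = (w * g * w⁻¹) • m := by rw [hm]
  have hIw : ∀ u ∈ I, w • u ∈ I := by
    intro u hu
    induction hu using AddSubgroup.closure_induction with
    | mem x hx =>
      obtain ⟨c, hc, rfl⟩ := hx
      apply AddSubgroup.subset_closure
      refine ⟨w * c * w⁻¹, S.wB c hc, ?_⟩
      rw [smul_add, hwg, hwg]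
      congr 2
      group
    | zero => rw [smul_zero]; exact zero_mem _
    | add x y _ _ hx hy => rw [smul_add]; exact add_mem hx hy
    | neg x _ hx => rw [smul_neg]; exact neg_mem hx
  have hzI := S.hyp I hIiso hIw
  -- `z` fixes `m`
  have hwpow : ∀ i : ℕ, w ^ i • m = m := by
    intro i
    induction i with
    | zero => simp
    | succ i ih => rw [pow_succ, mul_smul, hm, ih]
  have hzm : z • m = m := by
    obtain ⟨i, hi⟩ := S.zw 1 (by norm_num) (by have := S.N2; omega)
    rw [hi, pow_one]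
    exact hwpow i
  have hzinv : z⁻¹ • m = m := by
    rw [inv_smul_eq_iff, hzm]
  have hX : b • m + b⁻¹ • m ∈ I := AddSubgroup.subset_closure ⟨b, hb, rfl⟩
  have h1 : (z * b * z⁻¹) • m = z • (b • m) := by
    rw [mul_smul, mul_smul, hzinv]
  have h2 : (z * b⁻¹ * z⁻¹) • m = z • (b⁻¹ • m) := by
    rw [mul_smul, mul_smul, hzinv]
  rw [h1, h2, ← smul_add, hzI _ hX]
  calc b • m + b⁻¹ • m + b • m + b⁻¹ • m = (b • m + b⁻¹ • m) + (b • m + b⁻¹ • m) := by abel
    _ = 0 := S.two _

end Y

end Cfsg.Agent.S3786P
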