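import Mathlib
import Cfsg.Agent.Helper26.S3911Defs
import Cfsg.Agent.Helper29.S3fMinV

/-! s3912pieces MN: a nontrivial normal subgroup of a finite solvable group contains a minimal normal subgroup, which is
elementary abelian (`Helper29.S3f.exists_minimal_normal` + `minimal_normal_elementary`). -/

set_option autoImplicit false

namespace Cfsg.Agent.S3912P

/-- MN (S/M; `Helper29.S3f.exists_minimal_normal` + `minimal_normal_elementary` on main): a nontrivial normal
subgroup of a solvable group contains a nontrivial normal elementary abelian subgroup. -/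
theorem MN {G : Type*} [Group G] [Finite G] (hsol : Group.IsSolvable G) (M : Subgroup G) [M.Normal] (hM : M ≠ ⊥) :
    ∃ N : Subgroup G, N.Normal ∧ N ≤ M ∧ N ≠ ⊥ ∧ (∀ a ∈ N, ∀ b ∈ N, a * b = b * a) ∧
      ∃ r : ℕ, r.Prime ∧ r ∣ Nat.card ↥N ∧ (∀ v ∈ N, v ^ r = 1) ∧
      ∀ W : Subgroup G, W.Normal → W ≤ N → W ≠ ⊥ → W = N := by
  obtain ⟨N, hNn, hNM, hNne, hmin⟩ := Cfsg.Agent.Helper29.S3f.exists_minimal_normal M hM
  haveI := hNn
  have hNs : Group.IsSolvable ↥N := inferInstance
  obtain ⟨hab, r, hr, hrd, hexp⟩ := Cfsg.Agent.Helper29.S3f.minimal_normal_elementary N hNs hNne hmin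
  exact ⟨N, hNn, hNM, hNne, hab, r, hr, hrd, hexp, hmin⟩

end Cfsg.Agent.S3912P
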