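import Mathlib
import Cfsg.Agent.Helper26.S3911Defs

/-! s3911pieces ML2: for a minimal lift `A₀` of `Ab ≤ G ⧸ M`, `A₀ ∩ M` lies in the Frattini subgroup of `A₀`
(a maximal subgroup `X` of `A₀` not containing `D = A₀ ∩ M` has `X D = A₀`, so it maps onto `Ab`: contradiction). -/

set_option autoImplicit false

namespace Cfsg.Agent.S3911P

/-- ML2 (M): for a minimal lift, `A₀ ∩ M` lies in the Frattini subgroup of `A₀`. -/
theorem ML2 {G : Type*} [Group G] [Finite G] (M : Subgroup G) [M.Normal] (Ab : Subgroup (G ⧸ M))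
    (A₀ : Subgroup G) (h : MinLift M Ab A₀) : (A₀ ⊓ M).subgroupOf A₀ ≤ frattini ↥A₀ := by
  unfold frattini Order.radical
  rw [le_iInf₂_iff]
  intro X hX
  by_contra hD
  rw [Subgroup.inf_subgroupOf_left] at hD
  have htop : X ⊔ M.subgroupOf A₀ = ⊤ := hX.2 _ (left_lt_sup.mpr hD)
  have hKle : X.map A₀.subtype ≤ A₀ := Subgroup.map_subtype_le X
  have hK : (X.map A₀.subtype).map (QuotientGroup.mk' M) = Ab := by
    apply le_antisymm
    · rw [← h.1]
      exact Subgroup.map_mono hKle
    · intro y hy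
      rw [← h.1] at hy
      obtain ⟨a, ha, rfl⟩ := Subgroup.mem_map.mp hy
      have hmem : (⟨a, ha⟩ : ↥A₀) ∈ X ⊔ M.subgroupOf A₀ := by rw [htop]; exact Subgroup.mem_top _
      obtain ⟨x, hx, d, hd, hxd⟩ := Subgroup.mem_sup_of_normal_right.mp hmem
      refine Subgroup.mem_map.mpr ⟨(x : G), Subgroup.mem_map.mpr ⟨x, hx, rfl⟩, ?_⟩
      have hdM : (d : G) ∈ M := Subgroup.mem_subgroupOf.mp hd
      have e : a = (x : G) * (d : G) := by
        have := congrArg Subtype.val hxd
        simpa using this.symm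
      rw [e, map_mul]
      have : (QuotientGroup.mk' M) (d : G) = 1 := by
        rw [QuotientGroup.mk'_apply, QuotientGroup.eq_one_iff]; exact hdM
      rw [this, mul_one]
  have hKA : X.map A₀.subtype = A₀ := h.2 _ hKle hK
  apply hX.1
  rw [eq_top_iff]
  intro a _
  have ha : (a : G) ∈ X.map A₀.subtype := by rw [hKA]; exact a.2
  obtain ⟨x, hx, hxa⟩ := Subgroup.mem_map.mp ha
  have : x = a := Subtype.ext hxa
  rw [← this]; exact hx

end Cfsg.Agent.S3911P
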