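import Mathlib
import Cfsg.Agent.Helper11.S4409Defs

/-! Board `s4409pieces`, row Q2 (core: takes `Nat.card ↥(Zc Y) = 2`, a consequence of Q0, as a hypothesis). -/

set_option autoImplicit false
set_option linter.unusedVariables false

namespace Cfsg.Agent.S4409P

open Subgroup
open scoped commutatorElement

/-- the automorphism induced on the quotient by a characteristic subgroup. -/
noncomputable def Q2_aux_quotAut (G : Type*) [Group G] (C : Subgroup G) [hC : C.Characteristic] :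
    MulAut G →* MulAut (G ⧸ C) where
  toFun e := QuotientGroup.congr C C e (Subgroup.characteristic_iff_map_eq.mp hC e)
  map_one' := by
    ext q
    induction q using QuotientGroup.induction_on with
    | H x => rfl
  map_mul' e₁ e₂ := by
    ext q
    induction q using QuotientGroup.induction_on with
    | H x => rfl

theorem Q2_aux_quotAut_mk (G : Type*) [Group G] (C : Subgroup G) [hC : C.Characteristic]
    (e : MulAut G) (x : G) :
    Q2_aux_quotAut G C e (QuotientGroup.mk x) = QuotientGroup.mk (e x) := rfl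

/-- restriction of automorphisms to the non-identity elements. -/
def Q2_aux_rho (Q : Type*) [Group Q] : MulAut Q →* Equiv.Perm {q : Q // q ≠ 1} where
  toFun e := e.toEquiv.subtypeEquiv (fun a => by
    show a ≠ 1 ↔ e a ≠ 1
    rw [Ne, Ne, map_eq_one_iff e e.injective])
  map_one' := by ext; rfl
  map_mul' e₁ e₂ := by ext; rfl

theorem Q2_aux_rho_injective (Q : Type*) [Group Q] : Function.Injective (Q2_aux_rho Q) := by
  intro e₁ e₂ h
  ext q
  by_cases hq : q = 1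
  · subst hq; rw [map_one, map_one]
  · have := congrArg (fun f => ((f ⟨q, hq⟩ : {q : Q // q ≠ 1}) : Q)) h
    exact this

theorem Q2_aux_card_aut (Q : Type*) [Group Q] [Finite Q] (h4 : Nat.card Q = 4) :
    Nat.card (MulAut Q) ∣ 6 := by
  have h1 := Subgroup.card_dvd_of_injective (Q2_aux_rho Q) (Q2_aux_rho_injective Q)
  rw [Nat.card_perm] at h1
  have h3 : Nat.card {q : Q // q ≠ 1} = 3 := by
    classical
    haveI := Fintype.ofFinite Q
    rw [Nat.card_eq_fintype_card, Fintype.card_subtype_compl, Fintype.card_subtype_eq,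
      ← Nat.card_eq_fintype_card, h4]
  rw [h3] at h1
  exact h1

end Cfsg.Agent.S4409P

namespace Cfsg.Agent.S4409P

open Subgroup
open scoped commutatorElement

variable {S : Type*} [Group S] [Finite S]

theorem Q2_aux_mem_center (Y : Subgroup S) (w : ↥Y) :
    w ∈ Subgroup.center ↥Y ↔ (w : S) ∈ Zc Y := by
  rw [Subgroup.mem_center_iff, mem_Zc]
  constructor
  · intro h
    refine ⟨w.2, fun y hy => ?_⟩
    exact congrArg Subtype.val (h ⟨y, hy⟩)
  · intro h g
    exact Subtype.ext (h.2 g.1 g.2)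

theorem Q2_aux_card_center (Y : Subgroup S) :
    Nat.card ↥(Subgroup.center ↥Y) = Nat.card ↥(Zc Y) := by
  refine Nat.card_congr ⟨fun w => ⟨w.1.1, (Q2_aux_mem_center Y w.1).mp w.2⟩,
    fun z => ⟨⟨z.1, Zc_le Y z.2⟩, (Q2_aux_mem_center Y _).mpr z.2⟩, ?_, ?_⟩
  · intro w; rfl
  · intro z; rfl

/-- `Z(Y)` is invariant under the normaliser of `Y`. -/
theorem Q2_aux_Zc_conj (Y : Subgroup S) (k : S) (hk : k ∈ normalizer (Y : Set S)) (w : S)
    (hw : w ∈ Zc Y) : k * w * k⁻¹ ∈ Zc Y := by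
  rw [mem_Zc] at hw ⊢
  refine ⟨(Subgroup.mem_normalizer_iff.mp hk w).mp hw.1, fun y hy => ?_⟩
  have hy' : k⁻¹ * y * k ∈ Y := by
    have := (Subgroup.mem_normalizer_iff.mp (Subgroup.inv_mem _ hk) y).mp hy
    simpa using this
  have := hw.2 _ hy'
  calc y * (k * w * k⁻¹) = k * ((k⁻¹ * y * k) * w) * k⁻¹ := by group
    _ = k * (w * (k⁻¹ * y * k)) * k⁻¹ := by rw [this]
    _ = k * w * k⁻¹ * y := by group

/-- the action hom `P → Aut(Y/Z(Y))`. -/
noncomputable def Q2_aux_theta (Y P : Subgroup S) (hPY : P ≤ normalizer (Y : Set S)) :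
    ↥P →* MulAut (↥Y ⧸ Subgroup.center ↥Y) :=
  ((Q2_aux_quotAut ↥Y (Subgroup.center ↥Y)).comp Y.normalizerMonoidHom).comp
    (Subgroup.inclusion hPY)

theorem Q2_aux_theta_mk (Y P : Subgroup S) (hPY : P ≤ normalizer (Y : Set S)) (x : ↥P) (y : ↥Y) :
    Q2_aux_theta Y P hPY x (QuotientGroup.mk y) =
      QuotientGroup.mk (⟨(x : S) * y * (x : S)⁻¹,
        (Subgroup.mem_normalizer_iff.mp (hPY x.2) y).mp y.2⟩ : ↥Y) := rfl

theorem Q2_aux_mem_ker (Y P : Subgroup S) (hPY : P ≤ normalizer (Y : Set S)) (x : ↥P) :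
    x ∈ (Q2_aux_theta Y P hPY).ker ↔ ∀ y ∈ Y, ⁅y, (x : S)⁆ ∈ Zc Y := by
  rw [MonoidHom.mem_ker]
  constructor
  · intro h y hy
    have h1 : Q2_aux_theta Y P hPY x (QuotientGroup.mk (⟨y⁻¹, Y.inv_mem hy⟩ : ↥Y)) =
        QuotientGroup.mk (⟨y⁻¹, Y.inv_mem hy⟩ : ↥Y) := by rw [h]; rfl
    rw [Q2_aux_theta_mk, QuotientGroup.eq, Q2_aux_mem_center] at h1
    have h2 : ((⟨(x : S) * (⟨y⁻¹, Y.inv_mem hy⟩ : ↥Y) * (x : S)⁻¹,
        (Subgroup.mem_normalizer_iff.mp (hPY x.2) _).mp (Y.inv_mem hy)⟩ : ↥Y)⁻¹ *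
          (⟨y⁻¹, Y.inv_mem hy⟩ : ↥Y) : ↥Y).1 = ⁅(x : S), y⁆ := by
      show ((x : S) * y⁻¹ * (x : S)⁻¹)⁻¹ * y⁻¹ = _
      rw [commutatorElement_def]; group
    rw [h2] at h1
    have h3 : ⁅y, (x : S)⁆ = (⁅(x : S), y⁆)⁻¹ := (commutatorElement_inv _ _).symm
    rw [h3]
    exact (Zc Y).inv_mem h1
  · intro h
    ext q
    induction q using QuotientGroup.induction_on with
    | H y =>
      rw [Q2_aux_theta_mk]
      show _ = QuotientGroup.mk y
      rw [QuotientGroup.eq, Q2_aux_mem_center]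
      have h1 := h (y : S)⁻¹ (Y.inv_mem y.2)
      have h2 : ((⟨(x : S) * y * (x : S)⁻¹,
        (Subgroup.mem_normalizer_iff.mp (hPY x.2) y).mp y.2⟩ : ↥Y)⁻¹ * y : ↥Y).1 =
          (⁅(y : S)⁻¹, (x : S)⁆)⁻¹ := by
        show ((x : S) * y * (x : S)⁻¹)⁻¹ * (y : S) = _
        rw [commutatorElement_def]; group
      rw [h2]
      exact (Zc Y).inv_mem h1

end Cfsg.Agent.S4409P

namespace Cfsg.Agent.S4409P

open Subgroup
open scoped commutatorElement

variable {S : Type*} [Group S] [Finite S]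

theorem Q2_aux_index (Y P : Subgroup S) (h8 : Nat.card ↥Y = 8) (hZ2 : Nat.card ↥(Zc Y) = 2)
    (hP : IsPGroup 2 ↥P) (hPY : P ≤ normalizer (Y : Set S)) :
    (Q2_aux_theta Y P hPY).ker.index = 1 ∨ (Q2_aux_theta Y P hPY).ker.index = 2 := by
  have hQ4 : Nat.card (↥Y ⧸ Subgroup.center ↥Y) = 4 := by
    have := Subgroup.card_eq_card_quotient_mul_card_subgroup (Subgroup.center ↥Y)
    rw [h8, Q2_aux_card_center, hZ2] at this
    omega
  have h6 : Nat.card (MulAut (↥Y ⧸ Subgroup.center ↥Y)) ∣ 6 := Q2_aux_card_aut _ hQ4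
  have h1 : (Q2_aux_theta Y P hPY).ker.index ∣ 6 := by
    rw [Subgroup.index_ker]
    exact (Subgroup.card_subgroup_dvd_card _).trans h6
  have h2 : (Q2_aux_theta Y P hPY).ker.index ∣ Nat.card ↥P := Subgroup.index_dvd_card _
  obtain ⟨n, hn⟩ := IsPGroup.iff_card.mp hP
  rw [hn] at h2
  obtain ⟨m, hm, hm2⟩ := (Nat.dvd_prime_pow Nat.prime_two).mp h2
  rw [hm2] at h1 ⊢
  have hm1 : m ≤ 1 := by
    by_contra hlt
    push Not at hlt
    have : 2 ^ 2 ∣ 2 ^ m := pow_dvd_pow 2 hlt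
    have := this.trans h1
    omega
  interval_cases m
  · left; rfl
  · right; rfl

/-- Q2 core: with `|Z(Y)| = 2` (from Q0) as a hypothesis. -/
theorem Q2_aux_core (Y P : Subgroup S) (h8 : Nat.card ↥Y = 8) (hZ2 : Nat.card ↥(Zc Y) = 2)
    (hP : IsPGroup 2 ↥P) (hYP : Y ≤ P) (hPY : P ≤ normalizer (Y : Set S)) :
    ∃ H : Subgroup S, H ≤ P ∧ (∀ x, x ∈ H ↔ x ∈ P ∧ ∀ y ∈ Y, ⁅y, x⁆ ∈ Zc Y) ∧ (H = P ∨ H.relIndex P = 2) ∧
      ∀ k : S, k ∈ normalizer (P : Set S) → k ∈ normalizer (Y : Set S) → k ∈ normalizer (H : Set S) := by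
  have hmem : ∀ x, x ∈ (Q2_aux_theta Y P hPY).ker.map P.subtype ↔ x ∈ P ∧ ∀ y ∈ Y, ⁅y, x⁆ ∈ Zc Y := by
    intro x
    rw [Subgroup.mem_map]
    constructor
    · rintro ⟨x', hx', rfl⟩
      exact ⟨x'.2, (Q2_aux_mem_ker Y P hPY x').mp hx'⟩
    · rintro ⟨hxP, hx⟩
      exact ⟨⟨x, hxP⟩, (Q2_aux_mem_ker Y P hPY ⟨x, hxP⟩).mpr hx, rfl⟩
  have hle : (Q2_aux_theta Y P hPY).ker.map P.subtype ≤ P := by
    intro x hx
    exact ((hmem x).mp hx).1
  refine ⟨(Q2_aux_theta Y P hPY).ker.map P.subtype, hle, hmem, ?_, ?_⟩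
  · have hrel : ((Q2_aux_theta Y P hPY).ker.map P.subtype).relIndex P =
        (Q2_aux_theta Y P hPY).ker.index := by
      rw [Subgroup.relIndex, Subgroup.subgroupOf,
        Subgroup.comap_map_eq_self_of_injective (Subgroup.subtype_injective P)]
    rcases Q2_aux_index Y P h8 hZ2 hP hPY with h | h
    · left
      rw [← hrel, Subgroup.relIndex_eq_one] at h
      exact le_antisymm hle h
    · right
      rw [hrel]; exact h
  · intro k hkP hkY
    have key : ∀ k : S, k ∈ normalizer (P : Set S) → k ∈ normalizer (Y : Set S) →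
        ∀ h, h ∈ (Q2_aux_theta Y P hPY).ker.map P.subtype →
          k * h * k⁻¹ ∈ (Q2_aux_theta Y P hPY).ker.map P.subtype := by
      intro k hkP hkY h hh
      rw [hmem] at hh ⊢
      refine ⟨(Subgroup.mem_normalizer_iff.mp hkP h).mp hh.1, fun y hy => ?_⟩
      have hy' : k⁻¹ * y * k ∈ Y := by
        have := (Subgroup.mem_normalizer_iff.mp (Subgroup.inv_mem _ hkY) y).mp hy
        simpa using this
      have h1 := Q2_aux_Zc_conj Y k hkY _ (hh.2 _ hy')
      have h2 : ⁅y, k * h * k⁻¹⁆ = k * ⁅k⁻¹ * y * k, h⁆ * k⁻¹ := by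
        rw [commutatorElement_def, commutatorElement_def]; group
      rw [h2]; exact h1
    rw [Subgroup.mem_normalizer_iff]
    intro h
    constructor
    · exact key k hkP hkY h
    · intro hh
      have := key k⁻¹ (Subgroup.inv_mem _ hkP) (Subgroup.inv_mem _ hkY) _ hh
      have e : k⁻¹ * (k * h * k⁻¹) * k⁻¹⁻¹ = h := by group
      rwa [e] at this

end Cfsg.Agent.S4409P
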