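import Mathlib
import Cfsg.Agent.Helper11.S4409Defs
import Cfsg.Agent.Helper11.S4409Q0
import Cfsg.Agent.Helper6.S4409Q2core

/-! Board `s4409pieces`, row Q2: `q8_idx`. -/

set_option autoImplicit false
set_option linter.unusedVariables false

namespace Cfsg.Agent.S4409P

open Subgroup
open scoped commutatorElement

variable {S : Type*} [Group S] [Finite S]

/-- Q2 : the elements of a `2`-group `P ≥ Y = Q8` (normalising `Y`) acting trivially on `Y/Z(Y)` form a subgroup of index `≤ 2`. -/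
theorem q8_idx (Y P : Subgroup S) (hY : IsQ8 Y) (hP : IsPGroup 2 ↥P) (hYP : Y ≤ P) (hPY : P ≤ normalizer (Y : Set S)) :
    ∃ H : Subgroup S, H ≤ P ∧ (∀ x, x ∈ H ↔ x ∈ P ∧ ∀ y ∈ Y, ⁅y, x⁆ ∈ Zc Y) ∧ (H = P ∨ H.relIndex P = 2) ∧
      ∀ k : S, k ∈ normalizer (P : Set S) → k ∈ normalizer (Y : Set S) → k ∈ normalizer (H : Set S) :=
  Q2_aux_core Y P hY.1 (q8_basic Y hY).1 hP hYP hPY

end Cfsg.Agent.S4409P
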