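import Mathlib
import Cfsg.Prelude.Def_Transfer
import Cfsg.Prelude.Def_Solvable
import Cfsg.Agent.Helper11.S4409Defs
import Cfsg.Agent.Helper9.S4415Defs

/-! Board `s4415pieces`, row MOD1 (`split`). -/

set_option autoImplicit false
set_option linter.unusedVariables false
set_option linter.unusedSectionVars false

namespace Cfsg.Agent.S4415P

open Subgroup Module
open Cfsg.Agent.S4409P (Zc Fr Der IsV4 IsQ8 SpecialInt IsAb)

variable {S : Type*} [Group S] [Finite S] {E : Type*} [AddCommGroup E] [Module (ZMod 3) E] [Finite E]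

/-- `(ρ b - 1)³ = 0` when `b³ = 1`. -/
theorem MOD1_aux_cube (ρ : Representation (ZMod 3) S E) (b : S) (hb : b ^ 3 = 1) (v : E) :
    Nb ρ b (Nb ρ b (Nb ρ b v)) = 0 := by
  have h3 : ∀ x : E, (3 : ℕ) • x = 0 := by
    intro x
    have h : ((3 : ℕ) : ZMod 3) = 0 := by decide
    rw [← Nat.cast_smul_eq_nsmul (ZMod 3), h, zero_smul]
  have hb3 : ρ b (ρ b (ρ b v)) = v := by
    have h : ρ (b ^ 3) v = v := by rw [hb, map_one]; rfl
    rw [pow_succ, pow_succ, pow_one, map_mul, map_mul] at h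
    exact h
  have key : Nb ρ b (Nb ρ b (Nb ρ b v))
      = (ρ b (ρ b (ρ b v)) - v) - (3 : ℕ) • (ρ b (ρ b v) - ρ b v) := by
    simp only [Nb_apply, map_sub]
    abel
  rw [key, hb3, h3, sub_self, sub_zero]

/-- on an `N`-invariant line, `N` vanishes. -/
theorem MOD1_aux_line (ρ : Representation (ZMod 3) S E) (b : S) (hb : b ^ 3 = 1) (M : Submodule (ZMod 3) E)
    (hM : finrank (ZMod 3) M = 1) (hinv : ∀ x ∈ M, Nb ρ b x ∈ M) : ∀ x ∈ M, Nb ρ b x = 0 := by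
  obtain ⟨x₀, hx₀⟩ := finrank_eq_one_iff'.mp hM
  obtain ⟨hx₀0, hx₀s⟩ := hx₀
  have hNx₀ := hinv x₀ x₀.2
  obtain ⟨c, hc⟩ := hx₀s ⟨Nb ρ b x₀, hNx₀⟩
  have hc' : Nb ρ b (x₀ : E) = c • (x₀ : E) := by
    have := congrArg Subtype.val hc
    simpa using this.symm
  have hcube := MOD1_aux_cube ρ b hb (x₀ : E)
  rw [hc', map_smul, hc', map_smul, map_smul, hc', smul_smul, smul_smul] at hcube
  have hx₀ne : (x₀ : E) ≠ 0 := fun h => hx₀0 (Subtype.ext h)
  have hc0 : c * c * c = 0 := by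
    rcases smul_eq_zero.mp hcube with h | h
    · exact h
    · exact absurd h hx₀ne
  have hc00 : c = 0 := by
    rcases mul_eq_zero.mp hc0 with h | h
    · rcases mul_eq_zero.mp h with h' | h' <;> exact h'
    · exact h
  intro x hx
  obtain ⟨d, hd⟩ := hx₀s ⟨x, hx⟩
  have hd' : x = d • (x₀ : E) := by
    have := congrArg Subtype.val hd
    simpa using this.symm
  rw [hd', map_smul, hc', hc00, zero_smul, smul_zero]

/-- MOD1 : if `E = U₁ ⊕ U₂` with both summands `b`-invariant then `b` is trivial on one of them. -/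
theorem split (ρ : Representation (ZMod 3) S E) (b : S) (hc : Cubic ρ b) (U₁ U₂ : Submodule (ZMod 3) E)
    (hd : U₁ ⊓ U₂ = ⊥) (hs : U₁ ⊔ U₂ = ⊤) (h₁ : ∀ v ∈ U₁, ρ b v ∈ U₁) (h₂ : ∀ v ∈ U₂, ρ b v ∈ U₂) :
    (∀ v ∈ U₁, ρ b v = v) ∨ (∀ v ∈ U₂, ρ b v = v) := by
  classical
  haveI : Module.Finite (ZMod 3) E := Module.Finite.of_finite
  set N := Nb ρ b with hN
  set M₁ := U₁.map N with hM₁
  set M₂ := U₂.map N with hM₂
  have hM₁U : M₁ ≤ U₁ := by
    rintro _ ⟨u, hu, rfl⟩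
    rw [hN, Nb_apply]
    exact U₁.sub_mem (h₁ u hu) hu
  have hM₂U : M₂ ≤ U₂ := by
    rintro _ ⟨u, hu, rfl⟩
    rw [hN, Nb_apply]
    exact U₂.sub_mem (h₂ u hu) hu
  have hdisj : M₁ ⊓ M₂ = ⊥ := by
    rw [eq_bot_iff, ← hd]
    exact inf_le_inf hM₁U hM₂U
  have hsup : M₁ ⊔ M₂ = LinearMap.range N := by
    rw [hM₁, hM₂, ← Submodule.map_sup, hs, Submodule.map_top]
  have hfr : finrank (ZMod 3) M₁ + finrank (ZMod 3) M₂ = 2 := by
    have h1 := Submodule.finrank_sup_add_finrank_inf_eq M₁ M₂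
    rw [hdisj, finrank_bot, add_zero, hsup] at h1
    have h2 : Nat.card ↥(LinearMap.range N) = 3 ^ finrank (ZMod 3) ↥(LinearMap.range N) := by
      have := Module.natCard_eq_pow_finrank (K := ZMod 3) (V := ↥(LinearMap.range N))
      rwa [Nat.card_zmod] at this
    rw [hc.card_range] at h2
    have h3 : finrank (ZMod 3) ↥(LinearMap.range N) = 2 := by
      have h4 : (3 : ℕ) ^ 2 = 3 ^ finrank (ZMod 3) ↥(LinearMap.range N) := by rw [← h2]; norm_num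
      exact (Nat.pow_right_injective (a := 3) (by norm_num) h4).symm
    omega
  have htriv : ∀ (U : Submodule (ZMod 3) E), finrank (ZMod 3) (U.map N) = 0 → ∀ v ∈ U, ρ b v = v := by
    intro U h0 v hv
    have hb : U.map N = ⊥ := Submodule.finrank_eq_zero.mp h0
    have h1 : N v ∈ U.map N := ⟨v, hv, rfl⟩
    rw [hb, Submodule.mem_bot, hN, Nb_apply, sub_eq_zero] at h1
    exact h1
  rcases Nat.eq_zero_or_pos (finrank (ZMod 3) M₁) with h0 | hpos1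
  · exact Or.inl (htriv U₁ h0)
  rcases Nat.eq_zero_or_pos (finrank (ZMod 3) M₂) with h0 | hpos2
  · exact Or.inr (htriv U₂ h0)
  exfalso
  have hf1 : finrank (ZMod 3) M₁ = 1 := by omega
  have hf2 : finrank (ZMod 3) M₂ = 1 := by omega
  have hinv1 : ∀ x ∈ M₁, N x ∈ M₁ := fun x hx => ⟨x, hM₁U hx, rfl⟩
  have hinv2 : ∀ x ∈ M₂, N x ∈ M₂ := fun x hx => ⟨x, hM₂U hx, rfl⟩
  have hz1 := MOD1_aux_line ρ b hc.pow M₁ hf1 hinv1
  have hz2 := MOD1_aux_line ρ b hc.pow M₂ hf2 hinv2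
  obtain ⟨v, hv⟩ := hc.sq_ne
  have hvtop : v ∈ U₁ ⊔ U₂ := by rw [hs]; trivial
  obtain ⟨u₁, hu₁, u₂, hu₂, rfl⟩ := Submodule.mem_sup.mp hvtop
  apply hv
  rw [map_add, map_add]
  have e1 : Nb ρ b (Nb ρ b u₁) = 0 := hz1 _ ⟨u₁, hu₁, rfl⟩
  have e2 : Nb ρ b (Nb ρ b u₂) = 0 := hz2 _ ⟨u₂, hu₂, rfl⟩
  rw [e1, e2, add_zero]

end Cfsg.Agent.S4415P
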