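import Mathlib
import Cfsg.Agent.Helper28.OrthSim1

set_option autoImplicit false
set_option linter.unusedSectionVars false

/-! # os6 (S5798, `CO_6^±(q) ∩ SL_6(q)` maximal in `SL_6(q)`, `q` odd; driver helper8), chapter FIRST (helper6):
definitions.  `FIRST.R Q z` = the reflection matrix along a non-singular `z`; `FIRST.ker2 φ₁ φ₂` = the common
kernel of two covectors; `FIRST.conjm g x₀ y₀ = g (r_{x₀} r_{y₀}) g⁻¹` as a matrix. -/

namespace Cfsg.Agent.OS6P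

open Matrix Module Cfsg.Agent.Helper28.Sg Cfsg.Agent.Helper28.Spin Cfsg.Agent.Helper28.SLMax
  Cfsg.Agent.Helper28.SimMax Cfsg.Agent.Helper28.OSim

variable {F : Type*} [Field F] {n : ℕ}

/-- the reflection `x ↦ x - (B(z,x)/Q(z)) z` as a matrix -/
def FIRST.R (Q : QuadraticForm F (Fin n → F)) (z : Fin n → F) : Matrix (Fin n) (Fin n) F :=
  E z (-(Q z)⁻¹ • pv Q z)

/-- the common kernel of two covectors -/
def FIRST.ker2 (φ₁ φ₂ : Fin n → F) : Submodule F (Fin n → F) where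
  carrier := {x | φ₁ ⬝ᵥ x = 0 ∧ φ₂ ⬝ᵥ x = 0}
  add_mem' := by
    rintro x y ⟨h1, h2⟩ ⟨h3, h4⟩
    exact ⟨by rw [dotProduct_add, h1, h3, add_zero], by rw [dotProduct_add, h2, h4, add_zero]⟩
  zero_mem' := ⟨dotProduct_zero _, dotProduct_zero _⟩
  smul_mem' := by
    rintro c x ⟨h1, h2⟩
    exact ⟨by rw [dotProduct_smul, h1, smul_zero], by rw [dotProduct_smul, h2, smul_zero]⟩

theorem FIRST.mem_ker2 {φ₁ φ₂ x : Fin n → F} :
    x ∈ FIRST.ker2 φ₁ φ₂ ↔ φ₁ ⬝ᵥ x = 0 ∧ φ₂ ⬝ᵥ x = 0 := Iff.rfl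

/-- `g (r_{x₀} r_{y₀}) g⁻¹` as a matrix -/
def FIRST.conjm (Q : QuadraticForm F (Fin n → F)) (g : Matrix.GeneralLinearGroup (Fin n) F)
    (x₀ y₀ : Fin n → F) : Matrix (Fin n) (Fin n) F :=
  (g : Matrix (Fin n) (Fin n) F) * (FIRST.R Q x₀ * FIRST.R Q y₀) *
    ((g⁻¹ : Matrix.GeneralLinearGroup (Fin n) F) : Matrix (Fin n) (Fin n) F)

end Cfsg.Agent.OS6P
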