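import Mathlib
import Cfsg.Agent.Helper21.PolySeq

/-!
Piece SC of S5238 (helper10's plan): symbol calculus for polynomial sequences (helper6).
`symbol_main`: for `h` polynomial of degree-shift `k ≥ 1` with `h 0 = 1`,
`h p ≡ (h 1)^p * (D^[p] h) 0` modulo a normal subgroup `N` containing the `p`-th powers of
`Γ (k+2)` and `Γ (k+p+1)`.
-/

set_option autoImplicit false

namespace Cfsg.Agent.Helper6.Pearl

open scoped commutatorElement
open Cfsg.Agent.Helper21.PolySeq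

theorem iterate_D_of_vanish {G : Type*} [Group G] : ∀ (m : ℕ) (f : ℕ → G), (∀ n < m, f n = 1) →
    (D^[m] f) 0 = f m
  | 0, _, _ => rfl
  | m + 1, f, hv => by
    rw [Function.iterate_succ_apply, iterate_D_of_vanish m (D f) ?_]
    · simp only [D]
      rw [hv m (by omega)]
      simp
    · intro n hn
      simp only [D]
      rw [hv (n + 1) (by omega), hv n (by omega)]
      simp

section aux

variable {G : Type*} [Group G] {Γ : ℕ → Subgroup G}

theorem polyAll_one (k : ℕ) : PolyAll Γ k (1 : ℕ → G) := fun r => PolyR.one r k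

theorem polyAll_mono (hΓ : Filt Γ) {k m : ℕ} {g : ℕ → G} (hkm : k ≤ m) (h : PolyAll Γ m g) :
    PolyAll Γ k g := fun r => PolyR.mono hΓ hkm (h r)

theorem polyAll_D {k : ℕ} {g : ℕ → G} (h : PolyAll Γ k g) : PolyAll Γ (k + 1) (D g) :=
  fun r => (h (r + 1)).2

theorem polyAll_iterate_D {k : ℕ} : ∀ (m : ℕ) {g : ℕ → G}, PolyAll Γ k g →
    PolyAll Γ (k + m) (D^[m] g)
  | 0, _, h => h
  | m + 1, g, h => by
    rw [Function.iterate_succ_apply']
    exact polyAll_D (polyAll_iterate_D m h)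

theorem polyAll_comm (hΓ : Filt Γ) {i j : ℕ} {g h : ℕ → G} (hg : PolyAll Γ i g)
    (hh : PolyAll Γ j h) : PolyAll Γ (i + j) ⁅g, h⁆ :=
  fun r => (main hΓ r).2.2 i j g h (hg r) (hh r)

theorem polyAll_conj (hΓ : Filt Γ) {k : ℕ} {a b : ℕ → G} (ha : PolyAll Γ 0 a)
    (hb : PolyAll Γ k b) : PolyAll Γ k (a * b * a⁻¹) := by
  rw [conj_eq]
  have := polyAll_comm hΓ ha hb
  rw [Nat.zero_add] at this
  exact PolyAll.mul hΓ this hb

theorem polyAll_conj' (hΓ : Filt Γ) {k : ℕ} {a b : ℕ → G} (ha : PolyAll Γ 0 a)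
    (hb : PolyAll Γ k b) : PolyAll Γ k (a⁻¹ * b * a) := by
  have := polyAll_conj hΓ (PolyAll.inv hΓ ha) hb
  rwa [inv_inv] at this

theorem polyAll_E (hΓ : Filt Γ) {m k : ℕ} {a : G} (ha : a ∈ Γ (k + m)) : PolyAll Γ k (E m a) :=
  fun r => polyR_E hΓ r m k a ha

/-- (T1) one step of the symbol calculus. -/
theorem step_T1 (hΓ : Filt Γ) {r : ℕ} (hr : 1 ≤ r) {A B w : ℕ → G} (hA : PolyAll Γ r A)
    (hB : PolyAll Γ r B) (hw : PolyAll Γ (r + 1) w) :
    ∃ w', PolyAll Γ (r + 2) w' ∧ D (A * B * w) = D A * D B * w' := by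
  refine ⟨(D B)⁻¹ * ⁅A, D B⁆ * D B * ⁅A * B, D w⁆ * D w, ?_, ?_⟩
  · have hDB : PolyAll Γ (r + 1) (D B) := polyAll_D hB
    have hDw : PolyAll Γ (r + 2) (D w) := polyAll_D hw
    have h1 : PolyAll Γ (r + 2) ⁅A, D B⁆ :=
      polyAll_mono hΓ (by omega) (polyAll_comm hΓ hA hDB)
    have h2 : PolyAll Γ (r + 2) ⁅A * B, D w⁆ :=
      polyAll_mono hΓ (by omega) (polyAll_comm hΓ (PolyAll.mul hΓ hA hB) hDw)
    have h3 : PolyAll Γ 0 (D B) := polyAll_mono hΓ (Nat.zero_le _) hDB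
    exact PolyAll.mul hΓ (PolyAll.mul hΓ (polyAll_conj' hΓ h3 h1) h2) hDw
  · rw [D_mul (A * B) w, D_mul A B]
    group

/-- (T) `D^[m]` is multiplicative modulo deeper polynomial sequences. -/
theorem iter_T (hΓ : Filt Γ) {k : ℕ} (hk : 1 ≤ k) {f f' : ℕ → G} (hf : PolyAll Γ k f)
    (hf' : PolyAll Γ k f') :
    ∀ m, ∃ w, PolyAll Γ (k + m + 1) w ∧ D^[m] (f * f') = D^[m] f * D^[m] f' * w := by
  intro m
  induction m with
  | zero => exact ⟨1, polyAll_one _, by simp⟩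
  | succ m ih =>
    obtain ⟨w, hw, e⟩ := ih
    obtain ⟨w', hw', e'⟩ := step_T1 hΓ (r := k + m) (by omega) (polyAll_iterate_D m hf)
      (polyAll_iterate_D m hf') hw
    refine ⟨w', ?_, ?_⟩
    · have e2 : k + (m + 1) + 1 = k + m + 2 := by omega
      rw [e2]
      exact hw'
    · rw [Function.iterate_succ_apply', Function.iterate_succ_apply',
        Function.iterate_succ_apply', e, e']

theorem iterate_D_one : ∀ j : ℕ, D^[j] (1 : ℕ → G) = 1
  | 0 => rfl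
  | j + 1 => by rw [Function.iterate_succ_apply, D_one, iterate_D_one j]

/-- (E) -/
theorem iterate_D_E (a : G) : ∀ (j m : ℕ), m < j → D^[j] (E m a) = 1
  | 0, _, h => absurd h (Nat.not_lt_zero _)
  | j + 1, 0, _ => by rw [Function.iterate_succ_apply, D_E_zero, iterate_D_one]
  | j + 1, m + 1, h => by
    rw [Function.iterate_succ_apply, D_E_succ]
    exact iterate_D_E a j m (by omega)

theorem iterate_mul_E (hΓ : Filt Γ) {p k : ℕ} (hk : 1 ≤ k) (N : Subgroup G) [N.Normal]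
    (hbot : Γ (k + p + 1) ≤ N) {f : ℕ → G} (hf : PolyAll Γ k f) {m : ℕ} (hm : m < p) {a : G}
    (ha : a ∈ Γ (k + m)) :
    (QuotientGroup.mk ((D^[p] (f * E m a)) 0) : G ⧸ N) = QuotientGroup.mk ((D^[p] f) 0) := by
  obtain ⟨w, hw, e⟩ := iter_T hΓ hk hf (polyAll_E hΓ ha) p
  rw [e, iterate_D_E a p m hm, mul_one, Pi.mul_apply, QuotientGroup.mk_mul]
  have : (QuotientGroup.mk (w 0) : G ⧸ N) = 1 :=
    (QuotientGroup.eq_one_iff _).mpr (hbot ((hw 0) 0))
  rw [this, mul_one]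

theorem symbol_aux (hΓ : Filt Γ) {p : ℕ} (hp : p.Prime) (k : ℕ) (hk : 1 ≤ k) (N : Subgroup G)
    [N.Normal] (hN : ∀ a ∈ Γ (k + 2), a ^ p ∈ N) (hbot : Γ (k + p + 1) ≤ N) :
    ∀ d m : ℕ, m + d = p → 2 ≤ m → ∀ f : ℕ → G, PolyAll Γ k f → (∀ n < m, f n = 1) →
      (QuotientGroup.mk (f p) : G ⧸ N) = QuotientGroup.mk ((D^[p] f) 0) := by
  intro d
  induction d with
  | zero =>
    intro m hm _ f _ hv
    have hmp : m = p := by omega
    subst hmp
    rw [iterate_D_of_vanish m f hv]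
  | succ d ih =>
    intro m hm h2 f hf hv
    have ha : f m ∈ Γ (k + m) := mem_of_vanish m k f (hf m) hv
    set a := f m with hadef
    have ha' : a⁻¹ ∈ Γ (k + m) := (Γ (k + m)).inv_mem ha
    have hf' : PolyAll Γ k (f * E m a⁻¹) := PolyAll.mul hΓ hf (polyAll_E hΓ ha')
    have hv' : ∀ n < m + 1, (f * E m a⁻¹) n = 1 := by
      intro n hn
      simp only [Pi.mul_apply, E]
      rcases Nat.lt_succ_iff_lt_or_eq.mp hn with h | h
      · rw [hv n h, Nat.choose_eq_zero_of_lt h]; simp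
      · rw [h, Nat.choose_self, pow_one, ← hadef, mul_inv_cancel]
    have hIH := ih (m + 1) (by omega) (by omega) _ hf' hv'
    rw [iterate_mul_E hΓ hk N hbot hf (by omega) ha'] at hIH
    rw [← hIH]
    simp only [Pi.mul_apply, E, QuotientGroup.mk_mul]
    have hpow : (QuotientGroup.mk (a⁻¹ ^ (p.choose m)) : G ⧸ N) = 1 := by
      rw [QuotientGroup.eq_one_iff]
      obtain ⟨q, hq⟩ := hp.dvd_choose_self (by omega) (by omega : m < p)
      rw [hq, mul_comm, pow_mul]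
      exact hN _ ((Γ (k + 2)).pow_mem (hΓ.anti (by omega) ha') q)
    rw [hpow, mul_one]

end aux

theorem symbol_main {G : Type*} [Group G] {Γ : ℕ → Subgroup G} (hΓ : Filt Γ) {p : ℕ} (hp : p.Prime)
    (k : ℕ) (hk : 1 ≤ k) (N : Subgroup G) [N.Normal]
    (hN : ∀ a ∈ Γ (k + 2), a ^ p ∈ N) (hbot : Γ (k + p + 1) ≤ N)
    (h : ℕ → G) (hh : PolyAll Γ k h) (h0 : h 0 = 1) :
    h p * (h 1 ^ p)⁻¹ * ((D^[p] h) 0)⁻¹ ∈ N := by
  have hp2 := hp.two_le
  have h1 : h 1 ∈ Γ (k + 1) := by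
    refine mem_of_vanish 1 k h (hh 1) ?_
    intro n hn
    interval_cases n
    exact h0
  have h1' : (h 1)⁻¹ ∈ Γ (k + 1) := (Γ (k + 1)).inv_mem h1
  have hf : PolyAll Γ k (h * E 1 (h 1)⁻¹) := PolyAll.mul hΓ hh (polyAll_E hΓ h1')
  have hv : ∀ n < 2, (h * E 1 (h 1)⁻¹) n = 1 := by
    intro n hn
    simp only [Pi.mul_apply, E]
    interval_cases n
    · simp [h0]
    · simp
  have key := symbol_aux hΓ hp k hk N hN hbot (p - 2) 2 (by omega) le_rfl _ hf hv
  rw [iterate_mul_E hΓ hk N hbot hh (by omega) h1'] at key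
  rw [← QuotientGroup.eq_one_iff (N := N)]
  simp only [Pi.mul_apply, E, QuotientGroup.mk_mul, QuotientGroup.mk_inv, Nat.choose_one_right,
    inv_pow] at key ⊢
  rw [← key]
  simp only [QuotientGroup.mk_pow]
  group

end Cfsg.Agent.Helper6.Pearl
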