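import Mathlib
import Cfsg.Prelude.Def_ChevStructure
import Cfsg.Prelude.Def_LieTypes
import Cfsg.Prelude.Def_ChevB2

/-! The positive root elements of a Chevalley group are unitriangular for a suitable level
function on the Chevalley basis; consequences for the subgroup `U`. -/

set_option autoImplicit false
set_option linter.unusedSectionVars false
set_option linter.unusedVariables false

open Cfsg Cfsg.Lie

namespace Cfsg.Agent.Helper6.Chev

open Matrix
open scoped commutatorElement

section Raises

variable {n : Type*} [Fintype n] [DecidableEq n] {R : Type*} [CommRing R]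

/-- `A` raises the level `ρ` by at least `k`. -/
def Raises (ρ : n → ℕ) (k : ℕ) (A : Matrix n n R) : Prop :=
  ∀ i j, A i j ≠ 0 → ρ j + k ≤ ρ i

variable {ρ : n → ℕ} {k l : ℕ} {A B : Matrix n n R}

theorem Raises.mono (h : Raises ρ k A) (hl : l ≤ k) : Raises ρ l A := fun i j hij => by
  have := h i j hij; omega

theorem raises_zero (ρ : n → ℕ) (k : ℕ) : Raises ρ k (0 : Matrix n n R) := fun i j h =>
  absurd (Matrix.zero_apply i j) h

theorem raises_one (ρ : n → ℕ) : Raises ρ 0 (1 : Matrix n n R) := by
  intro i j h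
  by_cases hij : i = j
  · subst hij; simp
  · exact absurd (Matrix.one_apply_ne hij) h

theorem Raises.add (hA : Raises ρ k A) (hB : Raises ρ k B) : Raises ρ k (A + B) := by
  intro i j h
  by_cases hA' : A i j = 0
  · by_cases hB' : B i j = 0
    · exfalso; apply h; simp [hA', hB']
    · exact hB i j hB'
  · exact hA i j hA'

theorem Raises.neg (hA : Raises ρ k A) : Raises ρ k (-A) := by
  intro i j h
  apply hA i j
  intro h0
  apply h
  simp [h0]

theorem Raises.sub (hA : Raises ρ k A) (hB : Raises ρ k B) : Raises ρ k (A - B) := by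
  rw [sub_eq_add_neg]; exact hA.add hB.neg

theorem Raises.mul (hA : Raises ρ k A) (hB : Raises ρ l B) : Raises ρ (k + l) (A * B) := by
  intro i j h
  rw [Matrix.mul_apply] at h
  obtain ⟨m, -, hm⟩ := Finset.exists_ne_zero_of_sum_ne_zero h
  have h1 : A i m ≠ 0 := left_ne_zero_of_mul hm
  have h2 : B m j ≠ 0 := right_ne_zero_of_mul hm
  have := hA i m h1
  have := hB m j h2
  omega

theorem Raises.pow (hA : Raises ρ k A) (m : ℕ) : Raises ρ (k * m) (A ^ m) := by
  induction m with
  | zero => simpa using raises_one ρ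
  | succ m ih =>
    rw [pow_succ, Nat.mul_succ]
    exact ih.mul hA

theorem Raises.eq_zero {N : ℕ} (hρ : ∀ i, ρ i < N) (hA : Raises ρ N A) : A = 0 := by
  ext i j
  by_contra h
  have := hA i j h
  have := hρ i
  omega

theorem raises_sum {ι : Type*} (s : Finset ι) (f : ι → Matrix n n R)
    (h : ∀ m ∈ s, Raises ρ k (f m)) : Raises ρ k (∑ m ∈ s, f m) := by
  classical
  induction s using Finset.induction_on with
  | empty => simpa using raises_zero ρ k
  | insert a s ha ih =>
    rw [Finset.sum_insert ha]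
    exact (h a (Finset.mem_insert_self a s)).add
      (ih fun m hm => h m (Finset.mem_insert_of_mem hm))

/-- inverse of a unitriangular matrix -/
theorem raises_inv {N : ℕ} (hρ : ∀ i, ρ i < N) (hk : 1 ≤ k) (g : GL n R)
    (hg : Raises ρ k ((g : Matrix n n R) - 1)) :
    Raises ρ k (((g⁻¹ : GL n R) : Matrix n n R) - 1) := by
  obtain ⟨A, hA⟩ : ∃ A : Matrix n n R, A = (g : Matrix n n R) - 1 := ⟨_, rfl⟩
  rw [← hA] at hg
  have hAN : A ^ N = 0 := by
    apply Raises.eq_zero hρ
    refine (hg.pow N).mono ?_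
    nlinarith
  have hgA : (g : Matrix n n R) = 1 - (-A) := by rw [hA]; abel
  have hmul : (g : Matrix n n R) * ∑ m ∈ Finset.range N, (-A) ^ m = 1 := by
    rw [hgA, mul_neg_geom_sum, neg_pow, hAN, mul_zero, sub_zero]
  have hinv : ((g⁻¹ : GL n R) : Matrix n n R) = ∑ m ∈ Finset.range N, (-A) ^ m :=
    Units.inv_eq_of_mul_eq_one_right hmul
  rw [hinv]
  rcases Nat.eq_zero_or_pos N with hN | hN
  · intro i j _
    have := hρ i
    omega
  · obtain ⟨N', rfl⟩ : ∃ N', N = N' + 1 := ⟨N - 1, by omega⟩
    rw [Finset.sum_range_succ', pow_zero, add_sub_cancel_right]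
    apply raises_sum
    intro m _
    refine (hg.neg.pow (m + 1)).mono ?_
    nlinarith

/-- The subgroup of matrices `g` such that `g - 1` and `g⁻¹ - 1` raise levels by at least `k`. -/
def UT (ρ : n → ℕ) (k : ℕ) : Subgroup (GL n R) where
  carrier := {g | Raises ρ k ((g : Matrix n n R) - 1) ∧
    Raises ρ k (((g⁻¹ : GL n R) : Matrix n n R) - 1)}
  one_mem' := by
    refine ⟨?_, ?_⟩ <;> simp [raises_zero]
  mul_mem' := by
    rintro g h ⟨hg1, hg2⟩ ⟨hh1, hh2⟩
    refine ⟨?_, ?_⟩
    · have e : ((g * h : GL n R) : Matrix n n R) - 1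
          = ((g : Matrix n n R) - 1) + ((h : Matrix n n R) - 1)
            + ((g : Matrix n n R) - 1) * ((h : Matrix n n R) - 1) := by
        rw [Units.val_mul]; noncomm_ring
      rw [e]
      exact (hg1.add hh1).add ((hg1.mul hh1).mono (by omega))
    · have e : (((g * h)⁻¹ : GL n R) : Matrix n n R) - 1
          = (((h⁻¹ : GL n R) : Matrix n n R) - 1) + (((g⁻¹ : GL n R) : Matrix n n R) - 1)
            + (((h⁻¹ : GL n R) : Matrix n n R) - 1) * (((g⁻¹ : GL n R) : Matrix n n R) - 1) := by
        rw [_root_.mul_inv_rev, Units.val_mul]; noncomm_ring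
      rw [e]
      exact (hh2.add hg2).add ((hh2.mul hg2).mono (by omega))
  inv_mem' := by
    rintro g ⟨hg1, hg2⟩
    refine ⟨hg2, ?_⟩
    rw [inv_inv]; exact hg1

theorem mem_UT {g : GL n R} : g ∈ (UT ρ k : Subgroup (GL n R)) ↔
    Raises ρ k ((g : Matrix n n R) - 1) ∧
      Raises ρ k (((g⁻¹ : GL n R) : Matrix n n R) - 1) := Iff.rfl

theorem mem_UT_of_raises {N : ℕ} (hρ : ∀ i, ρ i < N) (hk : 1 ≤ k) {g : GL n R}
    (hg : Raises ρ k ((g : Matrix n n R) - 1)) : g ∈ (UT ρ k : Subgroup (GL n R)) :=
  ⟨hg, raises_inv hρ hk g hg⟩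

theorem UT_eq_bot {N : ℕ} (hρ : ∀ i, ρ i < N) (hk : N ≤ k) :
    (UT ρ k : Subgroup (GL n R)) = ⊥ := by
  rw [eq_bot_iff]
  rintro g ⟨hg, -⟩
  rw [Subgroup.mem_bot]
  have h0 : (g : Matrix n n R) - 1 = 0 := Raises.eq_zero hρ (hg.mono hk)
  apply Units.ext
  rw [Units.val_one]
  exact sub_eq_zero.mp h0

theorem comm_raises {g h : GL n R}
    (hg1 : Raises ρ k ((g : Matrix n n R) - 1))
    (hg2 : Raises ρ k (((g⁻¹ : GL n R) : Matrix n n R) - 1))
    (hh1 : Raises ρ l ((h : Matrix n n R) - 1))
    (hh2 : Raises ρ l (((h⁻¹ : GL n R) : Matrix n n R) - 1)) :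
    Raises ρ (k + l) (((g * h * g⁻¹ * h⁻¹ : GL n R) : Matrix n n R) - 1) := by
  have hgg : (g : Matrix n n R) * ((g⁻¹ : GL n R) : Matrix n n R) = 1 := by
    rw [← Units.val_mul, mul_inv_cancel, Units.val_one]
  have hhh : (h : Matrix n n R) * ((h⁻¹ : GL n R) : Matrix n n R) = 1 := by
    rw [← Units.val_mul, mul_inv_cancel, Units.val_one]
  have e : ((g * h * g⁻¹ * h⁻¹ : GL n R) : Matrix n n R) - 1
      = (((g : Matrix n n R) - 1) * ((h : Matrix n n R) - 1)
          - ((h : Matrix n n R) - 1) * ((g : Matrix n n R) - 1))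
        * (((g⁻¹ : GL n R) : Matrix n n R) * ((h⁻¹ : GL n R) : Matrix n n R)) := by
    have e1 : (((g : Matrix n n R) - 1) * ((h : Matrix n n R) - 1)
          - ((h : Matrix n n R) - 1) * ((g : Matrix n n R) - 1))
        = (g : Matrix n n R) * (h : Matrix n n R) - (h : Matrix n n R) * (g : Matrix n n R) := by
      noncomm_ring
    rw [e1, sub_mul]
    have e2 : (h : Matrix n n R) * (g : Matrix n n R)
        * (((g⁻¹ : GL n R) : Matrix n n R) * ((h⁻¹ : GL n R) : Matrix n n R)) = 1 := by
      rw [mul_assoc, ← mul_assoc (g : Matrix n n R), hgg, one_mul, hhh]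
    rw [e2]
    simp only [Units.val_mul, mul_assoc]
  rw [e]
  have h1 : Raises ρ 0 (((g⁻¹ : GL n R) : Matrix n n R)) := by
    have : ((g⁻¹ : GL n R) : Matrix n n R) = (((g⁻¹ : GL n R) : Matrix n n R) - 1) + 1 := by abel
    rw [this]
    exact (hg2.mono (Nat.zero_le _)).add (raises_one ρ)
  have h2 : Raises ρ 0 (((h⁻¹ : GL n R) : Matrix n n R)) := by
    have : ((h⁻¹ : GL n R) : Matrix n n R) = (((h⁻¹ : GL n R) : Matrix n n R) - 1) + 1 := by abel
    rw [this]
    exact (hh2.mono (Nat.zero_le _)).add (raises_one ρ)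
  have h3 := (hg1.mul hh1).sub ((hh1.mul hg1).mono (by omega : k + l ≤ l + k))
  have := h3.mul (h1.mul h2)
  simpa using this

theorem comm_mem_UT {g h : GL n R} (hg : g ∈ (UT ρ k : Subgroup (GL n R)))
    (hh : h ∈ (UT ρ l : Subgroup (GL n R))) : ⁅g, h⁆ ∈ (UT ρ (k + l) : Subgroup (GL n R)) := by
  obtain ⟨hg1, hg2⟩ := hg
  obtain ⟨hh1, hh2⟩ := hh
  refine ⟨?_, ?_⟩
  · rw [commutatorElement_def]
    exact comm_raises hg1 hg2 hh1 hh2
  · rw [commutatorElement_inv, commutatorElement_def]
    have := comm_raises hh1 hh2 hg1 hg2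
    rwa [Nat.add_comm] at this

theorem lowerCentralSeries_le_UT (U : Subgroup (GL n R))
    (hU : U ≤ (UT ρ 1 : Subgroup (GL n R))) (m : ℕ) :
    U.lowerCentralSeries m ≤ (UT ρ (m + 1) : Subgroup (GL n R)) := by
  induction m with
  | zero => simpa using hU
  | succ m ih =>
    rw [Subgroup.lowerCentralSeries_succ, Subgroup.commutator_le]
    intro g hg h hh
    exact comm_mem_UT (ih hg) (hU hh)

theorem isNilpotent_of_le_UT {N : ℕ} (hρ : ∀ i, ρ i < N) (U : Subgroup (GL n R))
    (hU : U ≤ (UT ρ 1 : Subgroup (GL n R))) : Group.IsNilpotent U := by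
  apply Subgroup.isNilpotent_of_lowerCentralSeries_eq_bot (n := N)
  rw [eq_bot_iff]
  refine (lowerCentralSeries_le_UT U hU N).trans ?_
  rw [UT_eq_bot hρ (Nat.le_succ N)]

theorem pow_eq_zero_of_mem_UT {N : ℕ} (hρ : ∀ i, ρ i < N) {g : GL n R}
    (hg : g ∈ (UT ρ 1 : Subgroup (GL n R))) : ((g : Matrix n n R) - 1) ^ N = 0 := by
  apply Raises.eq_zero hρ
  simpa using hg.1.pow N

end Raises


/-! ### The Chevalley data -/

section Datum

/-- Boolean check: for every positive root `r`: `N ≤ r`, `-r < N` and every `r`-chain through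
`s` only reaches roots of larger index. -/
def posCheck (D : ChevalleyDatum) (N : ℕ) : Bool :=
  (List.range D.nroots).all fun r =>
    !(decide (D.IsPosRoot r)) ||
      (decide (N ≤ r) && decide (D.negIdx.getD r 0 < N) &&
        (D.chain.getD r #[]).toList.all fun e => e.2.toList.all fun q => decide (e.1 < q.1))

/-- The level of a basis vector: negative roots by index, then the coroots, then positive roots. -/
def level (D : ChevalleyDatum) (N : ℕ) : D.Idx → ℕ
  | Sum.inl _ => N
  | Sum.inr s => if s.val < N then s.val else s.val + 1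

theorem level_lt (D : ChevalleyDatum) (N : ℕ) (hN : N ≤ D.nroots) (hr : 1 ≤ D.rank) (i : D.Idx) :
    level D N i < D.rank + D.nroots := by
  rcases i with i | s
  · simp only [level]; omega
  · simp only [level]
    have := s.2
    split_ifs <;> omega

theorem level_inr_lt (D : ChevalleyDatum) (N : ℕ) {s u : Fin D.nroots} (h : s.val < u.val) :
    level D N (Sum.inr s) + 1 ≤ level D N (Sum.inr u) := by
  simp only [level]
  split_ifs <;> omega

theorem posCheck_spec {D : ChevalleyDatum} {N : ℕ} (h : posCheck D N = true) {r : ℕ}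
    (hr : D.IsPosRoot r) :
    N ≤ r ∧ D.negIdx.getD r 0 < N ∧
      ∀ e ∈ (D.chain.getD r #[]).toList, ∀ q ∈ e.2.toList, e.1 < q.1 := by
  unfold posCheck at h
  rw [List.all_eq_true] at h
  have h1 := h r (List.mem_range.mpr hr.1)
  simp only [Bool.or_eq_true, Bool.not_eq_true', decide_eq_false_iff_not, Bool.and_eq_true,
    decide_eq_true_eq, List.all_eq_true] at h1
  rcases h1 with h1 | h1
  · exact absurd hr h1
  · exact ⟨h1.1.1, h1.1.2, h1.2⟩

theorem chainCoeff_ne_nil {D : ChevalleyDatum} {r s u : ℕ} (h : D.chainCoeff r s u ≠ []) :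
    ∃ e ∈ (D.chain.getD r #[]).toList, e.1 = s ∧ ∃ q ∈ e.2.toList, q.1 = u := by
  unfold ChevalleyDatum.chainCoeff at h
  obtain ⟨x, hx⟩ := List.exists_mem_of_ne_nil _ h
  rw [List.mem_flatMap] at hx
  obtain ⟨e, he, hxe⟩ := hx
  rw [List.mem_filter] at he
  rw [List.mem_map] at hxe
  obtain ⟨q, hq, -⟩ := hxe
  rw [List.mem_filter] at hq
  refine ⟨e, he.1, by simpa using he.2, q.1, ?_, by simpa using hq.2⟩
  have := hq.1
  rcases q with ⟨q1, q2⟩
  exact (List.mem_zipIdx this).2.2 ▸ List.getElem_mem _

variable {F : Type*} [Field F]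

theorem raises_x (D : ChevalleyDatum) (N : ℕ) (h : posCheck D N = true) {r : ℕ}
    (hr : D.IsPosRoot r) (t : F) : Raises (level D N) 1 (D.x F r t - 1) := by
  obtain ⟨h1, h2, h3⟩ := posCheck_spec h hr
  have hrn : r < D.nroots := hr.1
  unfold ChevalleyDatum.x
  rw [dif_pos hrn]
  intro i j hij
  rw [Matrix.sub_apply] at hij
  rcases j with c | s
  · rcases i with c' | u
    · exfalso; apply hij
      simp only [ChevalleyDatum.xMat, Matrix.of_apply, Matrix.one_apply, Sum.inl.injEq]
      simp
    · simp only [ChevalleyDatum.xMat, Matrix.of_apply, Matrix.one_apply] at hij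
      by_cases hur : u = ⟨r, hrn⟩
      · subst hur
        simp only [level]
        have : ¬ (r < N) := by omega
        simp only [this, if_false]
        omega
      · exfalso; apply hij; simp [hur]
  · by_cases hsr : s = ⟨r, hrn⟩
    · exfalso; apply hij
      subst hsr
      rcases i with c' | u
      · simp [ChevalleyDatum.xMat, Matrix.of_apply]
      · simp only [ChevalleyDatum.xMat, Matrix.of_apply, Matrix.one_apply, if_true, Sum.inr.injEq]
        simp
    · by_cases hsn : s.val = D.negIdx.getD r 0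
      · rcases i with c' | u
        · simp only [level]
          have : s.val < N := by omega
          simp only [this, if_true]
          omega
        · simp only [ChevalleyDatum.xMat, Matrix.of_apply, Matrix.one_apply, hsr, if_false,
            hsn, if_true, Sum.inr.injEq] at hij
          by_cases hus : u = s
          · exfalso; apply hij; simp [hus]
          · by_cases hur : u = ⟨r, hrn⟩
            · subst hur
              apply level_inr_lt
              simp only
              omega
            · exfalso; apply hij; simp [hus, hur]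
      · rcases i with c' | u
        · exfalso; apply hij
          simp only [ChevalleyDatum.xMat, Matrix.of_apply, hsr, if_false, hsn]
          simp
        · simp only [ChevalleyDatum.xMat, Matrix.of_apply, Matrix.one_apply, hsr, if_false,
            hsn, Sum.inr.injEq] at hij
          have hne : D.chainCoeff r s.val u.val ≠ [] := by
            intro hnil
            apply hij
            rw [hnil]
            simp
          obtain ⟨e, he, hes, q, hq, hqu⟩ := chainCoeff_ne_nil hne
          have := h3 e he q hq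
          apply level_inr_lt
          omega


theorem posUnipotent_le_UT (D : ChevalleyDatum) (N : ℕ) (h : posCheck D N = true)
    (hN : N ≤ D.nroots) (hrk : 1 ≤ D.rank) :
    D.posUnipotent F ≤ (UT (level D N) 1 : Subgroup (GL D.Idx F)) := by
  unfold ChevalleyDatum.posUnipotent
  rw [Subgroup.closure_le]
  rintro g ⟨r, t, hr, hg⟩
  apply mem_UT_of_raises (level_lt D N hN hrk) le_rfl
  rw [hg]
  exact raises_x D N h hr t

/-- the data of a good triangular structure -/
structure Good (D : ChevalleyDatum) : Prop where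
  ex : ∃ N : ℕ, posCheck D N = true ∧ N ≤ D.nroots ∧ 1 ≤ D.rank

set_option maxRecDepth 100000 in
theorem good_G2 : Good chevG2 := ⟨6, by decide +kernel, by decide, by decide⟩
set_option maxRecDepth 100000 in
theorem good_B2 : Good chevB2 := ⟨4, by decide +kernel, by decide, by decide⟩
set_option maxRecDepth 100000 in
theorem good_D4 : Good chevD4 := ⟨12, by decide +kernel, by decide, by decide⟩
set_option maxRecDepth 100000 in
theorem good_F4 : Good chevF4 := ⟨24, by decide +kernel, by decide, by decide⟩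
set_option maxRecDepth 100000 in
theorem good_E6 : Good chevE6 := ⟨36, by decide +kernel, by decide, by decide⟩
set_option maxRecDepth 100000 in
theorem good_E7 : Good chevE7 := ⟨63, by decide +kernel, by decide, by decide⟩
set_option maxRecDepth 100000 in
theorem good_E8 : Good chevE8 := ⟨120, by decide +kernel, by decide, by decide⟩

theorem good_of_mem {D : ChevalleyDatum}
    (hD : D ∈ [chevG2, chevB2, chevD4, chevF4, chevE6, chevE7, chevE8]) : Good D := by
  simp only [List.mem_cons, List.not_mem_nil, or_false] at hD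
  rcases hD with rfl | rfl | rfl | rfl | rfl | rfl | rfl
  · exact good_G2
  · exact good_B2
  · exact good_D4
  · exact good_F4
  · exact good_E6
  · exact good_E7
  · exact good_E8

theorem unipotent_of_good {D : ChevalleyDatum} (hD : Good D) (g : GL D.Idx F)
    (hg : g ∈ D.posUnipotent F) :
    ((g : Matrix D.Idx D.Idx F) - 1) ^ (D.rank + D.nroots) = 0 := by
  obtain ⟨N, h, hN, hrk⟩ := hD.ex
  exact pow_eq_zero_of_mem_UT (level_lt D N hN hrk) (posUnipotent_le_UT D N h hN hrk hg)

theorem nilpotent_of_good {D : ChevalleyDatum} (hD : Good D) :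
    Group.IsNilpotent (D.posUnipotent F) := by
  obtain ⟨N, h, hN, hrk⟩ := hD.ex
  exact isNilpotent_of_le_UT (level_lt D N hN hrk) _ (posUnipotent_le_UT D N h hN hrk)

end Datum

end Cfsg.Agent.Helper6.Chev
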