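import Mathlib
import Cfsg.Agent.Helper2.PSLM.Defs
import Cfsg.Agent.Helper2.StnD

set_option autoImplicit false

/-! S2086 piece MAT: the Steinberg datum of `SL_n(K)` (transvections and diagonal matrices). -/

namespace Cfsg.Agent.S2086P

open scoped commutatorElement
open Cfsg.Agent.Helper2.Stb

namespace MAT

open Matrix

variable {n : ℕ} {K : Type*} [Field K]

/-- the diagonal matrix of a torus parameter, in `SL_n` -/
noncomputable def dg (h : Tor n K) : SpecialLinearGroup (Fin n) K :=
  ⟨Matrix.diagonal (fun i => ((h.1 i : Kˣ) : K)), by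
    rw [Matrix.det_diagonal]
    have h1 : ∏ i, h.1 i = 1 := h.2
    have h2 := congrArg (fun u : Kˣ => (u : K)) h1
    simp only [Units.coe_prod, Units.val_one] at h2
    exact h2⟩

theorem dg_coe (h : Tor n K) :
    ((dg h : SpecialLinearGroup (Fin n) K) : Matrix (Fin n) (Fin n) K)
      = Matrix.diagonal (fun i => ((h.1 i : Kˣ) : K)) := rfl

theorem dg_comm (h h' : Tor n K) : dg h * dg h' = dg h' * dg h := by
  apply SpecialLinearGroup.coeMonoidHom_injective
  simp only [map_mul, SpecialLinearGroup.coeMonoidHom_apply]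
  rw [dg_coe, dg_coe, Matrix.diagonal_mul_diagonal, Matrix.diagonal_mul_diagonal]
  congr 1
  funext i
  exact mul_comm _ _

theorem dg_mul_tv (h : Tor n K) (a : Root n) (t : K) :
    dg h * SpecialLinearGroup.transvection a.2 t
      = SpecialLinearGroup.transvection a.2 (rat h a * t) * dg h := by
  apply SpecialLinearGroup.coeMonoidHom_injective
  simp only [map_mul, SpecialLinearGroup.coeMonoidHom_apply]
  rw [dg_coe, SpecialLinearGroup.transvection_coe, SpecialLinearGroup.transvection_coe]
  ext x y
  rw [Matrix.diagonal_mul, Matrix.mul_diagonal, Matrix.add_apply, Matrix.add_apply]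
  by_cases hxy : x = y
  · subst hxy
    have hne : ¬ (a.1.1 = x ∧ a.1.2 = x) := fun hh => a.2 (hh.1.trans hh.2.symm)
    rw [Matrix.single_apply_of_ne _ _ _ _ _ hne, Matrix.single_apply_of_ne _ _ _ _ _ hne,
      Matrix.one_apply_eq, add_zero, mul_one, one_mul]
  · rw [Matrix.one_apply_ne hxy, zero_add, zero_add]
    by_cases hh : a.1.1 = x ∧ a.1.2 = y
    · obtain ⟨h1, h2⟩ := hh
      subst h1
      subst h2
      rw [Matrix.single_apply_same, Matrix.single_apply_same]
      unfold rat
      have hne : (((h.1 a.1.2 : Kˣ) : K)) ≠ 0 := Units.ne_zero _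
      field_simp
    · rw [Matrix.single_apply_of_ne _ _ _ _ _ hh, Matrix.single_apply_of_ne _ _ _ _ _ hh, mul_zero,
        zero_mul]

end MAT

theorem exists_slD (n : ℕ) (K : Type*) [Field K] :
    ∃ S : StD n K (Matrix.SpecialLinearGroup (Fin n) K), ∀ (a : Root n) (t : K),
      ((S.T a t : Matrix.SpecialLinearGroup (Fin n) K) : Matrix (Fin n) (Fin n) K) =
        Matrix.transvection a.1.1 a.1.2 t := by
  refine ⟨{ T := fun a t => Matrix.SpecialLinearGroup.transvection a.2 t
            D := fun h => MAT.dg h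
            add := ?_
            comm := ?_
            chev := ?_
            conj := ?_
            dcomm := ?_ }, ?_⟩
  · intro a t u
    exact (Matrix.SpecialLinearGroup.transvection_add a.2 t u).symm
  · intro a b t u h1 h2
    exact Cfsg.Agent.Helper2.Stn.tv_comm a.2 b.2 h1 h2 t u
  · intro a b h t u hab
    obtain ⟨⟨i, j⟩, hij⟩ := a
    obtain ⟨⟨j', l⟩, hjl⟩ := b
    simp only at hab h hij hjl
    subst hab
    rw [commutatorElement_def]
    exact Cfsg.Agent.Helper2.Stn.tv_R3 hij hjl h t u
  · intro h a t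
    rw [MAT.dg_mul_tv, mul_inv_cancel_right]
  · intro h h'
    exact MAT.dg_comm h h'
  · intro a t
    rfl

end Cfsg.Agent.S2086P
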