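import Mathlib
import Cfsg.Agent.Helper7.S2862Defs

/-! Board `s2862pieces`, row CP6: `commP_sup`. -/

set_option autoImplicit false
set_option linter.unusedVariables false

namespace Cfsg.Agent.S2862P

open Cfsg Subgroup
open Cfsg.Agent.Helper14 (cj)
open scoped commutatorElement

variable {G : Type*} [Group G] [Finite G] {p : ℕ} [Fact p.Prime]
variable {H Vt Vb : Subgroup G}

omit [Finite G] in
theorem CP6_aux_comm_mul (v g h : G) : ⁅v, g * h⁆ = ⁅v, h⁆ * ⁅h * v * h⁻¹, g⁆ := by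
  simp only [commutatorElement_def]; group

/-- the elements of `H` whose commutators with `Vt` land in `W`. -/
def CP6_aux_S (H Vt W : Subgroup G) (hn : H ≤ normalizer (Vt : Set G)) : Subgroup G where
  carrier := {g | g ∈ H ∧ ∀ v ∈ Vt, ⁅v, g⁆ ∈ W}
  one_mem' := ⟨H.one_mem, fun v _ => by
    have : ⁅v, (1 : G)⁆ = 1 := by simp [commutatorElement_def]
    rw [this]; exact W.one_mem⟩
  mul_mem' := by
    rintro g h ⟨hgH, hg⟩ ⟨hhH, hh⟩
    refine ⟨H.mul_mem hgH hhH, fun v hv => ?_⟩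
    rw [CP6_aux_comm_mul]
    have hv' : h * v * h⁻¹ ∈ Vt := (Subgroup.mem_normalizer_iff.mp (hn hhH) v).mp hv
    exact W.mul_mem (hh v hv) (hg _ hv')
  inv_mem' := by
    rintro g ⟨hgH, hg⟩
    refine ⟨H.inv_mem hgH, fun v hv => ?_⟩
    have hv' : g⁻¹ * v * g⁻¹⁻¹ ∈ Vt :=
      (Subgroup.mem_normalizer_iff.mp (hn (H.inv_mem hgH)) v).mp hv
    have h1 : ⁅v, g * g⁻¹⁆ = ⁅v, g⁻¹⁆ * ⁅g⁻¹ * v * g⁻¹⁻¹, g⁆ := CP6_aux_comm_mul v g g⁻¹
    have h2 : ⁅v, g * g⁻¹⁆ = 1 := by simp [commutatorElement_def]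
    rw [h2] at h1
    have h3 : ⁅v, g⁻¹⁆ = (⁅g⁻¹ * v * g⁻¹⁻¹, g⁆)⁻¹ := eq_inv_of_mul_eq_one_left h1.symm
    rw [h3]
    exact W.inv_mem (hg _ hv')

/-- CP6 : `[X,<A,B>] = [X,A][X,B]`. -/
theorem commP_sup (C : ChiefPair p H Vt Vb) {A B : Subgroup G} (hA : A ≤ H) (hB : B ≤ H) :
    commP Vt Vb (A ⊔ B) = commP Vt Vb A ⊔ commP Vt Vb B := by
  apply le_antisymm
  · unfold commP
    refine sup_le ?_ (le_sup_of_le_left le_sup_right)
    have hS : A ⊔ B ≤ CP6_aux_S H Vt ((⁅Vt, A⁆ ⊔ Vb) ⊔ (⁅Vt, B⁆ ⊔ Vb)) C.nt := by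
      refine sup_le ?_ ?_
      · intro a ha
        refine ⟨hA ha, fun v hv => ?_⟩
        exact (le_sup_of_le_left le_sup_left : ⁅Vt, A⁆ ≤ _)
          (Subgroup.commutator_mem_commutator hv ha)
      · intro b hb
        refine ⟨hB hb, fun v hv => ?_⟩
        exact (le_sup_of_le_right le_sup_left : ⁅Vt, B⁆ ≤ _)
          (Subgroup.commutator_mem_commutator hv hb)
    rw [Subgroup.commutator_le]
    intro v hv g hg
    exact (hS hg).2 v hv
  · unfold commP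
    refine sup_le (sup_le ?_ le_sup_right) (sup_le ?_ le_sup_right)
    · exact le_sup_of_le_left (Subgroup.commutator_mono le_rfl le_sup_left)
    · exact le_sup_of_le_left (Subgroup.commutator_mono le_rfl le_sup_right)

end Cfsg.Agent.S2862P
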