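import Mathlib
import Cfsg.Agent.Helper27.S3001QDefs
import Cfsg.Agent.Helper27.S3001G1

/-! S3001 quotient dictionary, board `s3001qpieces`, piece G5: the isomorphism `X ≃ hat R X` for `X ∩ R = 1`. -/

set_option autoImplicit false

namespace Cfsg.Agent.S3001P

open Cfsg.Agent.S2789P Cfsg.Agent.S2999P Cfsg.Agent.S3000P

universe u

variable {G : Type u} [Group G]

theorem hatHom_surj {R X : Subgroup G} (hX : X ≤ NR R) : Function.Surjective (hatHom hX) := by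
  intro y
  obtain ⟨x, hx, hxy⟩ := mem_hat.1 y.2
  refine ⟨⟨(x : G), hx⟩, ?_⟩
  apply Subtype.ext
  rw [coe_hatHom]
  exact hxy

theorem hatHom_inj {R X : Subgroup G} (hX : X ≤ NR R) (hXR : X ⊓ R = ⊥) : Function.Injective (hatHom hX) := by
  intro a b hab
  have h1 : qpi R ⟨(a : G), hX a.2⟩ = qpi R ⟨(b : G), hX b.2⟩ := by
    have := congrArg Subtype.val hab
    rwa [coe_hatHom, coe_hatHom] at this
  rw [qpi_eq_iff] at h1
  have h2 : (a : G)⁻¹ * (b : G) ∈ X ⊓ R := ⟨X.mul_mem (X.inv_mem a.2) b.2, h1⟩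
  rw [hXR, Subgroup.mem_bot] at h2
  apply Subtype.ext
  exact inv_mul_eq_one.mp h2

theorem map_hatHom {R X : Subgroup G} (hX : X ≤ NR R) (Y : Subgroup ↥X) :
    (Y.map (hatHom hX)).map (hat R X).subtype = hat R (Y.map X.subtype) := by
  ext z
  constructor
  · rintro ⟨w, ⟨y, hy, rfl⟩, rfl⟩
    refine mem_hat.2 ⟨⟨(y : G), hX y.2⟩, ⟨y, hy, rfl⟩, ?_⟩
    rfl
  · intro hz
    obtain ⟨x, ⟨y, hy, hyx⟩, rfl⟩ := mem_hat.1 hz
    refine ⟨hatHom hX y, ⟨y, hy, rfl⟩, ?_⟩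
    show ((hatHom hX y : ↥(hat R X)) : QG R) = qpi R x
    rw [coe_hatHom]
    congr 1
    exact Subtype.ext hyx

end Cfsg.Agent.S3001P
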