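import Mathlib
import Cfsg.Agent.Helper10.S3805Defs

set_option autoImplicit false

namespace Cfsg.Agent.S3805P

open Cfsg

theorem COUNT0_key : ∀ t : D3, ((t, DihedralGroup.r 1) : Q) * (t, DihedralGroup.r 1) ≠ 1 := by
  decide

/-- **COUNT0.** In the unfused case there are no factorizations of `ι (t, r 1)` into two
conjugates of `u`. -/
theorem count_unfused {G : Type*} [Group G] (c : Cfg G)
    (hS : ∀ q : Q, IsConj c.u (c.ι q) → q.2 = 1) (t : D3) (x : G) (hx : IsConj c.u x) :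
    ¬ IsConj c.u (x⁻¹ * c.ι (t, DihedralGroup.r 1)) := by
  intro hy
  have hu2 : c.u * c.u = 1 := by
    unfold Cfg.u
    rw [← map_mul]
    have : ((DihedralGroup.sr 0, 1) : Q) * (DihedralGroup.sr 0, 1) = 1 := by decide
    rw [this, map_one]
  have hsq : ∀ z : G, IsConj c.u z → z * z = 1 := by
    intro z hz
    obtain ⟨g, hg⟩ := isConj_iff.mp hz
    rw [← hg]
    calc g * c.u * g⁻¹ * (g * c.u * g⁻¹) = g * (c.u * c.u) * g⁻¹ := by group
      _ = 1 := by rw [hu2]; group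
  set d : G := c.ι (t, DihedralGroup.r 1) with hd
  have hx2 : x * x = 1 := hsq x hx
  have hxinv : x⁻¹ = x := inv_eq_of_mul_eq_one_left hx2
  have hy2 : x⁻¹ * d * (x⁻¹ * d) = 1 := hsq _ hy
  have hconj : x * d * x⁻¹ = c.ι ((t, DihedralGroup.r 1) : Q)⁻¹ := by
    rw [map_inv, ← hd]
    rw [hxinv] at hy2 ⊢
    -- x d x d = 1
    have : x * d * x = d⁻¹ := by
      apply eq_inv_of_mul_eq_one_left
      rw [← hy2]; group
    exact this
  obtain ⟨qx, hqx⟩ := c.ti x _ _ (COUNT0_key t) hconj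
  have h1 : qx.2 = 1 := hS qx (by rw [hqx]; exact hx)
  have h2 : (qx⁻¹ * (t, DihedralGroup.r 1)).2 = 1 := by
    apply hS
    rw [map_mul, map_inv, hqx]
    exact hy
  rw [Prod.snd_mul, Prod.snd_inv, h1, inv_one, one_mul] at h2
  have h3 : (DihedralGroup.r 1 : D3) ≠ 1 := by decide
  exact h3 h2

end Cfsg.Agent.S3805P
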