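import Mathlib
import Cfsg.Agent.Helper10.S4017Defs

/-! # S4017 piece A3INV: `P = C(tu)` is inverted by `t`, is a TI Sylow subgroup, `|N(P)| = 2|P|`. -/

set_option autoImplicit false

namespace Cfsg.Agent.S4017P

/-- An element of square one in a `p`-group, `p` odd, is trivial. -/
theorem A3INV.aux_odd {G : Type*} [Group G] {p : ℕ} (hp : p.Prime) (hp2 : p ≠ 2) {P : Subgroup G}
    (hP : IsPGroup p P) {y : G} (hy : y ∈ P) (h2 : y * y = 1) : y = 1 := by
  obtain ⟨k, hk⟩ := hP ⟨y, hy⟩
  have hk' : y ^ (p ^ k) = 1 := by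
    have := congrArg Subtype.val hk
    simpa using this
  have h1 : orderOf y ∣ p ^ k := orderOf_dvd_of_pow_eq_one hk'
  have h2' : orderOf y ∣ 2 := orderOf_dvd_of_pow_eq_one (by rw [pow_two]; exact h2)
  have hcop : Nat.Coprime (p ^ k) 2 := by
    apply Nat.Coprime.pow_left
    rw [Nat.coprime_primes hp Nat.prime_two]
    exact hp2
  have : orderOf y ∣ 1 := by
    have := Nat.dvd_gcd h1 h2'
    rwa [hcop] at this
  exact orderOf_eq_one_iff.1 (Nat.dvd_one.1 this)

/-- An element of square one acting without fixed points on an abelian subgroup inverts it. -/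
theorem A3INV.aux_inv {G : Type*} [Group G] (P : Subgroup G)
    (hab : ∀ x ∈ P, ∀ y ∈ P, x * y = y * x) (w : G) (hw : w * w = 1)
    (hnorm : ∀ x ∈ P, w * x * w⁻¹ ∈ P) (hfix : ∀ x ∈ P, x * w = w * x → x = 1) :
    ∀ x ∈ P, w * x * w⁻¹ = x⁻¹ := by
  intro x hx
  have hwinv : w⁻¹ = w := inv_eq_of_mul_eq_one_left hw
  have hy : x * (w * x * w⁻¹) ∈ P := P.mul_mem hx (hnorm x hx)
  have hfixy : x * (w * x * w⁻¹) * w = w * (x * (w * x * w⁻¹)) := by
    have hc := hab x hx (w * x * w⁻¹) (hnorm x hx)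
    rw [hwinv] at hc ⊢
    calc x * (w * x * w) * w = x * w * x * (w * w) := by group
      _ = x * w * x := by rw [hw, mul_one]
      _ = (w * w) * x * w * x := by rw [hw, one_mul]
      _ = w * ((w * x * w) * x) := by group
      _ = w * (x * (w * x * w)) := by rw [hc]
  have h1 := hfix _ hy hfixy
  exact (eq_inv_of_mul_eq_one_right h1)

theorem A3INV {G : Type*} [Group G] [Finite G] {p a : ℕ} {Q : Subgroup G} {z : G}
    (h : Cfg G p a Q z) (f : Facts G p a Q z)
    (hC : ∀ t : G, orderOf t = 2 → ∀ g : G, g * t = t * g → g * g = 1)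
    (hpg : ∀ t u : G, orderOf t = 2 → orderOf u = 2 → t * u ≠ u * t →
      IsPEl p (t * u) ∧ IsPGroup p (Subgroup.centralizer ({t * u} : Set G)) ∧
      Nat.card (Subgroup.centralizer ({t * u} : Set G)) = p ^ (Nat.card G).factorization p) :
    ∀ t u : G, orderOf t = 2 → orderOf u = 2 → t * u ≠ u * t →
      (∀ x ∈ Subgroup.centralizer ({t * u} : Set G), t * x * t⁻¹ = x⁻¹) ∧
      (∀ x ∈ Subgroup.centralizer ({t * u} : Set G), x ≠ 1 →
        Subgroup.centralizer ({x} : Set G) = Subgroup.centralizer ({t * u} : Set G)) ∧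
      (∀ w : G, orderOf w = 2 → ∀ x ∈ Subgroup.centralizer ({t * u} : Set G), x ≠ 1 →
        w * x * w⁻¹ = x⁻¹ → ∃ y ∈ Subgroup.centralizer ({t * u} : Set G), w = y * t) ∧
      Nat.card (Subgroup.normalizer ((Subgroup.centralizer ({t * u} : Set G) : Subgroup G) : Set G))
        = 2 * p ^ (Nat.card G).factorization p := by
  intro t u ht hu htu
  obtain ⟨hgp, hPp, hPcard⟩ := hpg t u ht hu htu
  set g := t * u with hg
  set P := Subgroup.centralizer ({g} : Set G) with hP
  have hp := h.hp
  have hp2 := h.hp2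
  have htt : t * t = 1 := by
    have : t ^ 2 = 1 := by rw [← ht]; exact pow_orderOf_eq_one t
    rwa [pow_two] at this
  have huu : u * u = 1 := by
    have : u ^ 2 = 1 := by rw [← hu]; exact pow_orderOf_eq_one u
    rwa [pow_two] at this
  have htinv : t⁻¹ = t := inv_eq_of_mul_eq_one_left htt
  have huinv : u⁻¹ = u := inv_eq_of_mul_eq_one_left huu
  have hPab : ∀ x ∈ P, ∀ y ∈ P, x * y = y * x := h.hab P hPp
  -- involutions have no fixed points on p-groups
  have hnofix : ∀ (R : Subgroup G), IsPGroup p R → ∀ w : G, orderOf w = 2 → ∀ x ∈ R, x * w = w * x →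
      x = 1 := by
    intro R hR w hw x hx hxw
    exact A3INV.aux_odd hp hp2 hR hx (hC w hw x hxw)
  have hgP : g ∈ P := by
    rw [hP, Subgroup.mem_centralizer_singleton_iff]
  have hg1 : g ≠ 1 := by
    intro h1
    apply htu
    have : u = t := by
      have : t * u = t * t := by rw [← hg, h1, htt]
      exact mul_left_cancel this
    show t * u = u * t
    rw [this]
  -- t inverts g hence normalises P
  have htg : t * g * t⁻¹ = g⁻¹ := by
    show t * (t * u) * t⁻¹ = (t * u)⁻¹
    rw [mul_inv_rev, htinv, huinv, ← mul_assoc, htt, one_mul]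
  -- a general fact: an involution inverting a nontrivial x with C(x) = R abelian p-group inverts R
  have hnormC : ∀ (w x : G), w * x * w⁻¹ = x⁻¹ → ∀ y ∈ Subgroup.centralizer ({x} : Set G),
      w * y * w⁻¹ ∈ Subgroup.centralizer ({x} : Set G) := by
    intro w x hwx y hy
    rw [Subgroup.mem_centralizer_singleton_iff] at hy ⊢
    -- (w y w⁻¹) x = x (w y w⁻¹)  ⇔ y (w⁻¹ x w) = (w⁻¹ x w) y ; w⁻¹ x w = x⁻¹
    have h1 : w⁻¹ * x * w = x⁻¹ := by
      calc w⁻¹ * x * w = (w⁻¹ * x⁻¹ * w)⁻¹ := by group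
        _ = (w⁻¹ * (w * x * w⁻¹) * w)⁻¹ := by rw [hwx]
        _ = x⁻¹ := by group
    have hyinv : y * x⁻¹ = x⁻¹ * y := by
      have : x⁻¹ * (y * x) * x⁻¹ = x⁻¹ * (x * y) * x⁻¹ := by rw [hy]
      have e1 : x⁻¹ * (y * x) * x⁻¹ = x⁻¹ * y := by group
      have e2 : x⁻¹ * (x * y) * x⁻¹ = y * x⁻¹ := by group
      rw [e1, e2] at this
      exact this.symm
    calc w * y * w⁻¹ * x = w * (y * (w⁻¹ * x * w)) * w⁻¹ := by group
      _ = w * (y * x⁻¹) * w⁻¹ := by rw [h1]
      _ = w * (x⁻¹ * y) * w⁻¹ := by rw [hyinv]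
      _ = w * ((w⁻¹ * x * w) * y) * w⁻¹ := by rw [h1]
      _ = x * (w * y * w⁻¹) := by group
  have hnormP : ∀ y ∈ P, t * y * t⁻¹ ∈ P := hnormC t g htg
  have hinvP : ∀ x ∈ P, t * x * t⁻¹ = x⁻¹ :=
    A3INV.aux_inv P hPab t htt hnormP (fun x hx hxt => hnofix P hPp t ht x hx hxt)
  have htP : t ∉ P := by
    intro htP
    have := A3INV.aux_odd hp hp2 hPp htP htt
    rw [this, orderOf_one] at ht
    omega
  -- (2)
  have hCx : ∀ x ∈ P, x ≠ 1 → Subgroup.centralizer ({x} : Set G) = P := by
    intro x hx hx1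
    have hinvx := hinvP x hx
    have htx2 : (t * x) * (t * x) = 1 := by
      have : t * x * t = x⁻¹ := by
        have h' := hinvx
        rw [htinv] at h'
        exact h'
      calc t * x * (t * x) = (t * x * t) * x := by group
        _ = 1 := by rw [this]; group
    have htx1 : t * x ≠ 1 := by
      intro h1
      apply htP
      have : t = x⁻¹ := eq_inv_of_mul_eq_one_left h1
      rw [this]
      exact P.inv_mem hx
    have hotx : orderOf (t * x) = 2 := by
      haveI : Fact (Nat.Prime 2) := ⟨Nat.prime_two⟩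
      exact orderOf_eq_prime (by rw [pow_two]; exact htx2) htx1
    have hnc : t * (t * x) ≠ (t * x) * t := by
      intro hcm
      have e1 : t * (t * x) = x := by rw [← mul_assoc, htt, one_mul]
      have e2 : t * x * t = x⁻¹ := by
        have := hinvx
        rw [htinv] at this
        exact this
      rw [e1, e2] at hcm
      have hxx : x * x = 1 := by
        have h' : x * x = x * x⁻¹ := congrArg (fun y => x * y) hcm
        rw [h', mul_inv_cancel]
      exact hx1 (A3INV.aux_odd hp hp2 hPp hx hxx)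
    obtain ⟨_, hCp, hCcard⟩ := hpg t (t * x) ht hotx hnc
    have e1 : t * (t * x) = x := by rw [← mul_assoc, htt, one_mul]
    rw [e1] at hCp hCcard
    have hle : P ≤ Subgroup.centralizer ({x} : Set G) := by
      intro y hy
      rw [Subgroup.mem_centralizer_singleton_iff]
      exact hPab y hy x hx
    exact (Subgroup.eq_of_le_of_card_ge hle (by rw [hCcard, hPcard])).symm
  -- (3)
  have h3 : ∀ w : G, orderOf w = 2 → ∀ x ∈ P, x ≠ 1 → w * x * w⁻¹ = x⁻¹ → ∃ y ∈ P, w = y * t := by
    intro w hw x hx hx1 hwx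
    have hww : w * w = 1 := by
      have : w ^ 2 = 1 := by rw [← hw]; exact pow_orderOf_eq_one w
      rwa [pow_two] at this
    have hnw : ∀ y ∈ P, w * y * w⁻¹ ∈ P := by
      have := hnormC w x hwx
      rw [hCx x hx hx1] at this
      exact this
    have hinvw : ∀ y ∈ P, w * y * w⁻¹ = y⁻¹ :=
      A3INV.aux_inv P hPab w hww hnw (fun y hy hyw => hnofix P hPp w hw y hy hyw)
    refine ⟨w * t, ?_, ?_⟩
    · -- w t centralises x, so lies in C(x) = P
      rw [← hCx x hx hx1, Subgroup.mem_centralizer_singleton_iff]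
      have e1 : t * x * t⁻¹ = x⁻¹ := hinvP x hx
      have e2 : w * x⁻¹ * w⁻¹ = x := by
        have := hinvw x⁻¹ (P.inv_mem hx)
        rw [inv_inv] at this
        exact this
      calc w * t * x = w * (t * x * t⁻¹) * t := by group
        _ = w * x⁻¹ * t := by rw [e1]
        _ = (w * x⁻¹ * w⁻¹) * w * t := by group
        _ = x * (w * t) := by rw [e2]; group
    · rw [mul_assoc, htt, mul_one]
  refine ⟨hinvP, hCx, h3, ?_⟩
  -- (4)
  set N := Subgroup.normalizer ((P : Subgroup G) : Set G) with hN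
  have hPN : P ≤ N := Subgroup.le_normalizer
  have htN : t ∈ N := by
    rw [hN, Subgroup.mem_normalizer_iff]
    intro y
    constructor
    · exact hnormP y
    · intro hy
      have := hnormP _ hy
      have e : t * (t * y * t⁻¹) * t⁻¹ = y := by
        rw [htinv]
        calc t * (t * y * t) * t = (t * t) * y * (t * t) := by group
          _ = y := by rw [htt, one_mul, mul_one]
      rwa [e] at this
  -- every n ∈ N lies in P ∪ P t
  have hNdesc : ∀ n ∈ N, n ∈ P ∨ ∃ y ∈ P, n = y * t := by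
    intro n hn
    -- n t n⁻¹ inverts g
    have hnn : ∀ y : G, y ∈ P ↔ n * y * n⁻¹ ∈ P := by
      rw [hN, Subgroup.mem_normalizer_iff] at hn
      exact hn
    have hw2 : orderOf (n * t * n⁻¹) = 2 := by
      rw [← ht]
      exact orderOf_injective (MulAut.conj n).toMonoidHom (MulAut.conj n).injective t
    have hwg : (n * t * n⁻¹) * g * (n * t * n⁻¹)⁻¹ = g⁻¹ := by
      have h1 : n⁻¹ * g * n ∈ P := by
        have := (hnn (n⁻¹ * g * n)).2
        apply this
        have e : n * (n⁻¹ * g * n) * n⁻¹ = g := by group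
        rw [e]; exact hgP
      have h2 := hinvP _ h1
      calc (n * t * n⁻¹) * g * (n * t * n⁻¹)⁻¹ = n * (t * (n⁻¹ * g * n) * t⁻¹) * n⁻¹ := by group
        _ = n * (n⁻¹ * g * n)⁻¹ * n⁻¹ := by rw [h2]
        _ = g⁻¹ := by group
    obtain ⟨y, hy, hyt⟩ := h3 _ hw2 g hgP hg1 hwg
    -- y = y0^2
    have hcop : p.Coprime 2 := by
      rw [Nat.coprime_primes hp Nat.prime_two]; exact hp2
    obtain ⟨y0, hy0⟩ := (hPp.powEquiv hcop).surjective ⟨y, hy⟩
    have hy0' : (y0 : G) ^ 2 = y := by
      have := congrArg Subtype.val hy0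
      simpa [IsPGroup.powEquiv] using this
    have hy0inv : t * (y0 : G)⁻¹ * t⁻¹ = (y0 : G) := by
      have := hinvP _ (P.inv_mem y0.2)
      rw [inv_inv] at this
      exact this
    have hconj : (y0 : G) * t * (y0 : G)⁻¹ = y * t := by
      calc (y0 : G) * t * (y0 : G)⁻¹ = (y0 : G) * (t * (y0 : G)⁻¹ * t⁻¹) * t := by group
        _ = (y0 : G) * (y0 : G) * t := by rw [hy0inv]
        _ = y * t := by rw [← hy0', pow_two]
    -- c := y0⁻¹ n commutes with t
    set c := (y0 : G)⁻¹ * n with hc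
    have hcN : c ∈ N := N.mul_mem (N.inv_mem (hPN y0.2)) hn
    have hct : c * t = t * c := by
      have : n * t * n⁻¹ = (y0 : G) * t * (y0 : G)⁻¹ := by rw [hyt, hconj]
      have h2 : (y0 : G)⁻¹ * (n * t * n⁻¹) * (y0 : G) = t := by rw [this]; group
      calc c * t = ((y0 : G)⁻¹ * (n * t * n⁻¹) * (y0 : G)) * ((y0 : G)⁻¹ * n) := by rw [hc]; group
        _ = t * c := by rw [h2]
    have hcc : c * c = 1 := hC t ht c hct
    have hn_eq : n = (y0 : G) * c := by rw [hc]; group
    by_cases hc1 : c = 1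
    · left
      rw [hn_eq, hc1, mul_one]
      exact y0.2
    · right
      have hoc : orderOf c = 2 := by
        haveI : Fact (Nat.Prime 2) := ⟨Nat.prime_two⟩
        exact orderOf_eq_prime (by rw [pow_two]; exact hcc) hc1
      have hcn : ∀ y ∈ P, c * y * c⁻¹ ∈ P := by
        intro y hy
        rw [hN, Subgroup.mem_normalizer_iff] at hcN
        exact (hcN y).1 hy
      have hcinvP : ∀ y ∈ P, c * y * c⁻¹ = y⁻¹ :=
        A3INV.aux_inv P hPab c hcc hcn (fun y hy hyc => hnofix P hPp c hoc y hy hyc)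
      obtain ⟨y2, hy2, hcy2⟩ := h3 c hoc g hgP hg1 (hcinvP g hgP)
      -- c commutes with t: y2 = 1
      have hy2t : t * y2 * t⁻¹ = y2 := by
        rw [hcy2] at hct
        -- y2 * t * t = t * (y2 * t)
        have : y2 * t * t = t * (y2 * t) := hct
        rw [mul_assoc, htt, mul_one] at this
        rw [htinv]
        calc t * y2 * t = t * (y2 * t) := by group
          _ = y2 := this.symm
      have hy2inv := hinvP y2 hy2
      rw [hy2t] at hy2inv
      have hy2sq : y2 * y2 = 1 := by
        have h' : y2 * y2 = y2 * y2⁻¹ := congrArg (fun y => y2 * y) hy2inv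
        rw [h', mul_inv_cancel]
      have hy21 : y2 = 1 := A3INV.aux_odd hp hp2 hPp hy2 hy2sq
      refine ⟨y0, y0.2, ?_⟩
      rw [hn_eq, hcy2, hy21, one_mul]
  -- index 2
  have hidx : (P.subgroupOf N).index = 2 := by
    rw [Subgroup.index_eq_two_iff]
    refine ⟨⟨t, htN⟩, ?_⟩
    intro b
    rcases hNdesc b.1 b.2 with hb | ⟨y, hy, hby⟩
    · right
      refine ⟨?_, ?_⟩
      · exact Subgroup.mem_subgroupOf.2 hb
      · intro hbt
        have hbt' : (b : G) * t ∈ P := Subgroup.mem_subgroupOf.1 hbt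
        apply htP
        have : t = (b : G)⁻¹ * ((b : G) * t) := by group
        rw [this]
        exact P.mul_mem (P.inv_mem hb) hbt'
    · left
      refine ⟨?_, ?_⟩
      · apply Subgroup.mem_subgroupOf.2
        show (b : G) * t ∈ P
        rw [hby, mul_assoc, htt, mul_one]
        exact hy
      · intro hb
        have hb' : (b : G) ∈ P := Subgroup.mem_subgroupOf.1 hb
        apply htP
        have : t = y⁻¹ * (b : G) := by rw [hby]; group
        rw [this]
        exact P.mul_mem (P.inv_mem hy) hb'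
  have hcardN := Subgroup.card_mul_index (P.subgroupOf N)
  rw [hidx, Nat.card_congr (Subgroup.subgroupOfEquivOfLe hPN).toEquiv, hPcard] at hcardN
  rw [← hcardN, mul_comm]

end Cfsg.Agent.S4017P
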