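import Mathlib
import Cfsg.Agent.Helper10.S4017Defs

/-! # S4017 piece NONCOMM: two non-commuting involutions exist. -/

set_option autoImplicit false

namespace Cfsg.Agent.S4017P

theorem NONCOMM {G : Type*} [Group G] [Finite G] {p a : ℕ} {Q : Subgroup G} {z : G}
    (h : Cfg G p a Q z) (f : Facts G p a Q z) :
    ∃ t u : G, orderOf t = 2 ∧ orderOf u = 2 ∧ t * u ≠ u * t := by
  by_contra hcon
  push Not at hcon
  -- all involutions commute
  set I : Set G := {x : G | orderOf x = 2} with hI
  set N : Subgroup G := Subgroup.closure I with hN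
  have hcomm : ∀ x ∈ N, ∀ y ∈ N, x * y = y * x := by
    have h1 : N ≤ Subgroup.centralizer I := by
      rw [hN, Subgroup.closure_le]
      intro x hx
      rw [SetLike.mem_coe, Subgroup.mem_centralizer_iff]
      intro s hs
      exact hcon s x hs hx
    have h2 : N ≤ Subgroup.centralizer (N : Set G) := by
      rw [hN, Subgroup.closure_le]
      intro x hx
      rw [SetLike.mem_coe, Subgroup.mem_centralizer_iff]
      intro y hy
      have := h1 hy
      rw [Subgroup.mem_centralizer_iff] at this
      exact (this x hx).symm
    intro x hx y hy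
    have := h2 hx
    rw [Subgroup.mem_centralizer_iff] at this
    exact (this y hy).symm
  have hsq : ∀ x ∈ N, x * x = 1 := by
    intro x hx
    induction hx using Subgroup.closure_induction with
    | mem x hx =>
      have : x ^ 2 = 1 := by
        have h2 : orderOf x = 2 := hx
        rw [← h2]; exact pow_orderOf_eq_one x
      rwa [pow_two] at this
    | one => simp
    | mul x y hx hy ihx ihy =>
      have hxy := hcomm x hx y hy
      calc x * y * (x * y) = x * (y * x) * y := by group
        _ = x * (x * y) * y := by rw [hxy]
        _ = (x * x) * (y * y) := by group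
        _ = 1 := by rw [ihx, ihy, one_mul]
    | inv x hx ihx =>
      have : x⁻¹ = x := inv_eq_of_mul_eq_one_left ihx
      rw [this, ihx]
  have hnormal : N.Normal := by
    constructor
    intro n hn g
    have hle : N.map (MulAut.conj g).toMonoidHom ≤ N := by
      rw [hN, MonoidHom.map_closure, Subgroup.closure_le]
      rintro _ ⟨x, hx, rfl⟩
      apply Subgroup.subset_closure
      show orderOf (MulAut.conj g x) = 2
      have hx2 : orderOf x = 2 := hx
      rw [← hx2]
      exact orderOf_injective (MulAut.conj g).toMonoidHom (MulAut.conj g).injective x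
    exact hle ⟨n, hn, rfl⟩
  have hpg : IsPGroup 2 N := by
    intro x
    refine ⟨1, ?_⟩
    rw [pow_one, pow_two]
    exact Subtype.ext (hsq x.1 x.2)
  have hbot := h.hO2 N hnormal hpg
  -- an involution in Q
  have hQcard : 1 < Nat.card Q := by
    rw [h.hQ, h.ha]
    have := h.hp.one_lt
    omega
  have : Nontrivial Q := (Finite.one_lt_card_iff_nontrivial).1 hQcard
  obtain ⟨x, hx⟩ := exists_ne (1 : Q)
  have hx1 : (x : G) ≠ 1 := fun hh => hx (Subtype.ext hh)
  have hx2 : orderOf (x : G) = 2 := by
    have h2 : (x : G) ^ 2 = 1 := by rw [pow_two]; exact f.elem x x.2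
    exact orderOf_eq_prime h2 hx1
  have hxN : (x : G) ∈ N := Subgroup.subset_closure hx2
  rw [hbot] at hxN
  exact hx1 hxN

end Cfsg.Agent.S4017P
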