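import Mathlib
import Cfsg.Agent.Helper5.FrobModE

/-!
# S4414 (board `s4414pieces`): definitions

Setting: `σ : Representation K G W` (in the application `K` = algebraic closure of `ZMod 2`, `W = K ⊗ E`,
`σ = baseChangeRep ρ K`).  We reuse `fixOf`, `Inv`, `baseChangeRep` of `Cfsg.Agent.Helper5.FrobMod`.

* `eigS σ A χ`   : joint eigenspace of the subgroup `A` for the weight `χ : ↥A → K`
* `wtSmul A g χ` : the weight `a ↦ χ (g⁻¹ a g)` (`A` normal); `wtAct A : MulAction G (↥A → K)`
* `WQ Wf Q`      : `⨆ i ∈ Q, Wf i`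
* `orbS T i`     : the `T`-orbit of `i` as a set (`T` a subgroup of the acting group)
* `Graded σ Wf`  : `Wf` is an independent family with supremum `⊤`, permuted by `G` via the action on the index type
-/

set_option autoImplicit false
set_option linter.unusedSectionVars false

namespace Cfsg.Agent.S4414P

open Module Cfsg.Agent.Helper5.FrobMod

variable {K : Type*} [Field K] {W : Type*} [AddCommGroup W] [Module K W]
variable {G : Type*} [Group G] (σ : Representation K G W)

/-- joint eigenspace of the subgroup `A` for the weight `χ` -/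
def eigS (A : Subgroup G) (χ : ↥A → K) : Submodule K W where
  carrier := {w | ∀ a : ↥A, σ (a : G) w = χ a • w}
  add_mem' := fun {x y} hx hy a => by rw [map_add, hx a, hy a, smul_add]
  zero_mem' := fun a => by rw [map_zero, smul_zero]
  smul_mem' := fun c x hx a => by rw [map_smul, hx a, smul_comm]

theorem mem_eigS {A : Subgroup G} {χ : ↥A → K} {w : W} :
    w ∈ eigS σ A χ ↔ ∀ a : ↥A, σ (a : G) w = χ a • w := Iff.rfl

/-- the conjugate weight `a ↦ χ (g⁻¹ a g)` -/
def wtSmul (A : Subgroup G) [A.Normal] (g : G) (χ : ↥A → K) : ↥A → K :=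
  fun a => χ (MulAut.conjNormal g⁻¹ a)

theorem wtSmul_apply (A : Subgroup G) [A.Normal] (g : G) (χ : ↥A → K) (a : ↥A) :
    wtSmul A g χ a = χ (MulAut.conjNormal g⁻¹ a) := rfl

theorem coe_conjNormal_inv (A : Subgroup G) [A.Normal] (g : G) (a : ↥A) :
    ((MulAut.conjNormal g⁻¹ a : ↥A) : G) = g⁻¹ * (a : G) * g := by
  rw [MulAut.conjNormal_apply, inv_inv]

/-- the action of `G` on the weights of a normal subgroup -/
@[reducible] def wtAct (A : Subgroup G) [A.Normal] : MulAction G (↥A → K) where
  smul g χ := wtSmul A g χ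
  one_smul χ := by
    funext a
    show χ (MulAut.conjNormal (1 : G)⁻¹ a) = χ a
    rw [inv_one, map_one]; rfl
  mul_smul g h χ := by
    funext a
    show χ (MulAut.conjNormal (g * h)⁻¹ a) = χ (MulAut.conjNormal h⁻¹ (MulAut.conjNormal g⁻¹ a))
    rw [mul_inv_rev, map_mul]; rfl

/-- `⨆ i ∈ Q, Wf i` -/
def WQ {I : Type*} (Wf : I → Submodule K W) (Q : Set I) : Submodule K W := ⨆ i ∈ Q, Wf i

/-- the orbit of `i` under the subgroup `T` -/
def orbS {I : Type*} [MulAction G I] (T : Subgroup G) (i : I) : Set I := {j | ∃ t ∈ T, t • i = j}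

theorem mem_orbS {I : Type*} [MulAction G I] {T : Subgroup G} {i j : I} :
    j ∈ orbS T i ↔ ∃ t ∈ T, t • i = j := Iff.rfl

/-- an independent spanning family of subspaces permuted by `G` -/
structure Graded {I : Type*} [MulAction G I] (Wf : I → Submodule K W) : Prop where
  ind : iSupIndep Wf
  top : ⨆ i, Wf i = ⊤
  map : ∀ (g : G) (i : I), (Wf i).map (σ g) ≤ Wf (g • i)

end Cfsg.Agent.S4414P
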