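import Mathlib
import Cfsg.Agent.Helper12.LSUDefs
import Cfsg.Agent.Helper12.LSpDefs
import Cfsg.Agent.Helper20.LSUDUAL

set_option autoImplicit false

/-! S2347 piece SDUAL: orthogonality for the characters `H ↦ ψ (tr (H Y))` of the symmetric
matrices (`σ = id` version of `Cfsg.Agent.Helper20.LSUDUAL`). -/

namespace Cfsg.Agent.Helper12.LSp

open Matrix Cfsg Cfsg.Agent.Helper12.LSU

variable {F : Type*} [Field F]

/-- a symmetric matrix pairing to `1` with the nonzero symmetric matrix `Y` -/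
theorem sdual_exists_trace_one (h2 : (2 : F) ≠ 0) (m : ℕ)
    (Y : Matrix (Fin m) (Fin m) F) (hY : Y ∈ Herm (RingHom.id F) m) (hY0 : Y ≠ 0) :
    ∃ H : Matrix (Fin m) (Fin m) F, H ∈ Herm (RingHom.id F) m ∧ Matrix.trace (H * Y) = 1 := by
  classical
  have hY' : ∀ a b, Y a b = Y b a := by
    intro a b
    have h1 : ct (RingHom.id F) Y = Y := hY
    have h3 := congrFun (congrFun h1 b) a
    rw [ct_apply] at h3
    exact h3
  obtain ⟨i, j, hij⟩ : ∃ i j, Y i j ≠ 0 := by
    by_contra hcon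
    push Not at hcon
    exact hY0 (by ext a b; exact hcon a b)
  by_cases hdiag : Y i i ≠ 0
  · refine ⟨Matrix.single i i (Y i i)⁻¹, ?_, ?_⟩
    · rw [mem_Herm, dual_ct_single]
      rfl
    · rw [Matrix.trace_single_mul, smul_eq_mul, inv_mul_cancel₀ hdiag]
  · have hji : Y j i ≠ 0 := by
      rw [← hY' i j]
      exact hij
    set c : F := (2 * Y j i)⁻¹ with hc
    refine ⟨Matrix.single i j c + Matrix.single j i c, ?_, ?_⟩
    · rw [mem_Herm, dual_ct_add, dual_ct_single, dual_ct_single, add_comm]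
      rfl
    · rw [add_mul, Matrix.trace_add, Matrix.trace_single_mul, Matrix.trace_single_mul, smul_eq_mul,
        smul_eq_mul, hY' i j, ← two_mul, ← mul_assoc, mul_comm 2 c, mul_assoc, hc,
        inv_mul_cancel₀ (mul_ne_zero h2 hji)]

theorem sum_addChar_symm [Fintype F] (h2 : (2 : F) ≠ 0) (m : ℕ) [Fintype ↥(Herm (RingHom.id F) m)]
    (ψ : AddChar F ℂ) (hψ : ψ 1 ≠ 1) (Y : Matrix (Fin m) (Fin m) F)
    (hY : Y ∈ Herm (RingHom.id F) m) (hY0 : Y ≠ 0) :
    ∑ H : ↥(Herm (RingHom.id F) m), ψ (Matrix.trace ((H : Matrix (Fin m) (Fin m) F) * Y)) = 0 := by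
  classical
  let f : ↥(Herm (RingHom.id F) m) →+ F :=
    { toFun := fun H => Matrix.trace ((H : Matrix (Fin m) (Fin m) F) * Y)
      map_zero' := by simp
      map_add' := by
        intro a b
        simp [add_mul, Matrix.trace_add] }
  let χ : AddChar ↥(Herm (RingHom.id F) m) ℂ := ψ.compAddMonoidHom f
  have hχ : χ ≠ 1 := by
    intro h1
    obtain ⟨H, hH, htr⟩ := sdual_exists_trace_one h2 m Y hY hY0
    have h2' : χ ⟨H, hH⟩ = 1 := by rw [h1]; rfl
    have h3 : χ ⟨H, hH⟩ = ψ 1 := by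
      show ψ (Matrix.trace (H * Y)) = ψ 1
      rw [htr]
    exact hψ (h3.symm.trans h2')
  have := AddChar.sum_eq_zero_of_ne_one hχ
  exact this

end Cfsg.Agent.Helper12.LSp
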