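import Mathlib
import Cfsg.Agent.Helper2.SpForm

set_option autoImplicit false

/-! S2347 piece WBURN: Burnside for `Sp_2n(q)` on `F^{2n}`: the fixed points sum to `2 |Sp|`. -/

namespace Cfsg.Agent.Helper12.LSp

open Matrix Cfsg Cfsg.Agent.Helper2.Sp

variable {n : ℕ} {F : Type*} [Field F]

/-- the natural action of the symplectic group on vectors -/
@[reducible] def wburn_act (n : ℕ) (F : Type*) [Field F] :
    MulAction (symplecticGroup (Fin n) F) (Fin n ⊕ Fin n → F) where
  smul g v := (g : Matrix (Fin n ⊕ Fin n) (Fin n ⊕ Fin n) F) *ᵥ v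
  one_smul v := by
    show ((1 : symplecticGroup (Fin n) F) : Matrix (Fin n ⊕ Fin n) (Fin n ⊕ Fin n) F) *ᵥ v = v
    rw [show ((1 : symplecticGroup (Fin n) F) : Matrix (Fin n ⊕ Fin n) (Fin n ⊕ Fin n) F) = 1
      from rfl, Matrix.one_mulVec]
  mul_smul g h v := by
    show ((g * h : symplecticGroup (Fin n) F) : Matrix (Fin n ⊕ Fin n) (Fin n ⊕ Fin n) F) *ᵥ v
      = (g : Matrix (Fin n ⊕ Fin n) (Fin n ⊕ Fin n) F) *ᵥ
        ((h : Matrix (Fin n ⊕ Fin n) (Fin n ⊕ Fin n) F) *ᵥ v)
    rw [show ((g * h : symplecticGroup (Fin n) F) : Matrix (Fin n ⊕ Fin n) (Fin n ⊕ Fin n) F)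
      = (g : Matrix (Fin n ⊕ Fin n) (Fin n ⊕ Fin n) F) * h from rfl, Matrix.mulVec_mulVec]

theorem wburn_smul_def (g : symplecticGroup (Fin n) F) (v : Fin n ⊕ Fin n → F) :
    letI := wburn_act n F
    g • v = (g : Matrix (Fin n ⊕ Fin n) (Fin n ⊕ Fin n) F) *ᵥ v := rfl

theorem wburn_smul_eq_zero_iff (g : symplecticGroup (Fin n) F) (v : Fin n ⊕ Fin n → F) :
    letI := wburn_act n F
    g • v = 0 ↔ v = 0 := by
  letI := wburn_act n F
  constructor
  · intro h
    have := congrArg (fun w => g⁻¹ • w) h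
    simp only [inv_smul_smul] at this
    rw [this, wburn_smul_def, Matrix.mulVec_zero]
  · intro h
    rw [h, wburn_smul_def, Matrix.mulVec_zero]

theorem wburn_card_orbits [Fintype F] (hn : 1 ≤ n) :
    letI := wburn_act n F
    Nat.card (Quotient (MulAction.orbitRel (symplecticGroup (Fin n) F) (Fin n ⊕ Fin n → F))) = 2 := by
  classical
  letI := wburn_act n F
  set Ω := Quotient (MulAction.orbitRel (symplecticGroup (Fin n) F) (Fin n ⊕ Fin n → F))
  let f : Ω → Bool := Quotient.lift (fun v : Fin n ⊕ Fin n → F => decide (v = 0)) (by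
    intro v w hvw
    obtain ⟨g, hg⟩ := hvw
    simp only [decide_eq_decide]
    rw [← hg]
    exact wburn_smul_eq_zero_iff g w)
  have hbij : Function.Bijective f := by
    constructor
    · intro a b
      induction a using Quotient.inductionOn with
      | h v =>
      induction b using Quotient.inductionOn with
      | h w =>
      intro hfw
      have h1 : (v = 0) ↔ (w = 0) := by
        have : decide (v = 0) = decide (w = 0) := hfw
        simpa only [decide_eq_decide] using this
      apply Quotient.sound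
      by_cases hv : v = 0
      · have hw : w = 0 := h1.mp hv
        rw [hv, hw]
      · have hw : w ≠ 0 := fun h => hv (h1.mpr h)
        obtain ⟨g, hg⟩ := exists_symplectic_mulVec_eq w v hw hv
        exact ⟨g, hg⟩
    · intro b
      cases b
      · refine ⟨Quotient.mk _ (Pi.single (Sum.inl ⟨0, hn⟩) 1), ?_⟩
        show decide (_ = _) = false
        rw [decide_eq_false_iff_not]
        intro h0
        have := congrFun h0 (Sum.inl ⟨0, hn⟩)
        simp at this
      · refine ⟨Quotient.mk _ 0, ?_⟩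
        show decide (_ = _) = true
        simp
  rw [Nat.card_eq_of_bijective f hbij]
  simp

theorem sum_card_fix [Fintype F] [Fintype ↥(symplecticGroup (Fin n) F)] (hn : 1 ≤ n) :
    ∑ g : symplecticGroup (Fin n) F, Nat.card {v : Fin n ⊕ Fin n → F //
        (g : Matrix (Fin n ⊕ Fin n) (Fin n ⊕ Fin n) F) *ᵥ v = v} =
      2 * Fintype.card ↥(symplecticGroup (Fin n) F) := by
  classical
  letI := wburn_act n F
  have hB := MulAction.sum_card_fixedBy_eq_card_orbits_mul_card_group
    (symplecticGroup (Fin n) F) (Fin n ⊕ Fin n → F)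
  have h2 := wburn_card_orbits (F := F) hn
  rw [Nat.card_eq_fintype_card] at h2
  rw [h2] at hB
  rw [← hB]
  apply Finset.sum_congr rfl
  intro g _
  rw [← Nat.card_eq_fintype_card]
  rfl

end Cfsg.Agent.Helper12.LSp
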