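import Mathlib
import Cfsg.Agent.Helper2.SpSimple

set_option autoImplicit false

/-! S2347 piece SNORMAL: a normal subgroup of `Sp_2n(q)` with a noncentral element is everything. -/

namespace Cfsg.Agent.Helper12.LSp

open Matrix Cfsg Cfsg.Agent.Helper2.Sp

variable {F : Type*} [Field F]

theorem sp_normal_eq_top [Fintype F] (n : ℕ) (hn : 2 ≤ n) (h3 : 3 ≤ Fintype.card F)
    (N : Subgroup (symplecticGroup (Fin n) F)) (hN : N.Normal) (g : symplecticGroup (Fin n) F)
    (hg : g ∈ N) (hgc : g ∉ Subgroup.center (symplecticGroup (Fin n) F)) : N = ⊤ := by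
  have hperf : commutator (symplecticGroup (Fin n) F) = ⊤ := by
    apply commutator_symplectic_eq_top
    by_cases h : 3 ≤ n
    · exact Or.inl h
    · have : n = 2 := by omega
      exact Or.inr (Or.inl ⟨this, h3⟩)
  have : ∃ v : Fin n ⊕ Fin n → F, v ≠ 0 ∧
      ∀ a : F, (g : Matrix (Fin n ⊕ Fin n) (Fin n ⊕ Fin n) F) *ᵥ v ≠ a • v := by
    by_contra hcon
    push Not at hcon
    exact hgc (mem_center_of_fix hcon)
  obtain ⟨v₀, hv₀, hmove⟩ := this
  have := commutator_le_of_moves hg hv₀ hmove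
  rw [hperf] at this
  exact top_le_iff.mp this

end Cfsg.Agent.Helper12.LSp
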