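import Mathlib
import Cfsg.Agent.S1080
import Cfsg.Agent.Helper11.TwF4TorD

set_option autoImplicit false
set_option linter.unusedSectionVars false
set_option linter.unusedVariables false
set_option linter.unusedSimpArgs false

/-!
Field automorphisms of `²F₄(q)`: the entrywise map on matrices, its values on the generators,
on the Weyl representatives and on the torus, and the induced automorphism of `twistedF4 K θ`.
-/

namespace Cfsg.Agent.Helper6.F4Phi

open Cfsg.Lie Cfsg.Agent.Helper6 Cfsg.Agent.Helper11.TwF4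

variable {K : Type*} [Field K]

/-- the automorphism of `GL` induced by a field automorphism -/
noncomputable def gm (f : K ≃+* K) : GL chevF4.Idx K ≃* GL chevF4.Idx K :=
  Cfsg.Agent.S1080.glMap chevF4 f

theorem gm_val (f : K ≃+* K) (g : GL chevF4.Idx K) :
    ((gm f g : GL chevF4.Idx K) : Matrix chevF4.Idx chevF4.Idx K) =
      (g : Matrix chevF4.Idx chevF4.Idx K).map f := rfl

theorem gm_xU (f : K ≃+* K) (r : ℕ) (t : K) : gm f (xU hBF4 r t) = xU hBF4 r (f t) := by
  apply Units.ext
  rw [gm_val, xU_val, xU_val, Cfsg.Agent.S1080.x_map]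

theorem gm_wordU (f : K ≃+* K) (w : List (ℕ × K)) :
    gm f (wordU hBF4 w) = wordU hBF4 (w.map fun p => (p.1, f p.2)) := by
  unfold wordU
  induction w with
  | nil => simp
  | cons p w ih =>
    simp only [List.map_cons, List.prod_cons, map_mul, gm_xU, ih]

theorem gm_pairGen (f : K ≃+* K) (θ r rb : ℕ) (t : K) :
    gm f (pairGen θ r rb t) = pairGen θ r rb (f t) := by
  unfold pairGen
  simp only [map_mul, gm_xU, map_pow]

theorem gm_W4 (f : K ≃+* K) (a b ab aab : ℕ) (t₁ t₂ t₃ t₄ : K) :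
    gm f (W4 a b ab aab t₁ t₂ t₃ t₄) = W4 a b ab aab (f t₁) (f t₂) (f t₃) (f t₄) := by
  unfold W4
  simp only [map_mul, gm_xU]

theorem gm_b2Gen (f : K ≃+* K) (θ a b ab aab : ℕ) (t u : K) :
    gm f (b2Gen θ a b ab aab t u) = b2Gen θ a b ab aab (f t) (f u) := by
  unfold b2Gen
  rw [gm_W4]
  simp only [map_pow, map_add, map_mul]

theorem gm_symm (f : K ≃+* K) (g : GL chevF4.Idx K) : gm f.symm (gm f g) = g := by
  apply Units.ext
  rw [gm_val, gm_val, Matrix.map_map]
  ext i j
  simp

theorem gm_symm' (f : K ≃+* K) (g : GL chevF4.Idx K) : gm f (gm f.symm g) = g := by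
  have := gm_symm f.symm g
  rwa [RingEquiv.symm_symm] at this

theorem gm_one (g : GL chevF4.Idx K) : gm (RingEquiv.refl K) g = g := by
  apply Units.ext
  rw [gm_val]
  ext i j
  simp

theorem gm_trans (f f' : K ≃+* K) (g : GL chevF4.Idx K) :
    gm (f.trans f') g = gm f' (gm f g) := by
  apply Units.ext
  rw [gm_val, gm_val, gm_val, Matrix.map_map]
  ext i j
  simp

theorem gm_nU (f : K ≃+* K) (r : ℕ) :
    gm f (nU hBF4 r (one_ne_zero (α := K))) = nU hBF4 r (one_ne_zero (α := K)) := by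
  apply Units.ext
  rw [gm_val, nU_val]
  unfold ChevalleyDatum.nMat ChevalleyDatum.nWord
  have h := congrArg (fun g : GL chevF4.Idx K => (g : Matrix chevF4.Idx chevF4.Idx K))
    (gm_wordU f [(r, (1 : K)), (chevF4.neg r, -(1 : K)⁻¹), (r, 1)])
  simp only [gm_val, wordU_val] at h
  rw [h]
  simp

theorem gm_nWr (f : K ≃+* K) (L : List ℕ) : gm f (nWr hBF4 K L) = nWr hBF4 K L := by
  induction L with
  | nil => simp [nWr]
  | cons j L ih =>
    simp only [nWr, map_mul, ih, gm_nU]

theorem gm_hS (f : K ≃+* K) (i : ℕ) (t : K) : gm f (hS i t) = hS i (f t) := by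
  unfold hS
  rw [gm_wordU]
  congr 1
  unfold ChevalleyDatum.hWord ChevalleyDatum.nWord
  simp

theorem gm_tor4 (f : K ≃+* K) (a b c d : Kˣ) :
    gm f (tor4 a b c d) = tor4 (Units.map (f : K →* K) a) (Units.map (f : K →* K) b)
      (Units.map (f : K →* K) c) (Units.map (f : K →* K) d) := by
  rw [tor4_split, tor4_split (Units.map (f : K →* K) a)]
  simp only [map_mul, tor4_single0, tor4_single1, tor4_single2, tor4_single3, gm_hS]
  rfl

theorem gm_hJ0 (f : K ≃+* K) (θ : ℕ) (s : Kˣ) :
    gm f (hJ0 θ s) = hJ0 θ (Units.map (f : K →* K) s) := by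
  unfold hJ0
  rw [gm_tor4]
  simp only [map_pow, map_one]

theorem gm_hJ1 (f : K ≃+* K) (θ : ℕ) (s : Kˣ) :
    gm f (hJ1 θ s) = hJ1 θ (Units.map (f : K →* K) s) := by
  unfold hJ1
  rw [gm_tor4]
  simp only [map_pow, map_one]

theorem gm_mem (f : K ≃+* K) {θ : ℕ} {g : GL chevF4.Idx K} (hg : g ∈ twistedF4 K θ) :
    gm f g ∈ twistedF4 K θ := by
  have h : twistedF4 K θ ≤ (twistedF4 K θ).comap (gm f).toMonoidHom := by
    apply twistedF4_le
    · intro t
      rw [Subgroup.mem_comap]
      show gm f (pairGen θ f4p1 f4p4 t) ∈ _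
      rw [gm_pairGen]; exact pairGen_pos_mem θ _
    · intro t
      rw [Subgroup.mem_comap]
      show gm f (pairGen θ f4m1 f4m4 t) ∈ _
      rw [gm_pairGen]; exact pairGen_neg_mem θ _
    · intro t u
      rw [Subgroup.mem_comap]
      show gm f (b2Gen θ f4a f4b f4ab f4aab t u) ∈ _
      rw [gm_b2Gen]; exact b2Gen_pos_mem θ _ _
    · intro t u
      rw [Subgroup.mem_comap]
      show gm f (b2Gen θ f4ma f4mb f4mab f4maab t u) ∈ _
      rw [gm_b2Gen]; exact b2Gen_neg_mem θ _ _
  exact h hg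

/-- the field automorphism, as an automorphism of `²F₄(q)` -/
noncomputable def phiAut (θ : ℕ) (f : K ≃+* K) : MulAut ↥(twistedF4 K θ) where
  toFun g := ⟨gm f g.1, gm_mem f g.2⟩
  invFun g := ⟨gm f.symm g.1, gm_mem f.symm g.2⟩
  left_inv g := Subtype.ext (gm_symm f g.1)
  right_inv g := Subtype.ext (gm_symm' f g.1)
  map_mul' a b := Subtype.ext (by simp only [Subgroup.coe_mul, map_mul])

theorem phiAut_coe (θ : ℕ) (f : K ≃+* K) (g : ↥(twistedF4 K θ)) :
    ((phiAut θ f g : ↥(twistedF4 K θ)) : GL chevF4.Idx K) = gm f g.1 := rfl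

theorem phiAut_refl (θ : ℕ) : phiAut θ (RingEquiv.refl K) = 1 := by
  ext g
  rw [phiAut_coe, gm_one]
  rfl

theorem phiAut_trans (θ : ℕ) (f f' : K ≃+* K) :
    phiAut θ (f.trans f') = phiAut θ f' * phiAut θ f := by
  ext g
  rw [MulAut.mul_apply, phiAut_coe, phiAut_coe, phiAut_coe, gm_trans]

theorem phiAut_symm (θ : ℕ) (f : K ≃+* K) : phiAut θ f.symm = (phiAut θ f)⁻¹ := by
  rw [eq_inv_iff_mul_eq_one, ← phiAut_trans]
  have : f.trans f.symm = RingEquiv.refl K := by ext; simp
  rw [this, phiAut_refl]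

theorem gm_mem_closure (f : K ≃+* K) {S : Set (GL chevF4.Idx K)} (hS : ∀ g ∈ S, gm f g ∈ S)
    {g : GL chevF4.Idx K} (hg : g ∈ Subgroup.closure S) : gm f g ∈ Subgroup.closure S := by
  have h : Subgroup.closure S ≤ (Subgroup.closure S).comap (gm f).toMonoidHom := by
    rw [Subgroup.closure_le]
    intro x hx
    exact Subgroup.subset_closure (hS x hx)
  exact h hg

theorem gm_mem_posUnipotent (f : K ≃+* K) {g : GL chevF4.Idx K}
    (hg : g ∈ chevF4.posUnipotent K) : gm f g ∈ chevF4.posUnipotent K := by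
  apply gm_mem_closure f _ hg
  rintro x ⟨r, t, hr, hx⟩
  exact ⟨r, f t, hr, by rw [gm_val, hx, Cfsg.Agent.S1080.x_map]⟩

theorem gm_mem_negUnipotent (f : K ≃+* K) {g : GL chevF4.Idx K}
    (hg : g ∈ chevF4.negUnipotent K) : gm f g ∈ chevF4.negUnipotent K := by
  apply gm_mem_closure f _ hg
  rintro x ⟨r, t, hr, hx⟩
  exact ⟨r, f t, hr, by rw [gm_val, hx, Cfsg.Agent.S1080.x_map]⟩

theorem hMat_map (f : K ≃+* K) (r : ℕ) (t : K) :
    (chevF4.hMat K r t).map f = chevF4.hMat K r (f t) := by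
  have h := congrArg (fun g : GL chevF4.Idx K => (g : Matrix chevF4.Idx chevF4.Idx K))
    (gm_wordU f (chevF4.hWord r t))
  simp only [gm_val, wordU_val] at h
  unfold ChevalleyDatum.hMat
  rw [h]
  congr 1
  unfold ChevalleyDatum.hWord ChevalleyDatum.nWord
  simp

theorem nMat_one_map (f : K ≃+* K) (r : ℕ) :
    (chevF4.nMat K r 1).map f = chevF4.nMat K r 1 := by
  have h := congrArg (fun g : GL chevF4.Idx K => (g : Matrix chevF4.Idx chevF4.Idx K))
    (gm_wordU f (chevF4.nWord r (1 : K)))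
  simp only [gm_val, wordU_val] at h
  unfold ChevalleyDatum.nMat
  rw [h]
  congr 1
  unfold ChevalleyDatum.nWord
  simp

theorem gm_mem_diagonal (f : K ≃+* K) {g : GL chevF4.Idx K}
    (hg : g ∈ chevF4.diagonalSubgroup K) : gm f g ∈ chevF4.diagonalSubgroup K := by
  apply gm_mem_closure f _ hg
  rintro x ⟨r, t, hr, ht, hx⟩
  exact ⟨r, f t, hr, by simpa using ht, by rw [gm_val, hx, hMat_map]⟩

theorem gm_mem_monomial (f : K ≃+* K) {g : GL chevF4.Idx K}
    (hg : g ∈ chevF4.monomialSubgroup K) : gm f g ∈ chevF4.monomialSubgroup K := by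
  have h : chevF4.monomialSubgroup K ≤ (chevF4.monomialSubgroup K).comap (gm f).toMonoidHom := by
    unfold ChevalleyDatum.monomialSubgroup
    apply sup_le
    · intro x hx
      exact Subgroup.mem_sup_left (gm_mem_diagonal f hx)
    · rw [Subgroup.closure_le]
      rintro x ⟨r, hr, hx⟩
      apply Subgroup.mem_sup_right
      apply Subgroup.subset_closure
      exact ⟨r, hr, by
        show ((gm f x : GL chevF4.Idx K) : Matrix chevF4.Idx chevF4.Idx K) = _
        rw [gm_val, hx, nMat_one_map]⟩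
  exact h hg

theorem gm_mem_borel (f : K ≃+* K) {g : GL chevF4.Idx K}
    (hg : g ∈ chevF4.borelSubgroup K) : gm f g ∈ chevF4.borelSubgroup K := by
  have h : chevF4.borelSubgroup K ≤ (chevF4.borelSubgroup K).comap (gm f).toMonoidHom := by
    unfold ChevalleyDatum.borelSubgroup
    apply sup_le
    · intro x hx
      exact Subgroup.mem_sup_left (gm_mem_posUnipotent f hx)
    · intro x hx
      exact Subgroup.mem_sup_right (gm_mem_diagonal f hx)
  exact h hg

/-- the number of automorphisms of the field with `2^(2m+1)` elements -/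
theorem card_ringEquiv [Fintype K] {m : ℕ} (hK : Fintype.card K = 2 ^ (2 * m + 1)) :
    Nat.card (K ≃+* K) = 2 * m + 1 := by
  have : Fact (Nat.Prime 2) := ⟨Nat.prime_two⟩
  have hch : CharP K 2 := charP_of_card_eq_prime_pow hK
  let _ := ZMod.algebra K 2
  have e : (K ≃+* K) ≃ (K →ₐ[ZMod 2] K) :=
    { toFun := fun φ => { φ.toRingHom with
        commutes' := fun r => by
          have := RingHom.ext_zmod (φ.toRingHom.comp (algebraMap (ZMod 2) K)) (algebraMap (ZMod 2) K)
          exact congrFun (congrArg DFunLike.coe this) r }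
      invFun := fun f => RingEquiv.ofBijective f.toRingHom
        ⟨f.toRingHom.injective, Finite.surjective_of_injective f.toRingHom.injective⟩
      left_inv := fun φ => by ext; rfl
      right_inv := fun f => by ext; rfl }
  rw [Nat.card_congr e, FiniteField.natCard_algHom_of_finrank_dvd (dvd_refl _)]
  have h1 := Module.card_eq_pow_finrank (K := ZMod 2) (V := K)
  rw [ZMod.card, hK] at h1
  exact (Nat.pow_right_injective (le_refl 2) h1).symm

end Cfsg.Agent.Helper6.F4Phi
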