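import Mathlib
import Cfsg.Agent.Helper28.OrthSim1
import Cfsg.Agent.Helper6.OS6FirstDefs

set_option autoImplicit false
set_option linter.unusedSectionVars false

/-! # os6 chapter FIRST, piece FREFL (helper6): the reflection matrices `FIRST.R Q z`. -/

namespace Cfsg.Agent.OS6P

open Matrix Module Cfsg.Agent.Helper28.Sg Cfsg.Agent.Helper28.Spin Cfsg.Agent.Helper28.SLMax
  Cfsg.Agent.Helper28.SimMax Cfsg.Agent.Helper28.OSim

variable {F : Type*} [Field F] {n : ℕ} {Q : QuadraticForm F (Fin n → F)}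

theorem FREFL.mulVec (z x : Fin n → F) :
    FIRST.R Q z *ᵥ x = x - ((Q z)⁻¹ * B Q z x) • z := by
  unfold FIRST.R
  rw [E_mulVec, smul_dotProduct, pv_dot, smul_eq_mul]
  module

theorem FREFL.iso {z : Fin n → F} (hz : Q z ≠ 0) (x : Fin n → F) :
    Q (FIRST.R Q z *ᵥ x) = Q x := by
  rw [FREFL.mulVec]
  have e : x - ((Q z)⁻¹ * B Q z x) • z = x + (-((Q z)⁻¹ * B Q z x)) • z := by
    rw [neg_smul, sub_eq_add_neg]
  rw [e, Q_add, Q_smul]
  show Q x + _ + QuadraticMap.polar ⇑Q x ((-((Q z)⁻¹ * B Q z x)) • z) = Q x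
  rw [QuadraticMap.polar_smul_right, smul_eq_mul]
  have hc : QuadraticMap.polar ⇑Q x z = B Q z x := B_comm Q x z
  rw [hc]
  field_simp
  ring

theorem FREFL.det {z : Fin n → F} (hz : Q z ≠ 0) : (FIRST.R Q z).det = -1 := by
  unfold FIRST.R
  rw [E_det, smul_dotProduct, pv_dot, B_self, smul_eq_mul]
  field_simp
  ring

theorem FREFL.sq {z : Fin n → F} (hz : Q z ≠ 0) : FIRST.R Q z * FIRST.R Q z = 1 := by
  apply Cfsg.Agent.Helper28.Spin.matrix_ext_mulVec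
  intro x
  rw [← Matrix.mulVec_mulVec, FREFL.mulVec z x, FREFL.mulVec, Matrix.one_mulVec]
  have h1 : B Q z (x - ((Q z)⁻¹ * B Q z x) • z) = B Q z x - ((Q z)⁻¹ * B Q z x) * B Q z z := by
    show QuadraticMap.polar ⇑Q z (x - ((Q z)⁻¹ * B Q z x) • z) = _
    rw [QuadraticMap.polar_sub_right, QuadraticMap.polar_smul_right, smul_eq_mul]
  rw [h1, B_self]
  have h3 : (Q z)⁻¹ * (B Q z x - (Q z)⁻¹ * B Q z x * (2 * Q z)) = -((Q z)⁻¹ * B Q z x) := by
    field_simp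
    ring
  rw [h3]
  module

theorem FREFL.mem2 (M : Subgroup (Matrix.GeneralLinearGroup (Fin n) F))
    (hHM : Cfsg.Geo.quadSimilarityGroup (⇑Q) ⊓ SL n F ≤ M) {z z' : Fin n → F}
    (hz : Q z ≠ 0) (hz' : Q z' ≠ 0) : FIRST.R Q z * FIRST.R Q z' ∈ MS M := by
  apply mem_of_isom M hHM
  · intro x
    rw [← Matrix.mulVec_mulVec, FREFL.iso hz, FREFL.iso hz']
  · rw [Matrix.det_mul, FREFL.det hz, FREFL.det hz']
    ring

end Cfsg.Agent.OS6P
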