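import Cfsg.Agent.Helper11.S3786Defs

/-! Board `s3786pieces`, row That_cent (K2): core, with the needed instance of `EXC` as a hypothesis. -/

set_option autoImplicit false

namespace Cfsg.Agent.S3786P

open Subgroup

universe u

section K

variable {F : Type*} [Field F] {p : ℕ} [Fact p.Prime] [CharP F p] {V : Type*} [AddCommGroup V] [Module F V]
  [FiniteDimensional F V] [Nontrivial V] {H : Type u} [Group H] [Finite H] {ρ₀ : Representation F H V}
  {T : Sylow p H} {n : ℕ}

/-- K2, core: `hEXC` is the instance of `EXC` for the subgroup `R`. -/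
theorem That_cent_aux_core (S : KSet ρ₀ p (T : Subgroup H) n) (R : Subgroup H)
    (hTR : (T : Subgroup H) ≤ normalizer (R : Set H))
    (hEXC : ∀ x : H, orderOf x = p ^ n → ∀ r : ℕ, (ρ₀ x - 1) ^ r = 0 → r < p ^ n →
      x ∈ normalizer (R : Set H) → x ^ (p ^ (n - 1)) ∈ centralizer (R : Set H)) :
    That (T : Subgroup H) p n ≤ centralizer (R : Set H) := by
  unfold That
  rw [closure_le]
  rintro z ⟨w, hw, hord, rfl⟩
  have hpos : 0 < p ^ n := pow_pos (Fact.out : p.Prime).pos n
  exact hEXC w hord (p ^ n - 1) (S.exc w hw hord) (Nat.sub_lt hpos Nat.one_pos) (hTR hw)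

end K

end Cfsg.Agent.S3786P
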