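import Mathlib
import Cfsg.Agent.Helper11.S4409Defs

/-! Board `s4409pieces`, row CA1: `comm_le`. -/

set_option autoImplicit false
set_option linter.unusedVariables false

namespace Cfsg.Agent.S4409P

open Subgroup
open scoped commutatorElement

variable {S : Type*} [Group S] [Finite S]

/-- CA1 -/
theorem comm_le (P K : Subgroup S) (hKP : K ≤ normalizer (P : Set S)) : ⁅P, K⁆ ≤ P := by
  rw [Subgroup.commutator_le]
  intro a ha b hb
  have h1 : b * a⁻¹ * b⁻¹ ∈ P := (Subgroup.mem_normalizer_iff.mp (hKP hb) a⁻¹).mp (P.inv_mem ha)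
  have : ⁅a, b⁆ = a * (b * a⁻¹ * b⁻¹) := by
    rw [commutatorElement_def]; group
  rw [this]
  exact P.mul_mem ha h1

end Cfsg.Agent.S4409P
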