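import Mathlib
import Cfsg.Agent.Helper3.S5655EVDefs

set_option autoImplicit false
set_option linter.unusedSectionVars false
set_option linter.unusedVariables false

/-! # S5655 k = 1, chapter "q EVEN", piece TMONO (helper6): a monomial transvection has a centre of weight 2 -/

namespace Cfsg.Agent.S5655K1.EV

open Matrix
open Cfsg.Agent.S2644 Cfsg.Agent.Helper2.SUGen Cfsg.Agent.Helper28.SimMax Cfsg.Agent.S5658P

variable {K : Type*} [Field K] {q n : ℕ}

local notation "h" => Cfsg.hermForm n K q
local notation "T" => Cfsg.unitaryTransvection n q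

/-- the entries of a transvection matrix -/
theorem TMONO.T_apply (v : Fin n → K) (c : K) (i j : Fin n) :
    (T v c) i j = (if i = j then 1 else 0) + c * (v i * v j ^ q) := by
  simp [Cfsg.unitaryTransvection, Matrix.add_apply, Matrix.one_apply, Matrix.smul_apply,
    Matrix.vecMulVec_apply]

/-- an isotropic non-zero vector has weight at least 2 -/
theorem TMONO.two_le_wt {v : Fin n → K} (hvv : h v v = 0) (hv : v ≠ 0) : 2 ≤ wt v := by
  classical
  by_contra hlt
  have hle : (supp v).card ≤ 1 := by
    have : wt v ≤ 1 := by omega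
    exact this
  obtain ⟨j, hj⟩ : ∃ j, v j ≠ 0 := by
    by_contra hno
    apply hv
    funext i
    by_contra hi
    exact hno ⟨i, hi⟩
  have hjs : j ∈ supp v := mem_supp.2 hj
  have hall : ∀ i, i ≠ j → v i = 0 := by
    intro i hij
    by_contra hi
    have his : i ∈ supp v := mem_supp.2 hi
    exact hij (Finset.card_le_one.1 hle i his j hjs)
  have hsum : h v v = v j * v j ^ q := by
    unfold Cfsg.hermForm
    rw [Finset.sum_eq_single j]
    · intro i _ hij
      rw [hall i hij, zero_mul]
    · intro hj'
      exact absurd (Finset.mem_univ j) hj'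
  rw [hsum] at hvv
  exact mul_ne_zero hj (pow_ne_zero q hj) hvv

theorem TMONO.wt_eq_two (D : Frob K q) {v : Fin n → K} (hvv : h v v = 0) (hv : v ≠ 0)
    (hT : IsMono (T v (1 : K))) : wt v = 2 := by
  classical
  have h2 : 2 ≤ wt v := TMONO.two_le_wt hvv hv
  obtain ⟨j, hj⟩ : ∃ j, v j ≠ 0 := by
    by_contra hno
    apply hv
    funext i
    by_contra hi
    exact hno ⟨i, hi⟩
  have hjs : j ∈ supp v := mem_supp.2 hj
  have hsub : (supp v).erase j ⊆ supp (col (T v (1 : K)) j) := by
    intro i hi
    rw [Finset.mem_erase] at hi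
    rw [mem_supp]
    have hvi : v i ≠ 0 := mem_supp.1 hi.2
    show (T v (1 : K)) i j ≠ 0
    rw [TMONO.T_apply, if_neg hi.1, zero_add, one_mul]
    exact mul_ne_zero hvi (pow_ne_zero q hj)
  have hc := Finset.card_le_card hsub
  rw [Finset.card_erase_of_mem hjs] at hc
  have h1 : (supp (col (T v (1 : K)) j)).card ≤ 1 := hT j
  have : (supp v).card ≤ 2 := by omega
  exact le_antisymm this h2

end Cfsg.Agent.S5655K1.EV
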