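import Mathlib
import Cfsg.Agent.Helper3.S5655EVDefs
import Cfsg.Agent.Helper6.S5655EVTMONO

set_option autoImplicit false
set_option linter.unusedSectionVars false
set_option linter.unusedVariables false

/-! # S5655 k = 1, chapter "q EVEN", piece TTWO (helper6): a weight-2 centre with entries of norm 1 gives a
monomial transvection (char 2); it lies in `M` -/

namespace Cfsg.Agent.S5655K1.EV

open Matrix
open Cfsg.Agent.S2644 Cfsg.Agent.Helper2.SUGen Cfsg.Agent.Helper28.SimMax Cfsg.Agent.S5658P

variable {K : Type*} [Field K] {q n : ℕ}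

local notation "h" => Cfsg.hermForm n K q
local notation "T" => Cfsg.unitaryTransvection n q

theorem TTWO.isMono (D : Frob K q) (h2 : (2 : K) = 0) {v : Fin n → K} (hwt : wt v = 2)
    (hN : ∀ i, v i ≠ 0 → v i * D.σ (v i) = 1) : IsMono (T v (1 : K)) := by
  classical
  intro j
  by_cases hj : v j = 0
  · -- the column is `e_j`
    have hsub : supp (col (T v (1 : K)) j) ⊆ {j} := by
      intro i hi
      rw [mem_supp] at hi
      rw [Finset.mem_singleton]
      by_contra hij
      apply hi
      show (T v (1 : K)) i j = 0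
      rw [TMONO.T_apply, if_neg hij, zero_add, one_mul, ← D.pow, hj, map_zero, mul_zero]
    calc wt (col (T v (1 : K)) j) ≤ ({j} : Finset (Fin n)).card := Finset.card_le_card hsub
      _ = 1 := Finset.card_singleton j
  · have hjs : j ∈ supp v := mem_supp.2 hj
    have hsub : supp (col (T v (1 : K)) j) ⊆ (supp v).erase j := by
      intro i hi
      rw [mem_supp] at hi
      rw [Finset.mem_erase]
      refine ⟨?_, ?_⟩
      · rintro rfl
        apply hi
        show (T v (1 : K)) i i = 0
        rw [TMONO.T_apply, if_pos rfl, one_mul, ← D.pow, hN i hj]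
        rw [one_add_one_eq_two, h2]
      · rw [mem_supp]
        intro hvi
        apply hi
        show (T v (1 : K)) i j = 0
        rw [TMONO.T_apply, hvi, zero_mul, mul_zero, add_zero, if_neg]
        rintro rfl
        exact hj hvi
    calc wt (col (T v (1 : K)) j) ≤ ((supp v).erase j).card := Finset.card_le_card hsub
      _ = 1 := by
        rw [Finset.card_erase_of_mem hjs]
        have : (supp v).card = 2 := hwt
        omega

/-- the support of `e_a + l e_b` -/
theorem TTWO.supp_pair {a b : Fin n} (hab : a ≠ b) {l : K} (hl : l ≠ 0) :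
    supp (Pi.single a 1 + l • Pi.single b 1 : Fin n → K) = {a, b} := by
  classical
  ext i
  rw [mem_supp, Finset.mem_insert, Finset.mem_singleton]
  by_cases hia : i = a
  · subst hia
    simp [Pi.single_apply, hab]
  · by_cases hib : i = b
    · subst hib
      simp [Pi.single_apply, hia, hl]
    · simp [Pi.single_apply, hia, hib]

/-- `e_a + l e_b`, `l σ(l) = 1`, `a ≠ b` -/
theorem TTWO.mem (D : Frob K q) (h2 : (2 : K) = 0) {M : Subgroup (Matrix.GeneralLinearGroup (Fin n) K)}
    (hM : Over q M) {a b : Fin n} (hab : a ≠ b) {l : K} (hl : l * D.σ l = 1) :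
    T (Pi.single a 1 + l • Pi.single b 1 : Fin n → K) (1 : K) ∈ MS M ∧
      h (Pi.single a 1 + l • Pi.single b 1 : Fin n → K) (Pi.single a 1 + l • Pi.single b 1) = 0 := by
  classical
  have hl0 : l ≠ 0 := by
    rintro rfl
    rw [zero_mul] at hl
    exact zero_ne_one hl
  set v : Fin n → K := Pi.single a 1 + l • Pi.single b 1 with hv
  have hva : v a = 1 := by simp [hv, Pi.single_apply, hab]
  have hvb : v b = l := by simp [hv, Pi.single_apply, hab.symm]
  have hvo : ∀ i, i ≠ a → i ≠ b → v i = 0 := by
    intro i hia hib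
    simp [hv, Pi.single_apply, hia, hib]
  have hsupp : supp v = {a, b} := TTWO.supp_pair hab hl0
  have hwt : wt v = 2 := by
    show (supp v).card = 2
    rw [hsupp]
    exact Finset.card_pair hab
  have hN : ∀ i, v i ≠ 0 → v i * D.σ (v i) = 1 := by
    intro i hi
    by_cases hia : i = a
    · rw [hia, hva, map_one, mul_one]
    · by_cases hib : i = b
      · rw [hib, hvb, hl]
      · exact absurd (hvo i hia hib) hi
  have hvv : h v v = 0 := by
    unfold Cfsg.hermForm
    have hsum : ∑ i, v i * v i ^ q = ∑ i ∈ ({a, b} : Finset (Fin n)), v i * v i ^ q := by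
      symm
      apply Finset.sum_subset (Finset.subset_univ _)
      intro i _ hi
      rw [Finset.mem_insert, Finset.mem_singleton, not_or] at hi
      rw [hvo i hi.1 hi.2, zero_mul]
    rw [hsum, Finset.sum_pair hab, hva, hvb, one_pow, mul_one, ← D.pow, hl, one_add_one_eq_two, h2]
  refine ⟨?_, hvv⟩
  apply hM.mono_mem
  · apply pres_T D hvv
    rw [map_one]
    have : (1 : K) + 1 = 0 := by rw [one_add_one_eq_two, h2]
    exact eq_neg_of_add_eq_zero_left this
  · exact det_T D hvv 1
  · exact TTWO.isMono D h2 hwt hN

end Cfsg.Agent.S5655K1.EV
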