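import Mathlib
import Cfsg.Prelude.Def_GeometricClasses
import Cfsg.Agent.Helper2.S5886.Defs

/-! # S5886 piece KTVLE (helper6): `K`-transvections are `K`-linear of `F`-determinant one -/

set_option autoImplicit false

namespace Cfsg.Agent.S5886P

variable {F K V : Type*} [Field F] [Field K] [Algebra F K]
  [AddCommGroup V] [Module F V] [Module K V] [IsScalarTower F K V]

/-- a `K`-transvection is `K`-linear -/
theorem KTVLE.isKTv_mem_nrm (g : V ≃ₗ[F] V) (hg : IsKTv (K := K) g) : g ∈ Nrm F K V := by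
  obtain ⟨ψ, u, hψu, hg⟩ := hg
  refine ⟨AlgEquiv.refl, fun k x => ?_⟩
  simp only [LinearEquiv.coe_coe, AlgEquiv.coe_refl, id]
  rw [hg, hg, map_smul, smul_add, smul_eq_mul, mul_smul]

/-- the underlying `F`-linear map of a `K`-transvection is the restriction of scalars of a `K`-transvection -/
theorem KTVLE.coe_eq (g : V ≃ₗ[F] V) (ψ : V →ₗ[K] K) (u : V) (hg : ∀ x, g x = x + ψ x • u) :
    (g : V →ₗ[F] V) = (LinearMap.transvection ψ u).restrictScalars F := by
  ext x
  simp [hg, LinearMap.transvection.apply]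

/-- a `K`-transvection has `F`-determinant one -/
theorem KTVLE.isKTv_det [Module.Finite K V] (g : V ≃ₗ[F] V) (hg : IsKTv (K := K) g) :
    LinearMap.det (g : V →ₗ[F] V) = 1 := by
  obtain ⟨ψ, u, hψu, hg⟩ := hg
  rw [KTVLE.coe_eq g ψ u hg, LinearMap.det_restrictScalars, LinearMap.transvection.det, hψu, add_zero,
    map_one]

/-- KTVLE -/
theorem KTVLE [Finite F] [Finite K] [Finite V] : KTV F K V ≤ Nrm F K V ⊓ DetIn (⊥ : Subgroup Fˣ) := by
  haveI : Module.Finite K V := Module.Finite.of_finite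
  unfold KTV
  rw [Subgroup.closure_le]
  intro g hg
  refine ⟨KTVLE.isKTv_mem_nrm g hg, ?_⟩
  show LinearEquiv.det g ∈ (⊥ : Subgroup Fˣ)
  rw [Subgroup.mem_bot]
  apply Units.ext
  rw [LinearEquiv.coe_det, Units.val_one]
  exact KTVLE.isKTv_det g hg

end Cfsg.Agent.S5886P
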