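import Mathlib
import Cfsg.Prelude.Def_Characters
import Cfsg.Agent.Helper24.Decomp

set_option autoImplicit false

/-! # S2345, piece CONSTIT: a perfect finite group acting nontrivially on an invariant subspace `W`
has an irreducible complex representation of degree `d` with `2 ≤ d ≤ dim W`. -/

namespace Cfsg.Agent.Helper12.LOP

namespace CONSTIT

open Module Representation

universe u v

/-- An endomorphism of a one-dimensional space is a scalar. -/
theorem end_eq_smul_of_finrank_one {U : Type*} [AddCommGroup U] [Module ℂ U]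
    (h1 : finrank ℂ U = 1) (f : Module.End ℂ U) : ∃ c : ℂ, ∀ x : U, f x = c • x := by
  obtain ⟨v, hv0, hv⟩ := finrank_eq_one_iff'.mp h1
  obtain ⟨c, hc⟩ := hv (f v)
  refine ⟨c, fun x => ?_⟩
  obtain ⟨a, rfl⟩ := hv x
  rw [map_smul, ← hc, smul_comm]

/-- A perfect group acts trivially in any one-dimensional representation. -/
theorem trivial_of_finrank_one {M : Type*} [Group M] (hperf : commutator M = ⊤)
    {U : Type*} [AddCommGroup U] [Module ℂ U] (h1 : finrank ℂ U = 1)
    (ρ : Representation ℂ M U) (g : M) (x : U) : ρ g x = x := by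
  have hcomm : ∀ a b : M, ρ a * ρ b = ρ b * ρ a := by
    intro a b
    obtain ⟨ca, hca⟩ := end_eq_smul_of_finrank_one h1 (ρ a)
    obtain ⟨cb, hcb⟩ := end_eq_smul_of_finrank_one h1 (ρ b)
    ext y
    simp only [Module.End.mul_apply, hca, hcb, smul_comm ca cb]
  have hker : commutator M ≤ (ρ : M →* Module.End ℂ U).ker := by
    rw [commutator_def, Subgroup.commutator_le]
    intro a _ b _
    rw [MonoidHom.mem_ker, commutatorElement_def, map_mul, map_mul, map_mul, hcomm a b,
      mul_assoc (ρ b), ← map_mul, mul_inv_cancel, map_one, mul_one, ← map_mul, mul_inv_cancel,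
      map_one]
  have hg : g ∈ (ρ : M →* Module.End ℂ U).ker := hker (hperf ▸ Subgroup.mem_top g)
  rw [MonoidHom.mem_ker] at hg
  rw [hg, Module.End.one_apply]

theorem aux {M : Type u} [Group M] [Finite M] (hperf : commutator M = ⊤) :
    ∀ n : ℕ, ∀ (X : Type v) [AddCommGroup X] [Module ℂ X] [FiniteDimensional ℂ X]
      (ρ : Representation ℂ M X), finrank ℂ X = n → (∃ g x, ρ g x ≠ x) →
      ∃ (d : ℕ) (τ : Representation ℂ M (Fin d → ℂ)), τ.IsIrreducible ∧ 2 ≤ d ∧ d ≤ n := by
  intro n
  induction n using Nat.strong_induction_on with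
  | _ n ih =>
    intro X _ _ _ ρ hn ⟨g, x, hgx⟩
    haveI : NeZero (Nat.card M : ℂ) := ⟨by
      have : 0 < Nat.card M := Nat.card_pos
      exact_mod_cast this.ne'⟩
    haveI : Nontrivial X := by
      by_contra hX
      rw [not_nontrivial_iff_subsingleton] at hX
      exact hgx (Subsingleton.elim _ _)
    obtain ⟨U, hU0, hUirr⟩ := Cfsg.Agent.Helper24.exists_irreducible_subrepresentation ρ
    have hUle : finrank ℂ U.toSubmodule ≤ n := hn ▸ Submodule.finrank_le _
    by_cases hd : 2 ≤ finrank ℂ U.toSubmodule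
    · exact ⟨_, Cfsg.Agent.Helper24.repFin U.toRepresentation,
        Cfsg.Agent.Helper24.isIrreducible_repConj _ _ hUirr, hd, hUle⟩
    · have hpos : 0 < finrank ℂ U.toSubmodule := by
        rw [Module.finrank_pos_iff]
        exact Submodule.nontrivial_iff_ne_bot.mpr hU0
      have h1 : finrank ℂ U.toSubmodule = 1 := by omega
      have htrivU : ∀ (a : M) (y : X), y ∈ U.toSubmodule → ρ a y = y := by
        intro a y hy
        have := trivial_of_finrank_one hperf h1 U.toRepresentation a ⟨y, hy⟩
        exact congrArg Subtype.val this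
      obtain ⟨U', hcompl⟩ := exists_isCompl U
      have hinf : U.toSubmodule ⊓ U'.toSubmodule = ⊥ := by
        have := hcompl.inf_eq_bot
        exact congrArg Subrepresentation.toSubmodule this
      have hsup : U.toSubmodule ⊔ U'.toSubmodule = ⊤ := by
        have := hcompl.sup_eq_top
        exact congrArg Subrepresentation.toSubmodule this
      have hcs : IsCompl U.toSubmodule U'.toSubmodule :=
        ⟨disjoint_iff.mpr hinf, codisjoint_iff.mpr hsup⟩
      have hfr : finrank ℂ U.toSubmodule + finrank ℂ U'.toSubmodule = finrank ℂ X :=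
        Submodule.finrank_add_eq_of_isCompl hcs
      have hlt : finrank ℂ U'.toSubmodule < n := by omega
      have hnt : ∃ (a : M) (y : U'.toSubmodule), U'.toRepresentation a y ≠ y := by
        by_contra hcon
        push Not at hcon
        apply hgx
        have hx : x ∈ U.toSubmodule ⊔ U'.toSubmodule := hsup ▸ Submodule.mem_top
        obtain ⟨y, hy, z, hz, rfl⟩ := Submodule.mem_sup.mp hx
        rw [map_add, htrivU g y hy]
        have := hcon g ⟨z, hz⟩
        have h2 : ρ g z = z := congrArg Subtype.val this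
        rw [h2]
      obtain ⟨d, τ, hτ, h2d, hdn⟩ := ih _ hlt U'.toSubmodule U'.toRepresentation rfl hnt
      exact ⟨d, τ, hτ, h2d, by omega⟩

end CONSTIT

/-! ### CONSTIT (generic) -/
theorem exists_irr_constituent {M : Type*} [Group M] [Fintype M] (hperf : commutator M = ⊤)
    {V : Type*} [AddCommGroup V] [Module ℂ V] [FiniteDimensional ℂ V]
    (σ : Representation ℂ M V) (W : Submodule ℂ V) (hW : ∀ g : M, ∀ w ∈ W, σ g w ∈ W)
    (g : M) (w : V) (hw : w ∈ W) (hne : σ g w ≠ w) :
    ∃ (d : ℕ) (τ : Representation ℂ M (Fin d → ℂ)), τ.IsIrreducible ∧ 2 ≤ d ∧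
      d ≤ Module.finrank ℂ W := by
  let WS : Subrepresentation σ := ⟨W, fun g v hv => hW g v hv⟩
  have hnt : ∃ (a : M) (y : WS.toSubmodule), WS.toRepresentation a y ≠ y := by
    refine ⟨g, ⟨w, hw⟩, fun h => hne ?_⟩
    exact congrArg Subtype.val h
  exact CONSTIT.aux hperf _ WS.toSubmodule WS.toRepresentation rfl hnt

end Cfsg.Agent.Helper12.LOP
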