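import Mathlib
import Cfsg.Prelude.Def_PLocal
import Cfsg.Agent.Helper28.S2768Defs

set_option autoImplicit false

/-! Piece CASE2A of the S2768/S2769 board: if `Z(S)` is normal in `G` then `C_G(Z(S)) = G`, so
`[W, S] ∩ Z(S)` is central, hence normal. -/

namespace Cfsg.Agent.S2768P

open Subgroup

variable {G : Type*} [Group G] [Finite G] {p : ℕ} [Fact p.Prime]

/-- a normal subgroup containing `S` is everything -/
theorem CASE2A_aux_eq_top (S : Sylow p G) (M : Subgroup G) (hb : Basic p S M) (C : Subgroup G)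
    (hCn : C.Normal) (hSC : (S : Subgroup G) ≤ C) : C = ⊤ := by
  by_contra hne
  have hCM : C ≤ M := hb.proper_le C hSC hne
  obtain ⟨g, -, hg⟩ := SetLike.exists_of_lt (lt_top_iff_ne_top.mpr hb.M_ne_top)
  apply hb.S_ne_Q
  rw [← hb.lemmaA g hg]
  symm
  apply inf_eq_left.mpr
  intro s hs
  have h1 : g⁻¹ * s * g ∈ C := by
    have := hCn.conj_mem s (hSC hs) g⁻¹
    simpa using this
  refine ⟨g⁻¹ * s * g, hCM h1, ?_⟩
  simp [MulAut.conj_apply, mul_assoc]

theorem CASE2A (S : Sylow p G) (M : Subgroup G) (hb : Basic p S M)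
    (hZn : (Z (S : Subgroup G)).Normal) :
    (⁅W (S : Subgroup G), (S : Subgroup G)⁆ ⊓ Z (S : Subgroup G)).Normal := by
  haveI := hZn
  have hCn : (centralizer ((Z (S : Subgroup G) : Subgroup G) : Set G)).Normal :=
    Subgroup.normal_centralizer
  have hSC : (S : Subgroup G) ≤ centralizer ((Z (S : Subgroup G) : Subgroup G) : Set G) := by
    intro s hs
    rw [mem_centralizer_iff]
    intro z hz
    have hz' : z ∈ (S : Subgroup G) ⊓ centralizer ((S : Subgroup G) : Set G) := hz
    have h2 := mem_centralizer_iff.mp (mem_inf.mp hz').2 s hs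
    exact h2.symm
  have htop := CASE2A_aux_eq_top S M hb _ hCn hSC
  refine ⟨fun n hn g => ?_⟩
  have hnZ : n ∈ Z (S : Subgroup G) := (mem_inf.mp hn).2
  have hg : g ∈ centralizer ((Z (S : Subgroup G) : Subgroup G) : Set G) := by
    rw [htop]; exact mem_top g
  have h3 : n * g = g * n := mem_centralizer_iff.mp hg n hnZ
  have h4 : g * n * g⁻¹ = n := by
    rw [← h3]; group
  rw [h4]
  exact hn

end Cfsg.Agent.S2768P
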