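import Mathlib

/-!
# qp74pieces, piece SCALE (helper6): an additive subgroup of a field of characteristic `≠ 2` containing a
nonzero element and stable under multiplication by nonzero squares is everything.
-/

set_option autoImplicit false

namespace Cfsg.Agent.QP74

theorem SCALE {k : Type*} [Field k] (hk2 : ringChar k ≠ 2) (T : AddSubgroup k) {t₀ : k} (ht₀ : t₀ ∈ T)
    (h0 : t₀ ≠ 0) (hsq : ∀ s : k, s ≠ 0 → ∀ t ∈ T, s ^ 2 * t ∈ T) : ∀ c : k, c ∈ T := by
  have h2 : (2 : k) ≠ 0 := Ring.two_ne_zero hk2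
  -- every square multiple of `t₀` lies in `T`
  have hmem : ∀ s : k, s ^ 2 * t₀ ∈ T := by
    intro s
    by_cases hs : s = 0
    · subst hs
      simpa using T.zero_mem
    · exact hsq s hs t₀ ht₀
  intro c
  set e : k := c / t₀ with he
  have hc : c = ((e + 1) / 2) ^ 2 * t₀ - ((e - 1) / 2) ^ 2 * t₀ := by
    rw [he]
    field_simp
    ring
  rw [hc]
  exact T.sub_mem (hmem _) (hmem _)

end Cfsg.Agent.QP74
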