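import Mathlib
import Cfsg.Agent.Helper29.EsnDefs

set_option autoImplicit false

/-! S5877 piece LINA1: `finrank_le_of_maps`, `finrank_Eig_shift`, `finrank_Wsp_ge`. -/

namespace Cfsg.Agent.S5877P

open Matrix Module

variable {n : ℕ} {F : Type*} [Field F]

theorem finrank_le_of_maps (b : GLn n F) (U U' : Submodule F (Fin n → F))
    (h : ∀ v ∈ U, (b : Matrix (Fin n) (Fin n) F) *ᵥ v ∈ U') : finrank F U ≤ finrank F U' := by
  have h' : ∀ x ∈ U, Matrix.toLin' (b : Matrix (Fin n) (Fin n) F) x ∈ U' := by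
    intro x hx
    rw [Matrix.toLin'_apply]
    exact h x hx
  refine LinearMap.finrank_le_finrank_of_injective
    (f := (Matrix.toLin' (b : Matrix (Fin n) (Fin n) F)).restrict h') ?_
  intro x y hxy
  have h1 := congrArg Subtype.val hxy
  simp only [LinearMap.coe_restrict_apply, Matrix.toLin'_apply] at h1
  exact Subtype.ext (mulVec_injective b h1)

theorem finrank_Eig_shift (a g : GLn n F) (s : Fˣ) (h : a * g * a⁻¹ = sc n s * g) (c : F) :
    finrank F (Eig g c) = finrank F (Eig g (((s⁻¹ : Fˣ) : F) * c)) := by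
  apply le_antisymm
  · apply finrank_le_of_maps a
    intro v hv
    rw [mem_Eig] at hv ⊢
    have h1 : ((a * g * a⁻¹ : GLn n F) : Matrix (Fin n) (Fin n) F) *ᵥ
        ((a : Matrix (Fin n) (Fin n) F) *ᵥ v)
        = (a : Matrix (Fin n) (Fin n) F) *ᵥ ((g : Matrix (Fin n) (Fin n) F) *ᵥ v) := by
      rw [mul_mulVec, inv_mulVec_mulVec, mul_mulVec]
    rw [h, mul_mulVec, sc_mulVec, hv, Matrix.mulVec_smul] at h1
    rw [mul_smul, ← h1, smul_smul, ← Units.val_mul, inv_mul_cancel, Units.val_one, one_smul]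
  · apply finrank_le_of_maps a⁻¹
    intro w hw
    rw [mem_Eig] at hw ⊢
    have h1 : ((a * g * a⁻¹ : GLn n F) : Matrix (Fin n) (Fin n) F) *ᵥ w
        = (a : Matrix (Fin n) (Fin n) F) *ᵥ ((g : Matrix (Fin n) (Fin n) F) *ᵥ
          (((a⁻¹ : GLn n F) : Matrix (Fin n) (Fin n) F) *ᵥ w)) := by
      rw [mul_mulVec, mul_mulVec]
    rw [h, mul_mulVec, sc_mulVec, hw, smul_smul, ← mul_assoc, ← Units.val_mul, mul_inv_cancel,
      Units.val_one, one_mul] at h1
    apply mulVec_injective a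
    show (a : Matrix (Fin n) (Fin n) F) *ᵥ ((g : Matrix (Fin n) (Fin n) F) *ᵥ
          (((a⁻¹ : GLn n F) : Matrix (Fin n) (Fin n) F) *ᵥ w))
        = (a : Matrix (Fin n) (Fin n) F) *ᵥ (c • (((a⁻¹ : GLn n F) : Matrix (Fin n) (Fin n) F) *ᵥ w))
    rw [← h1, Matrix.mulVec_smul, mulVec_inv_mulVec]

theorem finrank_Wsp_ge (g : GLn n F) (c : F) (a : GLn n F) :
    2 * finrank F (Eig g c) ≤ n + finrank F (Wsp g c a) := by
  set E := Eig g c with hE
  set E' : Submodule F (Fin n → F) :=
    E.comap (Matrix.toLin' (a : Matrix (Fin n) (Fin n) F)) with hE'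
  have h1 : finrank F E' = finrank F E := by
    apply le_antisymm
    · apply finrank_le_of_maps a
      intro v hv
      rw [hE', Submodule.mem_comap, Matrix.toLin'_apply] at hv
      exact hv
    · apply finrank_le_of_maps a⁻¹
      intro v hv
      rw [hE', Submodule.mem_comap, Matrix.toLin'_apply, mulVec_inv_mulVec]
      exact hv
  have h2 := Submodule.finrank_sup_add_finrank_inf_eq E E'
  have h3 : finrank F (E ⊔ E' : Submodule F (Fin n → F)) ≤ n := by
    have := Submodule.finrank_le (E ⊔ E' : Submodule F (Fin n → F))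
    rwa [Module.finrank_fin_fun] at this
  have h4 : Wsp g c a = E ⊓ E' := rfl
  rw [h4]
  omega

end Cfsg.Agent.S5877P
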