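import Mathlib
import Cfsg.Agent.Helper29.EsnDefs

set_option autoImplicit false

/-! S5877 piece LINA2: `sum_finrank_Eig_inf_le`, `sum_finrank_Eig_le`. -/

namespace Cfsg.Agent.S5877P

open Matrix Module

namespace LINA2

/-- the finrank of the sup of a finite independent family of subspaces is the sum of the finranks -/
theorem sum_finrank_of_supIndep {F V : Type*} [Field F] [AddCommGroup V] [Module F V]
    [FiniteDimensional F V] {ι : Type*} [DecidableEq ι] (p : ι → Submodule F V) (S : Finset ι)
    (h : S.SupIndep p) :
    ∑ i ∈ S, finrank F (p i) = finrank F (S.sup p : Submodule F V) := by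
  induction S using Finset.induction_on with
  | empty => rw [Finset.sum_empty, Finset.sup_empty, finrank_bot]
  | insert a S ha ih =>
    rw [Finset.sum_insert ha, Finset.sup_insert, ih (h.subset (Finset.subset_insert _ _))]
    have hd : Disjoint (p a) (S.sup p) :=
      h (Finset.subset_insert a S) (Finset.mem_insert_self a S) ha
    have h2 := Submodule.finrank_sup_add_finrank_inf_eq (p a) (S.sup p)
    rw [hd.eq_bot, finrank_bot] at h2
    omega

end LINA2

variable {n : ℕ} {F : Type*} [Field F]

theorem sum_finrank_Eig_inf_le (g : GLn n F) (U : Submodule F (Fin n → F)) (S : Finset F) :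
    ∑ c ∈ S, finrank F (Eig g c ⊓ U : Submodule F (Fin n → F)) ≤ finrank F U := by
  classical
  have hind : iSupIndep (fun c : F => (Eig g c ⊓ U : Submodule F (Fin n → F))) := by
    have h0 : iSupIndep (fun c : F => Eig g c) :=
      Module.End.eigenspaces_iSupIndep (Matrix.toLin' (g : Matrix (Fin n) (Fin n) F))
    exact h0.mono (fun c => inf_le_left)
  rw [LINA2.sum_finrank_of_supIndep _ S (hind.supIndep' S)]
  apply Submodule.finrank_mono
  exact Finset.sup_le (fun c _ => inf_le_right)

theorem sum_finrank_Eig_le (g : GLn n F) (S : Finset F) :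
    ∑ c ∈ S, finrank F (Eig g c) ≤ n := by
  have h := sum_finrank_Eig_inf_le g ⊤ S
  rw [finrank_top, Module.finrank_fin_fun] at h
  refine le_trans (le_of_eq ?_) h
  apply Finset.sum_congr rfl
  intro c _
  rw [inf_top_eq]

end Cfsg.Agent.S5877P
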