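import Mathlib
import Cfsg.Agent.Helper29.EsnDefs
import Cfsg.Agent.Helper6.EsnLINA2

set_option autoImplicit false

/-! S5877 piece LINC: `sum_finrank_fiber_le`. -/

namespace Cfsg.Agent.S5877P

open Matrix Module

variable {n : ℕ} {F : Type*} [Field F]

theorem sum_finrank_fiber_le [DecidableEq F] {ι : Type*} (J : Finset ι) (f : ι → F) (N : ℕ)
    (hf : ∀ x, (J.filter (fun j => f j = x)).card ≤ N) (g : GLn n F)
    (U : Submodule F (Fin n → F)) :
    ∑ j ∈ J, finrank F (Eig g (f j) ⊓ U : Submodule F (Fin n → F)) ≤ N * finrank F U := by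
  rw [Finset.sum_comp (fun x => finrank F (Eig g x ⊓ U : Submodule F (Fin n → F))) f]
  calc ∑ b ∈ J.image f, (J.filter (fun a => f a = b)).card •
          finrank F (Eig g b ⊓ U : Submodule F (Fin n → F))
      ≤ ∑ b ∈ J.image f, N * finrank F (Eig g b ⊓ U : Submodule F (Fin n → F)) := by
        apply Finset.sum_le_sum
        intro b _
        rw [smul_eq_mul]
        exact Nat.mul_le_mul_right _ (hf b)
    _ = N * ∑ b ∈ J.image f, finrank F (Eig g b ⊓ U : Submodule F (Fin n → F)) := by
        rw [Finset.mul_sum]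
    _ ≤ N * finrank F U := Nat.mul_le_mul_left _ (sum_finrank_Eig_inf_le g U (J.image f))

end Cfsg.Agent.S5877P
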