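import Mathlib
import Cfsg.Prelude.Def_GeometricClasses
import Cfsg.Prelude.Def_Classical
import Cfsg.Agent.Helper23.S5961Defs
import Cfsg.Agent.Helper16.S5955Defs
import Cfsg.Agent.S2614
import Cfsg.Agent.S0292

/-! S5992 (driver helper6): shared definitions for the orthogonal "nondegenerate subspace"
statements (S5992, S5993, ...).

* `PB Q` : the polar form of a quadratic form as a bilinear form (`Nondeg (PB Q) W`, `Orth (PB Q) W W'`
  are helper2's predicates, as in S5961/S5955).
* `TS Q U` : `Q` vanishes on `U`.  `Plus Q W` : `W` contains a totally singular subspace of half its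
  dimension.  `IsTy Q ε m W` : `W` is a nondegenerate `m`-space, hyperbolic (`ε = true`) or
  elliptic (`ε = false`).
* `IsYO Q y r` : nondegenerate quadratic space with an isometry `y`, `y ^ r = 1`.
* `gramDet`, `DiscSq` : the sign-corrected discriminant of a subspace is a square.
* `altOf Q y` : the alternating form `B(y u, v) - B(u, y v)`.
* `augQ F r` : the dot product on the augmentation space of helper16.
-/

set_option autoImplicit false

namespace Cfsg.Agent.S5992P

open Cfsg.Agent.Helper2.SympInvol Cfsg.Agent.Helper2.SympUnits Cfsg.Agent.S5961P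

section defs

variable {F V : Type*} [Field F] [AddCommGroup V] [Module F V]

/-- the polar form of `Q` as a bilinear form -/
abbrev PB (Q : QuadraticForm F V) : LinearMap.BilinForm F V := QuadraticMap.polarBilin Q

theorem PB_apply (Q : QuadraticForm F V) (u v : V) : PB Q u v = QuadraticMap.polar Q u v := rfl

theorem PB_comm (Q : QuadraticForm F V) (u v : V) : PB Q u v = PB Q v u :=
  QuadraticMap.polar_comm _ _ _

theorem PB_self (Q : QuadraticForm F V) (v : V) : PB Q v v = 2 * Q v := by
  rw [PB_apply, QuadraticMap.polar_self]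
  simp

theorem PB_isom (Q : QuadraticForm F V) {y : Module.End F V} (hy : ∀ v, Q (y v) = Q v) (u v : V) :
    PB Q (y u) (y v) = PB Q u v := by
  simp only [PB_apply, QuadraticMap.polar, ← map_add, hy]

/-- `Q` vanishes on `U` -/
def TS (Q : QuadraticForm F V) (U : Submodule F V) : Prop := ∀ u ∈ U, Q u = 0

/-- `W` contains a totally singular subspace of half its dimension -/
def Plus (Q : QuadraticForm F V) (W : Submodule F V) : Prop :=
  ∃ U : Submodule F V, U ≤ W ∧ TS Q U ∧ 2 * Module.finrank F U = Module.finrank F W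

/-- `W` is a nondegenerate `m`-space, hyperbolic if `ε = true`, elliptic if `ε = false` -/
def IsTy (Q : QuadraticForm F V) (ε : Bool) (m : ℕ) (W : Submodule F V) : Prop :=
  Module.finrank F W = m ∧ Nondeg (PB Q) W ∧ (Plus Q W ↔ ε = true)

/-- a nondegenerate quadratic space with an isometry `y`, `y ^ r = 1` -/
structure IsYO (Q : QuadraticForm F V) (y : Module.End F V) (r : ℕ) : Prop where
  nondeg : Nondeg (PB Q) ⊤
  isom : ∀ v, Q (y v) = Q v
  pow : y ^ r = 1

/-- the Gram determinant of a family of vectors -/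
noncomputable def gramDet (Q : QuadraticForm F V) {k : ℕ} (b : Fin k → V) : F :=
  (Matrix.of fun i j : Fin k => QuadraticMap.polar Q (b i) (b j)).det

/-- the sign-corrected discriminant of `W` is a square (w.r.t. some basis) -/
def DiscSq (Q : QuadraticForm F V) (W : Submodule F V) : Prop :=
  ∃ b : Module.Basis (Fin (Module.finrank F W)) F W,
    IsSquare ((-1 : F) ^ (Module.finrank F W / 2) * gramDet Q (fun i => (b i : V)))

/-- the alternating form `B(y u, v) - B(u, y v)` attached to an isometry `y` -/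
def altOf (Q : QuadraticForm F V) (y : Module.End F V) : LinearMap.BilinForm F V :=
  (PB Q).compl₁₂ y LinearMap.id - (PB Q).compl₁₂ LinearMap.id y

theorem altOf_apply (Q : QuadraticForm F V) (y : Module.End F V) (u v : V) :
    altOf Q y u v = PB Q (y u) v - PB Q u (y v) := rfl

theorem plus_bot (Q : QuadraticForm F V) : Plus Q (⊥ : Submodule F V) :=
  ⟨⊥, le_refl _, fun u hu => by rw [(Submodule.mem_bot F).mp hu, map_zero], by simp⟩

end defs

section geo

variable {F : Type*} [Field F] {ι : Type}

theorem nondeg_iff_geo (Q : QuadraticForm F (ι → F)) (W : Submodule F (ι → F)) :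
    Nondeg (PB Q) W ↔ Cfsg.Geo.IsNondegenerateOn (QuadraticMap.polar ⇑Q) W := by
  constructor
  · intro h w hw hw0
    obtain ⟨v, hv, hne⟩ := h w hw hw0
    exact ⟨⟨v, hv, by rw [QuadraticMap.polar_comm]; exact hne⟩, ⟨v, hv, hne⟩⟩
  · intro h w hw hw0
    obtain ⟨-, v, hv, hne⟩ := h w hw hw0
    exact ⟨v, hv, hne⟩

theorem plus_iff_geo (Q : QuadraticForm F (ι → F)) (W : Submodule F (ι → F)) :
    Plus Q W ↔ Cfsg.Geo.IsPlusTypeOn ⇑Q W := Iff.rfl

theorem isTy_true_iff_geo (Q : QuadraticForm F (ι → F)) (m : ℕ) (W : Submodule F (ι → F)) :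
    IsTy Q true m W ↔ (Module.finrank F W = m ∧
      Cfsg.Geo.IsNondegenerateOn (QuadraticMap.polar ⇑Q) W ∧ Cfsg.Geo.IsPlusTypeOn ⇑Q W) := by
  unfold IsTy
  rw [nondeg_iff_geo, plus_iff_geo]
  simp

theorem isTy_false_iff_geo (Q : QuadraticForm F (ι → F)) (m : ℕ) (W : Submodule F (ι → F)) :
    IsTy Q false m W ↔ (Module.finrank F W = m ∧
      Cfsg.Geo.IsNondegenerateOn (QuadraticMap.polar ⇑Q) W ∧ ¬ Cfsg.Geo.IsPlusTypeOn ⇑Q W) := by
  unfold IsTy
  rw [nondeg_iff_geo, plus_iff_geo]
  simp

/-- nondegeneracy of the polar form in helper2's sense -/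
theorem nondeg_top_of_nondegenerate {V : Type*} [AddCommGroup V] [Module F V]
    (Q : QuadraticForm F V) (hQ : (QuadraticMap.polarBilin Q).Nondegenerate) :
    Nondeg (PB Q) ⊤ := by
  intro m _ hm0
  by_contra hcon
  push Not at hcon
  apply hm0
  apply hQ.1
  intro v
  exact hcon v trivial

theorem QfOdd_nondeg_top (h2 : (2 : F) ≠ 0) (d : ℕ) :
    Nondeg (PB (Cfsg.Agent.S2614.QfOdd d F)) ⊤ :=
  nondeg_top_of_nondegenerate _ (Cfsg.Agent.S0292.QfOdd_nondeg h2 d)

end geo

section aug

variable (F : Type*) [Field F] (r : ℕ) [NeZero r]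

/-- the dot product `∑ a, u a ^ 2` on `ZMod r → F` -/
noncomputable def dotQ : QuadraticForm F (ZMod r → F) :=
  ∑ a : ZMod r, (QuadraticMap.sq (R := F)).comp (LinearMap.proj a)

theorem dotQ_apply (u : ZMod r → F) : dotQ F r u = ∑ a : ZMod r, u a * u a := by
  simp [dotQ, QuadraticMap.sq]

/-- the dot product on the augmentation space of helper16 -/
noncomputable def augQ : QuadraticForm F (Cfsg.Agent.S5955P.Aug F r) :=
  (dotQ F r).comp (Cfsg.Agent.S5955P.Aug F r).subtype

theorem augQ_apply (u : Cfsg.Agent.S5955P.Aug F r) :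
    augQ F r u = ∑ a : ZMod r, (u : ZMod r → F) a * (u : ZMod r → F) a := by
  rw [augQ, QuadraticMap.comp_apply, Submodule.subtype_apply, dotQ_apply]

end aug

end Cfsg.Agent.S5992P
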