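import Mathlib
import Cfsg.Prelude.Def_LieClassical
import Cfsg.Agent.Helper29.S2263Defs
import Cfsg.Agent.Helper7.S2264FACS
import Cfsg.Agent.Helper6.S2263MULTSYM

/-! S2263 piece DIMSUM1 (helper6): if `μ` is not single but `Dset = {s}` then
`2 s + (Emax μ - 1) ≤ deg μ`. -/

set_option autoImplicit false

namespace Cfsg.Agent.S2263P

open Polynomial
open Cfsg.Agent.S2264P

section poly

variable {F : Type*} [Field F]

namespace DIMSUM1

open scoped Classical in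
/-- the degree sum over the `dag`-orbit of a factor -/
theorem orbit_sum (σ : F ≃+* F) (hσ2 : ∀ x, σ (σ x) = x) {μ φ : F[X]} (hμ : UGood σ μ)
    (hφ : φ ∈ facs μ) :
    ∑ ψ ∈ ({φ, dag σ φ} : Finset F[X]), mult μ ψ * ψ.natDegree = mult μ φ * sdeg σ φ := by
  obtain ⟨-, h2, -, h4⟩ := mult_dag σ hσ2 hμ hφ
  unfold sdeg
  by_cases h : dag σ φ = φ
  · rw [if_pos h, h, Finset.pair_eq_singleton, Finset.sum_singleton]
  · rw [if_neg h, Finset.sum_pair (Ne.symm h), h2, h4]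
    ring

open scoped Classical in
theorem orbit_subset (σ : F ≃+* F) (hσ2 : ∀ x, σ (σ x) = x) {μ φ : F[X]} (hμ : UGood σ μ)
    (hφ : φ ∈ facs μ) : ({φ, dag σ φ} : Finset F[X]) ⊆ facs μ := by
  intro ψ hψ
  rw [Finset.mem_insert, Finset.mem_singleton] at hψ
  rcases hψ with rfl | rfl
  · exact hφ
  · exact (mult_dag σ hσ2 hμ hφ).1

open scoped Classical in
theorem orbit_disjoint (σ : F ≃+* F) (hσ2 : ∀ x, σ (σ x) = x) {μ h k : F[X]} (hμ : UGood σ μ)
    (hh : h ∈ facs μ) (hk : k ∈ facs μ) (h1 : k ≠ h) (h2 : k ≠ dag σ h) :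
    Disjoint ({h, dag σ h} : Finset F[X]) ({k, dag σ k} : Finset F[X]) := by
  have hhh := (mult_dag σ hσ2 hμ hh).2.2.1
  have hkk := (mult_dag σ hσ2 hμ hk).2.2.1
  rw [Finset.disjoint_left]
  intro ψ hψ hψ'
  rw [Finset.mem_insert, Finset.mem_singleton] at hψ hψ'
  rcases hψ with rfl | rfl <;> rcases hψ' with e | e
  · exact h1 e.symm
  · apply h2
    rw [e, hkk]
  · exact h2 e.symm
  · apply h1
    rw [← hkk, ← e, hhh]

end DIMSUM1

open scoped Classical in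
theorem dim_sum_one (σ : F ≃+* F) (hσ2 : ∀ x, σ (σ x) = x) {μ : F[X]} (hμ : UGood σ μ)
    (hns : ¬ Single σ μ) {s : ℕ} (hD : Dset σ μ = {s}) :
    2 * s + (Emax μ - 1) ≤ μ.natDegree := by
  have hμ0 : μ ≠ 0 := hμ.monic.ne_zero
  unfold Single at hns
  push Not at hns
  obtain ⟨f, hf, g, hg, hgf, hgf'⟩ := hns
  have hs : ∀ φ ∈ facs μ, sdeg σ φ = s := by
    intro φ hφ
    have : sdeg σ φ ∈ Dset σ μ := Finset.mem_image_of_mem _ hφ
    rw [hD, Finset.mem_singleton] at this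
    exact this
  -- `s ≥ 1`
  have hs1 : 1 ≤ s := by
    rw [← hs f hf]
    have hirr := ((mem_facs hμ0).1 hf).1
    have hdeg : 1 ≤ f.natDegree := hirr.natDegree_pos
    unfold sdeg
    split_ifs <;> omega
  -- a factor of maximal multiplicity
  obtain ⟨h, hh, hE⟩ := Finset.exists_mem_eq_sup (facs μ) ⟨f, hf⟩ (mult μ)
  have hE' : Emax μ = mult μ h := hE
  have hhh := (mult_dag σ hσ2 hμ hh).2.2.1
  have hff := (mult_dag σ hσ2 hμ hf).2.2.1
  -- a factor independent of `h`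
  obtain ⟨k, hk, hk1, hk2⟩ : ∃ k ∈ facs μ, k ≠ h ∧ k ≠ dag σ h := by
    by_cases c1 : f = h
    · exact ⟨g, hg, c1 ▸ hgf, c1 ▸ hgf'⟩
    · by_cases c2 : f = dag σ h
      · refine ⟨g, hg, ?_, ?_⟩
        · intro e
          apply hgf'
          rw [e, c2, hhh]
        · rw [← c2]
          exact hgf
      · exact ⟨f, hf, c1, c2⟩
  have hdisj := DIMSUM1.orbit_disjoint σ hσ2 hμ hh hk hk1 hk2
  have hsub : ({h, dag σ h} : Finset F[X]) ∪ ({k, dag σ k} : Finset F[X]) ⊆ facs μ :=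
    Finset.union_subset (DIMSUM1.orbit_subset σ hσ2 hμ hh) (DIMSUM1.orbit_subset σ hσ2 hμ hk)
  have hsum : mult μ h * s + mult μ k * s ≤ μ.natDegree := by
    rw [natDegree_eq_sum hμ.monic, ← hs h hh, ← DIMSUM1.orbit_sum σ hσ2 hμ hh, hs h hh,
      ← hs k hk, ← DIMSUM1.orbit_sum σ hσ2 hμ hk, ← Finset.sum_union hdisj]
    exact Finset.sum_le_sum_of_subset hsub
  have hmk : 1 ≤ mult μ k := mult_pos hk
  have hmh : 1 ≤ mult μ h := mult_pos hh
  rw [hE']
  obtain ⟨E', hE''⟩ : ∃ E', mult μ h = E' + 1 := ⟨mult μ h - 1, by omega⟩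
  rw [hE''] at hsum ⊢
  have h1 : E' ≤ E' * s := Nat.le_mul_of_pos_right _ hs1
  have h2 : s ≤ mult μ k * s := Nat.le_mul_of_pos_left _ hmk
  have h3 : (E' + 1) * s = E' * s + s := by ring
  rw [h3] at hsum
  omega

end poly

end Cfsg.Agent.S2263P
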