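import Mathlib

set_option autoImplicit false

/-! S0996 piece K1 (pure arithmetic). -/

namespace Cfsg.Agent.Helper6.S0996K1

/-- the common numerical core of K1 and K2: `a b p + a e + b = e n`-type equation is impossible
for `a, b ≥ 1` with `e ∣ b (a + 1)`. -/
theorem core {p e n a b : ℕ} (he0 : 0 < e) (ha : 1 ≤ a) (hb : 1 ≤ b)
    (hn : 2 * n < p + 3) (heq : a * b * p + a * e + b = e * n) (hdvd : e ∣ b * (a + 1)) : False := by
  have hpos : 0 < b * (a + 1) := Nat.mul_pos hb (Nat.succ_pos a)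
  have hle : e ≤ b * (a + 1) := Nat.le_of_dvd hpos hdvd
  -- 2 (a+1) e n = 2 (a+1) a e + 2 b (a+1) (a p + 1) ≥ 2 (a+1) a e + 2 e (a p + 1)
  have h1 : 2 * (a + 1) * (e * n) = 2 * (a + 1) * a * e + 2 * (b * (a + 1)) * (a * p + 1) := by
    rw [← heq]; ring
  have h2 : 2 * e * (a * p + 1) ≤ 2 * (b * (a + 1)) * (a * p + 1) :=
    Nat.mul_le_mul_right _ (Nat.mul_le_mul_left 2 hle)
  have h3 : 2 * (a + 1) * (e * n) ≤ e * ((a + 1) * (p + 2)) := by
    have : 2 * n ≤ p + 2 := by omega
    calc 2 * (a + 1) * (e * n) = e * ((a + 1) * (2 * n)) := by ring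
      _ ≤ e * ((a + 1) * (p + 2)) := Nat.mul_le_mul_left _ (Nat.mul_le_mul_left _ this)
  have h4 : e * (2 * (a + 1) * a + 2 * (a * p + 1)) ≤ e * ((a + 1) * (p + 2)) := by
    calc e * (2 * (a + 1) * a + 2 * (a * p + 1))
        = 2 * (a + 1) * a * e + 2 * e * (a * p + 1) := by ring
      _ ≤ 2 * (a + 1) * a * e + 2 * (b * (a + 1)) * (a * p + 1) := Nat.add_le_add_left h2 _
      _ = 2 * (a + 1) * (e * n) := h1.symm
      _ ≤ e * ((a + 1) * (p + 2)) := h3
  have h5 : 2 * (a + 1) * a + 2 * (a * p + 1) ≤ (a + 1) * (p + 2) := Nat.le_of_mul_le_mul_left h4 he0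
  nlinarith [Nat.mul_le_mul ha ha, Nat.mul_le_mul_right p ha]

end Cfsg.Agent.Helper6.S0996K1

namespace Cfsg.Agent.S0996P

theorem arith_K1 {p e n d : ℕ} (hp : p.Prime) (h5 : 5 ≤ p) (he : e ∣ p - 1) (he2 : 2 ≤ e)
    (hn1 : 1 ≤ n) (hn : 2 * n < p + 3) (hd : d ∣ p * e * (1 + n * p)) (hmod : d % p = 1)
    (hd1 : d ≠ 1) : d = 1 + n * p := by
  have hp0 : 0 < p := hp.pos
  obtain ⟨k, hk⟩ := he
  have hpk : p = 1 + e * k := by omega
  have hep : e < p := by
    have : 1 ≤ k := by
      rcases Nat.eq_zero_or_pos k with h | h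
      · subst h; omega
      · exact h
    nlinarith
  -- d = u p + 1
  set u := d / p with hu
  have hdu : d = u * p + 1 := by
    have := Nat.div_add_mod d p
    rw [hmod] at this
    rw [hu]; linarith [mul_comm p (d / p)]
  have hu1 : 1 ≤ u := by
    rcases Nat.eq_zero_or_pos u with h | h
    · rw [h] at hdu; omega
    · exact h
  have hcop : Nat.Coprime d p := by
    rw [Nat.Coprime, Nat.gcd_comm, Nat.gcd_rec, hmod]
    exact Nat.gcd_one_left _
  have hd' : d ∣ e * (1 + n * p) := by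
    have : d ∣ p * (e * (1 + n * p)) := by rwa [← mul_assoc]
    exact hcop.dvd_of_dvd_mul_left this
  obtain ⟨d', hd'⟩ := hd'
  -- d' ≡ e mod p
  have hmod' : d' % p = e := by
    have h1 : (d * d') % p = d' % p := by
      rw [Nat.mul_mod, hmod, one_mul, Nat.mod_mod]
    have h2 : (e * (1 + n * p)) % p = e := by
      rw [mul_add, mul_one, ← mul_assoc, Nat.add_mul_mod_self_right, Nat.mod_eq_of_lt hep]
    rw [← h1, ← hd', h2]
  set v := d' / p with hv
  have hdv : d' = v * p + e := by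
    have := Nat.div_add_mod d' p
    rw [hmod'] at this
    rw [hv]; linarith [mul_comm p (d' / p)]
  -- the key equation
  have hkey : u * v * p + u * e + v = e * n := by
    have h1 : e * (1 + n * p) = (u * p + 1) * (v * p + e) := by rw [hd', hdu, hdv]
    have h2 : p * (u * v * p + u * e + v) = p * (e * n) := by nlinarith
    exact Nat.eq_of_mul_eq_mul_left hp0 h2
  rcases Nat.eq_zero_or_pos v with hv0 | hv0
  · rw [hv0] at hkey
    have : u * e = n * e := by linarith
    have hun : u = n := Nat.eq_of_mul_eq_mul_right (by omega) this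
    rw [hdu, hun]; ring
  · exfalso
    have hdvd : e ∣ v * (u + 1) := by
      have h1 : e ∣ u * v * p + u * e + v := ⟨n, hkey⟩
      have h2 : u * v * p + u * e + v = e * (u * v * k + u) + v * (u + 1) := by
        rw [hpk]; ring
      rw [h2] at h1
      exact (Nat.dvd_add_right (Dvd.intro _ rfl)).mp h1
    exact Cfsg.Agent.Helper6.S0996K1.core (by omega) hu1 hv0 hn hkey hdvd

end Cfsg.Agent.S0996P
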