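import Mathlib
import Cfsg.Agent.Helper6.S0996K1

set_option autoImplicit false

/-! S0996 piece K2 (pure arithmetic). -/

namespace Cfsg.Agent.S0996P

theorem arith_K2 {p e n d u : ℕ} (hp : p.Prime) (h5 : 5 ≤ p) (he : e ∣ p - 1) (he2 : 2 ≤ e)
    (hn1 : 1 ≤ n) (hn : 2 * n < p + 3) (hd : d ∣ p * e * (1 + n * p)) (hdu : d = u * p + e)
    (hsq : d * d < p * e * (1 + n * p)) : u = 0 := by
  have hp0 : 0 < p := hp.pos
  obtain ⟨k, hk⟩ := he
  have hpk : p = 1 + e * k := by omega
  have hep : e < p := by
    have : 1 ≤ k := by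
      rcases Nat.eq_zero_or_pos k with h | h
      · subst h; omega
      · exact h
    nlinarith
  have hnd : ¬ p ∣ d := by
    intro h
    rw [hdu] at h
    have : p ∣ e := (Nat.dvd_add_right (Dvd.intro_left u rfl)).mp h
    have := Nat.le_of_dvd (by omega) this
    omega
  have hcop : Nat.Coprime d p := ((Nat.Prime.coprime_iff_not_dvd hp).mpr hnd).symm
  have hd' : d ∣ e * (1 + n * p) := by
    have : d ∣ p * (e * (1 + n * p)) := by rwa [← mul_assoc]
    exact hcop.dvd_of_dvd_mul_left this
  obtain ⟨d', hd'⟩ := hd'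
  have hd'pos : 0 < d' := by
    rcases Nat.eq_zero_or_pos d' with h | h
    · rw [h, mul_zero] at hd'
      have : 0 < e * (1 + n * p) := Nat.mul_pos (by omega) (by omega)
      omega
    · exact h
  -- p ∣ d' - 1, in the form d' = w p + 1
  have hpd : p ∣ e * (d' - 1) := by
    have h1 : e * (d' - 1) + e + p * (u * d') = e + p * (e * n) := by
      have : e * (d' - 1) + e = e * d' := by
        rw [← Nat.mul_succ]; congr 1; omega
      rw [this]
      have h2 : e * (1 + n * p) = (u * p + e) * d' := by rw [hd', hdu]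
      nlinarith
    have h3 : e * (d' - 1) + p * (u * d') = p * (e * n) := by omega
    have h4 : p ∣ e * (d' - 1) + p * (u * d') := ⟨e * n, h3⟩
    exact (Nat.dvd_add_left (Dvd.intro _ rfl)).mp h4
  have hpd' : p ∣ d' - 1 := by
    rcases (Nat.Prime.dvd_mul hp).mp hpd with h | h
    · exfalso
      have := Nat.le_of_dvd (by omega) h
      omega
    · exact h
  obtain ⟨w, hw⟩ := hpd'
  have hdw : d' = w * p + 1 := by
    have : d' = (d' - 1) + 1 := by omega
    rw [this, hw]; ring
  have hkey : w * u * p + w * e + u = e * n := by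
    have h1 : e * (1 + n * p) = (u * p + e) * (w * p + 1) := by rw [hd', hdu, hdw]
    have h2 : p * (w * u * p + w * e + u) = p * (e * n) := by nlinarith
    exact Nat.eq_of_mul_eq_mul_left hp0 h2
  by_contra hu0
  have hu1 : 1 ≤ u := Nat.one_le_iff_ne_zero.mpr hu0
  rcases Nat.eq_zero_or_pos w with hw0 | hw0
  · rw [hw0] at hkey
    have hue : u = e * n := by linarith
    have hde : d = e * (1 + n * p) := by rw [hdu, hue]; ring
    rw [hde] at hsq
    have h1 : e * (1 + n * p) < p := by
      have hpos : 0 < e * (1 + n * p) := Nat.mul_pos (by omega) (by omega)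
      have : e * (1 + n * p) * (e * (1 + n * p)) < p * (e * (1 + n * p)) := by
        calc e * (1 + n * p) * (e * (1 + n * p)) < p * e * (1 + n * p) := hsq
          _ = p * (e * (1 + n * p)) := by ring
      exact Nat.lt_of_mul_lt_mul_right this
    nlinarith
  · have hdvd : e ∣ u * (w + 1) := by
      have h1 : e ∣ w * u * p + w * e + u := ⟨n, hkey⟩
      have h2 : w * u * p + w * e + u = e * (w * u * k + w) + u * (w + 1) := by
        rw [hpk]; ring
      rw [h2] at h1
      exact (Nat.dvd_add_right (Dvd.intro _ rfl)).mp h1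
    exact Cfsg.Agent.Helper6.S0996K1.core (by omega) hw0 hu1 hn hkey hdvd

end Cfsg.Agent.S0996P
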