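import Mathlib
import Cfsg.Agent.Helper6.S0996K1

set_option autoImplicit false

/-! S0996 piece K3 (pure arithmetic). -/

namespace Cfsg.Agent.S0996P

theorem arith_K3 {p e t n d u : ℕ} (hp : p.Prime) (h5 : 5 ≤ p) (het : t * e = p - 1)
    (he2 : 2 ≤ e) (hn1 : 1 ≤ n) (hn : 2 * n < p + 3) (hd : d ∣ p * e * (1 + n * p))
    (hdu : d + e = u * p) (hd1 : d ≠ 1) : t * d = 1 + n * p ∧ u * t = n + 1 := by
  have hp0 : 0 < p := hp.pos
  have hpt : p = 1 + t * e := by omega
  have ht1 : 1 ≤ t := by
    rcases Nat.eq_zero_or_pos t with h | h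
    · subst h; omega
    · exact h
  have hep : e < p := by nlinarith
  have hu1 : 1 ≤ u := by
    rcases Nat.eq_zero_or_pos u with h | h
    · subst h; omega
    · exact h
  rcases Nat.eq_or_lt_of_le ht1 with ht | ht
  · -- t = 1
    have he1 : e = p - 1 := by rw [← ht] at het; omega
    have hd' : d = (u - 1) * p + 1 := by
      have : u * p = (u - 1) * p + p := by
        have : u = (u - 1) + 1 := by omega
        conv_lhs => rw [this]
        ring
      omega
    have hmod : d % p = 1 := by
      rw [hd', Nat.mul_add_mod_self_right]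
      exact Nat.mod_eq_of_lt (by omega)
    have hK1 := arith_K1 hp h5 (by rw [he1]) he2 hn1 hn hd hmod hd1
    have hun : (u - 1) * p = n * p := by omega
    have hun' : u - 1 = n := Nat.eq_of_mul_eq_mul_right hp0 hun
    constructor
    · rw [← ht, one_mul, hK1]
    · rw [← ht, mul_one]; omega
  · -- t ≥ 2
    have ht2 : 2 ≤ t := ht
    have he2p : 2 * e + 1 ≤ p := by nlinarith
    have hnd : ¬ p ∣ d := by
      intro h
      have h2 : p ∣ d + e := ⟨u, by rw [hdu, mul_comm]⟩
      have : p ∣ e := (Nat.dvd_add_right h).mp h2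
      have := Nat.le_of_dvd (by omega) this
      omega
    have hcop : Nat.Coprime d p := ((Nat.Prime.coprime_iff_not_dvd hp).mpr hnd).symm
    have hd' : d ∣ e * (1 + n * p) := by
      have : d ∣ p * (e * (1 + n * p)) := by rwa [← mul_assoc]
      exact hcop.dvd_of_dvd_mul_left this
    obtain ⟨d', hd'⟩ := hd'
    -- p ∣ d' + 1
    have hpd : p ∣ d * (d' + 1) := by
      refine ⟨e * n + u, ?_⟩
      have : d * (d' + 1) + e = e * (1 + n * p) + u * p := by
        rw [mul_add, mul_one, ← hd', add_assoc, hdu]
      have h2 : d * (d' + 1) + e = p * (e * n + u) + e := by rw [this]; ring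
      omega
    have hpd' : p ∣ d' + 1 := by
      rcases (Nat.Prime.dvd_mul hp).mp hpd with h | h
      · exact absurd h hnd
      · exact h
    obtain ⟨w, hw⟩ := hpd'
    have hw1 : 1 ≤ w := by
      rcases Nat.eq_zero_or_pos w with h | h
      · subst h; omega
      · exact h
    -- the key equation  u w p = e n + u + e w
    have hkey : u * w * p = e * n + u + e * w := by
      have h1 : (d + e) * (d' + 1) = (u * p) * (p * w) := by rw [hdu, hw]
      have h2 : (d + e) * (d' + 1) = e * (1 + n * p) + d + e * d' + e := by
        rw [hd']; ring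
      have h3 : e * (1 + n * p) + (d + e) + e * (d' + 1) = u * w * p * p + e := by
        have : e * (1 + n * p) + d + e * d' + e = u * p * (p * w) := by rw [← h2, h1]
        nlinarith
      rw [hdu, hw] at h3
      have h4 : p * (u * w * p) = p * (e * n + u + e * w) := by nlinarith
      exact Nat.eq_of_mul_eq_mul_left hp0 h4
    rcases Nat.eq_or_lt_of_le hw1 with hw' | hw'
    · -- w = 1
      rw [← hw'] at hkey hw
      have h1 : u * (t * e) = e * (n + 1) := by
        have : u * p = u * (1 + t * e) := by rw [← hpt]
        nlinarith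
      have hut : u * t = n + 1 := by
        have : e * (u * t) = e * (n + 1) := by rw [← h1]; ring
        exact Nat.eq_of_mul_eq_mul_left (by omega) this
      refine ⟨?_, hut⟩
      -- t d = t u p - t e = (n+1) p - (p - 1)
      have h2 : t * d + t * e = (n + 1) * p := by
        rw [← hut, ← mul_add, hdu]; ring
      have h3 : (n + 1) * p = n * p + p := by ring
      omega
    · -- w ≥ 2: contradiction
      exfalso
      obtain ⟨m, rfl⟩ : ∃ m, w = m + 1 := ⟨w - 1, by omega⟩
      have hm1 : 1 ≤ m := by omega
      -- e ∣ u m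
      have hdvd : e ∣ u * m := by
        have h1 : u * m + e * (u * (m + 1) * t) = e * (n + (m + 1)) := by
          have h0 : u * (m + 1) * p = u * m + u + e * (u * (m + 1) * t) := by
            rw [hpt]; ring
          have : u * m + u + e * (u * (m + 1) * t) = e * n + u + e * (m + 1) := by
            rw [← h0, hkey]
          linarith [mul_add e n (m + 1)]
        have h3 : e ∣ u * m + e * (u * (m + 1) * t) := ⟨n + (m + 1), h1⟩
        exact (Nat.dvd_add_left (Dvd.intro _ rfl)).mp h3
      have hpos : 0 < u * m := Nat.mul_pos hu1 hm1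
      have hle : e ≤ u * m := Nat.le_of_dvd hpos hdvd
      -- (A) : (m+1) p ≤ m (n + m + 1) + 1
      have hA : (m + 1) * p ≤ m * (n + m + 1) + 1 := by
        obtain ⟨Y, hY⟩ : ∃ Y, (m + 1) * p = Y + 1 := ⟨(m + 1) * p - 1, by
          have : 0 < (m + 1) * p := Nat.mul_pos (by omega) hp0
          omega⟩
        have h1 : u * Y = e * (n + m + 1) := by
          have : u * ((m + 1) * p) = e * n + u + e * (m + 1) := by rw [← hkey]; ring
          rw [hY] at this
          linarith [mul_add u Y 1, mul_add e (n + m) 1, mul_add e n m, mul_add e m 1]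
        have h2 : e * Y ≤ e * (m * (n + m + 1)) := by
          calc e * Y ≤ (u * m) * Y := Nat.mul_le_mul_right _ hle
            _ = m * (u * Y) := by ring
            _ = e * (m * (n + m + 1)) := by rw [h1]; ring
        have h3 : Y ≤ m * (n + m + 1) := Nat.le_of_mul_le_mul_left h2 (by omega)
        omega
      -- (A') : p (m+2) ≤ 2 (m+1)^2
      have hA' : p * (m + 2) ≤ 2 * ((m + 1) * (m + 1)) := by
        have h2n : 2 * n ≤ p + 2 := by omega
        have h5 := Nat.mul_le_mul_left m h2n
        clear hd hdu hd' hw hkey hdvd hle hpos hcop hnd hd1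
        nlinarith
      -- (B') : (p+1)(m+1) + n ≤ n p + 2
      have hB : (p + 1) * (m + 1) + n ≤ n * p + 2 := by
        have hdp : p ≤ d + e := by rw [hdu]; exact Nat.le_mul_of_pos_left p hu1
        have h2d : p + 1 ≤ 2 * d := by omega
        have hd'1 : d' + 1 = p * (m + 1) := hw
        have h1 : (p + 1) * d' ≤ 2 * (e * (1 + n * p)) := by
          rw [hd']
          calc (p + 1) * d' ≤ (2 * d) * d' := Nat.mul_le_mul_right _ h2d
            _ = 2 * (d * d') := by ring
        have h2 : 2 * (e * (1 + n * p)) + (1 + n * p) ≤ p * (1 + n * p) := by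
          have : (2 * e + 1) * (1 + n * p) ≤ p * (1 + n * p) := Nat.mul_le_mul_right _ he2p
          have e1 : (2 * e + 1) * (1 + n * p) = 2 * (e * (1 + n * p)) + (1 + n * p) := by ring
          omega
        have h3 : (p + 1) * (d' + 1) + (1 + n * p) ≤ p * (1 + n * p) + (p + 1) := by
          have e1 : (p + 1) * (d' + 1) = (p + 1) * d' + (p + 1) := by ring
          omega
        rw [hd'1] at h3
        have h4 : p * ((p + 1) * (m + 1) + n) ≤ p * (n * p + 2) := by
          have e1 : p * ((p + 1) * (m + 1) + n) + 1 = (p + 1) * (p * (m + 1)) + (1 + n * p) := by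
            ring
          have e2 : p * (n * p + 2) + 1 = p * (1 + n * p) + (p + 1) := by ring
          omega
        exact Nat.le_of_mul_le_mul_left h4 hp0
      clear hd hdu hd' hw hkey hdvd hle hpos hcop hnd hd1 hA
      rcases Nat.eq_or_lt_of_le hn1 with hn' | hn'
      · rw [← hn'] at hB
        have h6 := Nat.mul_le_mul_left (p + 1) (show 2 ≤ m + 1 by omega)
        omega
      · have hmn : m + 2 ≤ n := by
          by_contra hcon
          push Not at hcon
          have h7 : n ≤ m + 1 := by omega
          have h8 := Nat.mul_le_mul_right p h7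
          have e1 : (p + 1) * (m + 1) = (m + 1) * p + (m + 1) := by ring
          omega
        have h2m : 2 * (m + 1) ≤ p := by omega
        have h9 := Nat.mul_le_mul_left (m + 1) h2m
        have e1 : (m + 1) * (2 * (m + 1)) = 2 * ((m + 1) * (m + 1)) := by ring
        have e2 : p * (m + 2) = (m + 1) * p + p := by ring
        omega

end Cfsg.Agent.S0996P
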