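import Mathlib
import Cfsg.Agent.Helper27.S0996Defs

set_option autoImplicit false

/-! S0996 piece GRP: the pure group theory step on the centralizer of an involution. -/

namespace Cfsg.Agent.Helper6.S0996GRP

variable {G : Type*} [Group G]

/-- elements of a cyclic subgroup commute -/
theorem comm_of_cyclic (E : Subgroup G) (hcyc : IsCyclic E) {a b : G} (ha : a ∈ E) (hb : b ∈ E) :
    a * b = b * a := by
  obtain ⟨g, hg⟩ := hcyc.exists_generator
  obtain ⟨i, hi⟩ := Subgroup.mem_zpowers_iff.mp (hg ⟨a, ha⟩)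
  obtain ⟨j, hj⟩ := Subgroup.mem_zpowers_iff.mp (hg ⟨b, hb⟩)
  have h : (⟨a, ha⟩ : E) * ⟨b, hb⟩ = ⟨b, hb⟩ * ⟨a, ha⟩ := by
    rw [← hi, ← hj]
    exact (Commute.refl g).zpow_zpow i j
  exact congrArg Subtype.val h

/-- a cyclic subgroup has at most one involution -/
theorem invol_unique [Finite G] (E : Subgroup G) (hcyc : IsCyclic E) {a b : G} (ha : a ∈ E)
    (hb : b ∈ E) (ha2 : a * a = 1) (hb2 : b * b = 1) (ha1 : a ≠ 1) (hb1 : b ≠ 1) : a = b := by
  classical
  by_contra hab
  haveI : Fintype E := Fintype.ofFinite E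
  have hle := IsCyclic.card_pow_eq_one_le (α := E) (n := 2) (by norm_num)
  have hsub : ({1, ⟨a, ha⟩, ⟨b, hb⟩} : Finset E) ⊆
      Finset.univ.filter (fun x : E => x ^ 2 = 1) := by
    intro x hx
    simp only [Finset.mem_insert, Finset.mem_singleton] at hx
    rw [Finset.mem_filter]
    refine ⟨Finset.mem_univ _, ?_⟩
    rcases hx with rfl | rfl | rfl
    · exact one_pow 2
    · apply Subtype.ext; rw [pow_two]; exact ha2
    · apply Subtype.ext; rw [pow_two]; exact hb2
  have hcard : ({1, ⟨a, ha⟩, ⟨b, hb⟩} : Finset E).card = 3 := by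
    rw [Finset.card_insert_of_notMem, Finset.card_insert_of_notMem, Finset.card_singleton]
    · simp only [Finset.mem_singleton]
      intro h
      exact hab (congrArg Subtype.val h)
    · simp only [Finset.mem_insert, Finset.mem_singleton, not_or]
      constructor
      · intro h
        exact ha1 (congrArg Subtype.val h).symm
      · intro h
        exact hb1 (congrArg Subtype.val h).symm
  have := Finset.card_le_card hsub
  omega

end Cfsg.Agent.Helper6.S0996GRP

namespace Cfsg.Agent.S0996P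

open Cfsg Cfsg.Agent.Helper24 Cfsg.Agent.Helper1.W2p Cfsg.Agent.Helper6.S0996GRP

universe u

variable {G : Type u} [Group G]

section L5b
variable [Finite G] {p : ℕ} [Fact p.Prime] {P : Subgroup G} {n : ℕ}

/-- GRP -/
theorem invol_group_step (x₀ : G) (ho : orderOf x₀ = 2) (E : Subgroup G) (hcyc : IsCyclic E)
    (hxE : x₀ ∈ E) (e t : ℕ) (hE : Nat.card E = e)
    (hC : Nat.card ↥(Subgroup.centralizer ({x₀} : Set G)) = e * t)
    (hS : Nat.card {s : G // IsConj x₀ s ∧ IsConj x₀ (s⁻¹ * x₀)} = e * (t - 1)) :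
    t ≤ 2 ∨ e = 2 := by
  classical
  by_cases ht : t ≤ 2
  · exact Or.inl ht
  right
  push Not at ht
  have hx2 : x₀ * x₀ = 1 := by
    rw [← pow_two, ← ho]; exact pow_orderOf_eq_one x₀
  have hx1 : x₀ ≠ 1 := by
    intro h
    rw [h, orderOf_one] at ho
    omega
  set C := Subgroup.centralizer ({x₀} : Set G) with hCdef
  have memC : ∀ a : G, a ∈ C ↔ a * x₀ = x₀ * a := by
    intro a
    rw [hCdef, Subgroup.mem_centralizer_iff]
    constructor
    · intro h; exact (h x₀ rfl).symm
    · intro h y hy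
      rw [Set.mem_singleton_iff] at hy
      rw [hy]; exact h.symm
  have hEC : E ≤ C := by
    intro c hc
    rw [memC]
    exact comm_of_cyclic E hcyc hc hxE
  -- involutions conjugate to `x₀`
  have conj_sq : ∀ s : G, IsConj x₀ s → s * s = 1 ∧ s ≠ 1 := by
    intro s hs
    obtain ⟨c, hc⟩ := isConj_iff.mp hs
    constructor
    · rw [← hc]
      calc c * x₀ * c⁻¹ * (c * x₀ * c⁻¹) = c * (x₀ * x₀) * c⁻¹ := by group
        _ = 1 := by rw [hx2]; group
    · intro h1
      rw [h1] at hc
      apply hx1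
      have : x₀ = c⁻¹ * (c * x₀ * c⁻¹) * c := by group
      rw [this, hc]; group
  -- the two sets
  set S : Set G := {s | IsConj x₀ s ∧ IsConj x₀ (s⁻¹ * x₀)} with hSdef
  set D : Set G := (C : Set G) \ (E : Set G) with hDdef
  have hSD : S ⊆ D := by
    intro s hs
    obtain ⟨h1, h2⟩ := hs
    obtain ⟨hs2, hs1⟩ := conj_sq s h1
    obtain ⟨hp2, hp1⟩ := conj_sq _ h2
    have hsinv : s⁻¹ = s := inv_eq_of_mul_eq_one_left hs2
    rw [hsinv] at hp2 hp1
    -- s x₀ s x₀ = 1
    have hcomm : s * x₀ = x₀ * s := by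
      have h3 : s * x₀ * (s * x₀) * (x₀ * s) = x₀ * s := by rw [hp2, one_mul]
      have h4 : s * x₀ * (s * x₀) * (x₀ * s) = s * x₀ * (s * (x₀ * x₀) * s) := by group
      rw [h4, hx2, mul_one, hs2, mul_one] at h3
      exact h3
    refine ⟨(memC s).mpr hcomm, ?_⟩
    intro hsE
    have : s = x₀ := invol_unique E hcyc hsE hxE hs2 hx2 hs1 hx1
    apply hp1
    rw [this, hx2]
  have hSfin : S.Finite := Set.toFinite S
  have hDfin : D.Finite := Set.toFinite D
  have hScard : S.ncard = e * (t - 1) := by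
    rw [← hS]
    exact (Nat.card_coe_set_eq S).symm
  have hDcard : D.ncard = e * (t - 1) := by
    rw [hDdef, Set.ncard_diff (by exact_mod_cast hEC) (Set.toFinite _)]
    have h1 : (C : Set G).ncard = e * t := by
      rw [← hC]; exact (Nat.card_coe_set_eq (C : Set G)).symm
    have h2 : (E : Set G).ncard = e := by
      rw [← hE]; exact (Nat.card_coe_set_eq (E : Set G)).symm
    rw [h1, h2, Nat.mul_sub, mul_one]
  have hSeqD : S = D := Set.eq_of_subset_of_ncard_le hSD (by rw [hScard, hDcard]) hDfin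
  -- every element of `C ∖ E` is an involution
  have hDinv : ∀ a : G, a ∈ C → a ∉ E → a * a = 1 := by
    intro a haC haE
    have : a ∈ S := by rw [hSeqD]; exact ⟨haC, haE⟩
    exact (conj_sq a this.1).1
  have he_pos : 0 < e := by
    rw [← hE]; exact Nat.card_pos
  -- an element `a ∈ C ∖ E`
  have hex : ∃ a : G, a ∈ C ∧ a ∉ E := by
    by_contra hcon
    push Not at hcon
    have : D = ∅ := by
      ext a
      simp only [hDdef, Set.mem_diff, SetLike.mem_coe, Set.mem_empty_iff_false, iff_false, not_and,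
        not_not]
      exact hcon a
    rw [this, Set.ncard_empty] at hDcard
    have : 0 < e * (t - 1) := Nat.mul_pos he_pos (by omega)
    omega
  obtain ⟨a, haC, haE⟩ := hex
  have ha2 : a * a = 1 := hDinv a haC haE
  have hainv : a⁻¹ = a := inv_eq_of_mul_eq_one_left ha2
  -- elements of `C ∖ E` invert `E`
  have hinvert : ∀ b : G, b ∈ C → b ∉ E → ∀ c ∈ E, b * c * b⁻¹ = c⁻¹ := by
    intro b hbC hbE c hc
    have hb2 : b * b = 1 := hDinv b hbC hbE
    have hbinv : b⁻¹ = b := inv_eq_of_mul_eq_one_left hb2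
    have hbc : b * c ∉ E := by
      intro h
      apply hbE
      have : b = b * c * c⁻¹ := by group
      rw [this]
      exact E.mul_mem h (E.inv_mem hc)
    have hbc2 : b * c * (b * c) = 1 := hDinv (b * c) (C.mul_mem hbC (hEC hc)) hbc
    rw [hbinv]
    apply eq_inv_of_mul_eq_one_left
    rw [← hbc2]; group
  -- an element `b ∈ C ∖ (E ∪ aE)`
  have hex2 : ∃ b : G, b ∈ C ∧ b ∉ E ∧ a * b ∉ E := by
    by_contra hcon
    push Not at hcon
    -- then C ⊆ E ∪ a E
    have hsub : (C : Set G) ⊆ (E : Set G) ∪ (fun c => a * c) '' (E : Set G) := by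
      intro b hb
      by_cases hbE : b ∈ E
      · exact Or.inl hbE
      · right
        refine ⟨a * b, hcon b hb hbE, ?_⟩
        show a * (a * b) = b
        rw [← mul_assoc, ha2, one_mul]
    have h1 : (C : Set G).ncard = e * t := by
      rw [← hC]; exact (Nat.card_coe_set_eq (C : Set G)).symm
    have h2 : (E : Set G).ncard = e := by
      rw [← hE]; exact (Nat.card_coe_set_eq (E : Set G)).symm
    have h3 : ((fun c => a * c) '' (E : Set G)).ncard ≤ e := by
      rw [← h2]; exact Set.ncard_image_le (Set.toFinite _)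
    have h4 := Set.ncard_le_ncard hsub (Set.toFinite _)
    have h5 := Set.ncard_union_le (E : Set G) ((fun c => a * c) '' (E : Set G))
    have : e * 3 ≤ e * t := Nat.mul_le_mul_left e ht
    omega
  obtain ⟨b, hbC, hbE, habE⟩ := hex2
  -- all of `E` has exponent 2
  have hexp : ∀ c ∈ E, c * c = 1 := by
    intro c hc
    have h1 := hinvert a haC haE c hc
    have h2 := hinvert b hbC hbE c hc
    have h3 := hinvert (a * b) (C.mul_mem haC hbC) habE c hc
    have h4 : a * b * c * (a * b)⁻¹ = a * (b * c * b⁻¹) * a⁻¹ := by group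
    rw [h4, h2] at h3
    have h5 : a * c⁻¹ * a⁻¹ = (a * c * a⁻¹)⁻¹ := by group
    rw [h5, h1, inv_inv] at h3
    -- c = c⁻¹
    calc c * c = c * c⁻¹ := by rw [← h3]
      _ = 1 := mul_inv_cancel c
  -- so `E = {1, x₀}`
  have hE2 : ∀ c ∈ E, c = 1 ∨ c = x₀ := by
    intro c hc
    by_cases h1 : c = 1
    · exact Or.inl h1
    · exact Or.inr (invol_unique E hcyc hc hxE (hexp c hc) hx2 h1 hx1)
  have hEset : (E : Set G) = {1, x₀} := by
    ext c
    simp only [SetLike.mem_coe, Set.mem_insert_iff, Set.mem_singleton_iff]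
    constructor
    · exact hE2 c
    · rintro (rfl | rfl)
      · exact E.one_mem
      · exact hxE
  have : (E : Set G).ncard = 2 := by
    rw [hEset]
    exact Set.ncard_pair (Ne.symm hx1)
  rw [← hE, ← this]
  exact Nat.card_coe_set_eq (E : Set G)

end L5b

end Cfsg.Agent.S0996P
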