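import Mathlib
import Cfsg.Agent.Helper27.S0996Defs

set_option autoImplicit false

/-! S0996 piece LN1: `N_G(P)/P` is cyclic. -/

namespace Cfsg.Agent.S0996P

open Cfsg Cfsg.Agent.Helper24 Cfsg.Agent.Helper1.W2p

universe u

variable {G : Type u} [Group G]

section L1
variable [Finite G] {p : ℕ} [Fact p.Prime] {P : Subgroup G} {n : ℕ}

/-- LN1 -/
theorem isCyclic_QP (H : Hyp p P n) : IsCyclic (QP P) := by
  have hker : P.normalizerMonoidHom.ker = P.subgroupOf (NP P) := by
    rw [Subgroup.normalizerMonoidHom_ker, H.cent]
  haveI : IsCyclic ↥P := isCyclic_of_prime_card H.card_P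
  haveI : IsCyclic (MulAut ↥P) := by
    have e := IsCyclic.mulAutMulEquiv (G := ↥P)
    rw [H.card_P] at e
    exact isCyclic_of_injective e.toMonoidHom e.injective
  let f : QP P →* MulAut ↥P :=
    (QuotientGroup.kerLift P.normalizerMonoidHom).comp
      (QuotientGroup.quotientMulEquivOfEq hker.symm).toMonoidHom
  have hf : Function.Injective f := by
    intro a b hab
    have h1 := QuotientGroup.kerLift_injective P.normalizerMonoidHom hab
    exact (QuotientGroup.quotientMulEquivOfEq hker.symm).injective h1
  exact isCyclic_of_injective f hf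

end L1

end Cfsg.Agent.S0996P
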