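import Mathlib
import Cfsg.Prelude.Def_Solvable

/-!
Frobenius groups from fixed-point-free actions: if a nontrivial group `S` acts by automorphisms on a
nontrivial group `V` such that every nonidentity element of `S` fixes only the identity of `V`,
then the copy of `S` inside `V ⋊ S` is a Frobenius complement.
-/

set_option autoImplicit false

namespace Cfsg.Agent.Helper6

open scoped Pointwise

section mul
variable {S V : Type*} [Group S] [Group V] [MulDistribMulAction S V]

theorem frob_semidirect [Nontrivial S] [Nontrivial V]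
    (hfpf : ∀ s : S, s ≠ 1 → ∀ v : V, s • v = v → v = 1) :
    Cfsg.IsFrobeniusComplement
      (SemidirectProduct.inr : S →* V ⋊[MulDistribMulAction.toMulAut S V] S).range := by
  set φ := MulDistribMulAction.toMulAut S V with hφ
  refine ⟨?_, ?_, ?_⟩
  · obtain ⟨s, hs⟩ := exists_ne (1 : S)
    intro hbot
    have h1 : (SemidirectProduct.inr s : V ⋊[φ] S) ∈
        (SemidirectProduct.inr : S →* V ⋊[φ] S).range := ⟨s, rfl⟩
    rw [hbot, Subgroup.mem_bot] at h1
    have h2 := congrArg SemidirectProduct.right h1
    simp only [SemidirectProduct.right_inr, SemidirectProduct.one_right] at h2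
    exact hs h2
  · obtain ⟨v, hv⟩ := exists_ne (1 : V)
    intro htop
    have h1 : (SemidirectProduct.inl v : V ⋊[φ] S) ∈
        (SemidirectProduct.inr : S →* V ⋊[φ] S).range := by rw [htop]; trivial
    obtain ⟨s, hs⟩ := h1
    have h2 := congrArg SemidirectProduct.left hs
    simp only [SemidirectProduct.left_inr, SemidirectProduct.left_inl] at h2
    exact hv h2.symm
  · intro g hg
    rw [eq_bot_iff]
    rintro x ⟨⟨t, rfl⟩, hx2⟩
    replace hx2 : (SemidirectProduct.inr t : V ⋊[φ] S) ∈
        MulAut.conj g • (SemidirectProduct.inr : S →* V ⋊[φ] S).range := hx2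
    rw [Subgroup.mem_pointwise_smul_iff_inv_smul_mem] at hx2
    obtain ⟨u, hu⟩ := hx2
    rw [Subgroup.mem_bot]
    have hgl : g.left ≠ 1 := by
      intro h
      apply hg
      refine ⟨g.right, ?_⟩
      ext
      · simp [h]
      · simp
    have hu' : (SemidirectProduct.inr u : V ⋊[φ] S) = g⁻¹ * SemidirectProduct.inr t * g := hu
    have h1 := congrArg SemidirectProduct.left hu'
    rw [SemidirectProduct.mul_left, SemidirectProduct.mul_left, SemidirectProduct.inv_left,
      SemidirectProduct.left_inr, SemidirectProduct.left_inr, map_one, mul_one,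
      SemidirectProduct.mul_right, SemidirectProduct.inv_right, SemidirectProduct.right_inr] at h1
    -- h1 : 1 = φ g.right⁻¹ g.left⁻¹ * φ (g.right⁻¹ * t) g.left
    have h2 : φ (g.right⁻¹ * t) g.left = φ g.right⁻¹ (φ t g.left) := by
      rw [map_mul]; rfl
    rw [h2, ← map_mul] at h1
    have h3 : g.left⁻¹ * φ t g.left = 1 := by
      have := (MulEquiv.map_eq_one_iff (φ g.right⁻¹)).mp h1.symm
      exact this
    have h4 : t • g.left = g.left := by
      have : φ t g.left = g.left := by
        rw [inv_mul_eq_one] at h3; exact h3.symm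
      exact this
    have h5 : t = 1 := by
      by_contra ht
      exact hgl (hfpf t ht _ h4)
    rw [h5, map_one]

theorem exists_frobenius_of_fpf_mul {S V : Type} [Group S] [Group V] [MulDistribMulAction S V]
    [Finite S] [Finite V] [Nontrivial S] [Nontrivial V]
    (hfpf : ∀ s : S, s ≠ 1 → ∀ v : V, s • v = v → v = 1) :
    ∃ (L : Type) (_ : Group L) (_ : Finite L) (H : Subgroup L),
      Cfsg.IsFrobeniusComplement H ∧ Nonempty (S ≃* H) := by
  refine ⟨V ⋊[MulDistribMulAction.toMulAut S V] S, inferInstance, ?_, _, frob_semidirect hfpf, ?_⟩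
  · exact Finite.of_equiv _ SemidirectProduct.equivProd.symm
  · exact ⟨MonoidHom.ofInjective SemidirectProduct.inr_injective⟩

end mul

section add

/-- the multiplicative version of a distributive action. -/
@[reducible] def mulDistribOfDistrib (S V : Type*) [Group S] [AddCommGroup V] [DistribMulAction S V] :
    MulDistribMulAction S (Multiplicative V) where
  smul s v := Multiplicative.ofAdd (s • Multiplicative.toAdd v)
  one_smul v := by
    show Multiplicative.ofAdd ((1 : S) • Multiplicative.toAdd v) = v
    rw [one_smul]; rfl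
  mul_smul s t v := by
    show Multiplicative.ofAdd ((s * t) • Multiplicative.toAdd v) =
      Multiplicative.ofAdd (s • Multiplicative.toAdd (Multiplicative.ofAdd (t • Multiplicative.toAdd v)))
    rw [mul_smul]; rfl
  smul_mul s v w := by
    show Multiplicative.ofAdd (s • (Multiplicative.toAdd v + Multiplicative.toAdd w)) =
      Multiplicative.ofAdd (s • Multiplicative.toAdd v) * Multiplicative.ofAdd (s • Multiplicative.toAdd w)
    rw [smul_add]; rfl
  smul_one s := by
    show Multiplicative.ofAdd (s • (0 : V)) = 1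
    rw [smul_zero]; rfl

/-- A nontrivial finite group acting fixed-point-freely (and additively) on a nontrivial finite abelian
group is a Frobenius complement of a finite group. -/
theorem exists_frobenius_of_fpf {S V : Type} [Group S] [AddCommGroup V] [DistribMulAction S V]
    [Finite S] [Finite V] [Nontrivial S] [Nontrivial V]
    (hfpf : ∀ s : S, s ≠ 1 → ∀ v : V, s • v = v → v = 0) :
    ∃ (L : Type) (_ : Group L) (_ : Finite L) (H : Subgroup L),
      Cfsg.IsFrobeniusComplement H ∧ Nonempty (S ≃* H) := by
  let _ := mulDistribOfDistrib S V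
  apply exists_frobenius_of_fpf_mul (S := S) (V := Multiplicative V)
  intro s hs v hv
  have h1 : s • Multiplicative.toAdd v = Multiplicative.toAdd v := congrArg Multiplicative.toAdd hv
  have h2 := hfpf s hs _ h1
  exact Multiplicative.toAdd.injective h2

end add


section transport

/-- Frobenius complements are transported by isomorphisms. -/
theorem isFrobeniusComplement_map_equiv {G G' : Type*} [Group G] [Group G'] (f : G ≃* G')
    (H : Subgroup G) (hH : Cfsg.IsFrobeniusComplement H) :
    Cfsg.IsFrobeniusComplement (H.map f.toMonoidHom) := by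
  obtain ⟨h1, h2, h3⟩ := hH
  refine ⟨?_, ?_, ?_⟩
  · intro h
    exact h1 ((Subgroup.map_eq_bot_iff_of_injective H f.injective).mp h)
  · intro h
    apply h2
    rw [eq_top_iff]
    intro x _
    have hx : f x ∈ H.map f.toMonoidHom := by rw [h]; trivial
    obtain ⟨y, hy, hxy⟩ := hx
    have : y = x := f.injective hxy
    rw [← this]; exact hy
  · intro g' hg'
    obtain ⟨g, rfl⟩ := f.surjective g'
    have hg : g ∉ H := fun hg => hg' ⟨g, hg, rfl⟩
    rw [eq_bot_iff]
    rintro x ⟨⟨y, hy, rfl⟩, hx2⟩
    rw [Subgroup.mem_bot]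
    have hx2' : f.toMonoidHom y ∈ MulAut.conj (f g) • H.map f.toMonoidHom := hx2
    rw [Subgroup.mem_pointwise_smul_iff_inv_smul_mem] at hx2'
    obtain ⟨z, hz, hzy⟩ := hx2'
    have hzy' : f z = (f g)⁻¹ * f y * f g := by
      have : (MulAut.conj (f g))⁻¹ • f.toMonoidHom y = (f g)⁻¹ * f y * f g := by
        simp [MulAut.smul_def]
      rw [← this]; exact hzy
    have hz' : z = g⁻¹ * y * g := by
      apply f.injective
      rw [hzy', map_mul, map_mul, map_inv]
    have hmem : y ∈ H ⊓ MulAut.conj g • H := by
      refine ⟨hy, ?_⟩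
      show y ∈ MulAut.conj g • H
      rw [Subgroup.mem_pointwise_smul_iff_inv_smul_mem]
      have : (MulAut.conj g)⁻¹ • y = g⁻¹ * y * g := by simp [MulAut.smul_def]
      rw [this, ← hz']; exact hz
    rw [h3 g hg, Subgroup.mem_bot] at hmem
    show f y = 1
    rw [hmem, map_one]

/-- Any Frobenius complement in a finite group has a model in `Type`. -/
theorem exists_frobenius_small {L' : Type*} [Group L'] [Finite L'] (H : Subgroup L')
    (hH : Cfsg.IsFrobeniusComplement H) :
    ∃ (L : Type) (_ : Group L) (_ : Finite L) (H₀ : Subgroup L),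
      Cfsg.IsFrobeniusComplement H₀ ∧ Nonempty (H ≃* H₀) := by
  obtain ⟨L, iG, iF, ⟨f⟩⟩ := Finite.exists_type_univ_nonempty_mulEquiv.{_, 0} L'
  refine ⟨L, iG, inferInstance, H.map f.toMonoidHom, isFrobeniusComplement_map_equiv f H hH, ?_⟩
  exact ⟨f.subgroupMap H⟩

/-- universe-polymorphic version of `exists_frobenius_of_fpf_mul`. -/
theorem exists_frobenius_of_fpf_mul' {S V : Type*} [Group S] [Group V] [MulDistribMulAction S V]
    [Finite S] [Finite V] [Nontrivial S] [Nontrivial V]
    (hfpf : ∀ s : S, s ≠ 1 → ∀ v : V, s • v = v → v = 1) :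
    ∃ (L : Type) (_ : Group L) (_ : Finite L) (H : Subgroup L),
      Cfsg.IsFrobeniusComplement H ∧ Nonempty (S ≃* H) := by
  haveI : Finite (V ⋊[MulDistribMulAction.toMulAut S V] S) :=
    Finite.of_equiv _ SemidirectProduct.equivProd.symm
  obtain ⟨L, iG, iF, H₀, hH₀, ⟨e⟩⟩ := exists_frobenius_small _ (frob_semidirect hfpf)
  exact ⟨L, iG, iF, H₀, hH₀,
    ⟨(MonoidHom.ofInjective SemidirectProduct.inr_injective).trans e⟩⟩

/-- universe-polymorphic version of `exists_frobenius_of_fpf`. -/
theorem exists_frobenius_of_fpf' {S V : Type*} [Group S] [AddCommGroup V] [DistribMulAction S V]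
    [Finite S] [Finite V] [Nontrivial S] [Nontrivial V]
    (hfpf : ∀ s : S, s ≠ 1 → ∀ v : V, s • v = v → v = 0) :
    ∃ (L : Type) (_ : Group L) (_ : Finite L) (H : Subgroup L),
      Cfsg.IsFrobeniusComplement H ∧ Nonempty (S ≃* H) := by
  let _ := mulDistribOfDistrib S V
  apply exists_frobenius_of_fpf_mul' (S := S) (V := Multiplicative V)
  intro s hs v hv
  have h1 : s • Multiplicative.toAdd v = Multiplicative.toAdd v := congrArg Multiplicative.toAdd hv
  have h2 := hfpf s hs _ h1
  exact Multiplicative.toAdd.injective h2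

end transport

end Cfsg.Agent.Helper6
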