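import Mathlib
import Cfsg.Prelude.Def_Transfer

/-!
# S2861: shared definitions for the piece board

`L ∈ 𝔏_G(Y_M)`, `A = O_p(L)`: `Y_M A / A` is the unique nontrivial normal elementary abelian
`p`-subgroup of `N_L(Y_M) / A`.

Abstract setting: `X = L / A`, `Yb = Y A / A`, `Nb = N_L(Y) / A`.
-/

set_option autoImplicit false

namespace Cfsg.Agent.S2861P

/-- The abstract hypothesis on `(X, Yb, Nb)`: `Yb ≤ Nb < X`, every proper subgroup containing `Yb`
lies in `Nb`, `Nb` normalises `Yb`, and `X` is the normal closure of `Yb`. -/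
structure Hyp {X : Type*} [Group X] (Yb Nb : Subgroup X) : Prop where
  le : Yb ≤ Nb
  ne_top : Nb ≠ ⊤
  max : ∀ Z : Subgroup X, Yb ≤ Z → Z ≠ ⊤ → Z ≤ Nb
  norm : Nb ≤ Subgroup.normalizer (Yb : Set X)
  gen : Subgroup.normalClosure (Yb : Set X) = ⊤

/-- The abstract conclusion: every nontrivial elementary abelian `p`-subgroup of `Nb` normalised by
`Nb` equals `Yb`. -/
def Concl (p : ℕ) {X : Type*} [Group X] (Yb Nb : Subgroup X) : Prop :=
  ∀ V : Subgroup X, V ≤ Nb → Nb ≤ Subgroup.normalizer (V : Set X) →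
    Cfsg.IsElementaryAbelian p V → V ≠ ⊥ → V = Yb

end Cfsg.Agent.S2861P
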