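import Mathlib
import Cfsg.Agent.Helper13.S3816Defs
import Cfsg.Agent.Helper13.S3816Basic
import Cfsg.Agent.Helper20.S3816MC3
import Cfsg.Agent.Helper22.S3816MINN
import Cfsg.Agent.S0055

/-! s3816pieces row C2A (helper6): `c2_Kth_ne` (complete) and the core of `c2_comm_fix` (the statement of DNORM's
`DD_normalized` is taken as a hypothesis until that row lands). -/

set_option autoImplicit false

open scoped commutatorElement

namespace Cfsg.Agent.S3816P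

universe u

variable {G : Type u} [Group G] [Finite G] {p : ℕ} [Fact p.Prime] {A K N : Subgroup G}

/-- core of `c2_comm_fix`: `[C,C] ≤ DD` for `C = C_K(A)`, given that `C` normalises `DD`. -/
theorem C2A_aux_comm_fix_core (mc : MC p A K) (hN : MinN K N)
    (hDN : K ⊓ Subgroup.centralizer (A : Set G) ≤ Subgroup.normalizer (DD A K : Set G)) :
    ⁅K ⊓ Subgroup.centralizer (A : Set G), K ⊓ Subgroup.centralizer (A : Set G)⁆ ≤ DD A K := by
  obtain ⟨r, hr, hrp, hexp, hab⟩ := hN.elemAb mc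
  have hsup := mc.fix_le_sup hN.normal hN.le hN.ne
  have hMC : N ⊓ Subgroup.centralizer (A : Set G) ≤ K ⊓ Subgroup.centralizer (A : Set G) :=
    inf_le_inf_right _ hN.le
  have hMn : N ⊓ Subgroup.centralizer (A : Set G) ≤ Subgroup.normalizer (DD A K : Set G) := hMC.trans hDN
  have hdec : ∀ x ∈ K ⊓ Subgroup.centralizer (A : Set G),
      ∃ d ∈ DD A K, ∃ m ∈ N ⊓ Subgroup.centralizer (A : Set G), x = d * m := by
    intro x hx
    have hx' : x ∈ ((DD A K ⊔ (N ⊓ Subgroup.centralizer (A : Set G)) : Subgroup G) : Set G) := hsup hx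
    rw [Subgroup.coe_mul_of_right_le_normalizer_left (DD A K) _ hMn] at hx'
    obtain ⟨d, hd, m, hm, rfl⟩ := Set.mem_mul.mp hx'
    exact ⟨d, hd, m, hm, rfl⟩
  rw [Subgroup.commutator_le]
  intro x hx y hy
  obtain ⟨d1, hd1, m1, hm1, rfl⟩ := hdec x hx
  obtain ⟨d2, hd2, m2, hm2, rfl⟩ := hdec y hy
  have hcomm : m1 * m2 = m2 * m1 := hab m1 hm1.1 m2 hm2.1
  have e : ⁅d1 * m1, d2 * m2⁆
      = d1 * (m1 * d2 * m1⁻¹) * (m1 * m2 * m1⁻¹ * m2⁻¹) * (m2 * d1⁻¹ * m2⁻¹) * d2⁻¹ := by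
    rw [commutatorElement_def]; group
  have e2 : m1 * m2 * m1⁻¹ * m2⁻¹ = 1 := by rw [hcomm]; group
  rw [e, e2, mul_one]
  have c1 : m1 * d2 * m1⁻¹ ∈ DD A K := (Subgroup.mem_normalizer_iff.mp (hMn hm1) d2).mp hd2
  have c2 : m2 * d1⁻¹ * m2⁻¹ ∈ DD A K :=
    (Subgroup.mem_normalizer_iff.mp (hMn hm2) d1⁻¹).mp (inv_mem hd1)
  exact mul_mem (mul_mem (mul_mem hd1 c1) c2) (inv_mem hd2)

/-- C2A -/
theorem c2_Kth_ne (mc : MC p A K) (hN : MinN K N) : Kth A K N ≠ N := by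
  intro hK
  obtain ⟨r, hr, hrp, hexp, hab⟩ := hN.elemAb mc
  haveI : IsMulCommutative ↥N := ⟨⟨fun a b => Subtype.ext (hab a a.2 b b.2)⟩⟩
  haveI := hN.normal
  have hAN : A ≤ Subgroup.normalizer (N : Set G) := by
    rw [Subgroup.normalizer_eq_top]; exact le_top
  have hNA : ⁅N, A⁆ ≤ N := Subgroup.commutator_le_left N A
  have hcop : (Nat.card A).Coprime (Nat.card N) := by
    rw [mc.hyp.card]
    exact (Nat.Coprime.coprime_dvd_left (Subgroup.card_dvd_of_le hN.le) mc.hyp.cop).symm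
  obtain ⟨hbot, htop⟩ := Cfsg.Agent.S0055.result A N hAN hcop
  apply mc.not_fixN_le hN
  intro c hc
  have hcK : c ∈ Kth A K N := by rw [hK]; exact hc.1
  unfold Kth at hcK
  have hcomm : ∀ x ∈ DD A K ⊓ N, ∀ y ∈ ⁅N, A⁆, x * y = y * x := by
    intro x hx y hy
    exact hab x hx.2 y (hNA hy)
  obtain ⟨d, hd, w, hw, hdw⟩ := mem_sup_of_commute hcomm hcK
  have hwfix : w ∈ Subgroup.centralizer (A : Set G) := by
    have : w = d⁻¹ * c := by rw [← hdw]; group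
    rw [this]
    exact mul_mem (inv_mem (DD_le_fix A K hd.1)) hc.2
  have hw1 : w ∈ (N ⊓ Subgroup.centralizer (A : Set G)) ⊓ ⁅N, A⁆ := ⟨⟨hNA hw, hwfix⟩, hw⟩
  rw [hbot, Subgroup.mem_bot] at hw1
  rw [← hdw, hw1, mul_one]
  exact hd.1

end Cfsg.Agent.S3816P
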