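import Mathlib
import Cfsg.Agent.Helper13.S3816Defs
import Cfsg.Agent.Helper13.S3816Basic

/-! s3816pieces row DNORM (helper6, hedge): `C_K(A)` normalises `DD A K` (conjugation by `c ∈ C_K(A)` maps
`[k,A] ∩ C(A)` onto `[c k c⁻¹, A] ∩ C(A)`). -/

set_option autoImplicit false
set_option linter.unusedVariables false

open scoped commutatorElement

namespace Cfsg.Agent.S3816P

universe u

variable {G : Type u} [Group G] [Finite G] {p : ℕ} [Fact p.Prime] {A K N : Subgroup G}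

theorem DNORM_aux_conj_cA {A : Subgroup G} {c : G} (hc : c ∈ Subgroup.centralizer (A : Set G)) (k : G)
    {g : G} (hg : g ∈ cA A k) : c * g * c⁻¹ ∈ cA A (c * k * c⁻¹) := by
  unfold cA at hg
  induction hg using Subgroup.closure_induction with
  | mem x hx =>
    obtain ⟨a, ha, rfl⟩ := hx
    have h := Subgroup.mem_centralizer_iff.mp hc a ha
    -- a * c = c * a
    have h' : a⁻¹ * c⁻¹ = c⁻¹ * a⁻¹ := by
      have : (c * a)⁻¹ = (a * c)⁻¹ := by rw [h]
      simpa [mul_inv_rev] using this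
    have e : c * (k⁻¹ * (a * k * a⁻¹)) * c⁻¹
        = (c * k * c⁻¹)⁻¹ * (a * (c * k * c⁻¹) * a⁻¹) := by
      calc c * (k⁻¹ * (a * k * a⁻¹)) * c⁻¹ = c * k⁻¹ * a * k * (a⁻¹ * c⁻¹) := by group
        _ = c * k⁻¹ * a * k * (c⁻¹ * a⁻¹) := by rw [h']
        _ = c * k⁻¹ * c⁻¹ * (c * a) * k * c⁻¹ * a⁻¹ := by group
        _ = c * k⁻¹ * c⁻¹ * (a * c) * k * c⁻¹ * a⁻¹ := by rw [h]
        _ = (c * k * c⁻¹)⁻¹ * (a * (c * k * c⁻¹) * a⁻¹) := by group
    rw [e]
    exact Subgroup.subset_closure ⟨a, ha, rfl⟩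
  | one => simp
  | mul x y _ _ hx hy =>
    have : c * (x * y) * c⁻¹ = (c * x * c⁻¹) * (c * y * c⁻¹) := by group
    rw [this]; exact (cA A (c * k * c⁻¹)).mul_mem hx hy
  | inv x _ hx =>
    have : c * x⁻¹ * c⁻¹ = (c * x * c⁻¹)⁻¹ := by group
    rw [this]; exact (cA A (c * k * c⁻¹)).inv_mem hx

theorem DNORM_aux_key {A K : Subgroup G} {c : G} (hc : c ∈ K ⊓ Subgroup.centralizer (A : Set G))
    {g : G} (hg : g ∈ DD A K) : c * g * c⁻¹ ∈ DD A K := by
  have hle : (DD A K).map (MulAut.conj c).toMonoidHom ≤ DD A K := by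
    unfold DD
    rw [Subgroup.map_iSup]
    refine iSup_le fun k => ?_
    rw [Subgroup.map_iSup]
    refine iSup_le fun hk => ?_
    have hck : c * k * c⁻¹ ∈ K := K.mul_mem (K.mul_mem hc.1 hk) (K.inv_mem hc.1)
    refine le_trans ?_ (le_iSup₂_of_le (c * k * c⁻¹) hck le_rfl)
    rintro _ ⟨g, ⟨hg1, hg2⟩, rfl⟩
    refine ⟨?_, ?_⟩
    · exact DNORM_aux_conj_cA hc.2 k hg1
    · show c * g * c⁻¹ ∈ Subgroup.centralizer (A : Set G)
      exact (Subgroup.centralizer (A : Set G)).mul_mem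
        ((Subgroup.centralizer (A : Set G)).mul_mem hc.2 hg2)
        ((Subgroup.centralizer (A : Set G)).inv_mem hc.2)
  exact hle ⟨g, hg, rfl⟩

/-- DNORM (F5) -/
theorem DD_normalized (hAK : A ≤ Subgroup.normalizer (K : Set G)) :
    K ⊓ Subgroup.centralizer (A : Set G) ≤ Subgroup.normalizer (DD A K : Set G) := by
  intro c hc
  rw [Subgroup.mem_normalizer_iff]
  intro g
  constructor
  · intro hg
    exact DNORM_aux_key hc hg
  · intro h
    have := DNORM_aux_key (inv_mem hc) h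
    simpa [mul_assoc] using this

end Cfsg.Agent.S3816P
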