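import Mathlib
import Cfsg.Agent.Helper13.S3816Defs
import Cfsg.Agent.Helper13.S3816Basic
import Cfsg.Agent.Helper6.S3816C2Acore
import Cfsg.Agent.Helper6.S3816DNORM

/-! s3816pieces row C2A (helper6): `c2_comm_fix` (`c2_Kth_ne` is in `Helper6.S3816C2Acore`). -/

set_option autoImplicit false

open scoped commutatorElement

namespace Cfsg.Agent.S3816P

universe u

variable {G : Type u} [Group G] [Finite G] {p : ℕ} [Fact p.Prime] {A K N : Subgroup G}

/-- C2A -/
theorem c2_comm_fix (mc : MC p A K) (hN : MinN K N) :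
    ⁅K ⊓ Subgroup.centralizer (A : Set G), K ⊓ Subgroup.centralizer (A : Set G)⁆ ≤ DD A K :=
  C2A_aux_comm_fix_core mc hN (DD_normalized mc.hyp.norm)

end Cfsg.Agent.S3816P
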