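import Cfsg.Agent.Helper3.S4411Defs
import Cfsg.Agent.Helper23.HallHigman
import Cfsg.Agent.S0028

/-!
# S4411, piece NTSCENT (board `s4411pieces`, driver helper3): `NTS_cent`.

`O_{p'}(Y) = 1`, `Y` `p`-solvable, `J` a normal `p`-subgroup centralised by the non-trivial `q`-element `x`: then `x` acts
non-trivially on the `p`-subgroup `C_{O_p(Y)}(J)` of `C_Y(J)` (Thompson `P × Q` + Hall–Higman 1.2.3).
-/

set_option autoImplicit false

namespace Cfsg.Agent.S4411P

open Cfsg

theorem NTS_cent {Y : Type*} [Group Y] [Finite Y] (p q : ℕ) [Fact p.Prime] [Fact q.Prime] (hpq : p ≠ q)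
    (hsol : Cfsg.IsPSolvable p Y) (hO : Cfsg.pPrimeCore p Y = ⊥) (J : Subgroup Y) [J.Normal] (hJ : IsPGroup p J)
    (x : Y) (hx1 : x ≠ 1) (hxq : IsQElt q x) (hxJ : x ∈ Subgroup.centralizer (J : Set Y)) :
    TNT p q ↥(Subgroup.centralizer (J : Set Y)) := by
  classical
  have hp : p.Prime := Fact.out
  have hq : q.Prime := Fact.out
  set P : Subgroup Y := Cfsg.pCore p Y with hPdef
  set C : Subgroup Y := Subgroup.centralizer (J : Set Y) with hCdef
  have hPn : P.Normal := inferInstance
  have hCn : C.Normal := inferInstance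
  have hPp : IsPGroup p P := by
    obtain ⟨a, ha⟩ := Cfsg.Agent.Helper23.pCore_card p Y
    exact IsPGroup.of_card ha
  have hHH : Subgroup.centralizer (P : Set Y) ≤ P :=
    Cfsg.Agent.Helper23.centralizer_pCore_le_of_isPSolvable hsol hO
  obtain ⟨k, hk⟩ := hxq
  -- the order of `x` is a power of `q`
  have hord : orderOf x ∣ q ^ k := orderOf_dvd_of_pow_eq_one hk
  have hcop : (Nat.card (Subgroup.zpowers x)).Coprime p := by
    rw [Nat.card_zpowers]
    have h1 : (q ^ k).Coprime p := by
      apply Nat.Coprime.pow_left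
      exact (Nat.coprime_primes hq hp).2 (Ne.symm hpq)
    exact Nat.Coprime.coprime_dvd_left hord h1
  -- `J` and `⟨x⟩` centralise each other
  have hJx : J ≤ Subgroup.centralizer ((Subgroup.zpowers x : Subgroup Y) : Set Y) := by
    intro j hj
    rw [Subgroup.mem_centralizer_iff]
    intro z hz
    have hz' : z ∈ Subgroup.zpowers x := hz
    rw [Subgroup.mem_zpowers_iff] at hz'
    obtain ⟨n, rfl⟩ := hz'
    have hc : Commute x j := by
      have := (Subgroup.mem_centralizer_iff.1 hxJ) j hj
      exact this.symm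
    exact (hc.zpow_left n).eq
  -- `x` does not centralise `D = P ⊓ C`
  have hnot : ¬ P ⊓ C ≤ Subgroup.centralizer ((Subgroup.zpowers x : Subgroup Y) : Set Y) := by
    intro hcon
    have hres := Cfsg.Agent.S0028.result p J (Subgroup.zpowers x) P hJ hcop hPp hJx
      (by rw [Subgroup.normalizer_eq_top]; exact le_top)
      (by rw [Subgroup.normalizer_eq_top]; exact le_top) hcon
    have hxP : x ∈ P := hHH (hres (Subgroup.mem_zpowers x))
    -- `x` is a `p`-element and a `q`-element
    obtain ⟨m, hm⟩ := hPp ⟨x, hxP⟩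
    have hm' : x ^ p ^ m = 1 := by
      have := congrArg Subtype.val hm
      simpa using this
    have h2 : orderOf x ∣ p ^ m := orderOf_dvd_of_pow_eq_one hm'
    have h3 : (q ^ k).Coprime (p ^ m) := by
      apply Nat.Coprime.pow
      exact (Nat.coprime_primes hq hp).2 (Ne.symm hpq)
    have h4 : orderOf x = 1 := Nat.eq_one_of_dvd_coprimes h3 hord h2
    exact hx1 (orderOf_eq_one_iff.1 h4)
  -- extract the witness
  have hwit : ∃ d ∈ P ⊓ C, d * x ≠ x * d := by
    by_contra hno
    push Not at hno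
    apply hnot
    intro d hd
    rw [Subgroup.mem_centralizer_iff]
    intro z hz
    have hz' : z ∈ Subgroup.zpowers x := hz
    rw [Subgroup.mem_zpowers_iff] at hz'
    obtain ⟨n, rfl⟩ := hz'
    have hc : Commute x d := (hno d hd).symm
    exact (hc.zpow_left n).eq
  obtain ⟨d, hd, hdx⟩ := hwit
  have hDn : (P ⊓ C).Normal := inferInstance
  refine ⟨(P ⊓ C).subgroupOf C, ?_, ⟨x, hxJ⟩, ?_, ?_, ⟨k, ?_⟩⟩
  · -- `D` is a `p`-group
    have hDp : IsPGroup p ↥(P ⊓ C) := hPp.to_le inf_le_left
    exact hDp.comap_subtype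
  · -- normal, so normalised by everything
    have : ((P ⊓ C).subgroupOf C).Normal := hDn.subgroupOf C
    rw [Subgroup.normalizer_eq_top]; exact Subgroup.mem_top _
  · intro hcen
    rw [Subgroup.mem_centralizer_iff] at hcen
    have := hcen ⟨d, hd.2⟩ (by
      show (⟨d, hd.2⟩ : ↥C) ∈ (P ⊓ C).subgroupOf C
      rw [Subgroup.mem_subgroupOf]
      exact hd)
    apply hdx
    have h5 := congrArg Subtype.val this
    simpa using h5
  · apply Subtype.ext
    simpa using hk

end Cfsg.Agent.S4411P
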