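import Mathlib
import Cfsg.Agent.Helper10.S3805Defs

set_option autoImplicit false

namespace Cfsg.Agent.S3805P

open Cfsg

section HOMaux

variable {G : Type*} [Group G]

theorem HOM_pow_add (x : G) (hx : x ^ 3 = 1) (i j : ZMod 3) :
    x ^ (i + j).val = x ^ i.val * x ^ j.val := by
  rw [ZMod.val_add, ← pow_add, ← pow_eq_pow_mod _ hx]

theorem HOM_pow_sub (x : G) (hx : x ^ 3 = 1) (i j : ZMod 3) :
    x ^ (j - i).val = x ^ j.val * (x ^ i.val)⁻¹ := by
  rw [eq_mul_inv_iff_mul_eq, ← HOM_pow_add x hx, sub_add_cancel]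

theorem HOM_conj_pow (x y : G) (hyx : y * x * y⁻¹ = x⁻¹) (k : ℕ) :
    y * x ^ k * y⁻¹ = (x ^ k)⁻¹ := by
  rw [← conj_pow, hyx, inv_pow]

/-- the underlying function of the homomorphism `D3 → G` -/
def HOM_fun (x y : G) : D3 → G
  | DihedralGroup.r i => x ^ i.val
  | DihedralGroup.sr i => y * x ^ i.val

theorem HOM_fun_mul (x y : G) (hx : x ^ 3 = 1) (hy : y ^ 2 = 1) (hyx : y * x * y⁻¹ = x⁻¹)
    (p p' : D3) : HOM_fun x y (p * p') = HOM_fun x y p * HOM_fun x y p' := by
  have hyy : y * y = 1 := by rw [← sq]; exact hy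
  have hyinv : y⁻¹ = y := inv_eq_of_mul_eq_one_left hyy
  have hsw : ∀ k : ℕ, x ^ k * y = y * (x ^ k)⁻¹ := by
    intro k
    have h1 := HOM_conj_pow x y hyx k
    rw [hyinv] at h1
    -- y x^k y = (x^k)⁻¹
    calc x ^ k * y = (y * y) * x ^ k * y := by rw [hyy, one_mul]
      _ = y * (y * x ^ k * y) := by group
      _ = y * (x ^ k)⁻¹ := by rw [h1]
  rcases p with i | i <;> rcases p' with j | j
  · rw [DihedralGroup.r_mul_r]
    exact HOM_pow_add x hx i j
  · rw [DihedralGroup.r_mul_sr]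
    show y * x ^ (j - i).val = x ^ i.val * (y * x ^ j.val)
    rw [HOM_pow_sub x hx, ← mul_assoc (x ^ i.val), hsw]
    group
  · rw [DihedralGroup.sr_mul_r]
    show y * x ^ (i + j).val = y * x ^ i.val * x ^ j.val
    rw [HOM_pow_add x hx, mul_assoc]
  · rw [DihedralGroup.sr_mul_sr]
    show x ^ (j - i).val = y * x ^ i.val * (y * x ^ j.val)
    have h2 : y * x ^ i.val * (y * x ^ j.val) = y * (x ^ i.val * y) * x ^ j.val := by group
    rw [h2, hsw, ← mul_assoc, hyy, one_mul, HOM_pow_sub x hx]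
    group

/-- the homomorphism `D3 → G` from generators and relations -/
def HOM_d3 (x y : G) (hx : x ^ 3 = 1) (hy : y ^ 2 = 1) (hyx : y * x * y⁻¹ = x⁻¹) : D3 →* G :=
  MonoidHom.mk' (HOM_fun x y) (HOM_fun_mul x y hx hy hyx)

theorem HOM_d3_r (x y : G) (hx : x ^ 3 = 1) (hy : y ^ 2 = 1) (hyx : y * x * y⁻¹ = x⁻¹)
    (i : ZMod 3) : HOM_d3 x y hx hy hyx (DihedralGroup.r i) = x ^ i.val := rfl

theorem HOM_d3_sr (x y : G) (hx : x ^ 3 = 1) (hy : y ^ 2 = 1) (hyx : y * x * y⁻¹ = x⁻¹)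
    (i : ZMod 3) : HOM_d3 x y hx hy hyx (DihedralGroup.sr i) = y * x ^ i.val := rfl

end HOMaux

/-- **HOM.** The homomorphism `D3 × D3 → G` defined by generators satisfying the relations. -/
theorem exists_hom {G : Type*} [Group G] (a b s r : G) (ha : a ^ 3 = 1) (hb : b ^ 3 = 1)
    (hs : s ^ 2 = 1) (hr : r ^ 2 = 1) (hab : a * b = b * a) (hsr : s * r = r * s)
    (hsa : s * a * s⁻¹ = a⁻¹) (hsb : s * b = b * s) (hra : r * a = a * r)
    (hrb : r * b * r⁻¹ = b⁻¹) :
    ∃ ι : Q →* G, ι (DihedralGroup.r 1, 1) = a ∧ ι (1, DihedralGroup.r 1) = b ∧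
      ι (DihedralGroup.sr 0, 1) = s ∧ ι (1, DihedralGroup.sr 0) = r ∧
      ι.range ≤ Subgroup.closure {a, b, s, r} ∧ T0.map ι ≤ Subgroup.closure {a, b} := by
  set f1 : D3 →* G := HOM_d3 a s ha hs hsa with hf1
  set f2 : D3 →* G := HOM_d3 b r hb hr hrb with hf2
  have cab : Commute a b := hab
  have csr : Commute s r := hsr
  have csb : Commute s b := hsb
  have car : Commute a r := hra.symm
  have hcomm : ∀ m n : D3, Commute (f1 m) (f2 n) := by
    rintro (i | i) (j | j)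
    · show Commute (a ^ i.val) (b ^ j.val)
      exact cab.pow_pow _ _
    · show Commute (a ^ i.val) (r * b ^ j.val)
      exact (car.pow_left _).mul_right (cab.pow_pow _ _)
    · show Commute (s * a ^ i.val) (b ^ j.val)
      exact (csb.pow_right _).mul_left (cab.pow_pow _ _)
    · show Commute (s * a ^ i.val) (r * b ^ j.val)
      exact (csr.mul_right (csb.pow_right _)).mul_left
        ((car.pow_left _).mul_right (cab.pow_pow _ _))
  have hv1 : ((1 : ZMod 3)).val = 1 := rfl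
  have hv0 : ((0 : ZMod 3)).val = 0 := rfl
  refine ⟨MonoidHom.noncommCoprod f1 f2 hcomm, ?_, ?_, ?_, ?_, ?_, ?_⟩
  · rw [MonoidHom.noncommCoprod_apply]
    show f1 (DihedralGroup.r 1) * f2 1 = a
    rw [map_one, mul_one, hf1, HOM_d3_r, hv1, pow_one]
  · rw [MonoidHom.noncommCoprod_apply]
    show f1 1 * f2 (DihedralGroup.r 1) = b
    rw [map_one, one_mul, hf2, HOM_d3_r, hv1, pow_one]
  · rw [MonoidHom.noncommCoprod_apply]
    show f1 (DihedralGroup.sr 0) * f2 1 = s
    rw [map_one, mul_one, hf1, HOM_d3_sr, hv0, pow_zero, mul_one]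
  · rw [MonoidHom.noncommCoprod_apply]
    show f1 1 * f2 (DihedralGroup.sr 0) = r
    rw [map_one, one_mul, hf2, HOM_d3_sr, hv0, pow_zero, mul_one]
  · rintro _ ⟨q, rfl⟩
    rw [MonoidHom.noncommCoprod_apply]
    have hma : a ∈ Subgroup.closure ({a, b, s, r} : Set G) := Subgroup.subset_closure (by simp)
    have hmb : b ∈ Subgroup.closure ({a, b, s, r} : Set G) := Subgroup.subset_closure (by simp)
    have hms : s ∈ Subgroup.closure ({a, b, s, r} : Set G) := Subgroup.subset_closure (by simp)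
    have hmr : r ∈ Subgroup.closure ({a, b, s, r} : Set G) := Subgroup.subset_closure (by simp)
    apply Subgroup.mul_mem
    · rcases q.1 with i | i
      · exact Subgroup.pow_mem _ hma _
      · exact Subgroup.mul_mem _ hms (Subgroup.pow_mem _ hma _)
    · rcases q.2 with i | i
      · exact Subgroup.pow_mem _ hmb _
      · exact Subgroup.mul_mem _ hmr (Subgroup.pow_mem _ hmb _)
  · rintro _ ⟨q, hq, rfl⟩
    rw [MonoidHom.noncommCoprod_apply]
    have hq' : q ∈ T0 := hq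
    rw [T0, Subgroup.mem_prod] at hq'
    obtain ⟨⟨k1, hk1⟩, ⟨k2, hk2⟩⟩ := hq'
    have h1 : q.1 = DihedralGroup.r (k1 : ZMod 3) := by
      rw [← DihedralGroup.r_one_zpow]; exact hk1.symm
    have h2 : q.2 = DihedralGroup.r (k2 : ZMod 3) := by
      rw [← DihedralGroup.r_one_zpow]; exact hk2.symm
    rw [h1, h2]
    have hma : a ∈ Subgroup.closure ({a, b} : Set G) := Subgroup.subset_closure (by simp)
    have hmb : b ∈ Subgroup.closure ({a, b} : Set G) := Subgroup.subset_closure (by simp)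
    exact Subgroup.mul_mem _ (Subgroup.pow_mem _ hma _) (Subgroup.pow_mem _ hmb _)

end Cfsg.Agent.S3805P
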