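import Mathlib
import Cfsg.Agent.Helper10.S3805Defs

set_option autoImplicit false

namespace Cfsg.Agent.S3805P

open Cfsg

theorem INJ_key : ∀ q : Q, q ≠ 1 → ∃ x : Q,
    q * x * q⁻¹ * x⁻¹ = (DihedralGroup.r 1, 1) ∨ q * x * q⁻¹ * x⁻¹ = (DihedralGroup.r 2, 1) ∨
    q * x * q⁻¹ * x⁻¹ = (1, DihedralGroup.r 1) ∨ q * x * q⁻¹ * x⁻¹ = (1, DihedralGroup.r 2) := by
  decide

/-- **INJ.** A homomorphism from `Q` which kills neither `(r 1, 1)` nor `(1, r 1)` is injective. -/
theorem injective_of_ne_one {G : Type*} [Group G] (ι : Q →* G)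
    (h1 : ι (DihedralGroup.r 1, 1) ≠ 1) (h2 : ι (1, DihedralGroup.r 1) ≠ 1) :
    Function.Injective ι := by
  rw [injective_iff_map_eq_one]
  intro q hq
  by_contra hne
  obtain ⟨x, hx⟩ := INJ_key q hne
  have h0 : ι (q * x * q⁻¹ * x⁻¹) = 1 := by
    rw [map_mul, map_mul, map_mul, map_inv, map_inv, hq]
    simp
  rcases hx with hx | hx | hx | hx
  · rw [hx] at h0
    exact h1 h0
  · rw [hx] at h0
    apply h1
    have : ((DihedralGroup.r 1, 1) : Q) = (DihedralGroup.r 2, 1) * (DihedralGroup.r 2, 1) := by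
      decide
    rw [this, map_mul, h0, one_mul]
  · rw [hx] at h0
    exact h2 h0
  · rw [hx] at h0
    apply h2
    have : ((1, DihedralGroup.r 1) : Q) = (1, DihedralGroup.r 2) * (1, DihedralGroup.r 2) := by
      decide
    rw [this, map_mul, h0, one_mul]

end Cfsg.Agent.S3805P
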