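import Mathlib
import Cfsg.Agent.Helper10.S3805Defs

set_option autoImplicit false

namespace Cfsg.Agent.S3805P

open Cfsg

theorem TI_sq_mem : ∀ q : Q, ∃ i j : ZMod 3, q * q = (DihedralGroup.r i, DihedralGroup.r j) := by
  decide

theorem TI_r_mem (i j : ZMod 3) : ((DihedralGroup.r i, DihedralGroup.r j) : Q) ∈ T0 := by
  rw [T0, Subgroup.mem_prod]
  constructor
  · refine ⟨(i.val : ℤ), ?_⟩
    show (DihedralGroup.r 1 : D3) ^ (i.val : ℤ) = DihedralGroup.r i
    rw [DihedralGroup.r_one_zpow]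
    simp
  · refine ⟨(j.val : ℤ), ?_⟩
    show (DihedralGroup.r 1 : D3) ^ (j.val : ℤ) = DihedralGroup.r j
    rw [DihedralGroup.r_one_zpow]
    simp

/-- **TI.** The strong TI property from Burnside's fusion lemma and `C_G(t) ≤ N`. -/
theorem ti_of_hyps {G : Type*} [Group G] [Finite G] (T : Sylow 3 G)
    (hTc : ∀ t₁ ∈ (T : Subgroup G), ∀ t₂ ∈ (T : Subgroup G), t₁ * t₂ = t₂ * t₁)
    (hloc : ∀ t ∈ (T : Subgroup G), t ≠ 1 →
      Subgroup.centralizer ({t} : Set G) ≤ Subgroup.normalizer ((T : Subgroup G) : Set G))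
    (ι : Q →* G) (hinj : Function.Injective ι)
    (hrange : ι.range = Subgroup.normalizer ((T : Subgroup G) : Set G))
    (hT0 : T0.map ι = (T : Subgroup G)) :
    ∀ (g : G) (q q' : Q), q * q ≠ 1 → g * ι q * g⁻¹ = ι q' → g ∈ ι.range := by
  intro g q q' hq hg
  haveI : Fact (Nat.Prime 3) := ⟨by norm_num⟩
  have hmemT : ∀ q : Q, ι (q * q) ∈ (T : Subgroup G) := by
    intro q
    rw [← hT0]
    obtain ⟨i, j, hij⟩ := TI_sq_mem q
    exact ⟨q * q, by rw [hij]; exact TI_r_mem i j, rfl⟩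
  set t : G := ι (q * q) with ht
  have htT : t ∈ (T : Subgroup G) := hmemT q
  have ht1 : t ≠ 1 := by
    intro h1
    apply hq
    apply hinj
    rw [map_one]
    exact h1
  have hconj : g * t * g⁻¹ = ι (q' * q') := by
    rw [ht, map_mul, map_mul, ← hg]
    group
  have hcen : ∀ s ∈ (T : Subgroup G), s ∈ Subgroup.centralizer ((T : Subgroup G) : Set G) := by
    intro s hs
    rw [Subgroup.mem_centralizer_iff]
    intro z hz
    exact hTc z hz s hs
  have h1 : t ∈ Subgroup.centralizer ((T : Subgroup G) : Set G) := hcen t htT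
  have h2 : (g⁻¹)⁻¹ * t * g⁻¹ ∈ Subgroup.centralizer ((T : Subgroup G) : Set G) := by
    rw [inv_inv, hconj]
    exact hcen _ (hmemT q')
  obtain ⟨n, hn, hnn⟩ := Sylow.conj_eq_normalizer_conj_of_mem_centralizer T t g⁻¹ h1 h2
  rw [inv_inv] at hnn
  -- g t g⁻¹ = n⁻¹ t n, so n g centralizes t
  have hc : n * g ∈ Subgroup.centralizer ({t} : Set G) := by
    rw [Subgroup.mem_centralizer_iff]
    intro z hz
    rw [Set.mem_singleton_iff] at hz
    subst hz
    have : n * (g * t * g⁻¹) * n⁻¹ = t := by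
      rw [hnn]; group
    calc t * (n * g) = n * (g * t * g⁻¹) * n⁻¹ * (n * g) := by rw [this]
      _ = n * g * t := by group
  have h3 := hloc t htT ht1 hc
  rw [hrange]
  have h4 : g = n⁻¹ * (n * g) := by group
  rw [h4]
  exact Subgroup.mul_mem _ (Subgroup.inv_mem _ hn) h3

end Cfsg.Agent.S3805P
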