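import Mathlib
import Cfsg.Agent.Helper5.S4330Defs
import Cfsg.Prelude.Def_Solvable

/-!
# S4330 board, piece PROJ (helper6): the averaging projection `proj K`.
-/

set_option autoImplicit false
open Pointwise
open scoped commutatorElement

namespace Cfsg.Agent.Helper5.S4330

universe u

variable {V : Type*} [CommGroup V] [Finite V]

/-- unfolding `proj` (for any `Fintype` instance on `K`) -/
theorem PROJ_aux_proj_apply (K : Subgroup (MulAut V)) [inst : Fintype K] (v : V) :
    proj K v = (∏ k : K, (k.1 : MulAut V) v) ^ ((Nat.card K : ZMod (Nat.card V))⁻¹).val := by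
  have hinst : inst = Fintype.ofFinite K := Subsingleton.elim _ _
  subst hinst
  unfold proj
  simp only [MonoidHom.comp_apply, powMonoidHom_apply, MonoidHom.finsetProd_apply,
    MulEquiv.coe_toMonoidHom]

theorem proj_mem_Fix (K : Subgroup (MulAut V)) (v : V) :
    proj K v ∈ Fix (K : Set (MulAut V)) := by
  classical
  letI : Fintype K := Fintype.ofFinite K
  intro s hs
  rw [PROJ_aux_proj_apply, map_pow, map_prod]
  congr 1
  -- reindex by left multiplication with `s`
  let e : K ≃ K := Equiv.mulLeft (⟨s, hs⟩ : K)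
  exact Fintype.prod_equiv e (fun k => s ((k.1 : MulAut V) v)) (fun k => (k.1 : MulAut V) v)
    (fun k => by simp [e, MulAut.mul_apply])

theorem proj_of_mem_Fix {K : Subgroup (MulAut V)} (hcop : (Nat.card K).Coprime (Nat.card V))
    {v : V} (hv : v ∈ Fix (K : Set (MulAut V))) : proj K v = v := by
  classical
  letI : Fintype K := Fintype.ofFinite K
  rw [PROJ_aux_proj_apply]
  have h1 : ∏ k : K, (k.1 : MulAut V) v = v ^ Nat.card K := by
    rw [Finset.prod_congr rfl (fun k _ => hv k.1 k.2), Finset.prod_const, Finset.card_univ,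
      Nat.card_eq_fintype_card]
  rw [h1, ← pow_mul]
  set N := Nat.card V with hN
  set m := ((Nat.card K : ZMod N)⁻¹).val with hm
  have hmod : Nat.card K * m ≡ 1 [MOD N] := by
    rw [← ZMod.natCast_eq_natCast_iff]
    push_cast
    rw [hm, ZMod.natCast_zmod_val]
    exact ZMod.coe_mul_inv_eq_one _ hcop
  have hord : orderOf v ∣ N := orderOf_dvd_natCard v
  have h2 : Nat.card K * m ≡ 1 [MOD orderOf v] := hmod.of_dvd hord
  have := (pow_eq_pow_iff_modEq (x := v)).2 h2
  rw [this, pow_one]

theorem proj_cj (a : MulAut V) (K : Subgroup (MulAut V)) (v : V) :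
    a (proj K v) = proj (cj a K) (a v) := by
  classical
  letI : Fintype K := Fintype.ofFinite K
  letI : Fintype (cj a K) := Fintype.ofFinite _
  rw [PROJ_aux_proj_apply, PROJ_aux_proj_apply, card_cj, map_pow, map_prod]
  congr 1
  let e : K ≃ cj a K :=
    { toFun := fun k => ⟨a * k.1 * a⁻¹, conj_mem_cj k.2⟩
      invFun := fun y => ⟨a⁻¹ * y.1 * a, mem_cj.mp y.2⟩
      left_inv := fun k => by apply Subtype.ext; simp [mul_assoc]
      right_inv := fun y => by apply Subtype.ext; simp [mul_assoc] }
  exact Fintype.prod_equiv e (fun k => a ((k.1 : MulAut V) v)) (fun y => (y.1 : MulAut V) (a v))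
    (fun k => by simp [e, MulAut.mul_apply])

end Cfsg.Agent.Helper5.S4330
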