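import Mathlib
import Cfsg.Agent.Helper5.S4330Defs
import Cfsg.Prelude.Def_Solvable
import Cfsg.Agent.Helper6.S4330PROJ

/-!
# S4330 board, piece P4 (helper6): distinct members of `MaxFix E` (`E` abelian) have orthogonal projections.
-/

set_option autoImplicit false
open Pointwise
open scoped commutatorElement

namespace Cfsg.Agent.Helper5.S4330

universe u

variable {V : Type*} [CommGroup V] [Finite V]

/-- the stabilizer of a vector, as a subgroup of `MulAut V` -/
def P4_aux_stab (u : V) : Subgroup (MulAut V) where
  carrier := {s | s u = u}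
  one_mem' := rfl
  mul_mem' := fun {a b} ha hb => by
    show (a * b) u = u
    rw [MulAut.mul_apply, hb, ha]
  inv_mem' := fun {a} ha => by
    show a⁻¹ u = u
    have : a⁻¹ (a u) = u := by simp
    rw [ha] at this; exact this

theorem proj_eq_one {E : Subgroup (MulAut V)} (hE : Comm E) {K K' : Subgroup (MulAut V)}
    (hK : K ∈ MaxFix E) (hK' : K' ∈ MaxFix E) (hne : K ≠ K') {v : V}
    (hv : v ∈ Fix (K' : Set (MulAut V))) : proj K v = 1 := by
  classical
  obtain ⟨hKE, hKfix, hKmax⟩ := hK
  obtain ⟨hK'E, hK'fix, hK'max⟩ := hK'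
  set u := proj K v with hu
  -- `u` is fixed by `K`
  have h1 : ∀ s ∈ K, s u = u := fun s hs => proj_mem_Fix K v s hs
  -- `u` is fixed by `K'`
  have h2 : ∀ s ∈ K', s u = u := by
    intro s hs
    have hcj : cj s K = K := by
      ext y
      rw [mem_cj]
      constructor
      · intro h
        have hc : s * (s⁻¹ * y * s) = (s⁻¹ * y * s) * s := hE s (hK'E hs) _ (hKE h)
        have : y = s⁻¹ * y * s := by
          have h3 : y * s = s⁻¹ * y * s * s := by
            calc y * s = s * (s⁻¹ * y * s) := by group
              _ = s⁻¹ * y * s * s := hc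
          exact mul_right_cancel h3
        rw [this]; exact h
      · intro h
        have hc : s * y = y * s := hE s (hK'E hs) y (hKE h)
        have : s⁻¹ * y * s = y := by
          calc s⁻¹ * y * s = s⁻¹ * (y * s) := by group
            _ = s⁻¹ * (s * y) := by rw [hc]
            _ = y := by group
        rw [this]; exact h
    rw [hu, proj_cj, hcj, hv s hs]
  -- so the stabilizer of `u` contains `K ⊔ K'`
  have hsup : K ⊔ K' ≤ P4_aux_stab u := sup_le (fun s hs => h1 s hs) (fun s hs => h2 s hs)
  have hufix : u ∈ Fix ((K ⊔ K' : Subgroup (MulAut V)) : Set (MulAut V)) := fun s hs => hsup hs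
  -- `K' < K ⊔ K'`
  have hlt : K' < K ⊔ K' := by
    refine lt_of_le_of_ne le_sup_right ?_
    intro heq
    have hle : K ≤ K' := by
      have : K ≤ K ⊔ K' := le_sup_left
      rw [← heq] at this; exact this
    have hlt' : K < K' := lt_of_le_of_ne hle hne
    exact hK'fix (hKmax K' hK'E hlt')
  have hbot := hK'max (K ⊔ K') (sup_le hKE hK'E) hlt
  rw [hbot] at hufix
  exact (Subgroup.mem_bot.1 hufix)

end Cfsg.Agent.Helper5.S4330
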