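import Mathlib
import Cfsg.Agent.Helper14.S5559Defs

/-!
# S5559, piece P54: two groups of type `Is54` are isomorphic

Both are quotients of the finitely presented group `P54.aux_P` on three generators, which has at most
`54` elements (the words `a^i b^j z^k c^l` are closed under left multiplication by generators).
-/

set_option autoImplicit false

namespace Cfsg.Agent.S5559P

universe u v

/-- Normal-form closure: in any group with the relations, the set of `a^i b^j z^k c^l` is closed under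
left multiplication by `a`, `b`, `c`. -/
theorem P54.aux_nf {K : Type*} [Group K] (a b c : K) (ha : a ^ 3 = 1) (hb : b ^ 3 = 1)
    (hc : c ^ 2 = 1) (hca : c * a * c = a⁻¹) (hcb : c * b * c = b⁻¹)
    (hza : (b * a * b⁻¹ * a⁻¹) * a = a * (b * a * b⁻¹ * a⁻¹))
    (hzb : (b * a * b⁻¹ * a⁻¹) * b = b * (b * a * b⁻¹ * a⁻¹))
    (hzc : (b * a * b⁻¹ * a⁻¹) * c = c * (b * a * b⁻¹ * a⁻¹)) (i j k l : ℕ) :
    (∃ i' j' k' l' : ℕ, a * (a ^ i * b ^ j * (b * a * b⁻¹ * a⁻¹) ^ k * c ^ l) =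
        a ^ i' * b ^ j' * (b * a * b⁻¹ * a⁻¹) ^ k' * c ^ l') ∧
    (∃ i' j' k' l' : ℕ, b * (a ^ i * b ^ j * (b * a * b⁻¹ * a⁻¹) ^ k * c ^ l) =
        a ^ i' * b ^ j' * (b * a * b⁻¹ * a⁻¹) ^ k' * c ^ l') ∧
    (∃ i' j' k' l' : ℕ, c * (a ^ i * b ^ j * (b * a * b⁻¹ * a⁻¹) ^ k * c ^ l) =
        a ^ i' * b ^ j' * (b * a * b⁻¹ * a⁻¹) ^ k' * c ^ l') := by
  set z := b * a * b⁻¹ * a⁻¹ with hz
  have hba : b * a = z * a * b := by rw [hz]; group
  have hCa : Commute z a := hza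
  have hCb : Commute z b := hzb
  have hCc : Commute z c := hzc
  -- b * a^n = a^n * b * z^n
  have hban : ∀ n : ℕ, b * a ^ n = a ^ n * b * z ^ n := by
    intro n
    induction n with
    | zero => simp
    | succ n ih =>
      calc b * a ^ (n + 1) = (b * a ^ n) * a := by rw [pow_succ, mul_assoc]
        _ = a ^ n * b * z ^ n * a := by rw [ih]
        _ = a ^ n * (b * a) * z ^ n := by
            rw [mul_assoc (a ^ n * b), ((hCa.pow_left n).eq), ← mul_assoc, mul_assoc (a ^ n) b a]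
        _ = a ^ n * (z * a * b) * z ^ n := by rw [hba]
        _ = a ^ (n + 1) * b * z ^ (n + 1) := by
            rw [pow_succ, pow_succ, hCa.eq]
            have h1 : Commute z (a ^ n) := hCa.pow_right n
            have h2 : Commute (z ^ n) z := (Commute.refl z).pow_left n
            have h3 : Commute z b := hCb
            calc a ^ n * (a * z * b) * z ^ n = a ^ n * a * (z * b) * z ^ n := by group
              _ = a ^ n * a * (b * z) * z ^ n := by rw [h3.eq]
              _ = a ^ n * a * b * (z ^ n * z) := by rw [h2.eq]; group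
  have hcinv : c⁻¹ = c := by
    have : c * c = 1 := by rw [← pow_two]; exact hc
    exact inv_eq_of_mul_eq_one_left this
  have hca' : c * a = a ^ 2 * c := by
    have h1 : c * a = a⁻¹ * c⁻¹ := by rw [← hca]; group
    have h2 : a⁻¹ = a ^ 2 := by
      apply inv_eq_of_mul_eq_one_left
      rw [← pow_succ]; exact ha
    rw [h1, hcinv, h2]
  have hcb' : c * b = b ^ 2 * c := by
    have h1 : c * b = b⁻¹ * c⁻¹ := by rw [← hcb]; group
    have h2 : b⁻¹ = b ^ 2 := by
      apply inv_eq_of_mul_eq_one_left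
      rw [← pow_succ]; exact hb
    rw [h1, hcinv, h2]
  have hcan : ∀ n : ℕ, c * a ^ n = (a ^ 2) ^ n * c := by
    intro n
    induction n with
    | zero => simp
    | succ n ih =>
      calc c * a ^ (n + 1) = (c * a ^ n) * a := by rw [pow_succ, mul_assoc]
        _ = (a ^ 2) ^ n * (c * a) := by rw [ih, mul_assoc]
        _ = (a ^ 2) ^ (n + 1) * c := by rw [hca', ← mul_assoc, ← pow_succ]
  have hcbn : ∀ n : ℕ, c * b ^ n = (b ^ 2) ^ n * c := by
    intro n
    induction n with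
    | zero => simp
    | succ n ih =>
      calc c * b ^ (n + 1) = (c * b ^ n) * b := by rw [pow_succ, mul_assoc]
        _ = (b ^ 2) ^ n * (c * b) := by rw [ih, mul_assoc]
        _ = (b ^ 2) ^ (n + 1) * c := by rw [hcb', ← mul_assoc, ← pow_succ]
  refine ⟨⟨i + 1, j, k, l, ?_⟩, ⟨i, j + 1, i + k, l, ?_⟩, ⟨2 * i, 2 * j, k, l + 1, ?_⟩⟩
  · rw [pow_succ' a i]; group
  · have h1 : Commute (z ^ i) (b ^ j) := (hCb.pow_left i).pow_right j
    calc b * (a ^ i * b ^ j * z ^ k * c ^ l) = (b * a ^ i) * b ^ j * z ^ k * c ^ l := by group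
      _ = a ^ i * b * (z ^ i * b ^ j) * z ^ k * c ^ l := by rw [hban]; group
      _ = a ^ i * b * (b ^ j * z ^ i) * z ^ k * c ^ l := by rw [h1.eq]
      _ = a ^ i * b ^ (j + 1) * z ^ (i + k) * c ^ l := by
          rw [pow_succ' b j, pow_add]; group
  · have h1 : Commute c (z ^ k) := (hCc.symm).pow_right k
    calc c * (a ^ i * b ^ j * z ^ k * c ^ l) = (c * a ^ i) * b ^ j * z ^ k * c ^ l := by group
      _ = (a ^ 2) ^ i * (c * b ^ j) * z ^ k * c ^ l := by rw [hcan]; group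
      _ = (a ^ 2) ^ i * (b ^ 2) ^ j * (c * z ^ k) * c ^ l := by rw [hcbn]; group
      _ = (a ^ 2) ^ i * (b ^ 2) ^ j * (z ^ k * c) * c ^ l := by rw [h1.eq]
      _ = a ^ (2 * i) * b ^ (2 * j) * z ^ k * c ^ (l + 1) := by
          rw [pow_mul, pow_mul, pow_succ' c l]; group

/-- The three free generators. -/
abbrev P54.aux_a : FreeGroup (Fin 3) := FreeGroup.of 0
/-- The three free generators. -/
abbrev P54.aux_b : FreeGroup (Fin 3) := FreeGroup.of 1
/-- The three free generators. -/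
abbrev P54.aux_c : FreeGroup (Fin 3) := FreeGroup.of 2
/-- The commutator word. -/
abbrev P54.aux_z : FreeGroup (Fin 3) := P54.aux_b * P54.aux_a * P54.aux_b⁻¹ * P54.aux_a⁻¹

/-- The eight relators. -/
def P54.aux_rels : Set (FreeGroup (Fin 3)) :=
  {P54.aux_a ^ 3, P54.aux_b ^ 3, P54.aux_c ^ 2,
    P54.aux_c * P54.aux_a * P54.aux_c * P54.aux_a,
    P54.aux_c * P54.aux_b * P54.aux_c * P54.aux_b,
    P54.aux_z * P54.aux_a * P54.aux_z⁻¹ * P54.aux_a⁻¹,
    P54.aux_z * P54.aux_b * P54.aux_z⁻¹ * P54.aux_b⁻¹,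
    P54.aux_z * P54.aux_c * P54.aux_z⁻¹ * P54.aux_c⁻¹}

/-- The presented group. -/
abbrev P54.aux_P : Type := PresentedGroup P54.aux_rels

/-- The images of the generators in the presented group. -/
abbrev P54.aux_A : P54.aux_P := PresentedGroup.mk P54.aux_rels P54.aux_a
/-- The images of the generators in the presented group. -/
abbrev P54.aux_B : P54.aux_P := PresentedGroup.mk P54.aux_rels P54.aux_b
/-- The images of the generators in the presented group. -/
abbrev P54.aux_C : P54.aux_P := PresentedGroup.mk P54.aux_rels P54.aux_c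

theorem P54.aux_relsP :
    P54.aux_A ^ 3 = 1 ∧ P54.aux_B ^ 3 = 1 ∧ P54.aux_C ^ 2 = 1 ∧
    P54.aux_C * P54.aux_A * P54.aux_C = P54.aux_A⁻¹ ∧
    P54.aux_C * P54.aux_B * P54.aux_C = P54.aux_B⁻¹ ∧
    (P54.aux_B * P54.aux_A * P54.aux_B⁻¹ * P54.aux_A⁻¹) * P54.aux_A =
      P54.aux_A * (P54.aux_B * P54.aux_A * P54.aux_B⁻¹ * P54.aux_A⁻¹) ∧
    (P54.aux_B * P54.aux_A * P54.aux_B⁻¹ * P54.aux_A⁻¹) * P54.aux_B =
      P54.aux_B * (P54.aux_B * P54.aux_A * P54.aux_B⁻¹ * P54.aux_A⁻¹) ∧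
    (P54.aux_B * P54.aux_A * P54.aux_B⁻¹ * P54.aux_A⁻¹) * P54.aux_C =
      P54.aux_C * (P54.aux_B * P54.aux_A * P54.aux_B⁻¹ * P54.aux_A⁻¹) := by
  have h1 : PresentedGroup.mk P54.aux_rels (P54.aux_a ^ 3) = 1 :=
    PresentedGroup.one_of_mem (by simp [P54.aux_rels])
  have h2 : PresentedGroup.mk P54.aux_rels (P54.aux_b ^ 3) = 1 :=
    PresentedGroup.one_of_mem (by simp [P54.aux_rels])
  have h3 : PresentedGroup.mk P54.aux_rels (P54.aux_c ^ 2) = 1 :=
    PresentedGroup.one_of_mem (by simp [P54.aux_rels])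
  have h4 : PresentedGroup.mk P54.aux_rels (P54.aux_c * P54.aux_a * P54.aux_c * P54.aux_a) = 1 :=
    PresentedGroup.one_of_mem (by simp [P54.aux_rels])
  have h5 : PresentedGroup.mk P54.aux_rels (P54.aux_c * P54.aux_b * P54.aux_c * P54.aux_b) = 1 :=
    PresentedGroup.one_of_mem (by simp [P54.aux_rels])
  have h6 : PresentedGroup.mk P54.aux_rels
      (P54.aux_z * P54.aux_a * P54.aux_z⁻¹ * P54.aux_a⁻¹) = 1 :=
    PresentedGroup.one_of_mem (by simp [P54.aux_rels])
  have h7 : PresentedGroup.mk P54.aux_rels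
      (P54.aux_z * P54.aux_b * P54.aux_z⁻¹ * P54.aux_b⁻¹) = 1 :=
    PresentedGroup.one_of_mem (by simp [P54.aux_rels])
  have h8 : PresentedGroup.mk P54.aux_rels
      (P54.aux_z * P54.aux_c * P54.aux_z⁻¹ * P54.aux_c⁻¹) = 1 :=
    PresentedGroup.one_of_mem (by simp [P54.aux_rels])
  simp only [map_mul, map_pow, map_inv] at h1 h2 h3 h4 h5 h6 h7 h8
  refine ⟨h1, h2, h3, ?_, ?_, ?_, ?_, ?_⟩
  · exact eq_inv_of_mul_eq_one_left h4
  · exact eq_inv_of_mul_eq_one_left h5
  · exact mul_inv_eq_iff_eq_mul.1 (mul_inv_eq_one.1 h6)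
  · exact mul_inv_eq_iff_eq_mul.1 (mul_inv_eq_one.1 h7)
  · exact mul_inv_eq_iff_eq_mul.1 (mul_inv_eq_one.1 h8)

/-- Every element of the presented group is a normal-form word. -/
theorem P54.aux_all (g : P54.aux_P) : ∃ i j k l : ℕ,
    g = P54.aux_A ^ i * P54.aux_B ^ j *
      (P54.aux_B * P54.aux_A * P54.aux_B⁻¹ * P54.aux_A⁻¹) ^ k * P54.aux_C ^ l := by
  obtain ⟨r1, r2, r3, r4, r5, r6, r7, r8⟩ := P54.aux_relsP
  have hg : g ∈ Subgroup.closure (Set.range
      (PresentedGroup.of : Fin 3 → PresentedGroup P54.aux_rels)) := by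
    rw [PresentedGroup.closure_range_of]; trivial
  have key : ∀ (x : Fin 3) (y : P54.aux_P), (∃ i j k l : ℕ,
      y = P54.aux_A ^ i * P54.aux_B ^ j *
        (P54.aux_B * P54.aux_A * P54.aux_B⁻¹ * P54.aux_A⁻¹) ^ k * P54.aux_C ^ l) →
      ∃ i j k l : ℕ, (PresentedGroup.of x : P54.aux_P) * y = P54.aux_A ^ i * P54.aux_B ^ j *
        (P54.aux_B * P54.aux_A * P54.aux_B⁻¹ * P54.aux_A⁻¹) ^ k * P54.aux_C ^ l := by
    rintro x y ⟨i, j, k, l, rfl⟩
    obtain ⟨ha, hb, hc⟩ := P54.aux_nf P54.aux_A P54.aux_B P54.aux_C r1 r2 r3 r4 r5 r6 r7 r8 i j k l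
    fin_cases x
    · exact ha
    · exact hb
    · exact hc
  induction hg using Subgroup.closure_induction_left with
  | one => exact ⟨0, 0, 0, 0, by simp⟩
  | mul_left x hx y _ ih =>
    obtain ⟨x, rfl⟩ := hx
    exact key x y ih
  | inv_mul_cancel x hx y _ ih =>
    obtain ⟨x, rfl⟩ := hx
    -- x⁻¹ = x * x or x
    fin_cases x
    · have e : (PresentedGroup.of (0 : Fin 3) : P54.aux_P)⁻¹ =
          PresentedGroup.of (0 : Fin 3) * PresentedGroup.of (0 : Fin 3) := by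
        apply inv_eq_of_mul_eq_one_left
        have : (PresentedGroup.of (0 : Fin 3) : P54.aux_P) = P54.aux_A := rfl
        rw [this, ← pow_two, ← pow_succ]; exact r1
      show ∃ i j k l : ℕ, (PresentedGroup.of (0 : Fin 3) : P54.aux_P)⁻¹ * y = _
      rw [e, mul_assoc]
      exact key 0 _ (key 0 y ih)
    · have e : (PresentedGroup.of (1 : Fin 3) : P54.aux_P)⁻¹ =
          PresentedGroup.of (1 : Fin 3) * PresentedGroup.of (1 : Fin 3) := by
        apply inv_eq_of_mul_eq_one_left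
        have : (PresentedGroup.of (1 : Fin 3) : P54.aux_P) = P54.aux_B := rfl
        rw [this, ← pow_two, ← pow_succ]; exact r2
      show ∃ i j k l : ℕ, (PresentedGroup.of (1 : Fin 3) : P54.aux_P)⁻¹ * y = _
      rw [e, mul_assoc]
      exact key 1 _ (key 1 y ih)
    · have e : (PresentedGroup.of (2 : Fin 3) : P54.aux_P)⁻¹ = PresentedGroup.of (2 : Fin 3) := by
        apply inv_eq_of_mul_eq_one_left
        have : (PresentedGroup.of (2 : Fin 3) : P54.aux_P) = P54.aux_C := rfl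
        rw [this, ← pow_two]; exact r3
      show ∃ i j k l : ℕ, (PresentedGroup.of (2 : Fin 3) : P54.aux_P)⁻¹ * y = _
      rw [e]
      exact key 2 y ih

/-- The parametrisation of the presented group by `54` tuples. -/
def P54.aux_par (q : Fin 3 × Fin 3 × Fin 3 × Fin 2) : P54.aux_P :=
  P54.aux_A ^ (q.1 : ℕ) * P54.aux_B ^ (q.2.1 : ℕ) *
    (P54.aux_B * P54.aux_A * P54.aux_B⁻¹ * P54.aux_A⁻¹) ^ (q.2.2.1 : ℕ) * P54.aux_C ^ (q.2.2.2 : ℕ)

theorem P54.aux_par_surj : Function.Surjective P54.aux_par := by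
  intro g
  obtain ⟨r1, r2, r3, r4, r5, r6, r7, r8⟩ := P54.aux_relsP
  obtain ⟨i, j, k, l, rfl⟩ := P54.aux_all g
  have hz3 : (P54.aux_B * P54.aux_A * P54.aux_B⁻¹ * P54.aux_A⁻¹) ^ 3 = 1 := by
    -- z = B A B⁻¹ A⁻¹ with z central: z^3 = B A^3 B⁻¹ A⁻³
    set z := P54.aux_B * P54.aux_A * P54.aux_B⁻¹ * P54.aux_A⁻¹ with hz
    have hba : P54.aux_B * P54.aux_A * P54.aux_B⁻¹ = z * P54.aux_A := by rw [hz]; group
    have hC : Commute z P54.aux_A := r6
    have h3 : (P54.aux_B * P54.aux_A * P54.aux_B⁻¹) ^ 3 = 1 := by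
      rw [conj_pow, r1]; group
    rw [hba, hC.mul_pow, r1, mul_one] at h3
    exact h3
  refine ⟨(⟨i % 3, Nat.mod_lt _ (by norm_num)⟩, ⟨j % 3, Nat.mod_lt _ (by norm_num)⟩,
    ⟨k % 3, Nat.mod_lt _ (by norm_num)⟩, ⟨l % 2, Nat.mod_lt _ (by norm_num)⟩), ?_⟩
  show P54.aux_A ^ (i % 3) * P54.aux_B ^ (j % 3) *
    (P54.aux_B * P54.aux_A * P54.aux_B⁻¹ * P54.aux_A⁻¹) ^ (k % 3) * P54.aux_C ^ (l % 2) = _
  rw [← pow_eq_pow_mod i r1, ← pow_eq_pow_mod j r2, ← pow_eq_pow_mod k hz3, ← pow_eq_pow_mod l r3]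

instance P54.aux_finite : Finite P54.aux_P := Finite.of_surjective _ P54.aux_par_surj

theorem P54.aux_card_le : Nat.card P54.aux_P ≤ 54 := by
  have h := Nat.card_le_card_of_surjective _ P54.aux_par_surj
  have e : Nat.card (Fin 3 × Fin 3 × Fin 3 × Fin 2) = 54 := by
    simp [Nat.card_eq_fintype_card]
  omega

/-- A group of type `Is54` is isomorphic to the presented group. -/
theorem P54.aux_iso {G : Type u} [Group G] (h : Is54 G) : Nonempty (P54.aux_P ≃* G) := by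
  obtain ⟨hcard, y, y', t, hy, hy', ht, hty, hty', hzy, hzy', hzt, hgen⟩ := h
  have hfin : Finite G := Nat.finite_of_card_ne_zero (by rw [hcard]; norm_num)
  have hrel : ∀ r ∈ P54.aux_rels, FreeGroup.lift ![y, y', t] r = 1 := by
    intro r hr
    simp only [P54.aux_rels, Set.mem_insert_iff, Set.mem_singleton_iff] at hr
    have htt : t * t = 1 := by rw [← pow_two]; exact ht
    rcases hr with rfl | rfl | rfl | rfl | rfl | rfl | rfl | rfl
    · simpa using hy
    · simpa using hy'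
    · simpa using ht
    · simp only [map_mul, FreeGroup.lift_apply_of]
      show t * y * t * y = 1
      rw [hty]; group
    · simp only [map_mul, FreeGroup.lift_apply_of]
      show t * y' * t * y' = 1
      rw [hty']; group
    · simp only [map_mul, map_inv, FreeGroup.lift_apply_of]
      show (y' * y * y'⁻¹ * y⁻¹) * y * (y' * y * y'⁻¹ * y⁻¹)⁻¹ * y⁻¹ = 1
      rw [hzy]; group
    · simp only [map_mul, map_inv, FreeGroup.lift_apply_of]
      show (y' * y * y'⁻¹ * y⁻¹) * y' * (y' * y * y'⁻¹ * y⁻¹)⁻¹ * y'⁻¹ = 1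
      rw [hzy']; group
    · simp only [map_mul, map_inv, FreeGroup.lift_apply_of]
      show (y' * y * y'⁻¹ * y⁻¹) * t * (y' * y * y'⁻¹ * y⁻¹)⁻¹ * t⁻¹ = 1
      rw [hzt]; group
  let φ : P54.aux_P →* G := PresentedGroup.toGroup hrel
  have hsurj : Function.Surjective φ := by
    rw [← MonoidHom.range_eq_top, eq_top_iff, ← hgen, Subgroup.closure_le]
    intro x hx
    simp only [Set.mem_insert_iff, Set.mem_singleton_iff] at hx
    rcases hx with rfl | rfl | rfl
    · exact ⟨PresentedGroup.of 0, by simp [φ]⟩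
    · exact ⟨PresentedGroup.of 1, by simp [φ]⟩
    · exact ⟨PresentedGroup.of 2, by simp [φ]⟩
  have hbij : Function.Bijective φ :=
    hsurj.bijective_of_nat_card_le (by rw [hcard]; exact P54.aux_card_le)
  exact ⟨MulEquiv.ofBijective φ hbij⟩

/-- **P54**: two groups of type `Is54` are isomorphic. -/
theorem P54 {G₁ : Type u} {G₂ : Type v} [Group G₁] [Group G₂] (h1 : Is54 G₁) (h2 : Is54 G₂) :
    Nonempty (G₁ ≃* G₂) := by
  obtain ⟨e1⟩ := P54.aux_iso h1
  obtain ⟨e2⟩ := P54.aux_iso h2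
  exact ⟨e1.symm.trans e2⟩

end Cfsg.Agent.S5559P
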