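import Mathlib
import Cfsg.Agent.Helper25.S2981BDefs
import Cfsg.Agent.Helper28.S3000Defs
import Cfsg.Agent.Helper28.S2981GENN

/-! Board `s2981pieces`, row TORN. -/

set_option autoImplicit false

namespace Cfsg.Agent.S2981P

open Cfsg.Agent.S2789P Cfsg.Agent.S2999P Cfsg.Agent.S3000P
open scoped commutatorElement

variable {G : Type*} [Group G] [Finite G] {p : ℕ} [Fact p.Prime]

/-- If `P = N T` with `N` normalised by `P` and `T` a `p`-group, then every `p'`-subgroup of `P` lies in `N`. -/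
theorem TORN_aux_gen {P N Tg Y : Subgroup G} (hnorm : ∀ x ∈ P, cjs x N = N) (hT : IsPGroup p ↥Tg)
    (hgen : N ⊔ Tg = P) (hY : Y ≤ P) (hcop : (Nat.card ↥Y).Coprime p) : Y ≤ N := by
  have hNP : N ≤ P := hgen ▸ le_sup_left
  have hTP : Tg ≤ P := hgen ▸ le_sup_right
  have hnormal : (N.subgroupOf P).Normal := by
    rw [Subgroup.normal_subgroupOf_iff_le_normalizer hNP]
    intro x hx
    rw [Subgroup.mem_normalizer_iff]
    intro h
    have hxN := hnorm x hx
    constructor
    · intro hh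
      rw [← hxN]
      exact ⟨h, hh, rfl⟩
    · intro hh
      rw [← hxN] at hh
      obtain ⟨h', hh', he⟩ := hh
      have : h' = h := by
        have he' : x * h' * x⁻¹ = x * h * x⁻¹ := he
        have := mul_left_cancel (mul_right_cancel he')
        exact this
      rw [← this]; exact hh'
  have htop : N.subgroupOf P ⊔ Tg.subgroupOf P = ⊤ := by
    rw [← Subgroup.subgroupOf_sup hNP hTP, hgen, Subgroup.subgroupOf_self]
  -- the quotient `P / N` is a `p`-group
  have hquot : ∀ x : ↥P, ∃ k : ℕ, x ^ p ^ k ∈ N.subgroupOf P := by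
    intro x
    have hx : x ∈ N.subgroupOf P ⊔ Tg.subgroupOf P := by rw [htop]; trivial
    rw [Subgroup.mem_sup_of_normal_left] at hx
    obtain ⟨n, hn, t, ht, rfl⟩ := hx
    obtain ⟨k, hk⟩ := hT ⟨(t : G), ht⟩
    refine ⟨k, ?_⟩
    have ht1 : t ^ p ^ k = 1 := by
      apply Subtype.ext
      have := congrArg Subtype.val hk
      simpa using this
    have h1 : ((QuotientGroup.mk (n * t) : ↥P ⧸ N.subgroupOf P)) ^ p ^ k = 1 := by
      have hn1 : (QuotientGroup.mk n : ↥P ⧸ N.subgroupOf P) = 1 := (QuotientGroup.eq_one_iff n).mpr hn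
      rw [QuotientGroup.mk_mul, hn1, one_mul, ← QuotientGroup.mk_pow, ht1, QuotientGroup.mk_one]
    rw [← QuotientGroup.mk_pow] at h1
    exact (QuotientGroup.eq_one_iff _).mp h1
  intro y hy
  obtain ⟨k, hk⟩ := hquot ⟨y, hY hy⟩
  have hk' : y ^ p ^ k ∈ N := by
    have := Subgroup.mem_subgroupOf.mp hk
    simpa using this
  -- `y` is a power of `y ^ p ^ k`
  have hord : orderOf y ∣ Nat.card ↥Y := by
    have h1 : orderOf (⟨y, hy⟩ : ↥Y) ∣ Nat.card ↥Y := orderOf_dvd_natCard _
    rwa [Subgroup.orderOf_mk] at h1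
  have hcop' : Nat.Coprime (p ^ k) (orderOf y) :=
    Nat.Coprime.coprime_dvd_right hord (Nat.Coprime.pow_left k hcop.symm)
  obtain ⟨m, hm⟩ := exists_pow_eq_self_of_coprime hcop'
  rw [← hm]
  exact N.pow_mem hk' m

variable {V P : Subgroup G} {T : Sylow p ↥P} {M : Subgroup ↥P} {q : ℕ}

variable {A E : Subgroup G}

/-- TORN: `p'`-subgroups of `P` lie in `N`. -/
theorem TORN (Hy : Hyp p V P T M) (X : PkgT p V P T M q A E) {Y : Subgroup G} (hY : Y ≤ P)
    (hcop : (Nat.card ↥Y).Coprime p) : Y ≤ Ncomp (TT T) E :=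
  TORN_aux_gen (NNORM Hy X) (T.isPGroup'.map _) (GENN Hy X) hY hcop

end Cfsg.Agent.S2981P
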