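import Cfsg.Agent.Helper6.S3786ThatCentCore
import Cfsg.Agent.Helper21.S3786EXC

/-! Board `s3786pieces`, row That_cent (K2). -/

set_option autoImplicit false

namespace Cfsg.Agent.S3786P

open Subgroup

universe u

section K

variable {F : Type*} [Field F] {p : ℕ} [Fact p.Prime] [CharP F p] {V : Type*} [AddCommGroup V] [Module F V]
  [FiniteDimensional F V] [Nontrivial V] {H : Type u} [Group H] [Finite H] {ρ₀ : Representation F H V}
  {T : Sylow p H} {n : ℕ}

/-- K2. `T̂` centralises every `T`-invariant `q`-subgroup, `q` odd, and every `T`-invariant abelian 2-subgroup (`EXC`). -/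
theorem That_cent (S : KSet ρ₀ p (T : Subgroup H) n) (q : ℕ) (hq : q.Prime) (hqp : q ≠ p) (R : Subgroup H)
    (hR : IsPGroup q R) (hTR : (T : Subgroup H) ≤ normalizer (R : Set H))
    (hab : q ≠ 2 ∨ ∀ a ∈ R, ∀ b ∈ R, a * b = b * a) :
    That (T : Subgroup H) p n ≤ centralizer (R : Set H) :=
  That_cent_aux_core S R hTR
    (fun x hx r hr hrn hxR => EXC ρ₀ S.inj S.p_odd x n S.one_le hx r hr hrn q hq hqp R hR hxR hab)

end K

end Cfsg.Agent.S3786P
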