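import Mathlib
import Cfsg.Agent.Helper6.S5992Defs
import Cfsg.Agent.Helper15.S5992SUPND
import Cfsg.Agent.Helper8.S5992DISCBASIS
import Cfsg.Agent.Helper8.S5992DISCSUM
import Cfsg.Agent.Helper13.QuadWitt

/-! S5992 piece PLUSDISC: a nondegenerate even-dimensional quadratic space over a finite field of odd
characteristic is hyperbolic iff its sign-corrected discriminant is a square. -/

set_option autoImplicit false

namespace Cfsg.Agent.S5992P

open Cfsg.Agent.Helper2.SympInvol Cfsg.Agent.Helper2.SympUnits Cfsg.Agent.S5961P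

namespace PLUSDISC

variable {F V : Type*} [Field F] [AddCommGroup V] [Module F V]

/-- the part of `W` orthogonal to `u` and `f` -/
def perp2 (Q : QuadraticForm F V) (W : Submodule F V) (u f : V) : Submodule F V :=
  W ⊓ LinearMap.ker (PB Q u) ⊓ LinearMap.ker (PB Q f)

theorem mem_perp2 (Q : QuadraticForm F V) (W : Submodule F V) (u f x : V) :
    x ∈ perp2 Q W u f ↔ x ∈ W ∧ PB Q u x = 0 ∧ PB Q f x = 0 := by
  simp only [perp2, Submodule.mem_inf, LinearMap.mem_ker, and_assoc]

/-- the plane spanned by `u` and `f` -/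
def pl (u f : V) : Submodule F V := Submodule.span F (Set.range ![u, f])

theorem mem_pl (u f x : V) : x ∈ pl (F := F) u f ↔ ∃ a b : F, a • u + b • f = x := by
  rw [pl, Submodule.mem_span_range_iff_exists_fun]
  constructor
  · rintro ⟨c, hc⟩
    refine ⟨c 0, c 1, ?_⟩
    rw [← hc, Fin.sum_univ_two]
    rfl
  · rintro ⟨a, b, hab⟩
    refine ⟨![a, b], ?_⟩
    rw [← hab, Fin.sum_univ_two]
    rfl

/-- a hyperbolic pair in `W` -/
structure HP (Q : QuadraticForm F V) (W : Submodule F V) (u f : V) : Prop where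
  uW : u ∈ W
  fW : f ∈ W
  Qu : Q u = 0
  Qf : Q f = 0
  uf : PB Q u f = 1

section hp

variable {Q : QuadraticForm F V} {W : Submodule F V} {u f : V}

theorem HP.fu (h : HP Q W u f) : PB Q f u = 1 := by rw [PB_comm]; exact h.uf

theorem HP.uu (h : HP Q W u f) : PB Q u u = 0 := by rw [PB_self, h.Qu, mul_zero]

theorem HP.ff (h : HP Q W u f) : PB Q f f = 0 := by rw [PB_self, h.Qf, mul_zero]

theorem HP.u_ne (h : HP Q W u f) : u ≠ 0 := by
  intro h0
  have := h.uf
  rw [h0] at this
  simp at this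

theorem HP.li (h : HP Q W u f) : LinearIndependent F ![u, f] := by
  rw [LinearIndependent.pair_iff]
  intro a b hab
  have h1 : PB Q f (a • u + b • f) = 0 := by rw [hab]; simp
  have h2 : PB Q u (a • u + b • f) = 0 := by rw [hab]; simp
  simp only [map_add, map_smul, smul_eq_mul, h.fu, h.ff, h.uu, h.uf] at h1 h2
  constructor
  · simpa using h1
  · simpa using h2

theorem HP.pl_le (h : HP Q W u f) : pl (F := F) u f ≤ W := by
  intro x hx
  obtain ⟨a, b, rfl⟩ := (mem_pl u f x).mp hx
  exact W.add_mem (W.smul_mem a h.uW) (W.smul_mem b h.fW)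

theorem HP.perp_le (_h : HP Q W u f) : perp2 Q W u f ≤ W := fun _ hx =>
  ((mem_perp2 Q W u f _).mp hx).1

theorem HP.orth (_h : HP Q W u f) : Orth (PB Q) (pl (F := F) u f) (perp2 Q W u f) := by
  intro x hx w hw
  obtain ⟨a, b, rfl⟩ := (mem_pl u f x).mp hx
  obtain ⟨-, h1, h2⟩ := (mem_perp2 Q W u f w).mp hw
  simp [h1, h2]

theorem HP.orth' (h : HP Q W u f) : Orth (PB Q) (perp2 Q W u f) (pl (F := F) u f) := by
  intro w hw x hx
  rw [PB_comm]
  exact h.orth x hx w hw

/-- the decomposition of a vector of `W` -/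
theorem HP.decomp (h : HP Q W u f) (x : V) (hx : x ∈ W) :
    x - PB Q f x • u - PB Q u x • f ∈ perp2 Q W u f := by
  rw [mem_perp2]
  refine ⟨W.sub_mem (W.sub_mem hx (W.smul_mem _ h.uW)) (W.smul_mem _ h.fW), ?_, ?_⟩
  · simp only [map_sub, map_smul, smul_eq_mul, h.uu, h.uf]
    ring
  · simp only [map_sub, map_smul, smul_eq_mul, h.fu, h.ff]
    ring

theorem HP.sup_eq (h : HP Q W u f) : pl (F := F) u f ⊔ perp2 Q W u f = W := by
  apply le_antisymm (sup_le h.pl_le h.perp_le)
  intro x hx
  have h1 := h.decomp x hx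
  have h2 : PB Q f x • u + PB Q u x • f ∈ pl (F := F) u f := (mem_pl u f _).mpr ⟨_, _, rfl⟩
  have : x = (PB Q f x • u + PB Q u x • f) + (x - PB Q f x • u - PB Q u x • f) := by abel
  rw [this]
  exact Submodule.add_mem_sup h2 h1

theorem HP.nondeg_pl (h : HP Q W u f) : Nondeg (PB Q) (pl (F := F) u f) := by
  intro x hx hx0
  obtain ⟨a, b, rfl⟩ := (mem_pl u f x).mp hx
  by_cases ha : a = 0
  · have hb : b ≠ 0 := by
      intro hb
      apply hx0
      rw [ha, hb]; simp
    refine ⟨u, (mem_pl u f u).mpr ⟨1, 0, by simp⟩, ?_⟩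
    simp only [map_add, map_smul, LinearMap.add_apply, LinearMap.smul_apply, smul_eq_mul, h.uu, h.fu]
    simpa using hb
  · refine ⟨f, (mem_pl u f f).mpr ⟨0, 1, by simp⟩, ?_⟩
    simp only [map_add, map_smul, LinearMap.add_apply, LinearMap.smul_apply, smul_eq_mul, h.uf, h.ff]
    simpa using ha

theorem HP.nondeg_perp (h : HP Q W u f) (hW : Nondeg (PB Q) W) :
    Nondeg (PB Q) (perp2 Q W u f) := by
  intro x hx hx0
  obtain ⟨v, hv, hxv⟩ := hW x (h.perp_le hx) hx0
  refine ⟨_, h.decomp v hv, ?_⟩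
  obtain ⟨-, h1, h2⟩ := (mem_perp2 Q W u f x).mp hx
  have h1' : PB Q x u = 0 := by rw [PB_comm]; exact h1
  have h2' : PB Q x f = 0 := by rw [PB_comm]; exact h2
  simp only [map_sub, map_smul, smul_eq_mul, h1', h2', mul_zero, sub_zero]
  exact hxv

theorem HP.finrank_pl (h : HP Q W u f) : Module.finrank F (pl (F := F) u f) = 2 := by
  rw [pl, finrank_span_eq_card h.li]
  simp

theorem HP.u_notMem (h : HP Q W u f) : u ∉ perp2 Q W u f := by
  intro hu
  obtain ⟨-, -, h2⟩ := (mem_perp2 Q W u f u).mp hu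
  rw [h.fu] at h2
  exact one_ne_zero h2

end hp

section fin

variable [FiniteDimensional F V] {Q : QuadraticForm F V} {W : Submodule F V} {u f : V}

theorem HP.discSq_pl (h : HP Q W u f) : DiscSq Q (pl (F := F) u f) := by
  change DiscSq Q (Submodule.span F (Set.range ![u, f]))
  have hb := (discSq_iff Q (Submodule.span F (Set.range ![u, f])) (Module.Basis.span h.li)).1
  rw [hb]
  have hcoe : ∀ i, ((Module.Basis.span h.li i : Submodule.span F (Set.range ![u, f])) : V)
      = ![u, f] i := by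
    intro i
    exact congrArg Subtype.val (Module.Basis.span_apply h.li i)
  have : gramDet Q (fun i => ((Module.Basis.span h.li i :
      Submodule.span F (Set.range ![u, f])) : V)) = -1 := by
    unfold gramDet
    simp only [hcoe]
    rw [Matrix.det_fin_two]
    simp only [Matrix.of_apply, Matrix.cons_val_zero, Matrix.cons_val_one]
    rw [← PB_apply, ← PB_apply, ← PB_apply, ← PB_apply, h.uu, h.ff, h.uf, h.fu]
    ring
  rw [this]
  exact ⟨1, by norm_num⟩

theorem HP.finrank_perp (h : HP Q W u f) (hW : Nondeg (PB Q) W) :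
    Module.finrank F (perp2 Q W u f) + 2 = Module.finrank F W := by
  obtain ⟨-, -, hfr⟩ := nondeg_sup_orth Q _ _ h.nondeg_pl (h.nondeg_perp hW) h.orth
  rw [h.sup_eq, h.finrank_pl] at hfr
  omega

/-- adding `u` to a totally singular subspace of the complement -/
theorem HP.plus_of_perp (h : HP Q W u f) (hW : Nondeg (PB Q) W)
    (hp : Plus Q (perp2 Q W u f)) : Plus Q W := by
  obtain ⟨U', hU'le, hU'ts, hU'dim⟩ := hp
  refine ⟨U' ⊔ Submodule.span F {u}, sup_le (le_trans hU'le h.perp_le)
    (by rw [Submodule.span_singleton_le_iff_mem]; exact h.uW), ?_, ?_⟩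
  · intro x hx
    obtain ⟨x', hx', z, hz, rfl⟩ := Submodule.mem_sup.mp hx
    obtain ⟨c, rfl⟩ := Submodule.mem_span_singleton.mp hz
    obtain ⟨-, h1, -⟩ := (mem_perp2 Q W u f x').mp (hU'le hx')
    have : QuadraticMap.polar Q x' (c • u) = 0 := by
      rw [QuadraticMap.polar_smul_right, QuadraticMap.polar_comm, ← PB_apply, h1, smul_zero]
    rw [QuadraticMap.map_add (⇑Q) x' (c • u), hU'ts x' hx', QuadraticMap.map_smul, h.Qu, this]
    simp
  · have hdisj : U' ⊓ Submodule.span F {u} = ⊥ := by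
      apply le_bot_iff.mp
      intro x hx
      obtain ⟨c, rfl⟩ := Submodule.mem_span_singleton.mp hx.2
      by_cases hc : c = 0
      · rw [hc, zero_smul]; exact Submodule.zero_mem _
      · exfalso
        apply h.u_notMem
        have := (perp2 Q W u f).smul_mem c⁻¹ (hU'le hx.1)
        rwa [smul_smul, inv_mul_cancel₀ hc, one_smul] at this
    have h1 := Submodule.finrank_sup_add_finrank_inf_eq U' (Submodule.span F {u})
    rw [hdisj, finrank_bot, add_zero, finrank_span_singleton h.u_ne] at h1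
    have h2 := h.finrank_perp hW
    omega

/-- the complement of `u` in a totally singular subspace of half dimension containing `u` -/
theorem HP.plus_perp (h : HP Q W u f) (hW : Nondeg (PB Q) W) (U : Submodule F V) (hUW : U ≤ W)
    (hUts : TS Q U) (hUdim : 2 * Module.finrank F U = Module.finrank F W) (huU : u ∈ U) :
    Plus Q (perp2 Q W u f) := by
  have hiso : ∀ x ∈ U, ∀ z ∈ U, PB Q x z = 0 := by
    intro x hx z hz
    rw [PB_apply, QuadraticMap.polar, hUts _ (U.add_mem hx hz), hUts x hx, hUts z hz]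
    simp
  refine ⟨U ⊓ perp2 Q W u f, inf_le_right, fun x hx => hUts x hx.1, ?_⟩
  have hsup : U ⊓ perp2 Q W u f ⊔ Submodule.span F {u} = U := by
    apply le_antisymm
    · exact sup_le inf_le_left (by rw [Submodule.span_singleton_le_iff_mem]; exact huU)
    · intro x hx
      have hx' : x - PB Q f x • u ∈ U ⊓ perp2 Q W u f := by
        refine Submodule.mem_inf.mpr ⟨U.sub_mem hx (U.smul_mem _ huU), ?_⟩
        rw [mem_perp2]
        refine ⟨W.sub_mem (hUW hx) (W.smul_mem _ h.uW), ?_, ?_⟩
        · simp only [map_sub, map_smul, smul_eq_mul, h.uu, hiso u huU x hx]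
          ring
        · simp only [map_sub, map_smul, smul_eq_mul, h.fu]
          ring
      have : x = (x - PB Q f x • u) + PB Q f x • u := by abel
      rw [this]
      exact Submodule.add_mem_sup hx' (Submodule.mem_span_singleton.mpr ⟨_, rfl⟩)
  have hdisj : U ⊓ perp2 Q W u f ⊓ Submodule.span F {u} = ⊥ := by
    apply le_bot_iff.mp
    intro x hx
    obtain ⟨c, rfl⟩ := Submodule.mem_span_singleton.mp hx.2
    by_cases hc : c = 0
    · rw [hc, zero_smul]; exact Submodule.zero_mem _
    · exfalso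
      apply h.u_notMem
      have := (perp2 Q W u f).smul_mem c⁻¹ hx.1.2
      rwa [smul_smul, inv_mul_cancel₀ hc, one_smul] at this
  have h1 := Submodule.finrank_sup_add_finrank_inf_eq (U ⊓ perp2 Q W u f) (Submodule.span F {u})
  rw [hdisj, hsup, finrank_bot, add_zero, finrank_span_singleton h.u_ne] at h1
  have h2 := h.finrank_perp hW
  omega

/-- a singular vector of a nondegenerate subspace has a hyperbolic partner there -/
theorem exists_hp (hW : Nondeg (PB Q) W) (u : V) (huW : u ∈ W) (hu0 : u ≠ 0) (hQu : Q u = 0) :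
    ∃ f : V, HP Q W u f := by
  obtain ⟨y, hyW, huy⟩ : ∃ y ∈ W, PB Q u y = 1 := by
    obtain ⟨y₀, hy₀W, hy₀⟩ := hW u huW hu0
    refine ⟨(PB Q u y₀)⁻¹ • y₀, W.smul_mem _ hy₀W, ?_⟩
    rw [map_smul, smul_eq_mul, inv_mul_cancel₀ hy₀]
  refine ⟨y - Q y • u, huW, W.sub_mem hyW (W.smul_mem _ huW), hQu, ?_, ?_⟩
  · have : y - Q y • u = (-Q y) • u + (1 : F) • y := by rw [neg_smul, one_smul]; abel
    rw [this, Cfsg.Agent.Helper13.map_smul_add_smul, hQu, ← PB_apply, huy]
    ring
  · rw [map_sub, map_smul, smul_eq_mul, huy, PB_self, hQu]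
    ring

end fin

section plane

variable [FiniteDimensional F V]

/-- a plane with square discriminant has a singular vector -/
theorem exists_singular_of_plane (h2 : (2 : F) ≠ 0) (Q : QuadraticForm F V) (W : Submodule F V)
    (hdim : Module.finrank F W = 2) (hd : DiscSq Q W) : ∃ w ∈ W, w ≠ 0 ∧ Q w = 0 := by
  set b : Module.Basis (Fin 2) F W := Module.finBasisOfFinrankEq F W hdim with hb
  have hsq := (discSq_iff Q W b).1.mp hd
  set b₁ : V := (b 0 : V) with hb₁
  set b₂ : V := (b 1 : V) with hb₂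
  have hdet : gramDet Q (fun i => (b i : V)) =
      PB Q b₁ b₁ * PB Q b₂ b₂ - PB Q b₁ b₂ * PB Q b₂ b₁ := by
    unfold gramDet
    rw [Matrix.det_fin_two]
    rfl
  rw [hdet, PB_self, PB_self, PB_comm Q b₂ b₁] at hsq
  obtain ⟨s, hs⟩ := hsq
  have hli := b.linearIndependent
  have hne : ∀ a c : F, a • b₁ + c • b₂ = 0 → a = 0 ∧ c = 0 := by
    intro a c hac
    have : a • b 0 + c • b 1 = 0 := by
      apply Subtype.ext
      simpa using hac
    have h' := (LinearIndependent.pair_iff (x := b 0) (y := b 1)).mp (by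
      have : ![b 0, b 1] = b := by
        funext i; fin_cases i <;> rfl
      rw [this]; exact hli) a c this
    exact h'
  by_cases hα : Q b₁ = 0
  · refine ⟨b₁, (b 0).2, ?_, hα⟩
    intro h0
    have := hne 1 0 (by rw [h0]; simp)
    exact one_ne_zero this.1
  · set x : F := (s - PB Q b₁ b₂) / (2 * Q b₁) with hx
    refine ⟨x • b₁ + (1 : F) • b₂, W.add_mem (W.smul_mem _ (b 0).2) (W.smul_mem _ (b 1).2), ?_, ?_⟩
    · intro h0
      exact one_ne_zero (hne x 1 h0).2
    · rw [Cfsg.Agent.Helper13.map_smul_add_smul, ← PB_apply, hx]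
      have h4 : (2 : F) * Q b₁ ≠ 0 := mul_ne_zero h2 hα
      field_simp
      have hs' : s * s = PB Q b₁ b₂ * PB Q b₁ b₂ - 2 * Q b₁ * (2 * Q b₂) := by
        rw [← hs]; norm_num
      ring_nf
      ring_nf at hs'
      linear_combination hs'

end plane

end PLUSDISC

open PLUSDISC

/-- PLUSDISC -/
theorem plus_iff_discSq {F V : Type*} [Field F] [Fintype F] [AddCommGroup V] [Module F V]
    [FiniteDimensional F V] (h2 : (2 : F) ≠ 0) (Q : QuadraticForm F V) (W : Submodule F V)
    (hW : Nondeg (PB Q) W) (he : Even (Module.finrank F W)) : Plus Q W ↔ DiscSq Q W := by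
  obtain ⟨n, hn⟩ := he
  induction n generalizing W with
  | zero =>
    have hW0 : Module.finrank F W = 0 := by omega
    have hbot : W = ⊥ := Submodule.finrank_eq_zero.mp hW0
    constructor
    · intro _
      have hb := (discSq_iff Q W (Module.finBasisOfFinrankEq F W hW0)).1
      rw [hb]
      unfold gramDet
      rw [Matrix.det_fin_zero]
      exact ⟨1, by norm_num⟩
    · intro _
      rw [hbot]; exact plus_bot Q
  | succ n ih =>
    -- peeling lemma
    have key : ∀ u f : V, HP Q W u f →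
        (Plus Q (perp2 Q W u f) ↔ DiscSq Q (perp2 Q W u f)) ∧
        (DiscSq Q W ↔ DiscSq Q (perp2 Q W u f)) := by
      intro u f h
      have hfr := h.finrank_perp hW
      refine ⟨ih (perp2 Q W u f) (h.nondeg_perp hW) (by omega), ?_⟩
      have := discSq_sup h2 Q _ _ h.nondeg_pl (h.nondeg_perp hW) h.orth
        (by rw [h.finrank_pl]; exact even_two) ⟨n, by omega⟩
      rw [h.sup_eq] at this
      rw [this]
      have := h.discSq_pl
      tauto
    constructor
    · rintro ⟨U, hUW, hUts, hUdim⟩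
      have hUpos : 0 < Module.finrank F U := by omega
      obtain ⟨u, hu0⟩ := (Module.finrank_pos_iff_exists_ne_zero (R := F) (M := U)).mp hUpos
      have hu0' : (u : V) ≠ 0 := fun h => hu0 (Subtype.ext h)
      obtain ⟨f, hf⟩ := exists_hp hW (u : V) (hUW u.2) hu0' (hUts _ u.2)
      obtain ⟨k1, k2⟩ := key _ _ hf
      exact k2.mpr (k1.mp (hf.plus_perp hW U hUW hUts hUdim u.2))
    · intro hd
      obtain ⟨u, huW, hu0, hQu⟩ : ∃ u ∈ W, u ≠ 0 ∧ Q u = 0 := by
        rcases Nat.eq_zero_or_pos n with hn0 | hn0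
        · exact exists_singular_of_plane h2 Q W (by omega) hd
        · obtain ⟨v, hv0, hQv⟩ := Cfsg.Agent.Helper13.exists_singular (Q.comp W.subtype)
            (by omega)
          exact ⟨v, v.2, fun h => hv0 (Subtype.ext h), hQv⟩
      obtain ⟨f, hf⟩ := exists_hp hW u huW hu0 hQu
      obtain ⟨k1, k2⟩ := key _ _ hf
      exact hf.plus_of_perp hW (k1.mpr (k2.mp hd))

end Cfsg.Agent.S5992P
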