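import Mathlib
import Cfsg.Agent.Helper8.S1904Defs
import Cfsg.Agent.Helper10.PGroupBasic

/-! Board `s1904pieces`, row PN: in a finite 2-group, between normal subgroups `M < N` there is
`n ∈ N ∖ M` with `nM ∈ Ω₁(Z(X/M))`. -/

set_option autoImplicit false

namespace Cfsg.Agent.S1904P

variable {X : Type*} [Group X] [Finite X]

/-- In a finite `2`-group, a nontrivial normal subgroup contains a central involution. -/
theorem PN_aux_inv {Q : Type*} [Group Q] [Finite Q] (hQ : IsPGroup 2 Q) (K : Subgroup Q)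
    [K.Normal] (hK : K ≠ ⊥) : ∃ w ∈ K, w ≠ 1 ∧ w * w = 1 ∧ w ∈ Subgroup.center Q := by
  have : Fact (Nat.Prime 2) := ⟨Nat.prime_two⟩
  obtain ⟨z, hzK, hz1, hzc⟩ := Cfsg.Agent.Helper10.exists_ne_one_mem_inf_center hQ K hK
  obtain ⟨k, hk⟩ := hQ z
  -- minimal `k` with `z ^ 2 ^ k = 1`
  classical
  have hex : ∃ k, z ^ 2 ^ k = 1 := ⟨k, hk⟩
  set m := Nat.find hex with hm
  have hm1 : z ^ 2 ^ m = 1 := Nat.find_spec hex
  have hm0 : m ≠ 0 := by
    intro h0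
    rw [h0] at hm1
    simp at hm1
    exact hz1 hm1
  obtain ⟨j, hj⟩ := Nat.exists_eq_succ_of_ne_zero hm0
  have hjlt : j < m := by omega
  have hjne : z ^ 2 ^ j ≠ 1 := Nat.find_min hex hjlt
  refine ⟨z ^ 2 ^ j, K.pow_mem hzK _, hjne, ?_, (Subgroup.center Q).pow_mem hzc _⟩
  rw [← pow_add, ← two_mul, ← pow_succ', ← Nat.succ_eq_add_one, ← hj]
  exact hm1

theorem PN (hX : IsPGroup 2 X) (M N : Subgroup X) (hM : M.Normal) (hN : N.Normal) (h : M < N) :
    ∃ n ∈ N, n ∉ M ∧ n * n ∈ M ∧ ∀ x : X, n * x * n⁻¹ * x⁻¹ ∈ M := by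
  have := hM
  have := hN
  have hQ : IsPGroup 2 (X ⧸ M) := hX.to_quotient M
  obtain ⟨n0, hn0N, hn0M⟩ := SetLike.exists_of_lt h
  have : (N.map (QuotientGroup.mk' M)).Normal :=
    hN.map _ (QuotientGroup.mk'_surjective M)
  have hne : N.map (QuotientGroup.mk' M) ≠ ⊥ := by
    intro hb
    have h1 : (QuotientGroup.mk' M) n0 ∈ N.map (QuotientGroup.mk' M) :=
      Subgroup.mem_map_of_mem _ hn0N
    rw [hb, Subgroup.mem_bot] at h1
    exact hn0M ((QuotientGroup.eq_one_iff n0).1 h1)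
  obtain ⟨w, hwK, hw1, hw2, hwc⟩ := PN_aux_inv hQ _ hne
  obtain ⟨n, hnN, rfl⟩ := Subgroup.mem_map.1 hwK
  refine ⟨n, hnN, ?_, ?_, ?_⟩
  · intro hnM
    exact hw1 ((QuotientGroup.eq_one_iff n).2 hnM)
  · have : ((n * n : X) : X ⧸ M) = 1 := by
      simpa using hw2
    exact (QuotientGroup.eq_one_iff _).1 this
  · intro x
    have hc := (Subgroup.mem_center_iff.1 hwc) ((QuotientGroup.mk' M) x)
    have : ((n * x * n⁻¹ * x⁻¹ : X) : X ⧸ M) = 1 := by
      have h1 : ((n * x * n⁻¹ * x⁻¹ : X) : X ⧸ M)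
          = (QuotientGroup.mk' M) n * (QuotientGroup.mk' M) x * ((QuotientGroup.mk' M) n)⁻¹ *
            ((QuotientGroup.mk' M) x)⁻¹ := by simp
      rw [h1, ← hc]
      group
    exact (QuotientGroup.eq_one_iff _).1 this

end Cfsg.Agent.S1904P
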