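import Mathlib
import Cfsg.Prelude.Def_GeometricClasses
import Cfsg.Prelude.Def_Classical
import Cfsg.Prelude.Def_LieClassical
import Cfsg.Agent.Helper16.S5974Defs
import Cfsg.Agent.Helper1.S5973STD
import Cfsg.Agent.Helper13.S5973CLASSIF
import Cfsg.Agent.Helper2.ElusA

/-! S5974 / S5988 / S5990 piece CARDOQ (helper6): the order of the isometry group of a nondegenerate
quadratic form of dimension `2d` and type `ε` over a finite field, every characteristic. -/

set_option autoImplicit false
open scoped MatrixGroups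
universe u

namespace Cfsg.Agent.S5974P

open Module Cfsg.Agent.S5973P
open Cfsg.Agent.S5989P (stabW ordO epsFac R2cond)

namespace CARDOQ

open Cfsg.Agent.Helper28.Spin in
/-- transport of the order of the isometry group along the classification -/
theorem card_eq_of_type {F : Type*} [Field F] [Fintype F] {ι κ : Type} [Fintype ι]
    [DecidableEq ι] [Fintype κ] [DecidableEq κ] (Q : QuadraticForm F (ι → F))
    (Q' : QuadraticForm F (κ → F)) (hQ : ND Q) (hQ' : ND Q')
    (hcard : Fintype.card ι = Fintype.card κ) (hev : Even (Fintype.card ι))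
    (hty : IsHyp Q ↔ IsHyp Q') :
    Nat.card ↥(Cfsg.isometryGroup F ⇑Q) = Nat.card ↥(Cfsg.isometryGroup F ⇑Q') := by
  have h1 : finrank F (ι → F) = finrank F (κ → F) := by
    rw [Module.finrank_fintype_fun_eq_card, Module.finrank_fintype_fun_eq_card, hcard]
  have h2 : Even (finrank F (ι → F)) := by
    rw [Module.finrank_fintype_fun_eq_card]; exact hev
  obtain ⟨g, hg⟩ := exists_isometry_of_type Q Q' hQ hQ' h1 h2 hty
  obtain ⟨fr⟩ := Cfsg.Agent.Helper2.Elus.exists_frame (Q₁ := Q) (Q₂ := Q') g hg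
  exact fr.card_isom

end CARDOQ

open Cfsg.Agent.Helper28.Spin in
/-- CARDOQ -/
theorem card_isometryGroup_of_type {F : Type*} [Field F] [Fintype F] {q : ℕ}
    (hq : Fintype.card F = q) {ι : Type} [Fintype ι] [DecidableEq ι]
    (Q : QuadraticForm F (ι → F)) (hQ : ND Q) (d : ℕ) (hd : 1 ≤ d)
    (hι : Fintype.card ι = 2 * d) (ε : Bool) (hε : IsHyp Q ↔ ε = true) :
    Nat.card ↥(Cfsg.isometryGroup F ⇑Q) = ordO ε q d := by
  classical
  cases ε with
  | true =>
    have hh : IsHyp Q := hε.mpr rfl
    rw [CARDOQ.card_eq_of_type Q (QfPlus d F) hQ (std_plus d).1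
      (by rw [hι, Fintype.card_sum, Fintype.card_fin]; ring) (by rw [hι]; exact ⟨d, by ring⟩)
      ⟨fun _ => (std_plus d).2, fun _ => hh⟩, QfPlus_coe,
      Cfsg.Agent.Helper2.Quad.card_GO_plus hq d hd]
    unfold ordO epsFac
    simp
  | false =>
    have hh : ¬ IsHyp Q := fun h => by simpa using hε.mp h
    obtain ⟨a, b, hab⟩ := Cfsg.Agent.Helper28.LB.exists_aniso_binary (K := F)
    rw [CARDOQ.card_eq_of_type Q (QfMinus (d - 1) F a b) hQ (std_minus (d - 1) a b hab).1
      (by rw [hι, Fintype.card_sum, Fintype.card_sum, Fintype.card_fin, Fintype.card_fin]; omega)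
      (by rw [hι]; exact ⟨d, by ring⟩)
      ⟨fun h => absurd h hh, fun h => absurd h (std_minus (d - 1) a b hab).2⟩, QfMinus_coe,
      Cfsg.Agent.Helper2.Quad.card_GO_minus hq d hd a b hab]
    unfold ordO epsFac
    simp

end Cfsg.Agent.S5974P
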