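import Mathlib
import Cfsg.Agent.Helper26.S3911Defs
import Cfsg.Agent.Helper17.S3913Defs
import Cfsg.Agent.Helper26.S3912ABS

/-! s3913pieces RED1, core: the statement of the row PRIME is taken as a hypothesis (PRIME had not landed yet).
A normal subgroup `N` of prime order `q` of a B-group contains every element of order `q` (absorption, `S3912P.ABS`), so PRIME
applies. -/

set_option autoImplicit false

namespace Cfsg.Agent.S3913P

open Cfsg.Agent.S3911P Cfsg.Agent.S3913P

universe u

/-- a normal subgroup of prime order `q` of a B-group contains all elements of order `q` -/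
theorem RED1_aux_abs {G : Type*} [Group G] [Finite G] (hB : BProp G)
    (N : Subgroup G) [N.Normal] (hN : (Nat.card ↥N).Prime) (x : G) (hx : orderOf x = Nat.card ↥N) : x ∈ N := by
  have hnt : Nontrivial ↥N := by
    rw [← Finite.one_lt_card_iff_nontrivial]
    exact hN.one_lt
  obtain ⟨m, hm⟩ := exists_ne (1 : ↥N)
  have hdvd : orderOf m ∣ Nat.card ↥N := orderOf_dvd_natCard m
  have hm1 : orderOf m ≠ 1 := by
    intro h
    exact hm (orderOf_eq_one_iff.mp h)
  have hmq : orderOf m = Nat.card ↥N := by
    rcases (Nat.dvd_prime hN).mp hdvd with h | h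
    · exact absurd h hm1
    · exact h
  refine Cfsg.Agent.S3912P.ABS hB N x ⟨(m : G), m.2, ?_⟩
  rw [Subgroup.orderOf_coe, hmq, hx]

/-- RED1 with the statement of PRIME as a hypothesis -/
theorem RED1_aux_core
    (hPRIME : ∀ {X : Type u} [Group X] [Finite X] (_ : Group.IsSolvable X) (M : Subgroup X) [M.Normal]
      (q : ℕ) (_ : q.Prime) (_ : Nat.card ↥M = q) (_ : ∀ x : X, orderOf x = q → x ∈ M)
      (_ : SProp (X ⧸ M)), SProp X)
    {G : Type u} [Group G] [Finite G] (hB : BProp G) (hsol : Group.IsSolvable G)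
    (N : Subgroup G) [N.Normal] (hN : (Nat.card ↥N).Prime) (hq : SProp (G ⧸ N)) : SProp G :=
  hPRIME hsol N (Nat.card ↥N) hN rfl (fun x hx => RED1_aux_abs hB N hN x hx) hq

end Cfsg.Agent.S3913P
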