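import Mathlib
import Cfsg.Agent.Helper26.S3911Defs
import Cfsg.Agent.Helper17.S3913Defs
import Cfsg.Agent.Helper6.S3913RED1c
import Cfsg.Agent.Helper3.S3913PRIME

/-! s3913pieces RED1 (helper6): PRIME (`Cfsg.Agent.Helper3.S3913PRIME`) + absorption (`RED1_aux_abs`, via `S3912P.ABS`). -/

set_option autoImplicit false

namespace Cfsg.Agent.S3913P

open Cfsg.Agent.S3911P Cfsg.Agent.S3913P

open scoped commutatorElement

universe u

/-- RED1 (S/M; PRIME + absorption `Cfsg.Agent.S3912P.ABS`). -/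
theorem RED1 {G : Type*} [Group G] [Finite G] (hB : BProp G) (hsol : Group.IsSolvable G)
    (N : Subgroup G) [N.Normal] (hN : (Nat.card ↥N).Prime) (hq : SProp (G ⧸ N)) : SProp G :=
  PRIME hsol N (Nat.card ↥N) hN rfl (fun x hx => RED1_aux_abs hB N hN x hx) hq

end Cfsg.Agent.S3913P
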