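import Mathlib

/-!
Homomorphisms out of the generalized quaternion groups, and fixed-point-free modules for `Q₈` of
every odd square order.
-/

set_option autoImplicit false

namespace Cfsg.Agent.Helper6.QuatLift

open QuaternionGroup

section Lift
variable {M : Type*} [Group M] {n : ℕ}

/-- powers indexed by `ZMod (2n)` -/
def G (X : M) (i : ZMod (2 * n)) : M := X ^ i.val

theorem G_add [NeZero n] (X : M) (hX : X ^ (2 * n) = 1) (i j : ZMod (2 * n)) :
    G X (i + j) = G X i * G X j := by
  unfold G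
  rw [ZMod.val_add, ← pow_add, ← pow_eq_pow_mod _ hX]

theorem G_zero (X : M) : G X (0 : ZMod (2 * n)) = 1 := by
  unfold G
  rw [ZMod.val_zero, pow_zero]

theorem G_neg [NeZero n] (X : M) (hX : X ^ (2 * n) = 1) (i : ZMod (2 * n)) :
    G X (-i) = (G X i)⁻¹ := by
  apply eq_inv_of_mul_eq_one_left
  rw [← G_add X hX, neg_add_cancel, G_zero]

theorem G_n [NeZero n] (X : M) : G X ((n : ℕ) : ZMod (2 * n)) = X ^ n := by
  unfold G
  rw [ZMod.val_natCast_of_lt]
  have := NeZero.pos n
  omega

theorem Y_G (X Y : M) (hYX : Y * X * Y⁻¹ = X⁻¹) (i : ZMod (2 * n)) :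
    G X i * Y = Y * (G X i)⁻¹ := by
  unfold G
  have h1 : Y * X ^ i.val * Y⁻¹ = (X ^ i.val)⁻¹ := by
    rw [← conj_pow, hYX, inv_pow]
  have h2 : X ^ i.val = Y * (X ^ i.val)⁻¹ * Y⁻¹ := by
    have := congrArg (·⁻¹) h1
    simp only [mul_inv_rev, inv_inv] at this
    rw [← mul_assoc] at this
    exact this.symm
  calc X ^ i.val * Y = Y * (X ^ i.val)⁻¹ * Y⁻¹ * Y := by rw [← h2]
    _ = Y * (X ^ i.val)⁻¹ := by group

/-- the homomorphism from the generalized quaternion group determined by `X`, `Y` -/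
def lift [NeZero n] (X Y : M) (hX : X ^ (2 * n) = 1) (hY : Y * Y = X ^ n)
    (hYX : Y * X * Y⁻¹ = X⁻¹) : QuaternionGroup n →* M where
  toFun
    | a i => G X i
    | xa i => Y * G X i
  map_one' := by
    show G X (0 : ZMod (2 * n)) = 1
    exact G_zero X
  map_mul' := by
    rintro (i | i) (j | j)
    · show G X (i + j) = G X i * G X j
      exact G_add X hX i j
    · show Y * G X (j - i) = G X i * (Y * G X j)
      rw [← mul_assoc, Y_G X Y hYX, sub_eq_add_neg, add_comm, G_add X hX, G_neg X hX, mul_assoc]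
    · show Y * G X (i + j) = Y * G X i * G X j
      rw [G_add X hX, mul_assoc]
    · show G X ((n : ZMod (2 * n)) + j - i) = Y * G X i * (Y * G X j)
      rw [mul_assoc, ← mul_assoc (G X i), Y_G X Y hYX, mul_assoc, ← mul_assoc Y Y, hY,
        sub_eq_add_neg, add_assoc, G_add X hX, G_n, add_comm j, G_add X hX, G_neg X hX]

theorem lift_a [NeZero n] (X Y : M) (hX : X ^ (2 * n) = 1) (hY : Y * Y = X ^ n)
    (hYX : Y * X * Y⁻¹ = X⁻¹) (i : ZMod (2 * n)) : lift X Y hX hY hYX (a i) = X ^ i.val := rfl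

end Lift

section Module

variable {R : Type*} [CommRing R]

/-- the additive automorphism `(u, v) ↦ (-v, u)` -/
def Xe (R : Type*) [CommRing R] : (R × R) ≃+ (R × R) where
  toFun w := (-w.2, w.1)
  invFun w := (w.2, -w.1)
  left_inv w := by simp
  right_inv w := by simp
  map_add' w w' := by
    ext
    · simp only [Prod.snd_add, Prod.fst_add]; ring
    · simp

/-- the additive automorphism `(u, v) ↦ (a u + b v, b u - a v)`, where `a² + b² = -1` -/
def Ye (a b : R) (hab : a * a + b * b = -1) : (R × R) ≃+ (R × R) where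
  toFun w := (a * w.1 + b * w.2, b * w.1 - a * w.2)
  invFun w := (-(a * w.1 + b * w.2), -(b * w.1 - a * w.2))
  left_inv w := by
    ext
    · show -(a * (a * w.1 + b * w.2) + b * (b * w.1 - a * w.2)) = w.1
      have : a * (a * w.1 + b * w.2) + b * (b * w.1 - a * w.2) = (a * a + b * b) * w.1 := by ring
      rw [this, hab]; ring
    · show -(b * (a * w.1 + b * w.2) - a * (b * w.1 - a * w.2)) = w.2
      have : b * (a * w.1 + b * w.2) - a * (b * w.1 - a * w.2) = (a * a + b * b) * w.2 := by ring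
      rw [this, hab]; ring
  right_inv w := by
    ext
    · show a * (-(a * w.1 + b * w.2)) + b * (-(b * w.1 - a * w.2)) = w.1
      have : a * (-(a * w.1 + b * w.2)) + b * (-(b * w.1 - a * w.2)) =
          -((a * a + b * b) * w.1) := by ring
      rw [this, hab]; ring
    · show b * (-(a * w.1 + b * w.2)) - a * (-(b * w.1 - a * w.2)) = w.2
      have : b * (-(a * w.1 + b * w.2)) - a * (-(b * w.1 - a * w.2)) =
          -((a * a + b * b) * w.2) := by ring
      rw [this, hab]; ring
  map_add' w w' := by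
    ext
    · simp only [Prod.snd_add, Prod.fst_add]; ring
    · simp only [Prod.snd_add, Prod.fst_add]; ring

theorem Xe_apply (w : R × R) : Xe R w = (-w.2, w.1) := rfl

theorem Xe_symm_apply (w : R × R) : (Xe R).symm w = (w.2, -w.1) := rfl

theorem Ye_apply (a b : R) (hab : a * a + b * b = -1) (w : R × R) :
    Ye a b hab w = (a * w.1 + b * w.2, b * w.1 - a * w.2) := rfl

theorem Xe_Xe (w : R × R) : Xe R (Xe R w) = -w := by
  rw [Xe_apply, Xe_apply]
  ext <;> simp

theorem Ye_Ye (a b : R) (hab : a * a + b * b = -1) (w : R × R) :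
    Ye a b hab (Ye a b hab w) = -w := by
  rw [Ye_apply, Ye_apply]
  ext
  · show a * (a * w.1 + b * w.2) + b * (b * w.1 - a * w.2) = -w.1
    have : a * (a * w.1 + b * w.2) + b * (b * w.1 - a * w.2) = (a * a + b * b) * w.1 := by ring
    rw [this, hab]; ring
  · show b * (a * w.1 + b * w.2) - a * (b * w.1 - a * w.2) = -w.2
    have : b * (a * w.1 + b * w.2) - a * (b * w.1 - a * w.2) = (a * a + b * b) * w.2 := by ring
    rw [this, hab]; ring

theorem Ye_Xe (a b : R) (hab : a * a + b * b = -1) (w : R × R) :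
    Ye a b hab (Xe R w) = (Xe R).symm (Ye a b hab w) := by
  rw [Xe_apply, Ye_apply, Ye_apply, Xe_symm_apply]
  ext
  · show a * -w.2 + b * w.1 = b * w.1 - a * w.2
    ring
  · show b * -w.2 - a * w.1 = -(a * w.1 + b * w.2)
    ring

/-- multiplicative versions -/
def Xm (R : Type*) [CommRing R] : MulAut (Multiplicative (R × R)) :=
  AddEquiv.toMultiplicative (Xe R)

def Ym (a b : R) (hab : a * a + b * b = -1) : MulAut (Multiplicative (R × R)) :=
  AddEquiv.toMultiplicative (Ye a b hab)

theorem Xm_sq_apply (w : Multiplicative (R × R)) : (Xm R ^ 2) w = w⁻¹ := by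
  rw [pow_two, MulAut.mul_apply]
  apply Multiplicative.toAdd.injective
  exact Xe_Xe (Multiplicative.toAdd w)

theorem Xm_pow_four : Xm R ^ (2 * 2) = 1 := by
  apply MulEquiv.ext
  intro w
  rw [pow_mul, pow_two (Xm R ^ 2), MulAut.mul_apply, Xm_sq_apply, Xm_sq_apply, inv_inv]
  rfl

theorem Ym_sq (a b : R) (hab : a * a + b * b = -1) :
    Ym a b hab * Ym a b hab = Xm R ^ 2 := by
  apply MulEquiv.ext
  intro w
  rw [Xm_sq_apply, MulAut.mul_apply]
  apply Multiplicative.toAdd.injective
  exact Ye_Ye a b hab (Multiplicative.toAdd w)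

theorem Ym_Xm (a b : R) (hab : a * a + b * b = -1) :
    Ym a b hab * Xm R * (Ym a b hab)⁻¹ = (Xm R)⁻¹ := by
  rw [mul_inv_eq_iff_eq_mul]
  apply MulEquiv.ext
  intro w
  rw [MulAut.mul_apply, MulAut.mul_apply, MulAut.inv_apply]
  apply Multiplicative.toAdd.injective
  exact Ye_Xe a b hab (Multiplicative.toAdd w)

/-- the `Q₈`-action on `R × R` -/
def quatHom (a b : R) (hab : a * a + b * b = -1) :
    QuaternionGroup 2 →* MulAut (Multiplicative (R × R)) :=
  lift (Xm R) (Ym a b hab) Xm_pow_four (Ym_sq a b hab) (Ym_Xm a b hab)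

theorem quatHom_center (a b : R) (hab : a * a + b * b = -1) (w : Multiplicative (R × R)) :
    quatHom a b hab (QuaternionGroup.a 2) w = w⁻¹ := by
  unfold quatHom
  rw [lift_a]
  have : ((2 : ZMod (2 * 2))).val = 2 := by decide
  rw [this, Xm_sq_apply]

end Module

end Cfsg.Agent.Helper6.QuatLift
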