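import Mathlib

import Cfsg.Agent.Helper6.S2861Defs
import Cfsg.Agent.Helper20.S2861TRANSPORT
import Cfsg.Agent.Helper20.S2861TWO
import Cfsg.Agent.Helper23.S2861SL2
import Cfsg.Agent.Helper7.S2861SZ
import Cfsg.Agent.Helper14.PReduced2
import Cfsg.Agent.Helper11.SzBridge

set_option autoImplicit false
set_option linter.unusedVariables false

namespace Cfsg.Agent.S2861P

open Cfsg

/-- `Hyp` forces `Yb ≠ ⊥`. -/
theorem GLUE.aux_ne_bot {X : Type*} [Group X] {Yb Nb : Subgroup X} (h : Hyp Yb Nb) : Yb ≠ ⊥ := by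
  intro hb
  apply h.ne_top
  have h1 : Subgroup.normalClosure ((⊥ : Subgroup X) : Set X) ≤ ⊥ :=
    Subgroup.normalClosure_le_normal (le_refl _)
  have h2 := h.gen
  rw [hb] at h2
  rw [h2] at h1
  rw [eq_top_iff]
  exact h1.trans bot_le

/-- Images of elementary abelian subgroups are elementary abelian. -/
theorem GLUE.aux_map {X X' : Type*} [Group X] [Group X'] (f : X →* X') (p : ℕ) {H : Subgroup X}
    (hH : IsElementaryAbelian p H) : IsElementaryAbelian p (H.map f) := by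
  obtain ⟨⟨⟨hc⟩⟩, he⟩ := hH
  refine ⟨⟨⟨?_⟩⟩, ?_⟩
  · rintro ⟨_, a, ha, rfl⟩ ⟨_, b, hb, rfl⟩
    apply Subtype.ext
    show f a * f b = f b * f a
    have := congrArg Subtype.val (hc ⟨a, ha⟩ ⟨b, hb⟩)
    simp only [Subgroup.coe_mul] at this
    rw [← map_mul, ← map_mul, this]
  · rintro _ ⟨a, ha, rfl⟩
    rw [← map_pow, he a ha, map_one]

/-- The case `|Yb| = 2`. -/
theorem GLUE.aux_two {X : Type*} [Group X] [Finite X] (p : ℕ) {Yb Nb : Subgroup X} (h : Hyp Yb Nb)
    (h2 : Nat.card Yb = 2) : Concl p Yb Nb := by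
  intro V hV _ _ hV1
  have hN : Nb = Yb := TWO Yb Nb h h2
  rw [hN] at hV
  apply Subgroup.eq_of_le_of_card_ge hV
  have hd := Subgroup.card_dvd_of_le hV
  rw [h2] at hd ⊢
  have h1 : Nat.card V ≠ 1 := by
    intro h1
    exact hV1 (Subgroup.card_eq_one.1 h1)
  have h0 : 0 < Nat.card V := Nat.card_pos
  rcases (Nat.dvd_prime Nat.prime_two).1 hd with h | h
  · exact absurd h h1
  · omega

/-- **CORE**: the trichotomy gives the abstract conclusion. -/
theorem GLUE.aux_core {X : Type*} [Group X] [Finite X] (p : ℕ) [Fact p.Prime] (Yb Nb : Subgroup X)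
    (h : Hyp Yb Nb) (hY : IsElementaryAbelian p Yb)
    (htri : (∃ (F : Type) (_ : Field F) (_ : Fintype F), Fintype.card F = Nat.card Yb ∧
        Nonempty (X ≃* Matrix.SpecialLinearGroup (Fin 2) F)) ∨
      (p = 2 ∧ ∃ (F : Type) (_ : Field F) (_ : Fintype F) (m : ℕ),
        Fintype.card F = 2 ^ (2 * m + 1) ∧ Fintype.card F = Nat.card Yb ∧
          Nonempty (X ≃* ↥(Lie.Sz F (2 ^ (m + 1))))) ∨
      (p = 2 ∧ ∃ r : ℕ, r.Prime ∧ r ≠ 2 ∧ Nonempty (X ≃* DihedralGroup r))) :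
    Concl p Yb Nb := by
  rcases htri with ⟨F, iF, iFt, hcard, ⟨e⟩⟩ | ⟨rfl, F, iF, iFt, m, hF, hcard, ⟨e⟩⟩ |
    ⟨rfl, r, hr, hr2, ⟨e⟩⟩
  · obtain ⟨t1, t2, t3, t4⟩ := TRANSPORT e p Yb Nb
    apply t2
    apply SL2 p _ _ (t1 h)
    · exact Cfsg.Agent.Helper14.isPGroup_of_isElementaryAbelian (t4 hY)
    · rw [t3, hcard]
  · rcases Nat.eq_zero_or_pos m with hm | hm
    · subst hm
      apply GLUE.aux_two 2 h
      rw [← hcard, hF]; norm_num
    · let e' : X ≃* ↥(Cfsg.Sz F m) := e.trans (Cfsg.Agent.Helper11.SzBridge.szEquiv hF hm).symm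
      obtain ⟨t1, t2, t3, t4⟩ := TRANSPORT e' 2 Yb Nb
      apply t2
      exact SZ hm hF _ _ (t1 h) (t4 hY)
  · apply GLUE.aux_two 2 h
    have hX : Nat.card X = 2 * r := by
      rw [Nat.card_congr e.toEquiv, DihedralGroup.nat_card]
    have hYp : IsPGroup 2 Yb := Cfsg.Agent.Helper14.isPGroup_of_isElementaryAbelian hY
    obtain ⟨k, hk⟩ := hYp.exists_card_eq
    have hdvd : Nat.card Yb ∣ Nat.card X := Subgroup.card_subgroup_dvd_card Yb
    rw [hk, hX] at hdvd
    have hne : Nat.card Yb ≠ 1 := by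
      intro h1
      exact GLUE.aux_ne_bot h (Subgroup.card_eq_one.1 h1)
    rw [hk] at hne ⊢
    have hk1 : k ≠ 0 := by
      rintro rfl
      exact hne (pow_zero 2)
    have hk2 : k < 2 := by
      by_contra hk2
      push Not at hk2
      have h4 : 2 ^ 2 ∣ 2 * r := (pow_dvd_pow 2 hk2).trans hdvd
      have h2r : 2 ∣ r := by
        have : 2 * 2 ∣ 2 * r := by simpa using h4
        exact (Nat.mul_dvd_mul_iff_left (by norm_num)).1 this
      rcases (Nat.dvd_prime hr).1 h2r with h | h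
      · omega
      · exact hr2 h.symm
    have : k = 1 := by omega
    rw [this, pow_one]

/-! ### The quotient plumbing -/

section Quot

variable {G : Type*} [Group G] {p : ℕ}

/-- `O_p(L)` inside `↥L` is `pCoreOf p L` pulled back. -/
theorem GLUE.aux_mem_pCoreOf (L : Subgroup G) (x : ↥L) : x ∈ pCore p ↥L ↔ (x : G) ∈ pCoreOf p L := by
  constructor
  · intro hx
    exact ⟨x, hx, rfl⟩
  · rintro ⟨y, hy, hxy⟩
    have : y = x := Subtype.ext hxy
    rwa [← this]

theorem GLUE.aux_pCore_eq (L : Subgroup G) : pCore p ↥L = (pCoreOf p L).subgroupOf L := by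
  ext x
  rw [Subgroup.mem_subgroupOf]
  exact GLUE.aux_mem_pCoreOf L x

/-- The abstract hypothesis holds in `L / O_p(L)`. -/
theorem GLUE.aux_hyp (Y L : Subgroup G) (hYL : Y ≤ L)
    (hA : pCoreOf p L ≤ Subgroup.normalizer (Y : Set G))
    (hgen : Subgroup.normalClosure ((Y.subgroupOf L : Subgroup ↥L) : Set ↥L) = ⊤)
    (hlt : L ⊓ Subgroup.normalizer (Y : Set G) < L)
    (hmax : ∀ X : Subgroup G, Y ≤ X → X < L → X ≤ L ⊓ Subgroup.normalizer (Y : Set G)) :
    Hyp ((Y.subgroupOf L).map (QuotientGroup.mk' (pCore p ↥L)))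
      (((L ⊓ Subgroup.normalizer (Y : Set G)).subgroupOf L).map (QuotientGroup.mk' (pCore p ↥L))) := by
  set NL := L ⊓ Subgroup.normalizer (Y : Set G) with hNL
  have hYN : Y ≤ NL := le_inf hYL Subgroup.le_normalizer
  have hAN : pCoreOf p L ≤ NL := le_inf (Subgroup.map_subtype_le _) hA
  have hsurj := QuotientGroup.mk'_surjective (pCore p ↥L)
  refine ⟨?_, ?_, ?_, ?_, ?_⟩
  · apply Subgroup.map_mono
    intro x hx
    rw [Subgroup.mem_subgroupOf] at hx ⊢
    exact hYN hx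
  · intro htop
    apply not_le_of_gt hlt
    intro l hl
    have h1 : QuotientGroup.mk' (pCore p ↥L) ⟨l, hl⟩ ∈
        (NL.subgroupOf L).map (QuotientGroup.mk' (pCore p ↥L)) := by
      rw [htop]; trivial
    obtain ⟨n, hn, hnl⟩ := h1
    rw [QuotientGroup.mk'_apply, QuotientGroup.mk'_apply, QuotientGroup.eq] at hnl
    have h2 := (GLUE.aux_mem_pCoreOf L _).1 hnl
    have h3 : ((n⁻¹ * ⟨l, hl⟩ : ↥L) : G) ∈ NL := hAN h2
    have hn' : (n : G) ∈ NL := Subgroup.mem_subgroupOf.1 hn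
    have h4 : (n : G) * ((n⁻¹ * ⟨l, hl⟩ : ↥L) : G) ∈ NL := NL.mul_mem hn' h3
    simpa using h4
  · intro Z hYZ hZ
    have h1 : Y ≤ (Z.comap (QuotientGroup.mk' (pCore p ↥L))).map L.subtype := by
      intro y hy
      refine ⟨⟨y, hYL hy⟩, ?_, rfl⟩
      show QuotientGroup.mk' (pCore p ↥L) ⟨y, hYL hy⟩ ∈ Z
      apply hYZ
      exact ⟨⟨y, hYL hy⟩, Subgroup.mem_subgroupOf.2 hy, rfl⟩
    have h2 : (Z.comap (QuotientGroup.mk' (pCore p ↥L))).map L.subtype < L := by
      apply lt_of_le_of_ne (Subgroup.map_subtype_le _)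
      intro heq
      apply hZ
      rw [eq_top_iff]
      intro z _
      obtain ⟨l, rfl⟩ := hsurj z
      have : (l : G) ∈ (Z.comap (QuotientGroup.mk' (pCore p ↥L))).map L.subtype := by
        rw [heq]; exact l.2
      obtain ⟨l', hl', hll⟩ := this
      have : l' = l := Subtype.ext hll
      rw [this] at hl'
      exact hl'
    have h3 := hmax _ h1 h2
    intro z hz
    obtain ⟨l, rfl⟩ := hsurj z
    refine ⟨l, ?_, rfl⟩
    show l ∈ NL.subgroupOf L
    rw [Subgroup.mem_subgroupOf]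
    apply h3
    exact ⟨l, hz, rfl⟩
  · refine le_trans ?_ (Subgroup.le_normalizer_map _)
    apply Subgroup.map_mono
    intro l hl
    rw [Subgroup.mem_subgroupOf] at hl
    have h1 : (l : G) ∈ Subgroup.normalizer (Y : Set G) := hl.2
    rw [Subgroup.mem_normalizer_iff] at h1 ⊢
    intro x
    rw [Subgroup.mem_subgroupOf, Subgroup.mem_subgroupOf]
    exact h1 x
  · rw [Subgroup.coe_map, ← Subgroup.map_normalClosure _ _ hsurj, hgen,
      Subgroup.map_top_of_surjective _ hsurj]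

/-- The order of `Yb`. -/
theorem GLUE.aux_card (Y L : Subgroup G) (hYL : Y ≤ L) :
    Nat.card ((Y.subgroupOf L).map (QuotientGroup.mk' (pCore p ↥L))) =
      (Y ⊓ pCoreOf p L).relIndex Y := by
  set K := Y.subgroupOf L with hK
  set f := (QuotientGroup.mk' (pCore p ↥L)).comp K.subtype with hf
  have hrange : f.range = K.map (QuotientGroup.mk' (pCore p ↥L)) := by
    rw [hf, ← MonoidHom.map_range, Subgroup.range_subtype]
  have hker : f.ker = (pCore p ↥L).subgroupOf K := by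
    rw [hf, ← MonoidHom.comap_ker, QuotientGroup.ker_mk']
    rfl
  rw [← hrange, ← Nat.card_congr (QuotientGroup.quotientKerEquivRange f).toEquiv,
    ← Subgroup.index_eq_card, hker]
  show (pCore p ↥L).relIndex K = _
  rw [GLUE.aux_pCore_eq, hK, Subgroup.relIndex_subgroupOf hYL, Subgroup.inf_relIndex_left]

/-- The final transfer from `L / O_p(L)` to `N_L(Y) / O_p(L)`. -/
theorem GLUE.aux_final [Finite G] [Fact p.Prime] (Y L NL : Subgroup G) (hYL : Y ≤ L)
    (hYe : IsElementaryAbelian p Y)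
    (hNL : NL = L ⊓ Subgroup.normalizer (Y : Set G))
    [hn : ((pCoreOf p L).subgroupOf NL).Normal]
    (hhyp : Hyp ((Y.subgroupOf L).map (QuotientGroup.mk' (pCore p ↥L)))
      (((L ⊓ Subgroup.normalizer (Y : Set G)).subgroupOf L).map (QuotientGroup.mk' (pCore p ↥L))))
    (hconcl : Concl p ((Y.subgroupOf L).map (QuotientGroup.mk' (pCore p ↥L)))
      (((L ⊓ Subgroup.normalizer (Y : Set G)).subgroupOf L).map (QuotientGroup.mk' (pCore p ↥L)))) :
    let Ybar : Subgroup (↥NL ⧸ (pCoreOf p L).subgroupOf NL) :=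
      (Y.subgroupOf NL).map (QuotientGroup.mk' ((pCoreOf p L).subgroupOf NL));
    Ybar ≠ ⊥ ∧ Ybar.Normal ∧ IsElementaryAbelian p Ybar ∧
      ∀ V : Subgroup (↥NL ⧸ (pCoreOf p L).subgroupOf NL), V.Normal → IsElementaryAbelian p V →
        V ≠ ⊥ → V = Ybar := by
  intro Ybar
  have hNLL : NL ≤ L := hNL ▸ inf_le_left
  have hNLY : NL ≤ Subgroup.normalizer (Y : Set G) := hNL ▸ inf_le_right
  have hYN : Y ≤ NL := hNL ▸ le_inf hYL Subgroup.le_normalizer
  -- the injection NL/A → L/A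
  let j : ↥NL →* ↥L := Subgroup.inclusion hNLL
  have hle : (pCoreOf p L).subgroupOf NL ≤ (pCore p ↥L).comap j := by
    intro x hx
    rw [Subgroup.mem_comap, GLUE.aux_mem_pCoreOf]
    exact Subgroup.mem_subgroupOf.1 hx
  let ι : (↥NL ⧸ (pCoreOf p L).subgroupOf NL) →* (↥L ⧸ pCore p ↥L) :=
    QuotientGroup.map _ _ j hle
  have hι_mk : ∀ x : ↥NL, ι (QuotientGroup.mk' _ x) = QuotientGroup.mk' (pCore p ↥L) (j x) :=
    fun x => rfl
  have hιinj : Function.Injective ι := by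
    rw [injective_iff_map_eq_one]
    intro a ha
    obtain ⟨x, rfl⟩ := QuotientGroup.mk'_surjective _ a
    rw [hι_mk, QuotientGroup.mk'_apply, QuotientGroup.eq_one_iff, GLUE.aux_mem_pCoreOf] at ha
    rw [QuotientGroup.mk'_apply, QuotientGroup.eq_one_iff, Subgroup.mem_subgroupOf]
    exact ha
  -- images
  have hYmap : Ybar.map ι = (Y.subgroupOf L).map (QuotientGroup.mk' (pCore p ↥L)) := by
    ext z
    constructor
    · rintro ⟨_, ⟨x, hx, rfl⟩, rfl⟩
      rw [hι_mk]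
      exact ⟨j x, Subgroup.mem_subgroupOf.2 (Subgroup.mem_subgroupOf.1 hx), rfl⟩
    · rintro ⟨l, hl, rfl⟩
      have hlY : (l : G) ∈ Y := Subgroup.mem_subgroupOf.1 hl
      refine ⟨QuotientGroup.mk' _ ⟨l, hYN hlY⟩, ⟨⟨l, hYN hlY⟩, Subgroup.mem_subgroupOf.2 hlY, rfl⟩, ?_⟩
      rw [hι_mk]
      rfl
  have hrange : ι.range =
      ((L ⊓ Subgroup.normalizer (Y : Set G)).subgroupOf L).map (QuotientGroup.mk' (pCore p ↥L)) := by
    ext z
    constructor
    · rintro ⟨a, rfl⟩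
      obtain ⟨x, rfl⟩ := QuotientGroup.mk'_surjective _ a
      rw [hι_mk]
      refine ⟨j x, ?_, rfl⟩
      show j x ∈ (L ⊓ Subgroup.normalizer (Y : Set G)).subgroupOf L
      rw [Subgroup.mem_subgroupOf, ← hNL]
      exact x.2
    · rintro ⟨l, hl, rfl⟩
      have hlN : (l : G) ∈ NL := by
        rw [hNL]; exact Subgroup.mem_subgroupOf.1 hl
      refine ⟨QuotientGroup.mk' _ ⟨l, hlN⟩, ?_⟩
      rw [hι_mk]
      rfl
  have hYbar_ne : Ybar ≠ ⊥ := by
    intro hb
    apply GLUE.aux_ne_bot hhyp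
    rw [← hYmap, hb, Subgroup.map_bot]
  have hYsubN : (Y.subgroupOf NL).Normal := Subgroup.normal_subgroupOf_of_le_normalizer hNLY
  have hYbar_n : Ybar.Normal := hYsubN.map _ (QuotientGroup.mk'_surjective _)
  have hYbar_e : IsElementaryAbelian p Ybar := by
    apply GLUE.aux_map
    exact (Cfsg.Agent.Helper14.isElementaryAbelian_subgroupOf_iff hYN).2 hYe
  refine ⟨hYbar_ne, hYbar_n, hYbar_e, ?_⟩
  intro V hVn hVe hV1
  apply Subgroup.map_injective hιinj
  rw [hYmap]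
  apply hconcl
  · rw [← hrange]
    exact Subgroup.map_le_range _ _
  · rw [← hrange]
    have h1 := Subgroup.le_normalizer_map (H := V) ι
    rw [Subgroup.normalizer_eq_top, ← MonoidHom.range_eq_map] at h1
    exact h1
  · exact GLUE.aux_map _ _ hVe
  · rw [Ne, Subgroup.map_eq_bot_iff_of_injective _ hιinj]
    exact hV1

end Quot

/-- **ASM**: the frozen statement. -/
theorem ASM {G : Type*} [Group G] [Finite G] {p : ℕ} [Fact p.Prime] (S : Sylow p G) (Q : Subgroup G) (hQp : IsPGroup p ↥Q) (hQ1 : Q ≠ ⊥) (hQS : Q ≤ (S : Subgroup G)) (hQ : Cfsg.IsLarge Q) (M : Subgroup G) (hSM : (S : Subgroup G) ≤ M) (hM : Cfsg.IsInFrakM p M) (L : Subgroup G) (hL : Cfsg.IsInFrakL p M L) (NL : Subgroup G) (hNL : NL = L ⊓ Subgroup.normalizer (((Cfsg.largestPReducedOf p M) : Subgroup G) : Set G)) [hn : (((Cfsg.pCoreOf p L)).subgroupOf NL).Normal] : let Ybar : Subgroup (↥NL ⧸ ((Cfsg.pCoreOf p L)).subgroupOf NL) := (((Cfsg.largestPReducedOf p M)).subgroupOf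 NL).map (QuotientGroup.mk' (((Cfsg.pCoreOf p L)).subgroupOf NL)); Ybar ≠ ⊥ ∧ Ybar.Normal ∧ Cfsg.IsElementaryAbelian p Ybar ∧ ∀ (V : Subgroup (↥NL ⧸ ((Cfsg.pCoreOf p L)).subgroupOf NL)), V.Normal → Cfsg.IsElementaryAbelian p V → V ≠ ⊥ → V = Ybar := by
  obtain ⟨h1, _, h3, ⟨h4, _⟩, _, ⟨h6a, h6b⟩, h7⟩ := hL
  have hYe : IsElementaryAbelian p (largestPReducedOf p M) :=
    (Cfsg.Agent.Helper14.largestPReducedOf_isPReducedIn M).2.2.1
  have hhyp := GLUE.aux_hyp (p := p) (largestPReducedOf p M) L h1 h3 h4 h6a h6b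
  have hcard := GLUE.aux_card (p := p) (largestPReducedOf p M) L h1
  have hYbe : IsElementaryAbelian p (((largestPReducedOf p M).subgroupOf L).map
      (QuotientGroup.mk' (pCore p ↥L))) := by
    apply GLUE.aux_map
    exact (Cfsg.Agent.Helper14.isElementaryAbelian_subgroupOf_iff h1).2 hYe
  have hconcl := GLUE.aux_core p _ _ hhyp hYbe (by
    rw [hcard]
    exact h7)
  exact GLUE.aux_final (largestPReducedOf p M) L NL h1 hYe hNL hhyp hconcl


end Cfsg.Agent.S2861P
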