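import Mathlib
import Cfsg.Prelude.Def_GeometricClasses
import Cfsg.Agent.Helper18.S5707.Defs
import Cfsg.Agent.Helper20.S5707TENS
import Cfsg.Agent.Helper22.S5707SYMZ

/-!
# S5707, piece ISO (helper6): `1 + tensM Rs` is an isometry of a standard-model quadratic form `Q`

`Q (v + R v) = Q v + Q (R v) + polar Q v (R v)`; `Q (R v) = 0` because `R v` is supported on a totally
singular coordinate subspace (own copy `ISO.supp_eq_zero` of the support lemma, so that this file does
not wait for piece SUPP), and `polar Q v (R v) = c • vᵀ (tensM (G * Rs i)) v = 0` because that matrix is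
symmetric with zero diagonal (TENS, SYMZ).
-/

set_option autoImplicit false

namespace Cfsg.Agent.S5707P

open Matrix

variable {F : Type*} [Field F] {k t : ℕ}

namespace ISO


theorem Q_zero {G : Matrix (Fin k) (Fin k) F} {c : F} {Q : (X k t → F) → F} (hQ : StdQ G c Q) :
    Q 0 = 0 := by
  have h := hQ.smul 0 0
  rw [smul_zero] at h
  rw [h]
  ring

theorem Q_single {G : Matrix (Fin k) (Fin k) F} {c : F} {Q : (X k t → F) → F} (hQ : StdQ G c Q)
    (x : X k t) (r : F) : Q (Pi.single x r) = 0 := by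
  have h1 : (fun a : X k t => ∏ i, (Pi.single (x i) (1 : F) : Fin k → F) (a i)) = Pi.single x 1 := by
    funext a
    by_cases hax : a = x
    · subst hax
      simp
    · rw [Pi.single_eq_of_ne hax]
      have : ∃ i, a i ≠ x i := by
        by_contra hcon
        push Not at hcon
        exact hax (funext hcon)
      obtain ⟨i, hi⟩ := this
      exact Finset.prod_eq_zero (Finset.mem_univ i) (Pi.single_eq_of_ne hi _)
  have h2 : Q (Pi.single x 1) = 0 := by
    rw [← h1]
    exact hQ.pure _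
  have h3 : (Pi.single x r : X k t → F) = r • Pi.single x 1 := by
    funext a
    by_cases hax : a = x
    · subst hax
      simp
    · simp [Pi.single_eq_of_ne hax]
  rw [h3, hQ.smul, h2, mul_zero]

theorem polar_supp {G : Matrix (Fin k) (Fin k) F} {c : F} {Q : (X k t → F) → F} (hQ : StdQ G c Q)
    (i₁ : Fin t) (S : Set (Fin k)) (hS : ∀ a ∈ S, ∀ b ∈ S, G a b = 0) (w u : X k t → F)
    (hw : ∀ x, x i₁ ∉ S → w x = 0) (hu : ∀ x, x i₁ ∉ S → u x = 0) :
    QuadraticMap.polar Q w u = 0 := by
  rw [hQ.polar]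
  have : ∑ a, ∑ b, w a * (∏ i, G (a i) (b i)) * u b = 0 := by
    refine Finset.sum_eq_zero (fun a _ => Finset.sum_eq_zero (fun b _ => ?_))
    by_cases ha : a i₁ ∈ S
    · by_cases hb : b i₁ ∈ S
      · rw [Finset.prod_eq_zero (Finset.mem_univ i₁) (hS _ ha _ hb), mul_zero, zero_mul]
      · rw [hu b hb, mul_zero]
    · rw [hw a ha, zero_mul, zero_mul]
  rw [this, mul_zero]

theorem supp_aux {G : Matrix (Fin k) (Fin k) F} {c : F} {Q : (X k t → F) → F} (hQ : StdQ G c Q)
    (i₁ : Fin t) (S : Set (Fin k)) (hS : ∀ a ∈ S, ∀ b ∈ S, G a b = 0) (s : Finset (X k t)) :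
    ∀ w : X k t → F, (∀ x, x i₁ ∉ S → w x = 0) → (∀ x, x ∉ s → w x = 0) → Q w = 0 := by
  classical
  induction s using Finset.induction_on with
  | empty =>
    intro w _ h0
    have : w = 0 := funext fun x => h0 x (Finset.notMem_empty x)
    rw [this]
    exact Q_zero hQ
  | insert x₀ s' hx₀ ih =>
    intro w hw hs
    have hdec : w = Function.update w x₀ 0 + Pi.single x₀ (w x₀) := by
      funext a
      by_cases ha : a = x₀
      · subst ha
        simp
      · simp [Function.update_of_ne ha, Pi.single_eq_of_ne ha]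
    have hw' : ∀ x, x i₁ ∉ S → Function.update w x₀ 0 x = 0 := by
      intro x hx
      by_cases hxx : x = x₀
      · subst hxx
        simp
      · rw [Function.update_of_ne hxx]
        exact hw x hx
    have hs' : ∀ x, x ∉ s' → Function.update w x₀ 0 x = 0 := by
      intro x hx
      by_cases hxx : x = x₀
      · subst hxx
        simp
      · rw [Function.update_of_ne hxx]
        exact hs x (fun hmem => by
          rcases Finset.mem_insert.mp hmem with h | h
          · exact hxx h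
          · exact hx h)
    have hu : ∀ x, x i₁ ∉ S → (Pi.single x₀ (w x₀) : X k t → F) x = 0 := by
      intro x hx
      by_cases hxx : x = x₀
      · subst hxx
        rw [Pi.single_eq_same]
        exact hw x hx
      · exact Pi.single_eq_of_ne hxx _
    have h1 : Q (Function.update w x₀ 0) = 0 := ih _ hw' hs'
    have h2 : Q (Pi.single x₀ (w x₀)) = 0 := Q_single hQ _ _
    have h3 := polar_supp hQ i₁ S hS _ _ hw' hu
    have hdef : QuadraticMap.polar Q (Function.update w x₀ 0) (Pi.single x₀ (w x₀)) =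
        Q (Function.update w x₀ 0 + Pi.single x₀ (w x₀)) - Q (Function.update w x₀ 0) -
          Q (Pi.single x₀ (w x₀)) := rfl
    rw [hdef, h1, h2, sub_zero, sub_zero] at h3
    rw [hdec]
    exact h3

/-- own copy of the support lemma (`Q` vanishes on vectors supported on `{x | x i₁ ∈ S}`) -/
theorem supp_eq_zero {G : Matrix (Fin k) (Fin k) F} {c : F} {Q : (X k t → F) → F} (hQ : StdQ G c Q)
    (i₁ : Fin t) (S : Set (Fin k)) (hS : ∀ a ∈ S, ∀ b ∈ S, G a b = 0) (w : X k t → F)
    (hw : ∀ x, x i₁ ∉ S → w x = 0) : Q w = 0 :=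
  supp_aux hQ i₁ S hS Finset.univ w hw (fun x hx => absurd (Finset.mem_univ x) hx)



/-- the image of a pure tensor matrix vanishes at indices whose `i₁`-coordinate is outside `S` -/
theorem mulVec_eq_zero (Rs : Fin t → Matrix (Fin k) (Fin k) F) (i₁ : Fin t) (S : Set (Fin k))
    (him : ∀ a b, a ∉ S → Rs i₁ a b = 0) (v : X k t → F) (x : X k t) (hx : x i₁ ∉ S) :
    (tensM Rs *ᵥ v) x = 0 := by
  rw [Matrix.mulVec, dotProduct]
  refine Finset.sum_eq_zero (fun y _ => ?_)
  have : tensM Rs x y = 0 := by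
    show ∏ i, Rs i (x i) (y i) = 0
    exact Finset.prod_eq_zero (Finset.mem_univ i₁) (him _ _ hx)
  rw [this, zero_mul]

/-- the bilinear sum against `R v` -/
theorem polar_sum (G : Matrix (Fin k) (Fin k) F) (Rs : Fin t → Matrix (Fin k) (Fin k) F)
    (v : X k t → F) :
    ∑ a, ∑ b, v a * (∏ i, G (a i) (b i)) * (tensM Rs *ᵥ v) b =
      ∑ a, ∑ y, v a * tensM (fun i => G * Rs i) a y * v y := by
  have hmul : tensM (fun _ : Fin t => G) * tensM Rs = tensM (fun i => G * Rs i) :=
    TENS.tensM_mul _ _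
  refine Finset.sum_congr rfl (fun a _ => ?_)
  have h1 : ∀ b, v a * (∏ i, G (a i) (b i)) * (tensM Rs *ᵥ v) b =
      ∑ y, v a * (tensM (fun _ : Fin t => G) a b * tensM Rs b y) * v y := by
    intro b
    rw [Matrix.mulVec, dotProduct, Finset.mul_sum]
    refine Finset.sum_congr rfl (fun y _ => ?_)
    show v a * (∏ i, G (a i) (b i)) * (tensM Rs b y * v y) =
      v a * ((∏ i, G (a i) (b i)) * tensM Rs b y) * v y
    ring
  rw [Finset.sum_congr rfl (fun b _ => h1 b), Finset.sum_comm]
  refine Finset.sum_congr rfl (fun y _ => ?_)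
  rw [← hmul, Matrix.mul_apply, Finset.mul_sum, Finset.sum_mul]

theorem iso_of_tens [CharP F 2] {G : Matrix (Fin k) (Fin k) F} {c : F} {Q : (X k t → F) → F}
    (hQ : StdQ G c Q) (Rs : Fin t → Matrix (Fin k) (Fin k) F)
    (hsym : ∀ i, (G * Rs i).IsSymm) (i₀ : Fin t) (halt : ∀ a, (G * Rs i₀) a a = 0)
    (i₁ : Fin t) (S : Set (Fin k)) (hS : ∀ a ∈ S, ∀ b ∈ S, G a b = 0)
    (him : ∀ a b, a ∉ S → Rs i₁ a b = 0) (v : X k t → F) :
    Q ((1 + tensM Rs) *ᵥ v) = Q v := by
  have hv : (1 + tensM Rs) *ᵥ v = v + tensM Rs *ᵥ v := by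
    rw [Matrix.add_mulVec, Matrix.one_mulVec]
  rw [hv]
  have hQR : Q (tensM Rs *ᵥ v) = 0 :=
    supp_eq_zero hQ i₁ S hS _ (fun x hx => mulVec_eq_zero Rs i₁ S him v x hx)
  have hsymT : (tensM (fun i => G * Rs i)).IsSymm := by
    show (tensM (fun i => G * Rs i))ᵀ = _
    rw [TENS.tensM_transpose]
    congr 1
    funext i
    exact hsym i
  have h0 : ∀ a : X k t, tensM (fun i => G * Rs i) a a = 0 := by
    intro a
    show ∏ i, (G * Rs i) (a i) (a i) = 0
    exact Finset.prod_eq_zero (Finset.mem_univ i₀) (halt _)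
  have hpol : QuadraticMap.polar Q v (tensM Rs *ᵥ v) = 0 := by
    rw [hQ.polar, polar_sum, SYMZ.sum_eq_zero _ hsymT h0 v, mul_zero]
  have hdef : QuadraticMap.polar Q v (tensM Rs *ᵥ v) =
      Q (v + tensM Rs *ᵥ v) - Q v - Q (tensM Rs *ᵥ v) := rfl
  rw [hdef, hQR, sub_zero, sub_eq_zero] at hpol
  exact hpol

end ISO

end Cfsg.Agent.S5707P
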