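import Mathlib
import Cfsg.Prelude.Def_GeometricClasses
import Cfsg.Agent.Helper18.S5707.Defs
import Cfsg.Agent.Helper6.S5707ISO

/-! # S5707, piece ISOMEM (helper6): membership form of ISO -/

set_option autoImplicit false

namespace Cfsg.Agent.S5707P

open Matrix

variable {F : Type*} [Field F] {k t : ℕ}

theorem ISOMEM.invo_mem [CharP F 2] {G : Matrix (Fin k) (Fin k) F} {c : F} {Q : (X k t → F) → F}
    (hQ : StdQ G c Q) (Rs : Fin t → Matrix (Fin k) (Fin k) F) (hN : tensM Rs * tensM Rs = 0)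
    (hsym : ∀ i, (G * Rs i).IsSymm) (i₀ : Fin t) (halt : ∀ a, (G * Rs i₀) a a = 0)
    (i₁ : Fin t) (S : Set (Fin k)) (hS : ∀ a ∈ S, ∀ b ∈ S, G a b = 0)
    (him : ∀ a b, a ∉ S → Rs i₁ a b = 0) :
    invo (tensM Rs) hN ∈ Cfsg.isometryGroup F Q := by
  intro u _
  exact ISO.iso_of_tens hQ Rs hsym i₀ halt i₁ S hS him u

end Cfsg.Agent.S5707P
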