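import Mathlib
import Cfsg.Prelude.Def_GeometricClasses
import Cfsg.Agent.Helper2.S5886.Defs

/-! # S5886 piece KTRANS (helper6): the group generated by the `K`-transvections is transitive on non-zero vectors -/

set_option autoImplicit false

namespace Cfsg.Agent.S5886P

variable {F K V : Type*} [Field F] [Field K] [Algebra F K]
  [AddCommGroup V] [Module F V] [Module K V] [IsScalarTower F K V]

/-- one `K`-transvection moving `x` to `y` when `x ∉ K (y - x)` -/
theorem KTRANS.one_step (x y : V) (hxy : x ∉ Submodule.span K {y - x}) :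
    ∃ s : V ≃ₗ[F] V, IsKTv (K := K) s ∧ s x = y := by
  obtain ⟨f, hfx, hf⟩ := Submodule.exists_dual_map_eq_bot_of_notMem hxy inferInstance
  have hf0 : f (y - x) = 0 := by
    have : f (y - x) ∈ (Submodule.span K {y - x}).map f :=
      Submodule.mem_map_of_mem (Submodule.mem_span_singleton_self _)
    rw [hf] at this
    simpa using this
  set ψ : V →ₗ[K] K := (f x)⁻¹ • f with hψ
  have hψ0 : ψ (y - x) = 0 := by
    rw [hψ, LinearMap.smul_apply, hf0, smul_zero]
  have hψx : ψ x = 1 := by
    rw [hψ, LinearMap.smul_apply, smul_eq_mul, inv_mul_cancel₀ hfx]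
  refine ⟨(LinearEquiv.transvection hψ0).restrictScalars F, ⟨ψ, y - x, hψ0, fun z => ?_⟩, ?_⟩
  · show (LinearEquiv.transvection hψ0) z = z + ψ z • (y - x)
    rw [LinearEquiv.transvection.apply]
  · show (LinearEquiv.transvection hψ0) x = y
    rw [LinearEquiv.transvection.apply, hψx, one_smul]
    abel

theorem KTRANS.notMem_A {x y : V} (hx : x ≠ 0) (hy : y ∉ Submodule.span K {x}) :
    x ∉ Submodule.span K {y - x} := by
  intro hmem
  obtain ⟨c, hc⟩ := Submodule.mem_span_singleton.1 hmem
  have hc0 : c ≠ 0 := by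
    rintro rfl
    rw [zero_smul] at hc
    exact hx hc.symm
  apply hy
  rw [Submodule.mem_span_singleton]
  refine ⟨c⁻¹ * (1 + c), ?_⟩
  have h1 : c • y = (1 + c) • x := by
    rw [smul_sub] at hc
    rw [add_smul, one_smul]
    exact sub_eq_iff_eq_add.1 hc
  rw [mul_smul, ← h1, smul_smul, inv_mul_cancel₀ hc0, one_smul]

theorem KTRANS.notMem_B {x y : V} (hy0 : y ≠ 0) (hx : x ∉ Submodule.span K {y}) :
    x ∉ Submodule.span K {y - x} := by
  intro hmem
  obtain ⟨c, hc⟩ := Submodule.mem_span_singleton.1 hmem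
  have h1 : (1 + c) • x = c • y := by
    rw [smul_sub] at hc
    rw [add_smul, one_smul]
    exact (sub_eq_iff_eq_add.1 hc).symm
  by_cases h1c : 1 + c = 0
  · rw [h1c, zero_smul] at h1
    have hc0 : c ≠ 0 := by
      rintro rfl
      rw [add_zero] at h1c
      exact one_ne_zero h1c
    rcases smul_eq_zero.1 h1.symm with h | h
    · exact hc0 h
    · exact hy0 h
  · apply hx
    rw [Submodule.mem_span_singleton]
    refine ⟨(1 + c)⁻¹ * c, ?_⟩
    rw [mul_smul, ← h1, smul_smul, inv_mul_cancel₀ h1c, one_smul]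

/-- KTRANS : `KTV` is transitive on non-zero vectors. -/
theorem KTRANS [Finite K] [Finite V] (hm : 2 ≤ Module.finrank K V) (u u' : V) (hu : u ≠ 0) (hu' : u' ≠ 0) :
    ∃ s ∈ KTV F K V, s u = u' := by
  by_cases hdep : u' ∈ Submodule.span K {u}
  · -- dependent: go through a vector outside `K u`
    obtain ⟨z, hz⟩ : ∃ z : V, z ∉ Submodule.span K {u} := by
      by_contra hall
      push Not at hall
      have htop : Submodule.span K {u} = ⊤ := by
        rw [eq_top_iff]
        intro z _
        exact hall z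
      have h1 : Module.finrank K (Submodule.span K {u}) = 1 := finrank_span_singleton hu
      rw [htop, finrank_top] at h1
      omega
    obtain ⟨s1, hs1, hs1u⟩ := KTRANS.one_step (F := F) u z (KTRANS.notMem_A hu hz)
    have hz' : z ∉ Submodule.span K {u'} := by
      intro hmem
      apply hz
      have hle : Submodule.span K {u'} ≤ Submodule.span K {u} :=
        (Submodule.span_singleton_le_iff_mem _ _).2 hdep
      exact hle hmem
    obtain ⟨s2, hs2, hs2z⟩ := KTRANS.one_step (F := F) z u' (KTRANS.notMem_B hu' hz')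
    refine ⟨s2 * s1, Subgroup.mul_mem _ (Subgroup.subset_closure hs2) (Subgroup.subset_closure hs1), ?_⟩
    rw [LinearEquiv.mul_apply, hs1u, hs2z]
  · obtain ⟨s, hs, hsu⟩ := KTRANS.one_step (F := F) u u' (KTRANS.notMem_A hu hdep)
    exact ⟨s, Subgroup.subset_closure hs, hsu⟩

end Cfsg.Agent.S5886P
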