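import Mathlib
import Cfsg.Agent.Helper29.S2221Defs

/-! S2221 piece CENTEREWR (helper6; driver helper29): the centre of the even part of `B ≀ C₂`. -/

set_option autoImplicit false

namespace Cfsg.Agent.S2221P

open Equiv

namespace CENTEREWR

variable {α : Type*}

theorem sign_pr [Fintype α] [DecidableEq α] (a b : Perm α) :
    Perm.sign (pr a b) = Perm.sign a * Perm.sign b := by
  unfold pr
  exact Perm.sign_sumCongr a b

end CENTEREWR

section wreath

variable {α : Type*}

/-- W7a CENTEREWR (M–L). -/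
theorem center_even_wr [Fintype α] [DecidableEq α] [Nonempty α] {B : Subgroup (Perm α)}
    {z' : Perm α} (hz' : ∀ c ∈ B, (∀ d ∈ B, c * d = d * c) → c = 1 ∨ c = z')
    (hodd : ∃ t ∈ B, Perm.sign t = -1) (heven : ∃ d ∈ B, d ≠ 1 ∧ Perm.sign d = 1)
    {σ : Perm (α ⊕ α)} (hσ : σ ∈ wr B) (hs : Perm.sign σ = 1)
    (hc : ∀ ρ ∈ wr B, Perm.sign ρ = 1 → σ * ρ = ρ * σ) : σ = 1 ∨ σ = pr z' z' := by
  obtain ⟨a, ha, b, hb, rfl | rfl⟩ := hσ
  · -- `σ` in the base
    have hcen : ∀ d ∈ B, a * d = d * a ∧ b * d = d * b := by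
      intro d hd
      have h1 : Perm.sign (pr d d) = 1 := by
        rw [CENTEREWR.sign_pr]
        exact Int.units_mul_self _
      have h2 := hc (pr d d) (pr_mem_wr hd hd) h1
      rw [pr_mul, pr_mul] at h2
      exact pr_injective h2
    -- an even element off the base
    obtain ⟨u, hu, hus⟩ : ∃ u ∈ B, Perm.sign (pr u 1 * (tau : Perm (α ⊕ α))) = 1 := by
      rcases Int.units_eq_one_or (Perm.sign (tau : Perm (α ⊕ α))) with h | h
      · exact ⟨1, B.one_mem, by rw [pr_one, one_mul, h]⟩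
      · obtain ⟨t, ht, hts⟩ := hodd
        refine ⟨t, ht, ?_⟩
        rw [map_mul, CENTEREWR.sign_pr, hts, h, map_one]
        decide
    have hmem : pr u 1 * (tau : Perm (α ⊕ α)) ∈ wr B := ⟨u, hu, 1, B.one_mem, Or.inr rfl⟩
    have h3 := hc _ hmem hus
    rw [← mul_assoc, pr_mul, mul_assoc, tau_mul_pr, ← mul_assoc, pr_mul] at h3
    have h4 := (pr_injective (mul_right_cancel h3)).2
    rw [mul_one, one_mul] at h4
    subst h4
    rcases hz' b hb (fun d hd => (hcen d hd).1) with h | h
    · left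
      rw [h, pr_one]
    · right
      rw [h]
  · -- `σ` off the base
    exfalso
    obtain ⟨d, hd, hd1, hds⟩ := heven
    have h1 : Perm.sign (pr d 1) = 1 := by
      rw [CENTEREWR.sign_pr, hds, map_one, one_mul]
    have h2 := hc (pr d 1) (pr_mem_wr hd B.one_mem) h1
    rw [mul_assoc, tau_mul_pr, ← mul_assoc, pr_mul, ← mul_assoc, pr_mul] at h2
    have h3 := (pr_injective (mul_right_cancel h2)).1
    apply hd1
    rw [mul_one] at h3
    exact mul_right_cancel ((one_mul a).trans h3).symm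

end wreath

end Cfsg.Agent.S2221P
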