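import Mathlib
import Cfsg.Agent.Helper29.S2221Defs

/-! S2221 piece CLAIMCWR (helper6; driver helper29): Claim C for the wreath product `B ≀ C₂`:
if `B ≀ C₂ = X ⊔ Y` with `[X, Y] = 1` then `X` or `Y` is central. -/

set_option autoImplicit false

namespace Cfsg.Agent.S2221P

open Equiv

namespace CLAIMCWR

/-- elements of the join of two commuting subgroups are products -/
theorem exists_mul_of_mem_sup {G : Type*} [Group G] (X Y : Subgroup G)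
    (hXY : ∀ x ∈ X, ∀ y ∈ Y, x * y = y * x) {g : G} (hg : g ∈ X ⊔ Y) :
    ∃ x ∈ X, ∃ y ∈ Y, g = x * y := by
  let P : Subgroup G :=
    { carrier := {g | ∃ x ∈ X, ∃ y ∈ Y, g = x * y}
      one_mem' := ⟨1, X.one_mem, 1, Y.one_mem, (mul_one 1).symm⟩
      mul_mem' := by
        rintro _ _ ⟨x, hx, y, hy, rfl⟩ ⟨x', hx', y', hy', rfl⟩
        refine ⟨x * x', X.mul_mem hx hx', y * y', Y.mul_mem hy hy', ?_⟩
        calc x * y * (x' * y') = x * (y * x') * y' := by group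
          _ = x * (x' * y) * y' := by rw [hXY x' hx' y hy]
          _ = x * x' * (y * y') := by group
      inv_mem' := by
        rintro _ ⟨x, hx, y, hy, rfl⟩
        refine ⟨x⁻¹, X.inv_mem hx, y⁻¹, Y.inv_mem hy, ?_⟩
        rw [mul_inv_rev, hXY x⁻¹ (X.inv_mem hx) y⁻¹ (Y.inv_mem hy)] }
  have hle : X ⊔ Y ≤ P :=
    sup_le (fun x hx => ⟨x, hx, 1, Y.one_mem, (mul_one x).symm⟩)
      (fun y hy => ⟨1, X.one_mem, y, hy, (one_mul y).symm⟩)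
  exact hle hg

variable {α : Type*}

/-- if `X` contains an element off the base, the base elements of `Y` are central -/
theorem key {B : Subgroup (Perm α)} (X Y : Subgroup (Perm (α ⊕ α)))
    (hXY : ∀ x ∈ X, ∀ y ∈ Y, x * y = y * x) (hsup : X ⊔ Y = wr B)
    {b₁ b₂ : Perm α} (hb₁ : b₁ ∈ B) (hx₀ : pr b₁ b₂ * tau ∈ X)
    {c₁ c₂ : Perm α} (hy : pr c₁ c₂ ∈ Y) :
    ∀ ρ ∈ wr B, pr c₁ c₂ * ρ = ρ * pr c₁ c₂ := by
  have h1 : ∀ e₁ e₂ : Perm α, pr e₁ e₂ ∈ Y → b₁ * e₂ = e₁ * b₁ := by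
    intro e₁ e₂ he
    have h := hXY _ hx₀ _ he
    rw [mul_assoc, tau_mul_pr, ← mul_assoc, pr_mul, ← mul_assoc, pr_mul] at h
    exact (pr_injective (mul_right_cancel h)).1
  have hnorm : ∀ d ∈ B, pr (d * c₁ * d⁻¹) c₂ ∈ Y := by
    intro d hd
    have hg : pr d 1 ∈ X ⊔ Y := by rw [hsup]; exact pr_mem_wr hd B.one_mem
    obtain ⟨x, hx, y', hy', hg'⟩ := exists_mul_of_mem_sup X Y hXY hg
    have hmem : y' * pr c₁ c₂ * y'⁻¹ ∈ Y := Y.mul_mem (Y.mul_mem hy' hy) (Y.inv_mem hy')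
    have e1 : pr (d * c₁ * d⁻¹) c₂ = pr d 1 * pr c₁ c₂ * (pr d 1)⁻¹ := by
      rw [pr_inv, pr_mul, pr_mul]; simp
    have hcomm : x * (y' * pr c₁ c₂ * y'⁻¹) = (y' * pr c₁ c₂ * y'⁻¹) * x := hXY x hx _ hmem
    have e2 : pr (d * c₁ * d⁻¹) c₂ = y' * pr c₁ c₂ * y'⁻¹ := by
      rw [e1, hg', mul_inv_rev]
      calc x * y' * pr c₁ c₂ * (y'⁻¹ * x⁻¹) = x * (y' * pr c₁ c₂ * y'⁻¹) * x⁻¹ := by group
        _ = y' * pr c₁ c₂ * y'⁻¹ := by rw [hcomm]; group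
    rw [e2]
    exact hmem
  have hcen : ∀ d ∈ B, c₁ * d = d * c₁ := by
    intro d hd
    have e1 := h1 _ _ (hnorm d hd)
    have e2 := h1 _ _ hy
    rw [e2] at e1
    have e3 := mul_right_cancel e1
    calc c₁ * d = (d * c₁ * d⁻¹) * d := by rw [← e3]
      _ = d * c₁ := by group
  have hc₂ : c₂ = c₁ := by
    have e2 := h1 _ _ hy
    rw [hcen b₁ hb₁] at e2
    exact mul_left_cancel e2
  subst hc₂
  intro ρ hρ
  obtain ⟨a, ha, b, hb, rfl | rfl⟩ := hρ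
  · rw [pr_mul, pr_mul, hcen a ha, hcen b hb]
  · rw [← mul_assoc, pr_mul, mul_assoc, tau_mul_pr, ← mul_assoc, pr_mul, hcen a ha, hcen b hb]

/-- both factors off the base: impossible -/
theorem false_of_both [Nonempty α] {B : Subgroup (Perm α)} (hB : B ≠ ⊥)
    (X Y : Subgroup (Perm (α ⊕ α))) (hXY : ∀ x ∈ X, ∀ y ∈ Y, x * y = y * x)
    (hsup : X ⊔ Y = wr B) {b₁ b₂ : Perm α} (hb₁ : b₁ ∈ B) (hb₂ : b₂ ∈ B)
    (hx₀ : pr b₁ b₂ * tau ∈ X) {e₁ e₂ : Perm α} (he₁ : e₁ ∈ B)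
    (hy₀ : pr e₁ e₂ * tau ∈ Y) : False := by
  have hx₀w : pr b₁ b₂ * tau ∈ wr B := by rw [← hsup]; exact Subgroup.mem_sup_left hx₀
  -- base elements of `X` are central
  have hXc : ∀ c₁ c₂ : Perm α, pr c₁ c₂ ∈ X → ∀ ρ ∈ wr B, pr c₁ c₂ * ρ = ρ * pr c₁ c₂ :=
    fun c₁ c₂ h => key Y X (fun y hy x hx => (hXY x hx y hy).symm)
      (by rw [sup_comm]; exact hsup) he₁ hy₀ h
  -- every element of `X` commutes with `x₀`
  have hXx₀ : ∀ x ∈ X, x * (pr b₁ b₂ * tau) = (pr b₁ b₂ * tau) * x := by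
    intro x hx
    have hxw : x ∈ wr B := by rw [← hsup]; exact Subgroup.mem_sup_left hx
    obtain ⟨a, ha, b, hb, rfl | rfl⟩ := hxw
    · exact hXc a b hx _ hx₀w
    · have hc : pr a b * tau * (pr b₁ b₂ * tau)⁻¹ ∈ X := X.mul_mem hx (X.inv_mem hx₀)
      have e : pr a b * tau * (pr b₁ b₂ * tau)⁻¹ = pr (a * b₁⁻¹) (b * b₂⁻¹) := by
        rw [mul_inv_rev, tau_inv, pr_inv, mul_assoc, ← mul_assoc tau, tau_mul_tau, one_mul, pr_mul]
      rw [e] at hc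
      have hcc := hXc _ _ hc _ hx₀w
      have hx' : pr a b * tau = pr (a * b₁⁻¹) (b * b₂⁻¹) * (pr b₁ b₂ * tau) := by
        rw [← mul_assoc, pr_mul]; simp
      rw [hx']
      generalize pr (a * b₁⁻¹) (b * b₂⁻¹) = c at hcc ⊢
      generalize pr b₁ b₂ * tau = x₀ at hcc ⊢
      rw [mul_assoc, ← mul_assoc x₀ c, ← hcc, mul_assoc]
  obtain ⟨d, hd, hd1⟩ : ∃ d ∈ B, d ≠ 1 := by
    by_contra h
    push Not at h
    exact hB ((Subgroup.eq_bot_iff_forall _).mpr h)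
  have hg : pr d 1 ∈ X ⊔ Y := by rw [hsup]; exact pr_mem_wr hd B.one_mem
  obtain ⟨x, hx, y, hy, hg'⟩ := exists_mul_of_mem_sup X Y hXY hg
  have hcomm : pr d 1 * (pr b₁ b₂ * tau) = (pr b₁ b₂ * tau) * pr d 1 := by
    rw [hg', mul_assoc, ← hXY _ hx₀ y hy, ← mul_assoc, hXx₀ x hx, mul_assoc]
  rw [← mul_assoc, pr_mul, mul_assoc, tau_mul_pr, ← mul_assoc, pr_mul] at hcomm
  have h3 := (pr_injective (mul_right_cancel hcomm)).1
  apply hd1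
  rw [mul_one] at h3
  exact mul_right_cancel (h3.trans (one_mul b₁).symm)

end CLAIMCWR

section wreath

variable {α : Type*}

/-- W3 CLAIMCWR (L). -/
theorem claimC_wr [Nonempty α] {B : Subgroup (Perm α)} (hB : B ≠ ⊥) {z' : Perm α}
    (hz'B : z' ∈ B) (hz'c : ∀ d ∈ B, z' * d = d * z')
    (hz' : ∀ c ∈ B, (∀ d ∈ B, c * d = d * c) → c = 1 ∨ c = z')
    (X Y : Subgroup (Perm (α ⊕ α))) (hXY : ∀ x ∈ X, ∀ y ∈ Y, x * y = y * x)
    (hsup : X ⊔ Y = wr B) :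
    (∀ x ∈ X, ∀ ρ ∈ wr B, x * ρ = ρ * x) ∨ (∀ y ∈ Y, ∀ ρ ∈ wr B, y * ρ = ρ * y) := by
  classical
  have hYX : ∀ y ∈ Y, ∀ x ∈ X, y * x = x * y := fun y hy x hx => (hXY x hx y hy).symm
  have hsup' : Y ⊔ X = wr B := by rw [sup_comm]; exact hsup
  by_cases hX : ∃ b₁ ∈ B, ∃ b₂ ∈ B, pr b₁ b₂ * tau ∈ X
  · obtain ⟨b₁, hb₁, b₂, hb₂, hx₀⟩ := hX
    by_cases hY : ∃ e₁ ∈ B, ∃ e₂ ∈ B, pr e₁ e₂ * tau ∈ Y
    · exfalso
      obtain ⟨e₁, he₁, e₂, -, hy₀⟩ := hY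
      exact CLAIMCWR.false_of_both hB X Y hXY hsup hb₁ hb₂ hx₀ he₁ hy₀
    · right
      push Not at hY
      intro y hy ρ hρ
      have hyw : y ∈ wr B := by rw [← hsup]; exact Subgroup.mem_sup_right hy
      obtain ⟨c₁, hc₁, c₂, hc₂, rfl | rfl⟩ := hyw
      · exact CLAIMCWR.key X Y hXY hsup hb₁ hx₀ hy ρ hρ
      · exact absurd hy (hY c₁ hc₁ c₂ hc₂)
  · push Not at hX
    by_cases hY : ∃ e₁ ∈ B, ∃ e₂ ∈ B, pr e₁ e₂ * tau ∈ Y
    · left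
      obtain ⟨e₁, he₁, e₂, -, hy₀⟩ := hY
      intro x hx ρ hρ
      have hxw : x ∈ wr B := by rw [← hsup]; exact Subgroup.mem_sup_left hx
      obtain ⟨c₁, hc₁, c₂, hc₂, rfl | rfl⟩ := hxw
      · exact CLAIMCWR.key Y X hYX hsup' he₁ hy₀ hx ρ hρ
      · exact absurd hx (hX c₁ hc₁ c₂ hc₂)
    · exfalso
      push Not at hY
      have htau : (tau : Perm (α ⊕ α)) ∈ X ⊔ Y := by rw [hsup]; exact tau_mem_wr B
      obtain ⟨x, hx, y, hy, h⟩ := CLAIMCWR.exists_mul_of_mem_sup X Y hXY htau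
      have hxw : x ∈ wr B := by rw [← hsup]; exact Subgroup.mem_sup_left hx
      have hyw : y ∈ wr B := by rw [← hsup]; exact Subgroup.mem_sup_right hy
      obtain ⟨a, ha, b, hb, rfl | rfl⟩ := hxw
      · obtain ⟨c, hc, d, hd, rfl | rfl⟩ := hyw
        · rw [pr_mul] at h
          have h' : pr (a * c) (b * d) = pr 1 1 * tau := by rw [pr_one, one_mul, ← h]
          exact pr_ne_pr_mul_tau _ _ _ _ h'
        · exact hY c hc d hd hy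
      · exact hX a ha b hb hx

end wreath

end Cfsg.Agent.S2221P
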