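import Mathlib
import Cfsg.Agent.Helper28.S3000Defs

/-! s3000pieces row EXOFF (helper6): a best offender of `P` not centralising `V` contains a strict offender
(a nontrivial subgroup of least order attaining the maximal value `|A||C_V(A)|`). -/

set_option autoImplicit false

namespace Cfsg.Agent.S3000P

open Cfsg.Agent.S2789P Cfsg.Agent.S2999P Cfsg.Agent.S3000P
open scoped commutatorElement

variable {G : Type*} [Group G] [Finite G] {p : ℕ} [Fact p.Prime] {V P : Subgroup G} {T : Sylow p ↥P} {M : Subgroup ↥P} {q : ℕ}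

/-- EXOFF (S/M): a best offender not centralising `V` contains a strict offender. -/
theorem EXOFF (Hy : Hyp p V P T M)
    (hoff : ∃ A : Subgroup G, A ≤ P ∧ ¬ A ≤ Subgroup.centralizer (V : Set G) ∧ Cfsg.IsBestOffenderOn p V A) :
    ∃ A : Subgroup G, A ≤ P ∧ StrictOff p V A := by
  classical
  obtain ⟨A, hAP, hAV, hbest, hcomm, hpow⟩ := hoff
  -- `A` is elementary abelian
  have hbot : ∀ x : G, x ∈ P → x ∈ Subgroup.centralizer (V : Set G) → x = 1 := by
    intro x h1 h2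
    have : x ∈ P ⊓ Subgroup.centralizer (V : Set G) := ⟨h1, h2⟩
    rw [Hy.hf, Subgroup.mem_bot] at this
    exact this
  have hAel : Cfsg.IsElementaryAbelian p A := by
    constructor
    · refine ⟨⟨?_⟩⟩
      rintro ⟨x, hx⟩ ⟨y, hy⟩
      apply Subtype.ext
      simp only [Subgroup.coe_mul]
      have h1 : ⁅x, y⁆ ∈ ⁅A, A⁆ := Subgroup.commutator_mem_commutator hx hy
      have h2 : ⁅x, y⁆ ∈ P :=
        P.mul_mem (P.mul_mem (P.mul_mem (hAP hx) (hAP hy)) (P.inv_mem (hAP hx))) (P.inv_mem (hAP hy))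
      have h3 := hbot _ h2 (hcomm h1)
      exact (commutatorElement_eq_one_iff_mul_comm.mp h3)
    · intro a ha
      exact hbot _ (P.pow_mem (hAP ha) p) (hpow a ha)
  have hAne : A ≠ ⊥ := by
    intro h
    apply hAV
    rw [h]
    exact bot_le
  -- the value of the trivial subgroup
  have hV : Nat.card ↥V ≤ Nat.card ↥A * Nat.card ↥(fixV V A) := by
    have h := hbest ⊥ bot_le
    have e : V ⊓ Subgroup.centralizer (((⊥ : Subgroup G) : Subgroup G) : Set G) = V := by
      rw [Subgroup.coe_bot, Subgroup.centralizer_eq_top_iff_subset.mpr, inf_top_eq]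
      rw [Set.singleton_subset_iff]
      exact (Subgroup.center G).one_mem
    rw [e, Subgroup.card_bot, one_mul] at h
    exact h
  -- a subgroup of least order with the maximal value
  let 𝓕 : Set (Subgroup G) := {B | B ≤ A ∧ B ≠ ⊥ ∧
    Nat.card ↥B * Nat.card ↥(fixV V B) = Nat.card ↥A * Nat.card ↥(fixV V A)}
  have h𝓕fin : 𝓕.Finite := Set.toFinite _
  have h𝓕ne : 𝓕.Nonempty := ⟨A, le_rfl, hAne, rfl⟩
  obtain ⟨A', hA', hmin⟩ := Set.exists_min_image 𝓕 (fun B : Subgroup G => Nat.card ↥B) h𝓕fin h𝓕ne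
  obtain ⟨hA'A, hA'ne, hA'val⟩ := hA'
  refine ⟨A', hA'A.trans hAP, ?_⟩
  refine ⟨F2_aux_elab_of_le hAel hA'A, hA'ne, ?_, ?_⟩
  · rw [hA'val]; exact hV
  · intro A₀ h0 h0ne h0A'
    rw [hA'val]
    have hle : Nat.card ↥A₀ * Nat.card ↥(fixV V A₀) ≤ Nat.card ↥A * Nat.card ↥(fixV V A) :=
      hbest A₀ (h0.trans hA'A)
    refine lt_of_le_of_ne hle ?_
    intro heq
    have hmem : A₀ ∈ 𝓕 := ⟨h0.trans hA'A, h0ne, heq⟩
    have h1 : Nat.card ↥A' ≤ Nat.card ↥A₀ := hmin A₀ hmem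
    have h2 : Nat.card ↥A₀ ≤ Nat.card ↥A' := Subgroup.card_le_of_le h0
    have h3 : A₀ = A' := Subgroup.eq_of_le_of_card_ge h0 h1
    exact h0A' h3

end Cfsg.Agent.S3000P
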