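import Mathlib
import Cfsg.Agent.Helper27.S4150Defs

/-! # S4150, piece RESTRMEM (helper6): lift one element to `restr G D` with the same cycle type -/

set_option autoImplicit false

namespace Cfsg.Agent.S4150P

open Equiv Equiv.Perm MulAction

section
variable {α : Type*} [Fintype α] [DecidableEq α]

/-- a permutation fixing every point outside `D` stabilises `D` -/
theorem RESTRMEM.mem_iff (D : Finset α) {g : Perm α} (hgD : ∀ a, a ∉ D → g a = a) (x : α) :
    g x ∈ D ↔ x ∈ D := by
  constructor
  · intro hx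
    by_contra hxD
    rw [hgD x hxD] at hx
    exact hxD hx
  · intro hx
    by_contra hgx
    have h1 : g (g x) = g x := hgD (g x) hgx
    have h2 : g x = x := g.injective h1
    rw [h2] at hgx
    exact hgx hx

/-- RESTRMEM [S-M]: lifting one element. -/
theorem RESTRMEM.main (G : Subgroup (Perm α)) (D : Finset α) {g : Perm α} (hg : g ∈ G)
    (hgD : ∀ a, a ∉ D → g a = a) :
    ∃ g' ∈ restr G D, Equiv.Perm.ofSubtype g' = g ∧ g'.cycleType = g.cycleType := by
  have h₁ : ∀ x, g x ∈ D ↔ x ∈ D := RESTRMEM.mem_iff D hgD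
  have h₂ : ∀ x, g x ≠ x → x ∈ D := by
    intro x hx
    by_contra hxD
    exact hx (hgD x hxD)
  have hof : Equiv.Perm.ofSubtype (g.subtypePerm h₁ : Perm ↥D) = g :=
    Equiv.Perm.ofSubtype_subtypePerm (p := fun x => x ∈ D) h₁ h₂
  refine ⟨g.subtypePerm h₁, ?_, hof, ?_⟩
  · rw [mem_restr, hof]
    exact hg
  · have h3 := Equiv.Perm.cycleType_ofSubtype (g := (g.subtypePerm h₁ : Perm ↥D))
    rw [hof] at h3
    exact h3.symm

end

end Cfsg.Agent.S4150P
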