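import Mathlib
import Cfsg.Prelude.Def_Classical
import Cfsg.Agent.Helper26.S5320.Defs

/-! # S5320 piece Q8SGN (driver helper26): an element of `SL₂(F)` acting on `i` and on `j` by signs lies in `Q₈`. -/

set_option autoImplicit false
set_option linter.unusedSectionVars false
set_option linter.unusedVariables false

namespace Cfsg.Agent.S5320P

open Matrix

variable {F : Type*} [Field F]

namespace Q8SGN

theorem val_qi {a b : F} (hab : a ^ 2 + b ^ 2 = -1) : ((qi a b hab : L F) : M2 F) = qiM a b := rfl
theorem val_qj : ((qj : L F) : M2 F) = qjM := rfl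
theorem val_qk {a b : F} (hab : a ^ 2 + b ^ 2 = -1) : ((qk a b hab : L F) : M2 F) = qkM a b := rfl

theorem qi_mem {a b : F} (hab : a ^ 2 + b ^ 2 = -1) : qi a b hab ∈ Q8 a b hab :=
  Subgroup.subset_closure (by simp)

theorem qj_mem {a b : F} (hab : a ^ 2 + b ^ 2 = -1) : (qj : L F) ∈ Q8 a b hab :=
  Subgroup.subset_closure (by simp)

theorem qj_mul_self : (qj : L F) * qj = -1 := by
  apply Subtype.ext
  rw [Matrix.SpecialLinearGroup.coe_mul, Matrix.SpecialLinearGroup.coe_neg,
    Matrix.SpecialLinearGroup.coe_one, val_qj]
  ext i j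
  fin_cases i <;> fin_cases j <;> simp [qjM, Matrix.mul_apply, Fin.sum_univ_two]

theorem qi_mul_qj {a b : F} (hab : a ^ 2 + b ^ 2 = -1) : qi a b hab * qj = qk a b hab := by
  apply Subtype.ext
  rw [Matrix.SpecialLinearGroup.coe_mul, val_qj, val_qi, val_qk]
  ext i j
  fin_cases i <;> fin_cases j <;> simp [qiM, qjM, qkM, Matrix.mul_apply, Fin.sum_univ_two]

theorem neg_one_mem {a b : F} (hab : a ^ 2 + b ^ 2 = -1) : (-1 : L F) ∈ Q8 a b hab := by
  rw [← qj_mul_self]
  exact mul_mem (qj_mem hab) (qj_mem hab)

theorem neg_mem {a b : F} (hab : a ^ 2 + b ^ 2 = -1) {x : L F} (hx : x ∈ Q8 a b hab) :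
    -x ∈ Q8 a b hab := by
  have : -x = (-1 : L F) * x := by
    apply Subtype.ext
    simp
  rw [this]
  exact mul_mem (neg_one_mem hab) hx

theorem qk_mem {a b : F} (hab : a ^ 2 + b ^ 2 = -1) : qk a b hab ∈ Q8 a b hab := by
  rw [← qi_mul_qj]
  exact mul_mem (qi_mem hab) (qj_mem hab)

/-- the entries of `u` -/
theorem det_eq (u : L F) : u 0 0 * u 1 1 - u 0 1 * u 1 0 = 1 := by
  have := u.2
  rwa [Matrix.det_fin_two] at this

/-- from a sign relation in the group to a matrix relation -/
theorem rel_of_conj {u x y : L F} (h : u * x * u⁻¹ = y) :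
    (u : M2 F) * (x : M2 F) = (y : M2 F) * (u : M2 F) := by
  have h' : u * x = y * u := by rw [← h]; group
  have := congrArg (fun z : L F => (z : M2 F)) h'
  simpa only [Matrix.SpecialLinearGroup.coe_mul] using this

theorem ext4 {u v : L F} (h00 : u 0 0 = v 0 0) (h01 : u 0 1 = v 0 1) (h10 : u 1 0 = v 1 0)
    (h11 : u 1 1 = v 1 1) : u = v := by
  apply Subtype.ext
  ext i j
  fin_cases i <;> fin_cases j <;> assumption

theorem cancel_two (h2 : (2 : F) ≠ 0) {x : F} (h : 2 * x = 0) : x = 0 :=
  (mul_eq_zero.1 h).resolve_left h2

end Q8SGN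

open Q8SGN in
theorem Q8SGN.mem (h2 : (2 : F) ≠ 0) {a b : F} (hab : a ^ 2 + b ^ 2 = -1) (u : L F)
    (hi : u * qi a b hab * u⁻¹ = qi a b hab ∨ u * qi a b hab * u⁻¹ = -qi a b hab)
    (hj : u * qj * u⁻¹ = qj ∨ u * qj * u⁻¹ = -qj) : u ∈ Q8 a b hab := by
  have hdet := det_eq u
  rcases hj with hj | hj
  · -- u commutes with qj
    have hm := rel_of_conj hj
    rw [val_qj] at hm
    have e00 := congrFun (congrFun hm 0) 0
    have e01 := congrFun (congrFun hm 0) 1
    simp [qjM, Matrix.mul_apply, Fin.sum_univ_two] at e00 e01
    -- e00 : -u 0 1 = u 1 0 ; e01 : u 0 0 = u 1 1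
    rcases hi with hi | hi
    · have hn := rel_of_conj hi
      rw [val_qi] at hn
      have f00 := congrFun (congrFun hn 0) 0
      have f01 := congrFun (congrFun hn 0) 1
      simp [qiM, Matrix.mul_apply, Fin.sum_univ_two] at f00 f01
      have hqb : u 0 1 * b = 0 := cancel_two h2 (by linear_combination f00 - b * e00)
      have hqa : u 0 1 * a = 0 := cancel_two h2 (by linear_combination -f01 + b * e01)
      have hq : u 0 1 = 0 := by linear_combination (-a) * hqa + (-b) * hqb + u 0 1 * hab
      have hr : u 1 0 = 0 := by rw [← e00, hq, neg_zero]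
      have hp : u 0 0 * u 0 0 = 1 := by
        rw [hq, hr, ← e01] at hdet
        linear_combination hdet
      rcases mul_self_eq_one_iff.1 hp with hp | hp
      · have : u = 1 := ext4 (by simpa using hp) (by simpa using hq) (by simpa using hr)
          (by rw [← e01]; simpa using hp)
        rw [this]
        exact one_mem _
      · have : u = -1 := ext4 (by simpa using hp) (by simpa using hq) (by simpa using hr)
          (by rw [← e01]; simpa using hp)
        rw [this]
        exact neg_one_mem hab
    · have hn := rel_of_conj hi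
      rw [Matrix.SpecialLinearGroup.coe_neg, val_qi] at hn
      have f00 := congrFun (congrFun hn 0) 0
      have f01 := congrFun (congrFun hn 0) 1
      simp [qiM, Matrix.mul_apply, Fin.sum_univ_two] at f00 f01
      have hpa : u 0 0 * a = 0 := cancel_two h2 (by linear_combination f00 + b * e00)
      have hpb : u 0 0 * b = 0 := cancel_two h2 (by linear_combination f01 + b * e01)
      have hp : u 0 0 = 0 := by linear_combination (-a) * hpa + (-b) * hpb + u 0 0 * hab
      have hs : u 1 1 = 0 := by rw [← e01, hp]
      have hq : u 0 1 * u 0 1 = 1 := by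
        rw [hp, hs, ← e00] at hdet
        linear_combination hdet
      rcases mul_self_eq_one_iff.1 hq with hq | hq
      · have : u = qj := ext4 (by simpa [val_qj, qjM] using hp) (by simpa [val_qj, qjM] using hq)
          (by rw [← e00, hq]; simp [val_qj, qjM]) (by simpa [val_qj, qjM] using hs)
        rw [this]
        exact qj_mem hab
      · have : u = -qj := ext4 (by simpa [val_qj, qjM] using hp) (by simpa [val_qj, qjM] using hq)
          (by rw [← e00, hq]; simp [val_qj, qjM]) (by simpa [val_qj, qjM] using hs)
        rw [this]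
        exact neg_mem hab (qj_mem hab)
  · -- u anticommutes with qj
    have hm := rel_of_conj hj
    rw [Matrix.SpecialLinearGroup.coe_neg, val_qj] at hm
    have e00 := congrFun (congrFun hm 0) 0
    have e01 := congrFun (congrFun hm 0) 1
    simp [qjM, Matrix.mul_apply, Fin.sum_univ_two] at e00 e01
    rcases hi with hi | hi
    · have hn := rel_of_conj hi
      rw [val_qi] at hn
      have f00 := congrFun (congrFun hn 0) 0
      have f01 := congrFun (congrFun hn 0) 1
      simp [qiM, Matrix.mul_apply, Fin.sum_univ_two] at f00 f01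
      have hpq : u 0 0 * b = u 0 1 * a := by
        have : 2 * (u 0 0 * b - u 0 1 * a) = 0 := by linear_combination f01 + b * e01
        have := cancel_two h2 this
        linear_combination this
      have hn1 : u 0 0 * u 0 0 + u 0 1 * u 0 1 = -1 := by
        linear_combination -hdet + u 0 0 * e01 + u 0 1 * e00
      have hlam : (u 0 0 * a + u 0 1 * b) * (u 0 0 * a + u 0 1 * b) = 1 := by
        linear_combination (a ^ 2 + b ^ 2) * hn1 - hab - (u 0 0 * b - u 0 1 * a) * hpq
      have hp : u 0 0 = -(u 0 0 * a + u 0 1 * b) * a := by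
        linear_combination u 0 0 * hab - b * hpq
      have hq : u 0 1 = -(u 0 0 * a + u 0 1 * b) * b := by
        linear_combination u 0 1 * hab + a * hpq
      rcases mul_self_eq_one_iff.1 hlam with hl | hl
      · rw [hl] at hp hq
        have : u = -qi a b hab := ext4 (by simpa [val_qi, qiM] using hp)
          (by simpa [val_qi, qiM] using hq) (by rw [← e00]; simpa [val_qi, qiM] using hq)
          (by
            have : u 1 1 = a := by linear_combination e01 - hp
            simpa [val_qi, qiM] using this)
        rw [this]
        exact neg_mem hab (qi_mem hab)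
      · rw [hl] at hp hq
        have : u = qi a b hab := ext4 (by simpa [val_qi, qiM] using hp)
          (by simpa [val_qi, qiM] using hq) (by rw [← e00]; simpa [val_qi, qiM] using hq)
          (by
            have : u 1 1 = -a := by linear_combination e01 - hp
            simpa [val_qi, qiM] using this)
        rw [this]
        exact qi_mem hab
    · have hn := rel_of_conj hi
      rw [Matrix.SpecialLinearGroup.coe_neg, val_qi] at hn
      have f00 := congrFun (congrFun hn 0) 0
      have f01 := congrFun (congrFun hn 0) 1
      simp [qiM, Matrix.mul_apply, Fin.sum_univ_two] at f00 f01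
      have hpq : u 0 0 * a + u 0 1 * b = 0 := by
        have : 2 * (u 0 0 * a + u 0 1 * b) = 0 := by linear_combination f00 + b * e00
        exact cancel_two h2 this
      have hn1 : u 0 0 * u 0 0 + u 0 1 * u 0 1 = -1 := by
        linear_combination -hdet + u 0 0 * e01 + u 0 1 * e00
      have hlam : (u 0 0 * b - u 0 1 * a) * (u 0 0 * b - u 0 1 * a) = 1 := by
        linear_combination (a ^ 2 + b ^ 2) * hn1 - hab - (u 0 0 * a + u 0 1 * b) * hpq
      have hp : u 0 0 = -(u 0 0 * b - u 0 1 * a) * b := by
        linear_combination u 0 0 * hab - a * hpq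
      have hq : u 0 1 = (u 0 0 * b - u 0 1 * a) * a := by
        linear_combination u 0 1 * hab - b * hpq
      rcases mul_self_eq_one_iff.1 hlam with hl | hl
      · rw [hl] at hp hq
        have : u = qk a b hab := ext4 (by simpa [val_qk, qkM] using hp)
          (by simpa [val_qk, qkM] using hq) (by rw [← e00]; simpa [val_qk, qkM] using hq)
          (by
            have : u 1 1 = b := by linear_combination e01 - hp
            simpa [val_qk, qkM] using this)
        rw [this]
        exact qk_mem hab
      · rw [hl] at hp hq
        have : u = -qk a b hab := ext4 (by simpa [val_qk, qkM] using hp)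
          (by simpa [val_qk, qkM] using hq) (by rw [← e00]; simpa [val_qk, qkM] using hq)
          (by
            have : u 1 1 = -b := by linear_combination e01 - hp
            simpa [val_qk, qkM] using this)
        rw [this]
        exact neg_mem hab (qk_mem hab)

end Cfsg.Agent.S5320P
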