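import Mathlib
import Cfsg.Agent.Helper28.S5751Defs
import Cfsg.Agent.Helper28.BTStab3

set_option autoImplicit false
set_option linter.unusedSectionVars false
set_option linter.unusedVariables false

/-! S5751 piece XENT (helper6): entries of root elements in the columns `h_i`, and conjugation of
words by `n_i`. -/

namespace Cfsg.Agent.S5751P

open Cfsg.Lie Cfsg.Agent.Helper6 Cfsg.Agent.Helper28.BT Cfsg.Agent.Helper2.Levi

variable {D : ChevalleyDatum} {F : Type*} [Field F]

theorem x_entry (hB : BasicOK D) {r : ℕ} (hr : r < D.nroots) (t : F) (s : Fin D.nroots)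
    (i : Fin D.rank) :
    (D.x F r t) (Sum.inr s) (Sum.inl i) =
      if s.val = r then -(((D.cartan i.val r : ℤ) : F)) * t else 0 := by
  have h := congrFun (x_mulVec_hv (D := D) (F := F) hB hr t i.isLt) (Sum.inr s)
  have hcol : (D.x F r t).mulVec (hv D F i.val) (Sum.inr s) = (D.x F r t) (Sum.inr s) (Sum.inl i) := by
    have e : hv D F i.val = Pi.single (Sum.inl i) 1 := by
      unfold hv
      rw [dif_pos i.isLt]
    rw [e, Matrix.mulVec_single_one]
    rfl
  rw [hcol] at h
  rw [h, Pi.sub_apply, Pi.smul_apply, hv_apply_inr, ev_apply_inr]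
  split_ifs <;> simp

theorem conj_wordU (Δ : BNData D F) (i : Fin D.rank) (w : List (ℕ × F))
    (hw : ∀ p ∈ w, p.1 < D.nroots) :
    nU Δ.hB (D.simple i.val) (one_ne_zero (α := F)) * wordU Δ.hB w *
        (nU Δ.hB (D.simple i.val) (one_ne_zero (α := F)))⁻¹ =
      wordU Δ.hB (w.map fun p => (wR D (D.simple i.val) p.1,
        ((etaR D (D.simple i.val) p.1 : ℤ) : F) * p.2)) := by
  induction w with
  | nil =>
    simp [wordU]
  | cons p w ih =>
    have h1 : wordU Δ.hB (p :: w) = xU Δ.hB p.1 p.2 * wordU Δ.hB w := by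
      simp [wordU]
    have h2 : wordU Δ.hB ((p :: w).map fun p => (wR D (D.simple i.val) p.1,
        ((etaR D (D.simple i.val) p.1 : ℤ) : F) * p.2)) =
        xU Δ.hB (wR D (D.simple i.val) p.1) (((etaR D (D.simple i.val) p.1 : ℤ) : F) * p.2) *
          wordU Δ.hB (w.map fun p => (wR D (D.simple i.val) p.1,
            ((etaR D (D.simple i.val) p.1 : ℤ) : F) * p.2)) := by
      simp [wordU]
    rw [h1, h2, ← ih (fun q hq => hw q (List.mem_cons_of_mem _ hq)),
      ← nU_conj_xU Δ.hB (Δ.hAll i.val i.isLt) (hw p List.mem_cons_self) p.2]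
    group

end Cfsg.Agent.S5751P
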