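import Mathlib
import Cfsg.Prelude.Def_Classical
import Cfsg.Agent.Helper21.S2286DEFS
import Cfsg.Agent.Helper21.S2289DEFS
import Cfsg.Agent.Helper8.S2289ABBLOCK
import Cfsg.Agent.Helper8.S2286DARG
import Cfsg.Agent.Helper2.HermCount
import Cfsg.Agent.Helper2.UnitaryCount

/-! S2289 piece ZBLOCK (driver helper21; helper6): the centre block. -/

set_option autoImplicit false

namespace Cfsg.Agent.Helper21.S2289

open Cfsg.Agent.Helper21.S2286 Polynomial Multiplicative

namespace ZBLOCK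

/-- polynomial expressions in a fixed point are fixed points -/
theorem ev_fixed {F : Type*} [Field F] [Fintype F] {q : ℕ} (hF : Fintype.card F = q ^ 2) (η : F)
    (hηq : η ^ q = η) (c : ℕ → ℕ) (n : ℕ) : (ev η c n) ^ q = ev η c n := by
  obtain ⟨p', j, hp', hchar, rfl⟩ := Cfsg.Agent.Helper2.Herm.exists_char_pow hF
  have := Fact.mk hp'
  have hfr : ∀ x : F, x ^ p' ^ j = iterateFrobenius F p' j x := fun x =>
    (iterateFrobenius_def p' j x).symm
  unfold ev
  rw [hfr, map_sum]
  apply Finset.sum_congr rfl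
  intro i _
  rw [map_mul, map_natCast, map_pow, ← hfr, hηq]

/-- a single conjugate as a `prodA` -/
theorem prodA_single {G : Type*} [Group G] (h u : G) (i : ℕ) :
    prodA h u (Pi.single i 1) (i + 1) = cj h u (i : ℤ) := by
  unfold prodA
  rw [List.range_succ, List.map_append, List.prod_append]
  have h1 : ((List.range i).map fun k : ℕ => (cj h u (k : ℤ)) ^ ((Pi.single i 1 : ℕ → ℕ) k)).prod = 1 := by
    apply List.prod_eq_one
    intro x hx
    rw [List.mem_map] at hx
    obtain ⟨k, hk, rfl⟩ := hx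
    rw [List.mem_range] at hk
    rw [Pi.single_eq_of_ne (by omega), pow_zero]
  rw [h1, one_mul]
  simp

theorem ev_single {F : Type*} [Field F] (η : F) (i : ℕ) :
    ev η (Pi.single i 1) (i + 1) = η ^ i := by
  unfold ev
  rw [Finset.sum_eq_single i]
  · simp
  · intro k _ hk
    rw [Pi.single_eq_of_ne hk]; simp
  · intro hi
    exact absurd (Finset.mem_range.2 (Nat.lt_succ_self i)) hi

/-- periodicity of the conjugates -/
theorem cj_add_mul {G : Type*} [Group G] (h u : G) (N : ℕ) (hhN : h ^ N = 1) (i t : ℤ) :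
    cj h u (i + N * t) = cj h u i := by
  unfold cj
  have : h ^ (i + N * t) = h ^ i := by
    rw [zpow_add, zpow_mul, zpow_natCast, hhN, one_zpow, mul_one]
  rw [this]

end ZBLOCK

open ZBLOCK in
theorem zblock (p : ℕ) [Fact p.Prime] {F : Type*} [Field F] [Fintype F] [CharP F p] {q : ℕ}
    (hF : Fintype.card F = q ^ 2) (η : F) (hηq : η ^ q = η) (hη1 : η ^ (q - 1) = 1) (k : ℕ)
    {Γ : Type*} [Group Γ] (h z : Γ) (N : ℕ) (hN : 0 < N) (hhN : h ^ N = 1)
    (r1 : z ^ p = 1) (r2 : Commute z (cj h z 1)) (r3 : cj h z (k : ℤ) = z * cj h z 1)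
    (r4 : prodA h z (mcoef p η) (mdeg p η + 1) = 1) :
    (∀ x ∈ Subgroup.closure {g : Γ | ∃ i : ℤ, g = cj h z i},
      ∀ y ∈ Subgroup.closure {g : Γ | ∃ i : ℤ, g = cj h z i}, Commute x y) ∧
    Finite (Subgroup.closure {g : Γ | ∃ i : ℤ, g = cj h z i}) ∧
    Nat.card (Subgroup.closure {g : Γ | ∃ i : ℤ, g = cj h z i}) ≤ q ∧
    (∀ x ∈ Subgroup.closure {g : Γ | ∃ i : ℤ, g = cj h z i}, Commute (h ^ (q - 1)) x) ∧
    (∀ (c : ℕ → ℕ) (n : ℕ), prodA h z c n ∈ Subgroup.closure {g : Γ | ∃ i : ℤ, g = cj h z i}) := by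
  classical
  have hq2 : 2 ≤ q := Cfsg.Agent.Helper2.Herm.two_le_q hF
  have hcomm : ∀ i j : ℤ, Commute (cj h z i) (cj h z j) := comm_S h z (k : ℤ) r2 r3
  set A : Set F := {x | x ^ q = x} with hA
  have hAmem : ∀ (c : ℕ → ℕ) (n : ℕ), ev η c n ∈ A := fun c n => ev_fixed hF η hηq c n
  obtain ⟨hfin, hcard, hrep, hev⟩ := ab_block_card p η h z r1 hcomm r4 N hN hhN A hAmem
  have hcardA : Nat.card A = q := by
    have h1 : Nat.card (Cfsg.Agent.Helper2.Herm.K hF) = q := by
      rw [Nat.card_eq_fintype_card]; convert Cfsg.Agent.Helper2.Herm.card_K hF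
    rw [← h1]
    exact Nat.card_congr (Equiv.subtypeEquivRight (fun x => Iff.rfl))
  set S := Subgroup.closure {g : Γ | ∃ i : ℤ, g = cj h z i} with hS
  -- the generators are periodic with period `q - 1`
  have hper_nat : ∀ i : ℕ, cj h z ((i : ℤ) + ((q - 1 : ℕ) : ℤ)) = cj h z (i : ℤ) := by
    intro i
    have e : ((i : ℤ) + ((q - 1 : ℕ) : ℤ)) = ((i + (q - 1) : ℕ) : ℤ) := by push_cast; ring
    rw [e, ← prodA_single, ← prodA_single h z i]
    apply hev
    rw [ev_single, ev_single, pow_add, hη1, mul_one]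
  have hper : ∀ i : ℤ, cj h z (i + ((q - 1 : ℕ) : ℤ)) = cj h z i := by
    intro i
    -- shift `i` to a natural number
    obtain ⟨t, ht⟩ : ∃ t : ℤ, 0 ≤ i + N * t := by
      refine ⟨|i|, ?_⟩
      have h1 : (1 : ℤ) ≤ N := by exact_mod_cast hN
      have h2 : |i| ≤ (N : ℤ) * |i| := by nlinarith [abs_nonneg i]
      have h3 : -|i| ≤ i := neg_abs_le i
      linarith
    obtain ⟨i', hi'⟩ := Int.eq_ofNat_of_zero_le ht
    have e1 : cj h z (i + ((q - 1 : ℕ) : ℤ)) = cj h z ((i' : ℤ) + ((q - 1 : ℕ) : ℤ)) := by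
      rw [← hi', show i + N * t + ((q - 1 : ℕ) : ℤ) = (i + ((q - 1 : ℕ) : ℤ)) + N * t by ring,
        cj_add_mul h z N hhN]
    have e2 : cj h z i = cj h z (i' : ℤ) := by
      rw [← hi', cj_add_mul h z N hhN]
    rw [e1, e2]
    exact hper_nat i'
  have hcen : ∀ i : ℤ, Commute (h ^ (q - 1)) (cj h z i) := by
    intro i
    have h1 : h ^ (q - 1) * cj h z i * (h ^ (q - 1))⁻¹ = cj h z (((q - 1 : ℕ) : ℤ) + i) := by
      have := cj_add h z i ((q - 1 : ℕ) : ℤ)
      rw [← this]
      unfold cj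
      rw [zpow_natCast]
    rw [add_comm, hper] at h1
    show h ^ (q - 1) * cj h z i = cj h z i * h ^ (q - 1)
    calc h ^ (q - 1) * cj h z i = (h ^ (q - 1) * cj h z i * (h ^ (q - 1))⁻¹) * h ^ (q - 1) := by group
      _ = cj h z i * h ^ (q - 1) := by rw [h1]
  refine ⟨?_, hfin, ?_, ?_, ?_⟩
  · -- abelian
    have hgen : {g : Γ | ∃ i : ℤ, g = cj h z i} ⊆ (Subgroup.centralizer (S : Set Γ) : Set Γ) := by
      rintro g ⟨i, rfl⟩
      rw [SetLike.mem_coe, Subgroup.mem_centralizer_iff]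
      intro y hy
      have hle : S ≤ Subgroup.centralizer {cj h z i} := by
        rw [hS, Subgroup.closure_le]
        rintro g' ⟨j, rfl⟩
        rw [SetLike.mem_coe, Subgroup.mem_centralizer_iff]
        intro w hw
        rw [Set.mem_singleton_iff] at hw
        rw [hw]
        exact (hcomm i j).eq
      have := hle hy
      rw [Subgroup.mem_centralizer_iff] at this
      exact (this _ (Set.mem_singleton _)).symm
    have hle : S ≤ Subgroup.centralizer (S : Set Γ) := by
      rw [hS, Subgroup.closure_le]; rw [← hS]; exact hgen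
    intro x hx y hy
    have := hle hx
    rw [Subgroup.mem_centralizer_iff] at this
    exact (this y hy).symm
  · rw [← hcardA]; exact hcard
  · intro x hx
    have hle : S ≤ Subgroup.centralizer {h ^ (q - 1)} := by
      rw [hS, Subgroup.closure_le]
      rintro g ⟨i, rfl⟩
      rw [SetLike.mem_coe, Subgroup.mem_centralizer_iff]
      intro w hw
      rw [Set.mem_singleton_iff] at hw
      rw [hw]
      exact (hcen i).eq
    have := hle hx
    rw [Subgroup.mem_centralizer_iff] at this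
    exact this _ (Set.mem_singleton _)
  · intro c n
    unfold prodA
    apply Subgroup.list_prod_mem
    intro x hx
    rw [List.mem_map] at hx
    obtain ⟨i, _, rfl⟩ := hx
    have hmem : cj h z (i : ℤ) ∈ Subgroup.closure {g : Γ | ∃ i : ℤ, g = cj h z i} :=
      Subgroup.subset_closure ⟨(i : ℤ), rfl⟩
    exact Subgroup.pow_mem _ hmem _

end Cfsg.Agent.Helper21.S2289
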