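import Mathlib
import Cfsg.Prelude.Def_Classical
import Cfsg.Agent.Helper21.S2286DEFS
import Cfsg.Agent.Helper21.S2289DEFS
import Cfsg.Agent.Helper2.HermCount
import Cfsg.Agent.Helper2.UnitaryCount

/-! S2289 piece FDICH (driver helper21; helper6): Baumslag dichotomy for `μ = ζ²/ζ^q`. -/

set_option autoImplicit false

namespace Cfsg.Agent.Helper21.S2289

open Cfsg.Agent.Helper21.S2286 Polynomial

variable {F : Type*} [Field F] [Fintype F] {q : ℕ}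

namespace FDICH

/-- the cube roots of unity in a field, given one nontrivial root -/
theorem cube_root_cases {ν w : F} (hν : ν ^ 3 = 1) (hν1 : ν ≠ 1) (hw : w ^ 3 = 1) :
    w = 1 ∨ w = ν ∨ w = ν ^ 2 := by
  have h1 : 1 + ν + ν ^ 2 = 0 := by
    have : (ν - 1) * (1 + ν + ν ^ 2) = 0 := by linear_combination hν
    rcases mul_eq_zero.1 this with h | h
    · exact absurd (sub_eq_zero.1 h) hν1
    · exact h
  have h2 : (w - 1) * ((w - ν) * (w - ν ^ 2)) = 0 := by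
    linear_combination hw - w ^ 2 * h1 + w * h1 + (w - 1) * hν
  rcases mul_eq_zero.1 h2 with h | h
  · exact Or.inl (sub_eq_zero.1 h)
  · rcases mul_eq_zero.1 h with h | h
    · exact Or.inr (Or.inl (sub_eq_zero.1 h))
    · exact Or.inr (Or.inr (sub_eq_zero.1 h))

end FDICH

theorem mu_dichotomy (hF : Fintype.card F = q ^ 2) (h2 : q ≠ 2) (h3 : q ≠ 3) (ζ : Fˣ)
    (hζ : ∀ y : Fˣ, y ∈ Subgroup.zpowers ζ) :
    (∃ k : ℕ, ((ζ : F) ^ 2 / (ζ : F) ^ q) ^ k = 1 + (ζ : F) ^ 2 / (ζ : F) ^ q) ∨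
    (∃ j : ℕ, ¬ 3 ∣ j ∧
      (1 + (ζ : F) ^ 2 / (ζ : F) ^ q) ^ 3 = ((ζ : F) ^ 2 / (ζ : F) ^ q) ^ j) := by
  have hq2 : 2 ≤ q := Cfsg.Agent.Helper2.Herm.two_le_q hF
  have hq3 : 3 ≤ q := by omega
  have hζ0 : (ζ : F) ≠ 0 := ζ.ne_zero
  have hone : (ζ : F) ^ (q ^ 2 - 1) = 1 := by
    rw [← hF]; exact FiniteField.pow_card_sub_one_eq_one _ hζ0
  have hqq : 1 ≤ q ^ 2 := Nat.one_le_pow _ _ (by omega)
  set μ : F := (ζ : F) ^ 2 / (ζ : F) ^ q with hμdef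
  have hμ0 : μ ≠ 0 := div_ne_zero (pow_ne_zero _ hζ0) (pow_ne_zero _ hζ0)
  -- `μ * ζ^q = ζ^2`
  have hμmul : μ * (ζ : F) ^ q = (ζ : F) ^ 2 := by
    rw [hμdef, div_mul_cancel₀ _ (pow_ne_zero _ hζ0)]
  -- `μ^(q+2) = ζ^3`
  have hcube : μ ^ (q + 2) = (ζ : F) ^ 3 := by
    have h1 : μ ^ (q + 2) * ((ζ : F) ^ q) ^ (q + 2) = (ζ : F) ^ 3 * ((ζ : F) ^ q) ^ (q + 2) := by
      rw [← mul_pow, hμmul, ← pow_mul, ← pow_mul, ← pow_add]
      have e : 3 + q * (q + 2) = 2 * (q + 2) + (q ^ 2 - 1) := by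
        have : q ^ 2 = q * q := by ring
        zify [hqq]
        ring
      rw [e, pow_add, hone, mul_one]
    exact mul_right_cancel₀ (pow_ne_zero _ (pow_ne_zero _ hζ0)) h1
  -- the order of `ζ`
  have hord : orderOf ζ = q ^ 2 - 1 := by
    rw [orderOf_eq_card_of_forall_mem_zpowers hζ, Nat.card_units, Nat.card_eq_fintype_card, hF]
  -- `1 + μ ≠ 0`
  have hu0 : 1 + μ ≠ 0 := by
    intro h
    have hμ1 : μ = -1 := by linear_combination h
    have hsq : μ ^ 2 = 1 := by rw [hμ1]; ring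
    have h4 : (ζ : F) ^ (2 * q) = (ζ : F) ^ 4 := by
      have : μ ^ 2 * ((ζ : F) ^ q) ^ 2 = ((ζ : F) ^ 2) ^ 2 := by rw [← mul_pow, hμmul]
      rw [hsq, one_mul, ← pow_mul, ← pow_mul] at this
      rw [mul_comm 2 q]; exact this
    have h5 : (ζ : F) ^ (2 * q - 4) = 1 := by
      have : (ζ : F) ^ (2 * q - 4) * (ζ : F) ^ 4 = 1 * (ζ : F) ^ 4 := by
        rw [← pow_add, one_mul, Nat.sub_add_cancel (by omega), h4]
      exact mul_right_cancel₀ (pow_ne_zero _ hζ0) this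
    have h6 : ζ ^ (2 * q - 4) = 1 := by
      apply Units.ext
      rw [Units.val_pow_eq_pow_val, h5, Units.val_one]
    have h7 := orderOf_dvd_of_pow_eq_one h6
    rw [hord] at h7
    have h8 := Nat.le_of_dvd (by omega) h7
    have h9 : 3 * q ≤ q ^ 2 := by nlinarith
    generalize q ^ 2 = Q at *
    omega
  -- `1 + μ = ζ^l`
  obtain ⟨l, hl⟩ : ∃ l : ℕ, (ζ : F) ^ l = 1 + μ := by
    have hmem := hζ (Units.mk0 (1 + μ) hu0)
    rw [← mem_powers_iff_mem_zpowers] at hmem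
    obtain ⟨l, hl⟩ := hmem
    refine ⟨l, ?_⟩
    have := congrArg Units.val hl
    simpa using this
  have hu3 : (1 + μ) ^ 3 = μ ^ ((q + 2) * l) := by
    rw [pow_mul, hcube, ← hl, ← pow_mul, ← pow_mul, mul_comm]
  by_cases hj0 : 3 ∣ (q + 2) * l
  swap
  · exact Or.inr ⟨(q + 2) * l, hj0, hu3⟩
  obtain ⟨j1, hj1⟩ := hj0
  -- the order of `μ`
  set μu : Fˣ := Units.mk0 μ hμ0 with hμu
  have hpowu : ∀ n : ℕ, ((μu ^ n : Fˣ) : F) = μ ^ n := fun n => by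
    rw [Units.val_pow_eq_pow_val]; rfl
  set m := orderOf μu with hm
  have hm0 : 0 < m := orderOf_pos μu
  have hμm : μ ^ m = 1 := by
    rw [← hpowu, hm, pow_orderOf_eq_one, Units.val_one]
  by_cases hm3 : 3 ∣ m
  swap
  · refine Or.inr ⟨(q + 2) * l + m, ?_, ?_⟩
    · intro h
      exact hm3 ((Nat.dvd_add_right ⟨j1, hj1⟩).1 h)
    · rw [pow_add, hμm, mul_one]; exact hu3
  obtain ⟨m1, hm1⟩ := hm3
  have hm1pos : 0 < m1 := by omega
  have hν3 : (μ ^ m1) ^ 3 = 1 := by rw [← pow_mul, mul_comm, ← hm1]; exact hμm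
  have hν1 : μ ^ m1 ≠ 1 := by
    intro h
    have h' : μu ^ m1 = 1 := by
      apply Units.ext; rw [hpowu, h, Units.val_one]
    exact pow_ne_one_of_lt_orderOf (by omega) (by rw [← hm]; omega) h'
  -- `w = (1 + μ) / μ^j1` is a cube root of unity
  have hw3 : ((1 + μ) / μ ^ j1) ^ 3 = 1 := by
    rw [div_pow, hu3, hj1, ← pow_mul, mul_comm j1 3]
    exact div_self (pow_ne_zero _ hμ0)
  have hcase := FDICH.cube_root_cases hν3 hν1 hw3
  have hj1ne : μ ^ j1 ≠ 0 := pow_ne_zero _ hμ0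
  left
  rcases hcase with h | h | h
  · refine ⟨j1, ?_⟩
    rw [div_eq_iff hj1ne] at h
    rw [h, one_mul]
  · refine ⟨m1 + j1, ?_⟩
    rw [div_eq_iff hj1ne] at h
    rw [h, pow_add]
  · refine ⟨m1 * 2 + j1, ?_⟩
    rw [div_eq_iff hj1ne] at h
    rw [h, pow_add, pow_mul]

end Cfsg.Agent.Helper21.S2289
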