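import Mathlib
import Cfsg.Prelude.Def_Classical
import Cfsg.Agent.Helper21.S2289DEFS
import Cfsg.Agent.Helper21.S2289MDEFS
import Cfsg.Agent.Helper2.HermCount

/-! S2289 piece MODELP (driver helper21; helper6): base change to the standard Hermitian form. -/

set_option autoImplicit false

namespace Cfsg.Agent.Helper21.S2289

open Matrix

theorem exists_base_change {F : Type*} [Field F] [Fintype F] {q : ℕ} (hF : Fintype.card F = q ^ 2) :
    ∃ P : Matrix (Fin 3) (Fin 3) F, P.det ≠ 0 ∧ P.transpose * P.map (· ^ q) = Jm := by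
  classical
  have hq2 : 2 ≤ q := Cfsg.Agent.Helper2.Herm.two_le_q hF
  -- `-1` is fixed
  have hneg : (-1 : F) ^ q = -1 := by
    have := Cfsg.Agent.Helper2.Herm.sub_pow_q hF (0 : F) 1
    rw [zero_sub, one_pow, zero_pow (by omega), zero_sub] at this
    exact this
  have hmemK : (-1 : F) ∈ Cfsg.Agent.Helper2.Herm.K hF := by
    rw [Cfsg.Agent.Helper2.Herm.mem_K]; exact hneg
  have hcard := Cfsg.Agent.Helper2.Herm.card_fiber_ne_zero hF hmemK (by simp)
  have h1 : 1 < (Finset.univ.filter (fun a : F => a ^ (q + 1) = -1)).card := by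
    rw [hcard]; omega
  obtain ⟨ε, hε, ε', hε', hne⟩ := Finset.one_lt_card.1 h1
  rw [Finset.mem_filter] at hε hε'
  have hNε : ε ^ (q + 1) = -1 := hε.2
  have hNε' : ε' ^ (q + 1) = -1 := hε'.2
  have hε'0 : ε' ≠ 0 := by
    intro h; rw [h, zero_pow (by omega)] at hNε'; exact absurd hNε' (by simp)
  have hqq : ∀ x : F, (x ^ q) ^ q = x := fun x => by
    rw [← pow_mul, ← sq]; exact Cfsg.Agent.Helper2.Herm.pow_q_sq hF x
  have hmulq : ∀ x y : F, (x * y) ^ q = x ^ q * y ^ q := fun x y => mul_pow x y q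
  have haddq := Cfsg.Agent.Helper2.Herm.add_pow_q hF
  set δ : F := 1 + ε * ε' ^ q with hδ
  have hδ0 : δ ≠ 0 := by
    intro h
    apply hne
    -- `ε' * δ = ε' - ε`
    have h2 : ε' * δ = ε' - ε := by
      rw [hδ]
      have : ε' * ε' ^ q = -1 := by rw [← pow_succ']; exact hNε'
      linear_combination ε * this
    rw [h, mul_zero] at h2
    exact (sub_eq_zero.1 h2.symm).symm
  set c : F := (1 / δ) ^ q with hc
  have hcq : c ^ q = 1 / δ := hqq _
  have hδq : δ ^ q = 1 + ε ^ q * ε' := by
    rw [hδ, haddq, one_pow, hmulq, hqq]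
  have hcδ : c * δ ^ q = 1 := by
    rw [hc, ← mul_pow, one_div, inv_mul_cancel₀ hδ0, one_pow]
  have hc0 : c ≠ 0 := by
    intro h; rw [h, zero_mul] at hcδ; exact zero_ne_one hcδ
  have hN1 : ε * ε ^ q = -1 := by rw [← pow_succ']; exact hNε
  have hN2 : ε' * ε' ^ q = -1 := by rw [← pow_succ']; exact hNε'
  refine ⟨!![1, 0, c; ε, 0, c * ε'; 0, 1, 0], ?_, ?_⟩
  · rw [Matrix.det_fin_three]
    simp only [Matrix.of_apply, Matrix.cons_val', Matrix.cons_val_zero, Matrix.cons_val_one,
      Matrix.cons_val_two, Matrix.empty_val', Matrix.cons_val_fin_one, Matrix.head_cons,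
      Matrix.tail_cons, Matrix.head_fin_const]
    have : c * (ε - ε') ≠ 0 := mul_ne_zero hc0 (sub_ne_zero.2 hne)
    intro h
    apply this
    linear_combination h
  · ext i j
    fin_cases i <;> fin_cases j <;>
      simp [Jm, Matrix.mul_apply, Fin.sum_univ_three, Matrix.transpose_apply, Matrix.map_apply]
    all_goals first
      | omega
      | (rw [zero_pow (by omega : q ≠ 0)]; ring)
      | linear_combination hN1
      | (rw [hmulq, hcq]
         have : (1 / δ) * δ = 1 := by rw [one_div, inv_mul_cancel₀ hδ0]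
         linear_combination this)
      | (rw [hδq] at hcδ; linear_combination hcδ)
      | (rw [hmulq]; linear_combination (c * c ^ q) * hN2)
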