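import Mathlib
import Cfsg.Agent.Helper21.S5949IRR
import Cfsg.Agent.Helper21.S5949Basic
import Cfsg.Agent.Helper21.S5950SEMI

set_option autoImplicit false
set_option linter.style.haveILetI false

/-! S5965 piece CENTDET: a semisimple endomorphism `x` (`x ^ r = z • 1`, `r ≠ 0` in `F`, `z ≠ 0`) of a
non-zero finite-dimensional space over a finite field commutes with an endomorphism of any prescribed
determinant. -/

namespace Cfsg.Agent.S5965P

open Polynomial Cfsg.Agent.S5949P

namespace CENTDET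

variable {F V : Type*} [Field F] [AddCommGroup V] [Module F V]

/-- some irreducible polynomial in `x` kills a non-zero vector -/
theorem exists_irreducible_vec [FiniteDimensional F V] (x : Module.End F V)
    (hV : 0 < Module.finrank F V) :
    ∃ g : F[X], Irreducible g ∧ g.Monic ∧ ∃ w : V, w ≠ 0 ∧ aeval x g w = 0 := by
  haveI : Nontrivial V := Module.nontrivial_of_finrank_pos hV
  have hnu : ¬ IsUnit (minpoly F x) := minpoly.not_isUnit F x
  obtain ⟨g, hgm, hgi, h, hh⟩ := exists_monic_irreducible_factor (minpoly F x) hnu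
  have hint : IsIntegral F x := Algebra.IsIntegral.isIntegral x
  have hmm : (minpoly F x).Monic := minpoly.monic hint
  have hhm : h.Monic := by
    rw [hh] at hmm
    exact hgm.of_mul_monic_left hmm
  have hne : aeval x h ≠ 0 := by
    intro h0
    have h1 := natDegree_le_natDegree (minpoly.min F x hhm h0)
    rw [hh, hgm.natDegree_mul hhm] at h1
    have h2 : 0 < g.natDegree := hgi.natDegree_pos
    omega
  obtain ⟨v, hv⟩ : ∃ v, aeval x h v ≠ 0 := by
    by_contra hcon
    push Not at hcon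
    exact hne (LinearMap.ext hcon)
  refine ⟨g, hgi, hgm, aeval x h v, hv, ?_⟩
  rw [← Module.End.mul_apply, ← map_mul, ← hh, minpoly.aeval]
  rfl

/-- the general form: `x ^ r = z • 1` -/
theorem main [Finite F] [FiniteDimensional F V] (r : ℕ) (hr : (r : F) ≠ 0) (z : F) (hz : z ≠ 0)
    (x : Module.End F V) (hx : x ^ r = z • (1 : Module.End F V))
    (hV : 0 < Module.finrank F V) (δ : F) :
    ∃ c : Module.End F V, c * x = x * c ∧ LinearMap.det c = δ := by
  obtain ⟨g, hgi, hgm, w, hw0, hgw⟩ := exists_irreducible_vec x hV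
  haveI : Fact (Irreducible g) := ⟨hgi⟩
  have hg0 : g ≠ 0 := hgi.ne_zero
  haveI : Module.Finite F (AdjoinRoot g) := (AdjoinRoot.powerBasis hg0).finite
  haveI : Finite (AdjoinRoot g) := Module.finite_of_finite F
  -- `U = ker g(x)`
  have hcomm : ∀ v, aeval x g (x v) = x (aeval x g v) := by
    intro v
    have h1 : aeval x (g * X) = aeval x (X * g) := by rw [mul_comm]
    rw [map_mul, map_mul, aeval_X] at h1
    have h2 := LinearMap.congr_fun h1 v
    simpa [Module.End.mul_apply] using h2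
  have hU : ∀ v ∈ LinearMap.ker (aeval x g), x v ∈ LinearMap.ker (aeval x g) := by
    intro v hv
    rw [LinearMap.mem_ker] at hv ⊢
    rw [hcomm, hv, map_zero]
  have hgU : aeval (x.restrict hU) g = 0 :=
    Basic.aeval_restrict_eq_zero x _ hU g (fun v hv => hv)
  obtain ⟨φ, hφ⟩ : ∃ φ : AdjoinRoot g →ₐ[F] Module.End F (LinearMap.ker (aeval x g)),
      φ (AdjoinRoot.root g) = x.restrict hU := ⟨IRR.phi _ g hgU, IRR.phi_root _ g hgU⟩
  obtain ⟨wU, hwU⟩ : ∃ wU : LinearMap.ker (aeval x g), (wU : V) = w := ⟨⟨w, hgw⟩, rfl⟩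
  -- the embedding `K → V`
  let ψ : AdjoinRoot g →ₗ[F] V :=
    (LinearMap.ker (aeval x g)).subtype ∘ₗ (LinearMap.applyₗ wU) ∘ₗ φ.toLinearMap
  have hψ : ∀ β, ψ β = ((φ β) wU : V) := fun β => rfl
  have hψinj : Function.Injective ψ := by
    rw [← LinearMap.ker_eq_bot, LinearMap.ker_eq_bot']
    intro β hβ
    by_contra hne
    rw [hψ] at hβ
    have h1 : (φ β) wU = 0 := Subtype.ext hβ
    have h2 : (φ (β⁻¹ * β)) wU = 0 := by
      rw [map_mul, Module.End.mul_apply, h1, map_zero]
    rw [inv_mul_cancel₀ hne, map_one, Module.End.one_apply] at h2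
    apply hw0
    rw [← hwU, h2]
    rfl
  have hxψ : ∀ β, x (ψ β) = ψ (AdjoinRoot.root g * β) := by
    intro β
    rw [hψ, hψ, map_mul, hφ, Module.End.mul_apply]
    rfl
  have hW₀ : (LinearMap.range ψ).map x ≤ LinearMap.range ψ := by
    rintro _ ⟨_, ⟨β, rfl⟩, rfl⟩
    exact ⟨_, (hxψ β).symm⟩
  obtain ⟨W₁, hcompl, hW₁⟩ := exists_invariant_compl x r z hz hr hx _ hW₀
  have hW₁' : ∀ v ∈ W₁, x v ∈ W₁ := fun v hv => hW₁ ⟨v, hv, rfl⟩
  -- the decomposition `K × W₁ ≃ V`
  have hbij : Function.Bijective (ψ.coprod W₁.subtype) := by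
    constructor
    · rw [← LinearMap.ker_eq_bot, LinearMap.ker_coprod_of_disjoint_range]
      · rw [LinearMap.ker_eq_bot.mpr hψinj, Submodule.ker_subtype, Submodule.prod_bot]
      · rw [Submodule.range_subtype]
        exact hcompl.disjoint
    · rw [← LinearMap.range_eq_top, LinearMap.range_coprod, Submodule.range_subtype]
      exact hcompl.sup_eq_top
  let E : (AdjoinRoot g × W₁) ≃ₗ[F] V := LinearEquiv.ofBijective _ hbij
  have hE : ∀ t : AdjoinRoot g × W₁, E t = ψ t.1 + (t.2 : V) := fun t => by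
    show (ψ.coprod W₁.subtype) t = _
    rw [LinearMap.coprod_apply]
    rfl
  have hxE : ∀ t : AdjoinRoot g × W₁,
      x (E t) = E (AdjoinRoot.root g * t.1, ⟨x t.2, hW₁' _ t.2.2⟩) := by
    intro t
    rw [hE, hE, map_add, hxψ]
  obtain ⟨β, hβ⟩ := FiniteField.norm_surjective F (AdjoinRoot g) δ
  let c₀ : Module.End F (AdjoinRoot g × W₁) :=
    LinearMap.prodMap (LinearMap.mulLeft F β) LinearMap.id
  have hc₀ : ∀ t, c₀ t = (β * t.1, t.2) := fun t => rfl
  refine ⟨(E : _ →ₗ[F] V) ∘ₗ c₀ ∘ₗ (E.symm : V →ₗ[F] _), ?_, ?_⟩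
  · apply LinearMap.ext
    intro v
    obtain ⟨t, rfl⟩ := E.surjective v
    simp only [Module.End.mul_apply, LinearMap.comp_apply, LinearEquiv.coe_coe]
    rw [hxE, E.symm_apply_apply, E.symm_apply_apply, hc₀, hc₀, hxE]
    simp only [mul_left_comm]
  · rw [LinearMap.det_conj, LinearMap.det_prodMap, LinearMap.det_id, mul_one, ← hβ,
      Algebra.norm_apply]
    congr 1

end CENTDET

/-- CENTDET -/
theorem exists_commute_det {F V : Type*} [Field F] [Fintype F] [AddCommGroup V] [Module F V]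
    [FiniteDimensional F V] (r : ℕ) (hr : (r : F) ≠ 0)
    (x : Module.End F V) (hx : x ^ r = 1) (hV : 0 < Module.finrank F V) (δ : F) (hδ : δ ≠ 0) :
    ∃ c : Module.End F V, c * x = x * c ∧ LinearMap.det c = δ := by
  have _ := hδ
  exact CENTDET.main r hr 1 one_ne_zero x (by rw [hx, one_smul]) hV δ

end Cfsg.Agent.S5965P
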