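import Mathlib
import Cfsg.Agent.Helper27.S0429Defs
import Cfsg.Prelude.Def_Sporadic_a

/-! s0429pieces rows PT15 and PTFAR (helper6): the points of `(a, x)` are the 15 neighbours of `x` other than `a`, and they
are far from `a` (the graph is triangle-free). -/

set_option autoImplicit false

namespace Cfsg.Agent.S0429P

open Cfsg.Agent.S0429P Finset

variable {V : Type*} [Fintype V] [DecidableEq V] {G : SimpleGraph V} [DecidableRel G.Adj]

/-- PT15 (S). -/
theorem PT15 (h : G.IsSRGWith 77 16 0 4) {a x : V} (hax : G.Adj a x) : (Pt G a x).card = 15 := by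
  have ha : a ∈ G.neighborFinset x := by
    rw [SimpleGraph.mem_neighborFinset]
    exact hax.symm
  unfold Pt
  rw [Finset.card_erase_of_mem ha, card_nb h]

/-- PTFAR (S). -/
theorem PTFAR (h : G.IsSRGWith 77 16 0 4) {a x u : V} (hax : G.Adj a x) (hu : u ∈ Pt G a x) : Far G a u := by
  obtain ⟨hne, hxu⟩ := mem_Pt.mp hu
  exact ⟨hne, nadj_of_common h hax.symm hxu⟩

end Cfsg.Agent.S0429P
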