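import Cfsg.Agent.Helper28.S5700LOCA

set_option autoImplicit false
set_option linter.unusedSectionVars false
set_option linter.unusedVariables false

namespace Cfsg.Agent.S5700P

open Matrix Module Cfsg.Agent.Helper28.Sg Cfsg.Agent.Helper28.Spin Cfsg.Agent.Helper12.OrthGen

variable {F : Type*} [Field F] [Fintype F] {ι : Type} [Fintype ι] [DecidableEq ι]
  {Q : QuadraticForm F (ι → F)} {J : Matrix ι ι F} {t p : F}

theorem LOCA2.mem (U : UData Q J t p) (hQ : (QuadraticMap.polarBilin Q).Nondegenerate)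
    (hn : 14 ≤ Fintype.card ι) (M : Subgroup ↥(Cfsg.isometryGroup F ⇑Q)) (hM : KPt J M)
    {b : ι → F} (hb : Q b = 0) {v u : ι → F} (hv : Q v = 0) (hvb : hperp Q J v b)
    (hvR : v ∈ RR M b hb) (hu : Q u = 0) (hub : hperp Q J u b) (hvu : ¬ hperp Q J v u) :
    u ∈ RR M b hb := by
  have hu'R : B Q u v • J *ᵥ u - B Q (J *ᵥ u) v • u ∈ RR M b hb := RR_tau U hM hvR hu hub
  set u' := B Q u v • J *ᵥ u - B Q (J *ᵥ u) v • u with hu'
  have hu'eq : u' = (-(B Q (J *ᵥ u) v)) • u + (B Q u v) • J *ᵥ u := by rw [hu']; module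
  have hKu' : InK J u u' := ⟨_, _, hu'eq⟩
  have hu'Q : Q u' = 0 := hKu'.Q_eq_zero U hu
  have hu'b : hperp Q J u' b := hub.of_InK_left U hKu'
  have hab : ¬ (B Q (J *ᵥ u) v = 0 ∧ -(B Q u v) = 0) := by
    rintro ⟨h1, h2⟩
    apply hvu
    apply hperp.symm U
    exact ⟨by linear_combination -h2, h1⟩
  have hD := U.norm_ne_zero hab
  have hJu' : B Q (J *ᵥ u') v = p * (B Q u v) * (B Q u v) + t * (B Q u v) * (B Q (J *ᵥ u) v)
      - (B Q (J *ᵥ u) v) * (B Q (J *ᵥ u) v) := by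
    rw [hu'eq, U.J_comb, B_add_left, B_smul_left, B_smul_left]
    ring
  have hnu'v : ¬ hperp Q J u' v := by
    intro h
    apply hD
    have := h.2
    rw [hJu'] at this
    linear_combination -this
  have hu'0 : u' ≠ 0 := by
    intro h0
    apply hnu'v
    rw [h0]; exact hperp.zero_left v
  have hJR : J *ᵥ u' ∈ RR M b hb := LOCA.J_mem U hQ hn M hM hb hu'Q hu'b hu'R hv hvb hnu'v
  obtain ⟨c, d, hcd⟩ := hKu'.symm U hu'0
  rw [hcd]
  exact (RR M b hb).add_mem ((RR M b hb).smul_mem c hu'R) ((RR M b hb).smul_mem d hJR)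

end Cfsg.Agent.S5700P
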