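import Cfsg.Agent.Helper5.S0518Defs

/-!
# S0518, piece LT2 (board `s0518pieces`, driver helper5)

`T < S`: `N = N_G(Z(T))`, `Z(T) = Q₁ ∩ Q₂`, has order 32, lies in `S`, normalizes `T` and centralizes `z`.
-/

set_option autoImplicit false

universe u

namespace Cfsg.Agent.S0518P

open Cfsg Subgroup

variable {G : Type u} [Group G]

/-- proper subgroups of finite 2-groups have bigger normalizers -/
theorem LT2_aux_exists_normalizer [Finite G] {T S : Subgroup G} (hS : IsPGroup 2 ↥S) (hTS : T ≤ S)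
    (hne : T ≠ S) : ∃ u ∈ S, u ∈ normalizer (T : Set G) ∧ u ∉ T := by
  have hp2 : Fact (Nat.Prime 2) := ⟨Nat.prime_two⟩
  have hnil : Group.IsNilpotent ↥S := hS.isNilpotent
  have hnc : NormalizerCondition ↥S := Group.normalizerCondition_of_isNilpotent
  have hlt : T.subgroupOf S < ⊤ := by
    rw [lt_top_iff_ne_top]
    intro h
    apply hne
    apply le_antisymm hTS
    rwa [Subgroup.subgroupOf_eq_top] at h
  have h1 := hnc _ hlt
  obtain ⟨u, huN, huT⟩ := SetLike.exists_of_lt h1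
  refine ⟨u, u.2, ?_, ?_⟩
  · rw [Subgroup.mem_normalizer_iff]
    rw [Subgroup.mem_normalizer_iff] at huN
    intro g
    constructor
    · intro hg
      have := (huN ⟨g, hTS hg⟩).1 (by rw [Subgroup.mem_subgroupOf]; exact hg)
      rw [Subgroup.mem_subgroupOf] at this
      simpa using this
    · intro hg
      have hgS : g ∈ S := by
        have h2 : (u : G)⁻¹ * ((u : G) * g * (u : G)⁻¹) * (u : G) ∈ S :=
          S.mul_mem (S.mul_mem (S.inv_mem u.2) (hTS hg)) u.2
        have h3 : (u : G)⁻¹ * ((u : G) * g * (u : G)⁻¹) * (u : G) = g := by group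
        rwa [h3] at h2
      have := (huN ⟨g, hgS⟩).2 (by rw [Subgroup.mem_subgroupOf]; simpa using hg)
      rw [Subgroup.mem_subgroupOf] at this
      simpa using this
  · intro hu
    apply huT
    rw [Subgroup.mem_subgroupOf]
    exact hu

/-- `T < S`: `N = N_G(Z(T))` has order 32, lies in `S`, normalizes `T`, centralizes `z` -/
theorem LT2 [Finite G] {C : Cfg G} {z : G} (d : TData C z) (S : Sylow 2 G) (hTS : C.T ≤ (S : Subgroup G))
    (hne : C.T ≠ (S : Subgroup G)) :
    C.N ≤ (S : Subgroup G) ∧ Nat.card ↥C.N = 32 ∧ C.T ≤ C.N ∧ C.N ≤ normalizer (C.T : Set G) ∧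
      ∀ n ∈ C.N, n * z * n⁻¹ = z := by
  classical
  obtain ⟨hb, h0, h1, h2, h3⟩ := d
  set Z : Subgroup G := C.Q₁ ⊓ C.Q₂ with hZ
  have hNdef : C.N = normalizer (Z : Set G) := rfl
  -- `z ∈ Z`
  have hV₁Q : C.V₁ ≤ C.Q₁ := by rw [hb.b₁.V_eq]; exact inf_le_left
  have hV₂Q : C.V₂ ≤ C.Q₂ := by rw [hb.b₂.V_eq]; exact inf_le_left
  have hzZ : z ∈ Z := ⟨hV₁Q h2.z_mem₁, hV₂Q h2.z_mem₂⟩
  have hc₁Z : C.c₁ ∈ Z := h1.c₁_mem
  -- conjugation by elements of `N` preserves `Z`
  have hconj : ∀ n ∈ C.N, ∀ x ∈ Z, n * x * n⁻¹ ∈ Z := by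
    intro n hn x hx
    rw [hNdef, Subgroup.mem_normalizer_iff] at hn
    exact (hn x).1 hx
  -- Step A
  have hA : ∀ n ∈ C.N, n * z * n⁻¹ = z := by
    intro n hn
    rcases h2.inf_Q _ (hconj n hn z hzZ) with h | h | h | h
    · exfalso
      apply h2.z_ne
      have : z = n⁻¹ * (n * z * n⁻¹) * n := by group
      rw [this, h]; group
    · exact h
    · exfalso
      apply h3.not_conj₁ n⁻¹
      rw [← h]; group
    · exfalso
      apply h3.not_conj₂ n⁻¹
      rw [← h]; group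
  -- Step B
  have hB : C.T ≤ C.N := by
    intro t ht
    rw [hNdef, Subgroup.mem_normalizer_iff]
    intro x
    constructor
    · intro hx
      have := h1.central x hx t ht
      have e : t * x * t⁻¹ = x := by rw [this, mul_inv_cancel_right]
      rw [e]; exact hx
    · intro hx
      have hcomm := h1.central _ hx t⁻¹ (C.T.inv_mem ht)
      have e : x = t * x * t⁻¹ := by
        calc x = t⁻¹ * (t * x * t⁻¹) * t := by group
          _ = (t * x * t⁻¹) * t⁻¹ * t := by rw [hcomm]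
          _ = t * x * t⁻¹ := by group
      rw [e]; exact hx
  -- Step C
  have hC : ∀ n ∈ C.N, n ∈ C.P₁ → n ∈ C.T := by
    intro n hn hnP
    apply h3.cent_z₁ n hnP
    have := hA n hn
    calc n * z = (n * z * n⁻¹) * n := by group
      _ = z * n := by rw [this]
  -- Step D
  have hD : ∀ n ∈ C.N, n ∉ C.T → n * C.c₁ * n⁻¹ = C.c₂ := by
    intro n hn hnT
    rcases h2.inf_Q _ (hconj n hn C.c₁ hc₁Z) with h | h | h | h
    · exfalso
      apply hb.b₁.c_ne
      have : C.c₁ = n⁻¹ * (n * C.c₁ * n⁻¹) * n := by group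
      rw [this, h]; group
    · exfalso
      exact h3.not_conj₁ n h
    · exfalso
      apply hnT
      apply hC n hn
      apply h0.cent_c₁
      calc n * C.c₁ = (n * C.c₁ * n⁻¹) * n := by group
        _ = C.c₁ * n := by rw [h]
    · exact h
  -- Step E
  obtain ⟨u, huS, huT, hunT⟩ := LT2_aux_exists_normalizer (S.isPGroup') hTS hne
  have hnormZ : ∀ g ∈ normalizer (C.T : Set G), ∀ x ∈ Z, g * x * g⁻¹ ∈ Z := by
    intro g hg x hx
    apply h1.cent_T
    intro t ht
    rw [Subgroup.mem_normalizer_iff] at hg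
    have ht' : g⁻¹ * t * g ∈ C.T := by
      rw [hg (g⁻¹ * t * g)]
      have : g * (g⁻¹ * t * g) * g⁻¹ = t := by group
      rw [this]; exact ht
    have := h1.central x hx _ ht'
    calc t * (g * x * g⁻¹) = g * ((g⁻¹ * t * g) * x) * g⁻¹ := by group
      _ = g * (x * (g⁻¹ * t * g)) * g⁻¹ := by rw [this]
      _ = g * x * g⁻¹ * t := by group
  have huN : u ∈ C.N := by
    rw [hNdef, Subgroup.mem_normalizer_iff]
    intro x
    constructor
    · exact hnormZ u huT x
    · intro hx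
      have := hnormZ u⁻¹ (Subgroup.inv_mem _ huT) _ hx
      have e : u⁻¹ * (u * x * u⁻¹) * u⁻¹⁻¹ = x := by group
      rwa [e] at this
  have huc : u * C.c₁ * u⁻¹ = C.c₂ := hD u huN hunT
  -- Step F
  have hF : ∀ n ∈ C.N, n ∉ C.T → u⁻¹ * n ∈ C.T := by
    intro n hn hnT
    have hun : u⁻¹ * n ∈ C.N := C.N.mul_mem (C.N.inv_mem huN) hn
    apply hC _ hun
    apply h0.cent_c₁
    have e1 := hD n hn hnT
    have e2 : n * C.c₁ = C.c₂ * n := by
      calc n * C.c₁ = (n * C.c₁ * n⁻¹) * n := by group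
        _ = C.c₂ * n := by rw [e1]
    have e3 : u⁻¹ * C.c₂ = C.c₁ * u⁻¹ := by
      rw [← huc]; group
    calc u⁻¹ * n * C.c₁ = u⁻¹ * (n * C.c₁) := by group
      _ = u⁻¹ * (C.c₂ * n) := by rw [e2]
      _ = (u⁻¹ * C.c₂) * n := by group
      _ = C.c₁ * u⁻¹ * n := by rw [e3]
      _ = C.c₁ * (u⁻¹ * n) := by group
  -- Step G
  have hdecomp : ∀ n ∈ C.N, n ∈ C.T ∨ ∃ t ∈ C.T, n = u * t := by
    intro n hn
    by_cases hnT : n ∈ C.T
    · exact Or.inl hnT
    · exact Or.inr ⟨u⁻¹ * n, hF n hn hnT, by group⟩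
  have hNS : C.N ≤ (S : Subgroup G) := by
    intro n hn
    rcases hdecomp n hn with h | ⟨t, ht, rfl⟩
    · exact hTS h
    · exact Subgroup.mul_mem _ huS (hTS ht)
  have hNT : C.N ≤ normalizer (C.T : Set G) := by
    intro n hn
    rcases hdecomp n hn with h | ⟨t, ht, rfl⟩
    · exact Subgroup.le_normalizer h
    · exact Subgroup.mul_mem _ huT (Subgroup.le_normalizer ht)
  -- the order
  have hidx : (C.T.subgroupOf C.N).index = 2 := by
    rw [Subgroup.index_eq_two_iff]
    refine ⟨⟨u, huN⟩, ?_⟩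
    intro b
    simp only [Subgroup.mem_subgroupOf, Subgroup.coe_mul]
    by_cases hbT : (b : G) ∈ C.T
    · refine Or.inr ⟨hbT, ?_⟩
      intro hbu
      apply hunT
      have : u = (b : G)⁻¹ * ((b : G) * u) := by group
      rw [this]
      exact C.T.mul_mem (C.T.inv_mem hbT) hbu
    · refine Or.inl ⟨?_, hbT⟩
      have hb' : (b : G)⁻¹ ∉ C.T := fun h => hbT (by simpa using C.T.inv_mem h)
      have := hF _ (C.N.inv_mem b.2) hb'
      have e : (b : G) * u = (u⁻¹ * (b : G)⁻¹)⁻¹ := by group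
      rw [e]
      exact C.T.inv_mem this
  have hcardT : Nat.card ↥(C.T.subgroupOf C.N) = 16 := by
    rw [Nat.card_congr (Subgroup.subgroupOfEquivOfLe hB).toEquiv]
    exact hb.b₁.card_T
  have hcard : Nat.card ↥C.N = 32 := by
    have := Subgroup.card_mul_index (C.T.subgroupOf C.N)
    rw [hidx, hcardT] at this
    omega
  exact ⟨hNS, hcard, hB, hNT, hA⟩

end Cfsg.Agent.S0518P
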