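import Mathlib
import Cfsg.Prelude.Def_GeometricClasses
import Cfsg.Prelude.Def_Classical
import Cfsg.Prelude.Def_LieClassical
import Cfsg.Agent.Helper23.S5984Defs
import Cfsg.Agent.Helper23.S5984SWAPSMALL
import Cfsg.Agent.Helper28.UPair5
import Cfsg.Agent.Helper28.GU
set_option autoImplicit false

/-! Dual bases of a polar pair (unitary case) and the matrices built from them.
Support file for the pieces EMB and TRANS of S5984. -/

open scoped MatrixGroups Matrix
namespace Cfsg.Agent.S5984P.DUAL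
open Cfsg.Agent.S2644 Cfsg.Agent.Helper2.SUGen Cfsg.Agent.Helper28.UPair Module Matrix

variable {K : Type*} [Field K] {q n : ℕ}

local notation "h" => Cfsg.hermForm n K q

variable {A B A' B' : Submodule K (Fin n → K)}

/-- dual bases of a polar pair -/
structure DB (q : ℕ) (A B : Submodule K (Fin n → K)) (k : ℕ) where
  e : Fin k → Fin n → K
  f : Fin k → Fin n → K
  heA : ∀ i, e i ∈ A
  hfB : ∀ i, f i ∈ B
  hef : ∀ i j, Cfsg.hermForm n K q (e i) (f j) = if i = j then 1 else 0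
  hfe : ∀ i j, Cfsg.hermForm n K q (f j) (e i) = if i = j then 1 else 0
  hee : ∀ i j, Cfsg.hermForm n K q (e i) (e j) = 0
  hff : ∀ i j, Cfsg.hermForm n K q (f i) (f j) = 0
  hcomp : ∀ z : Fin n → K,
    z = ∑ i, Cfsg.hermForm n K q z (f i) • e i + ∑ i, Cfsg.hermForm n K q z (e i) • f i
  hA0 : ∀ a ∈ A, ∀ i, Cfsg.hermForm n K q a (e i) = 0
  hB0 : ∀ b ∈ B, ∀ i, Cfsg.hermForm n K q b (f i) = 0

theorem lp_even (D : Frob K q) (hL : LP q A B) : n = 2 * finrank K A := by
  classical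
  have hA : A ≤ perpL q A := fun a ha x hx => hL.isoA a ha x hx
  have hB : B ≤ perpL q B := fun b hb x hx => hL.isoB b hb x hx
  have h1 := finrank_perpL D A
  have h2 := finrank_perpL D B
  have h3 := Submodule.finrank_mono hA
  have h4 := Submodule.finrank_mono hB
  have htop : A ⊔ B = ⊤ := by
    rw [eq_top_iff]
    intro x _
    obtain ⟨a, ha, b, hb, rfl⟩ := hL.dec x
    exact Submodule.add_mem_sup ha hb
  have h5 := Submodule.finrank_sup_add_finrank_inf_eq A B
  rw [htop, finrank_top, Module.finrank_fin_fun] at h5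
  have h6 : Module.finrank K (A ⊓ B : Submodule K (Fin n → K)) = 0 := by
    have : A ⊓ B = ⊥ := by
      rw [eq_bot_iff]
      rintro x ⟨hxA, hxB⟩
      exact hL.disj D hxA hxB
    rw [this, finrank_bot]
  omega

theorem exists_db (D : Frob K q) {k : ℕ} (hL : LP q A B) (hA : finrank K A = k)
    (hB : finrank K B = k) : Nonempty (DB q A B k) := by
  classical
  have : Module.Finite K A := Module.Finite.of_injective A.subtype Subtype.val_injective
  set bA : Basis (Fin k) K A := Module.finBasisOfFinrankEq K A hA with hbA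
  set e : Fin k → (Fin n → K) := fun i => (bA i : Fin n → K) with he
  have heA : ∀ i, e i ∈ A := fun i => (bA i).2
  have hsumA : ∀ a : A, (a : Fin n → K) = ∑ i, bA.repr a i • e i := by
    intro a
    conv_lhs => rw [← bA.sum_repr a]
    rw [Submodule.coe_sum]
    rfl
  let Ψ : B →ₗ[K] (Fin k → K) :=
    { toFun := fun b i => h (b : Fin n → K) (e i)
      map_add' := by
        intro a b
        funext i
        simp only [Submodule.coe_add, h_add_left, Pi.add_apply]
      map_smul' := by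
        intro c a
        funext i
        simp only [Submodule.coe_smul, h_smul_left, RingHom.id_apply, Pi.smul_apply, smul_eq_mul] }
  have hΨa : ∀ (b : B) i, Ψ b i = h (b : Fin n → K) (e i) := fun b i => rfl
  have hinj : Function.Injective Ψ := by
    rw [← LinearMap.ker_eq_bot, LinearMap.ker_eq_bot']
    intro b hb
    apply Subtype.ext
    apply hL.disj D _ b.2
    apply hL.perp_mem D
    intro a ha
    apply h_symm_zero D
    rw [show (a : Fin n → K) = ∑ i, bA.repr ⟨a, ha⟩ i • e i from hsumA ⟨a, ha⟩, h_sum_left]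
    apply Finset.sum_eq_zero
    intro i _
    rw [h_smul_left, h_symm_zero D (show h (b : Fin n → K) (e i) = 0 by rw [← hΨa, hb]; rfl),
      mul_zero]
  set Ψe : B ≃ₗ[K] (Fin k → K) := LinearMap.linearEquivOfInjective Ψ hinj (by rw [hB]; simp)
    with hΨe
  set f : Fin k → (Fin n → K) := fun j => ((Ψe.symm (Pi.single j 1) : B) : Fin n → K) with hf
  have hfB : ∀ j, f j ∈ B := fun j => (Ψe.symm (Pi.single j 1)).2
  have hfe : ∀ i j, h (f j) (e i) = if i = j then 1 else 0 := by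
    intro i j
    have h1 : Ψe (Ψe.symm (Pi.single j 1)) i = (Pi.single j (1 : K) : Fin k → K) i := by
      rw [LinearEquiv.apply_symm_apply]
    rw [Pi.single_apply] at h1
    rw [← h1]
    rfl
  have hef : ∀ i j, h (e i) (f j) = if i = j then 1 else 0 := by
    intro i j
    rw [← h_conj D, hfe]
    split_ifs <;> simp
  have hee : ∀ i j, h (e i) (e j) = 0 := fun i j => hL.isoA _ (heA i) _ (heA j)
  have hff : ∀ i j, h (f i) (f j) = 0 := fun i j => hL.isoB _ (hfB i) _ (hfB j)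
  have hsumB : ∀ b : B, (b : Fin n → K) = ∑ j, Ψe b j • f j := by
    intro b
    have h1 : Ψe b = ∑ j, Ψe b j • (Pi.single j (1 : K) : Fin k → K) := by
      funext i
      simp [Finset.sum_apply, Pi.single_apply]
    have h2 : b = ∑ j, Ψe b j • Ψe.symm (Pi.single j (1 : K)) := by
      apply Ψe.injective
      rw [map_sum]
      simp only [map_smul, LinearEquiv.apply_symm_apply]
      exact h1
    conv_lhs => rw [h2]
    rw [Submodule.coe_sum]
    rfl
  have hcomp : ∀ z : Fin n → K, z = ∑ i, h z (f i) • e i + ∑ i, h z (e i) • f i := by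
    intro z
    obtain ⟨a, ha, b, hb, rfl⟩ := hL.dec z
    have h1 : ∀ i, h (a + b) (f i) = bA.repr ⟨a, ha⟩ i := by
      intro i
      rw [h_add_left, hL.isoB b hb _ (hfB i), add_zero]
      have haeq := hsumA ⟨a, ha⟩
      conv_lhs => rw [show (a : Fin n → K) = ∑ j, bA.repr ⟨a, ha⟩ j • e j from haeq]
      rw [h_sum_left]
      simp only [h_smul_left, hef, mul_ite, mul_one, mul_zero]
      rw [Finset.sum_ite_eq' Finset.univ i]
      simp
    have h2 : ∀ i, h (a + b) (e i) = Ψe ⟨b, hb⟩ i := by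
      intro i
      rw [h_add_left, hL.isoA a ha _ (heA i), zero_add]
      rfl
    simp only [h1, h2]
    rw [← hsumA ⟨a, ha⟩, ← hsumB ⟨b, hb⟩]
  exact ⟨{ e := e, f := f, heA := heA, hfB := hfB, hef := hef, hfe := hfe, hee := hee, hff := hff,
           hcomp := hcomp,
           hA0 := fun a ha i => hL.isoA a ha _ (heA i),
           hB0 := fun b hb i => hL.isoB b hb _ (hfB i) }⟩

variable {k : ℕ}

/-- the matrix with columns `e_i`, `f_i` -/
def DB.P (d : DB q A B k) : Matrix (Fin n) (Fin k ⊕ Fin k) K :=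
  Matrix.of fun c s => Sum.elim d.e d.f s c

/-- the coordinate matrix `z ↦ (h z (f i), h z (e i))` -/
def DB.Q (d : DB q A B k) (D : Frob K q) : Matrix (Fin k ⊕ Fin k) (Fin n) K :=
  Matrix.of fun s c => D.σ (Sum.elim d.f d.e s c)

/-- the Gram matrix of a hyperbolic frame -/
def J (K : Type*) [Field K] (k : ℕ) : Matrix (Fin k ⊕ Fin k) (Fin k ⊕ Fin k) K :=
  Matrix.fromBlocks 0 1 1 0

theorem DB.Q_mulVec (d : DB q A B k) (D : Frob K q) (z : Fin n → K) (s : Fin k ⊕ Fin k) :
    (d.Q D *ᵥ z) s = h z (Sum.elim d.f d.e s) := by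
  simp only [Matrix.mulVec, dotProduct, DB.Q, Matrix.of_apply, Cfsg.hermForm, D.pow]
  apply Finset.sum_congr rfl
  intro c _
  rw [mul_comm]

theorem DB.P_mulVec (d : DB q A B k) (w : Fin k ⊕ Fin k → K) :
    d.P *ᵥ w = ∑ i, w (Sum.inl i) • d.e i + ∑ i, w (Sum.inr i) • d.f i := by
  ext c
  simp only [Matrix.mulVec, dotProduct, DB.P, Matrix.of_apply, Fintype.sum_sum_type, Sum.elim_inl,
    Sum.elim_inr, Pi.add_apply, Finset.sum_apply, Pi.smul_apply, smul_eq_mul]
  congr 1 <;> (apply Finset.sum_congr rfl; intro i _; rw [mul_comm])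

theorem DB.PQ (d : DB q A B k) (D : Frob K q) : d.P * d.Q D = 1 := by
  apply mat_ext
  intro z
  rw [← mulVec_mulVec, one_mulVec, d.P_mulVec]
  simp only [d.Q_mulVec D, Sum.elim_inl, Sum.elim_inr]
  exact (d.hcomp z).symm

theorem DB.QP (d : DB q A B k) (D : Frob K q) : d.Q D * d.P = 1 := by
  ext s t
  rw [Matrix.mul_apply]
  have h1 : ∑ c, d.Q D s c * d.P c t = h (Sum.elim d.e d.f t) (Sum.elim d.f d.e s) := by
    simp only [DB.Q, DB.P, Matrix.of_apply, Cfsg.hermForm, D.pow]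
    apply Finset.sum_congr rfl
    intro c _
    rw [mul_comm]
  rw [h1]
  rcases s with i | i <;> rcases t with j | j
  · simp only [Sum.elim_inl, d.hef, Matrix.one_apply, Sum.inl.injEq, eq_comm]
  · simp only [Sum.elim_inl, Sum.elim_inr, d.hff, Matrix.one_apply, reduceCtorEq, if_false]
  · simp only [Sum.elim_inl, Sum.elim_inr, d.hee, Matrix.one_apply, reduceCtorEq, if_false]
  · simp only [Sum.elim_inr, d.hfe, Matrix.one_apply, Sum.inr.injEq]

theorem DB.gram (d : DB q A B k) (D : Frob K q) : d.Pᵀ * d.P.map D.σ = J K k := by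
  ext s t
  rw [Matrix.mul_apply]
  have h1 : ∑ c, d.Pᵀ s c * d.P.map D.σ c t = h (Sum.elim d.e d.f s) (Sum.elim d.e d.f t) := by
    simp only [DB.P, Matrix.of_apply, Cfsg.hermForm, D.pow, Matrix.transpose_apply,
      Matrix.map_apply]
  rw [h1]
  rcases s with i | i <;> rcases t with j | j
  · simp only [Sum.elim_inl, d.hee, J, Matrix.fromBlocks_apply₁₁, Matrix.zero_apply]
  · simp only [Sum.elim_inl, Sum.elim_inr, d.hef, J, Matrix.fromBlocks_apply₁₂, Matrix.one_apply]
  · simp only [Sum.elim_inl, Sum.elim_inr, d.hfe, J, Matrix.fromBlocks_apply₂₁, Matrix.one_apply,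
      eq_comm]
  · simp only [Sum.elim_inr, d.hff, J, Matrix.fromBlocks_apply₂₂, Matrix.zero_apply]

theorem DB.Qgram (d : DB q A B k) (D : Frob K q) :
    (d.Q D)ᵀ * J K k * (d.Q D).map D.σ = 1 := by
  calc (d.Q D)ᵀ * J K k * (d.Q D).map D.σ
      = (d.Q D)ᵀ * (d.Pᵀ * d.P.map D.σ) * (d.Q D).map D.σ := by rw [d.gram D]
    _ = ((d.Q D)ᵀ * d.Pᵀ) * (d.P.map D.σ * (d.Q D).map D.σ) := by
        simp only [Matrix.mul_assoc]
    _ = (d.P * d.Q D)ᵀ * (d.P * d.Q D).map D.σ := by
        rw [Matrix.transpose_mul, Matrix.map_mul]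
    _ = 1 := by
        rw [d.PQ D, Matrix.transpose_one, Matrix.map_one _ (map_zero _) (map_one _), Matrix.one_mul]

/-- the matrix `P' Y Q` is unitary when `Y` preserves the hyperbolic Gram matrix -/
theorem unitary_of (D : Frob K q) (d : DB q A B k) (d' : DB q A' B' k)
    (Y : Matrix (Fin k ⊕ Fin k) (Fin k ⊕ Fin k) K) (hY : Yᵀ * J K k * Y.map D.σ = J K k) :
    (d'.P * Y * d.Q D)ᵀ * (d'.P * Y * d.Q D).map D.σ = 1 := by
  calc (d'.P * Y * d.Q D)ᵀ * (d'.P * Y * d.Q D).map D.σ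
      = ((d.Q D)ᵀ * (Yᵀ * d'.Pᵀ)) * (d'.P.map D.σ * Y.map D.σ * (d.Q D).map D.σ) := by
        rw [Matrix.transpose_mul, Matrix.transpose_mul, Matrix.map_mul, Matrix.map_mul]
    _ = (d.Q D)ᵀ * (Yᵀ * (d'.Pᵀ * d'.P.map D.σ) * Y.map D.σ) * (d.Q D).map D.σ := by
        simp only [Matrix.mul_assoc]
    _ = (d.Q D)ᵀ * J K k * (d.Q D).map D.σ := by rw [d'.gram D, hY]
    _ = 1 := d.Qgram D

/-- block diagonal matrices preserving the hyperbolic Gram matrix -/
theorem blockY (D : Frob K q) (M N : Matrix (Fin k) (Fin k) K) (h1 : Mᵀ * N.map D.σ = 1)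
    (h2 : Nᵀ * M.map D.σ = 1) :
    (Matrix.fromBlocks M 0 0 N)ᵀ * J K k * (Matrix.fromBlocks M 0 0 N).map D.σ = J K k := by
  rw [Matrix.fromBlocks_transpose, Matrix.fromBlocks_map, J, Matrix.fromBlocks_multiply,
    Matrix.fromBlocks_multiply]
  simp only [Matrix.transpose_zero, Matrix.mul_zero, Matrix.zero_mul, Matrix.mul_one, add_zero,
    zero_add, Matrix.map_zero _ (map_zero D.σ), h1, h2]

theorem DB.memA_iff (d : DB q A B k) (D : Frob K q) (z : Fin n → K) :
    z ∈ A ↔ ∀ i, (d.Q D *ᵥ z) (Sum.inr i) = 0 := by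
  constructor
  · intro hz i
    rw [d.Q_mulVec D, Sum.elim_inr]
    exact d.hA0 z hz i
  · intro hz
    rw [d.hcomp z]
    have : ∀ i, h z (d.e i) = 0 := fun i => by
      have := hz i
      rwa [d.Q_mulVec D, Sum.elim_inr] at this
    simp only [this, zero_smul, Finset.sum_const_zero, add_zero]
    exact A.sum_mem fun i _ => A.smul_mem _ (d.heA i)

theorem DB.memB_iff (d : DB q A B k) (D : Frob K q) (z : Fin n → K) :
    z ∈ B ↔ ∀ i, (d.Q D *ᵥ z) (Sum.inl i) = 0 := by
  constructor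
  · intro hz i
    rw [d.Q_mulVec D, Sum.elim_inl]
    exact d.hB0 z hz i
  · intro hz
    rw [d.hcomp z]
    have : ∀ i, h z (d.f i) = 0 := fun i => by
      have := hz i
      rwa [d.Q_mulVec D, Sum.elim_inl] at this
    simp only [this, zero_smul, Finset.sum_const_zero, zero_add]
    exact B.sum_mem fun i _ => B.smul_mem _ (d.hfB i)

theorem coords_mul (D : Frob K q) (d : DB q A B k) (d' : DB q A' B' k)
    (Y : Matrix (Fin k ⊕ Fin k) (Fin k ⊕ Fin k) K) (z : Fin n → K) :
    d'.Q D *ᵥ ((d'.P * Y * d.Q D) *ᵥ z) = Y *ᵥ (d.Q D *ᵥ z) := by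
  rw [mulVec_mulVec, ← Matrix.mul_assoc, ← Matrix.mul_assoc, d'.QP D, Matrix.one_mul,
    ← mulVec_mulVec]

theorem map_memA (D : Frob K q) (d : DB q A B k) (d' : DB q A' B' k)
    (M N : Matrix (Fin k) (Fin k) K) {z : Fin n → K} (hz : z ∈ A) :
    (d'.P * Matrix.fromBlocks M 0 0 N * d.Q D) *ᵥ z ∈ A' := by
  rw [d'.memA_iff D]
  intro i
  rw [coords_mul, Matrix.fromBlocks_mulVec, Sum.elim_inr]
  have : (d.Q D *ᵥ z) ∘ Sum.inr = 0 := funext ((d.memA_iff D z).1 hz)
  rw [this]
  simp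

theorem map_memB (D : Frob K q) (d : DB q A B k) (d' : DB q A' B' k)
    (M N : Matrix (Fin k) (Fin k) K) {z : Fin n → K} (hz : z ∈ B) :
    (d'.P * Matrix.fromBlocks M 0 0 N * d.Q D) *ᵥ z ∈ B' := by
  rw [d'.memB_iff D]
  intro i
  rw [coords_mul, Matrix.fromBlocks_mulVec, Sum.elim_inl]
  have : (d.Q D *ᵥ z) ∘ Sum.inl = 0 := funext ((d.memB_iff D z).1 hz)
  rw [this]
  simp

end Cfsg.Agent.S5984P.DUAL
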