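import Mathlib
import Cfsg.Prelude.Def_GeometricClasses
import Cfsg.Prelude.Def_Classical
import Cfsg.Prelude.Def_LieClassical
import Cfsg.Agent.Helper23.S5984Defs
import Cfsg.Agent.Helper23.S5984SWAPSMALL
import Cfsg.Agent.Helper6.S5984DUAL
set_option autoImplicit false
open scoped MatrixGroups Matrix
namespace Cfsg.Agent.S5984P
open Cfsg.Agent.S2644 Cfsg.Agent.Helper2.SUGen Cfsg.Agent.Helper28.UPair

namespace EMB

variable {K : Type*} [Field K] {q k : ℕ}

/-- `M ↦ (σ(M)ᵀ)⁻¹` -/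
noncomputable def Nm (D : Frob K q) (M : Matrix (Fin k) (Fin k) K) : Matrix (Fin k) (Fin k) K :=
  ((M.map D.σ)ᵀ)⁻¹

theorem Nm_one (D : Frob K q) : Nm D (1 : Matrix (Fin k) (Fin k) K) = 1 := by
  unfold Nm
  rw [Matrix.map_one _ (map_zero _) (map_one _), Matrix.transpose_one, inv_one]

theorem Nm_mul (D : Frob K q) (M M' : Matrix (Fin k) (Fin k) K) :
    Nm D (M * M') = Nm D M * Nm D M' := by
  unfold Nm
  rw [Matrix.map_mul, Matrix.transpose_mul, Matrix.mul_inv_rev]

theorem det_map (D : Frob K q) (M : Matrix (Fin k) (Fin k) K) :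
    (M.map D.σ).det = D.σ M.det := by
  rw [RingHom.map_det]
  rfl

theorem map_map_self (D : Frob K q) (M : Matrix (Fin k) (Fin k) K) :
    (M.map D.σ).map D.σ = M := by
  ext i j
  simp only [Matrix.map_apply, D.invol]

theorem Nm_left (D : Frob K q) (M : Matrix (Fin k) (Fin k) K) (hM : M.det ≠ 0) :
    Mᵀ * (Nm D M).map D.σ = 1 := by
  have hu : IsUnit ((M.map D.σ)ᵀ).det := by
    rw [Matrix.det_transpose, det_map]
    exact isUnit_iff_ne_zero.mpr (σ_ne_zero D hM)
  have h1 : (M.map D.σ)ᵀ * Nm D M = 1 := Matrix.mul_nonsing_inv _ hu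
  have h2 := congrArg (fun X : Matrix (Fin k) (Fin k) K => X.map D.σ) h1
  simp only [Matrix.map_mul, Matrix.transpose_map, map_map_self,
    Matrix.map_one _ (map_zero D.σ) (map_one D.σ)] at h2
  exact h2

theorem Nm_right (D : Frob K q) (M : Matrix (Fin k) (Fin k) K) (hM : M.det ≠ 0) :
    (Nm D M)ᵀ * M.map D.σ = 1 := by
  have hu : IsUnit (M.map D.σ).det := by
    rw [det_map]
    exact isUnit_iff_ne_zero.mpr (σ_ne_zero D hM)
  unfold Nm
  rw [Matrix.transpose_nonsing_inv, Matrix.transpose_transpose]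
  exact Matrix.nonsing_inv_mul _ hu

end EMB

/-- EMB: `GL_k(q²)` embeds into the stabilizer of a polar pair in `GU_{2k}(q)` -/
theorem exists_gl_embedding {F : Type*} [Field F] [Fintype F] {q n : ℕ}
    (hF : Fintype.card F = q ^ 2) (k : ℕ) (hn : n = 2 * k) {A B : Submodule F (Fin n → F)}
    (hL : LP q A B) :
    ∃ φ : GL (Fin k) F →* GL (Fin n) F, Function.Injective φ ∧ ∀ M : GL (Fin k) F,
      Pres (q := q) ((φ M : GL (Fin n) F) : Matrix (Fin n) (Fin n) F) ∧
      (∀ a ∈ A, ((φ M : GL (Fin n) F) : Matrix (Fin n) (Fin n) F) *ᵥ a ∈ A) ∧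
      (∀ b ∈ B, ((φ M : GL (Fin n) F) : Matrix (Fin n) (Fin n) F) *ᵥ b ∈ B) := by
  classical
  obtain ⟨D⟩ := frobOf hF
  obtain ⟨hA, hB⟩ := lp_finrank hF hL k hn
  obtain ⟨d⟩ := DUAL.exists_db D hL hA hB
  let Y : Matrix (Fin k) (Fin k) F → Matrix (Fin k ⊕ Fin k) (Fin k ⊕ Fin k) F :=
    fun M => Matrix.fromBlocks M 0 0 (EMB.Nm D M)
  have hY1 : Y 1 = 1 := by
    show Matrix.fromBlocks 1 0 0 (EMB.Nm D 1) = 1
    rw [EMB.Nm_one, Matrix.fromBlocks_one]
  have hYmul : ∀ M M', Y (M * M') = Y M * Y M' := by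
    intro M M'
    show Matrix.fromBlocks (M * M') 0 0 (EMB.Nm D (M * M')) =
      Matrix.fromBlocks M 0 0 (EMB.Nm D M) * Matrix.fromBlocks M' 0 0 (EMB.Nm D M')
    rw [EMB.Nm_mul, Matrix.fromBlocks_multiply]
    simp only [Matrix.mul_zero, Matrix.zero_mul, add_zero, zero_add]
  let ψ : Matrix (Fin k) (Fin k) F →* Matrix (Fin n) (Fin n) F :=
    { toFun := fun M => d.P * Y M * d.Q D
      map_one' := by rw [hY1, Matrix.mul_one, d.PQ D]
      map_mul' := by
        intro M M'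
        rw [hYmul]
        calc d.P * (Y M * Y M') * d.Q D
            = d.P * Y M * (1 : Matrix (Fin k ⊕ Fin k) (Fin k ⊕ Fin k) F) * (Y M' * d.Q D) := by
              simp only [Matrix.mul_assoc, Matrix.one_mul]
          _ = d.P * Y M * (d.Q D * d.P) * (Y M' * d.Q D) := by rw [d.QP D]
          _ = d.P * Y M * d.Q D * (d.P * Y M' * d.Q D) := by
              simp only [Matrix.mul_assoc] }
  have hψ : ∀ M, ψ M = d.P * Y M * d.Q D := fun M => rfl
  have hback : ∀ M, d.Q D * ψ M * d.P = Y M := by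
    intro M
    rw [hψ]
    calc d.Q D * (d.P * Y M * d.Q D) * d.P
        = (d.Q D * d.P) * Y M * (d.Q D * d.P) := by simp only [Matrix.mul_assoc]
      _ = Y M := by rw [d.QP D, Matrix.one_mul, Matrix.mul_one]
  refine ⟨Units.map ψ, ?_, ?_⟩
  · intro M M' hMM
    have h1 : ψ (M : Matrix (Fin k) (Fin k) F) = ψ (M' : Matrix (Fin k) (Fin k) F) := by
      have := congrArg (fun g : GL (Fin n) F => (g : Matrix (Fin n) (Fin n) F)) hMM
      simpa only [Units.coe_map, MonoidHom.coe_coe] using this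
    have h3 : Y (M : Matrix (Fin k) (Fin k) F) = Y (M' : Matrix (Fin k) (Fin k) F) := by
      rw [← hback, h1, hback]
    have h4 := (Matrix.fromBlocks_inj.mp h3).1
    exact Units.ext h4
  · intro M
    have hcoe : ((Units.map ψ M : GL (Fin n) F) : Matrix (Fin n) (Fin n) F) =
        d.P * Y (M : Matrix (Fin k) (Fin k) F) * d.Q D := rfl
    have hM : (M : Matrix (Fin k) (Fin k) F).det ≠ 0 := by
      have := (Matrix.isUnit_iff_isUnit_det _).mp M.isUnit
      exact this.ne_zero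
    have hU := DUAL.unitary_of D d d _
      (DUAL.blockY D (M : Matrix (Fin k) (Fin k) F) (EMB.Nm D M) (EMB.Nm_left D _ hM)
        (EMB.Nm_right D _ hM))
    refine ⟨?_, ?_, ?_⟩
    · rw [hcoe]
      exact (Cfsg.Agent.Helper28.GUlib.preserves_iff D.σ D.pow _).mpr hU
    · intro a ha
      rw [hcoe]
      exact DUAL.map_memA D d d _ _ ha
    · intro b hb
      rw [hcoe]
      exact DUAL.map_memB D d d _ _ hb

end Cfsg.Agent.S5984P
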