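import Mathlib
import Cfsg.Prelude.Def_GeometricClasses
import Cfsg.Prelude.Def_Classical
import Cfsg.Prelude.Def_LieClassical
import Cfsg.Agent.Helper23.S5984Defs
import Cfsg.Agent.Helper23.S5984SWAPSMALL
import Cfsg.Agent.Helper28.UnitMax
import Cfsg.Agent.Helper6.S5984DUAL
set_option autoImplicit false
open scoped MatrixGroups Matrix
namespace Cfsg.Agent.S5984P
open Cfsg.Agent.S2644 Cfsg.Agent.Helper2.SUGen Cfsg.Agent.Helper28.UPair

/-- TRANS: `SU_n(q)` is transitive on ordered polar pairs -/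
theorem exists_map_pair {F : Type*} [Field F] [Fintype F] {q n : ℕ} (hF : Fintype.card F = q ^ 2)
    {A B A' B' : Submodule F (Fin n → F)} (hL : LP q A B) (hL' : LP q A' B') :
    ∃ g : GL (Fin n) F, g ∈ Cfsg.GU n F q ⊓ Cfsg.Geo.specialLinear (Fin n) F ∧
      A.map (Matrix.toLin' (g : Matrix (Fin n) (Fin n) F)) = A' ∧
      B.map (Matrix.toLin' (g : Matrix (Fin n) (Fin n) F)) = B' := by
  classical
  obtain ⟨D⟩ := frobOf hF
  obtain ⟨k, hk⟩ : ∃ k, k = Module.finrank F A := ⟨_, rfl⟩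
  have hn : n = 2 * k := by rw [hk]; exact DUAL.lp_even D hL
  obtain ⟨hA, hB⟩ := lp_finrank hF hL k hn
  obtain ⟨hA', hB'⟩ := lp_finrank hF hL' k hn
  by_cases hk0 : k = 0
  · have hn0 : n = 0 := by omega
    haveI : IsEmpty (Fin n) := by rw [hn0]; infer_instance
    haveI : Subsingleton (Submodule F (Fin n → F)) :=
      (Submodule.subsingleton_iff F).mpr inferInstance
    exact ⟨1, one_mem _, Subsingleton.elim _ _, Subsingleton.elim _ _⟩
  have hkpos : 0 < k := Nat.pos_of_ne_zero hk0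
  obtain ⟨d⟩ := DUAL.exists_db D hL hA hB
  obtain ⟨d'⟩ := DUAL.exists_db D hL' hA' hB'
  set g0 : Matrix (Fin n) (Fin n) F := d'.P * (Matrix.fromBlocks (1 : Matrix (Fin k) (Fin k) F) 0 0 1 :
      Matrix (Fin k ⊕ Fin k) (Fin k ⊕ Fin k) F) * d.Q D with hg0
  have hY : (Matrix.fromBlocks (1 : Matrix (Fin k) (Fin k) F) 0 0 1)ᵀ * DUAL.J F k *
      (Matrix.fromBlocks (1 : Matrix (Fin k) (Fin k) F) 0 0 1).map D.σ = DUAL.J F k := by
    apply DUAL.blockY D
    · rw [Matrix.transpose_one, Matrix.map_one _ (map_zero _) (map_one _), Matrix.one_mul]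
    · rw [Matrix.transpose_one, Matrix.map_one _ (map_zero _) (map_one _), Matrix.one_mul]
  have hU : g0ᵀ * g0.map D.σ = 1 := DUAL.unitary_of D d d' _ hY
  have hP0 : Pres (q := q) g0 := (Cfsg.Agent.Helper28.GUlib.preserves_iff D.σ D.pow g0).mpr hU
  have hd : g0.det * D.σ g0.det = 1 := by
    have h2 := Cfsg.Agent.Helper28.GUlib.det_pow_of_unitary D.σ D.pow g0 hU
    rw [D.pow, ← pow_succ']
    exact h2
  have hd0 : g0.det ≠ 0 := by
    intro h0
    rw [h0, zero_mul] at hd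
    exact zero_ne_one hd
  obtain ⟨l, hl0, hl⟩ := hilbert90 D (g0.det)⁻¹ (by
    rw [map_inv₀, ← mul_inv, hd, inv_one])
  have hσl0 : D.σ l ≠ 0 := σ_ne_zero D hl0
  set i0 : Fin k := ⟨0, hkpos⟩
  have H : HypPair q (d'.e i0) (d'.f i0) :=
    ⟨d'.hee i0 i0, d'.hff i0 i0, by rw [d'.hef]; simp, by rw [d'.hfe]; simp⟩
  set t : Matrix (Fin n) (Fin n) F := Dg q (d'.e i0) (d'.f i0) l (D.σ l)⁻¹ with ht
  have htP : Pres (q := q) t := Dg_pres D H l _ (by
    rw [map_inv₀, D.invol, mul_inv_cancel₀ hl0])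
  have htdet : t.det = (g0.det)⁻¹ := by
    rw [ht, det_Dg H]
    have h3 : l * (D.σ l)⁻¹ = (g0.det)⁻¹ * D.σ l * (D.σ l)⁻¹ := by rw [← hl]
    rw [h3, mul_assoc, mul_inv_cancel₀ hσl0, mul_one]
  have hdet : (t * g0).det = 1 := by
    rw [Matrix.det_mul, htdet, inv_mul_cancel₀ hd0]
  have hdet0 : (t * g0).det ≠ 0 := by rw [hdet]; exact one_ne_zero
  have hinj : Function.Injective (Matrix.toLin' (t * g0)) := by
    have : Function.Injective (t * g0).mulVec :=
      Matrix.mulVec_injective_iff_isUnit.mpr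
        ((Matrix.isUnit_iff_isUnit_det _).mpr (isUnit_iff_ne_zero.mpr hdet0))
    intro x y hxy
    apply this
    simpa [Matrix.toLin'_apply] using hxy
  have hmapA : ∀ a ∈ A, (t * g0) *ᵥ a ∈ A' := by
    intro a ha
    rw [← Matrix.mulVec_mulVec]
    have h1 : g0 *ᵥ a ∈ A' := DUAL.map_memA D d d' 1 1 ha
    rw [ht, Dg_mulVec, d'.hA0 _ h1 i0, mul_zero, zero_smul, add_zero]
    exact A'.add_mem h1 (A'.smul_mem _ (d'.heA i0))
  have hmapB : ∀ b ∈ B, (t * g0) *ᵥ b ∈ B' := by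
    intro b hb
    rw [← Matrix.mulVec_mulVec]
    have h1 : g0 *ᵥ b ∈ B' := DUAL.map_memB D d d' 1 1 hb
    rw [ht, Dg_mulVec, d'.hB0 _ h1 i0, mul_zero, zero_smul, add_zero]
    exact B'.add_mem h1 (B'.smul_mem _ (d'.hfB i0))
  refine ⟨Matrix.GeneralLinearGroup.mkOfDetNeZero (t * g0) hdet0,
    (Cfsg.Agent.Helper28.UM.mem_G_iff _).mpr ⟨htP.mul hP0, hdet⟩, ?_, ?_⟩
  · show A.map (Matrix.toLin' (t * g0)) = A'
    apply Submodule.eq_of_le_of_finrank_eq
    · rintro _ ⟨a, ha, rfl⟩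
      rw [Matrix.toLin'_apply]
      exact hmapA a ha
    · rw [← (Submodule.equivMapOfInjective _ hinj A).finrank_eq, hA, hA']
  · show B.map (Matrix.toLin' (t * g0)) = B'
    apply Submodule.eq_of_le_of_finrank_eq
    · rintro _ ⟨b, hb, rfl⟩
      rw [Matrix.toLin'_apply]
      exact hmapB b hb
    · rw [← (Submodule.equivMapOfInjective _ hinj B).finrank_eq, hB, hB']

end Cfsg.Agent.S5984P
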