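import Cfsg.Agent.Helper24.S5637.Defs

set_option autoImplicit false
set_option linter.unusedSectionVars false
set_option linter.unusedVariables false

/-! # S5637, piece YSUB (helper6) -/

namespace Cfsg.Agent.S5637P

open Matrix Kronecker Cfsg.Agent.Helper28.SLMax Cfsg.Agent.S5634P
open scoped MatrixGroups

variable {F : Type*} [Field F] {n a b : ℕ} (e : Fin n ≃ Fin a × Fin b)

/-- the action of a conjugate of a root element -/
theorem YSUB.conj_mulVec (m : GL (Fin n) F) {w ψ : Fin b → F} (h : ψ ⬝ᵥ w = 0) (x : Fin n → F) :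
    ((m * XR e w ψ * m⁻¹ : GL (Fin n) F) : Matrix (Fin n) (Fin n) F) *ᵥ x =
      x + (m : Matrix (Fin n) (Fin n) F) *ᵥ
        tn e (cps e ψ (((m⁻¹ : GL (Fin n) F) : Matrix (Fin n) (Fin n) F) *ᵥ x)) w := by
  rw [Units.val_mul, Units.val_mul, ← Matrix.mulVec_mulVec, ← Matrix.mulVec_mulVec,
    XR_mulVec e h, Matrix.mulVec_add, Matrix.mulVec_mulVec, ← Units.val_mul, mul_inv_cancel,
    Units.val_one, Matrix.one_mulVec]

/-- YSUB (S). `(m x m⁻¹) y - y = m (tn (cps ψ (m⁻¹ y)) w)`. -/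
theorem YSUB (m : GL (Fin n) F) {w ψ : Fin b → F} (h : ψ ⬝ᵥ w = 0) (x : Fin n → F) :
    ((m * XR e w ψ * m⁻¹ : GL (Fin n) F) : Matrix (Fin n) (Fin n) F) *ᵥ x - x ∈
      gmap m (Vw e w) := by
  rw [YSUB.conj_mulVec e m h x, add_sub_cancel_left]
  exact mulVec_mem_gmap (tn_mem_Vw e _ _)

end Cfsg.Agent.S5637P
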