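import Cfsg.Agent.Helper24.S5637.Defs
import Cfsg.Agent.Helper6.S5637YSUB

set_option autoImplicit false
set_option linter.unusedSectionVars false
set_option linter.unusedVariables false

/-! # S5637, piece UNICONJ (helper6) -/

namespace Cfsg.Agent.S5637P

open Matrix Kronecker Cfsg.Agent.Helper28.SLMax Cfsg.Agent.S5634P
open scoped MatrixGroups

variable {F : Type*} [Field F] {n a b : ℕ} (e : Fin n ≃ Fin a × Fin b)

/-- UNICONJ (S). -/
theorem UNICONJ {w ψ : Fin b → F} (h : ψ ⬝ᵥ w = 0) (m : GL (Fin n) F)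
    (hm : gmap m (Vw e w) = Vw e w) : UniAt e w (m * XR e w ψ * m⁻¹) := by
  constructor
  · intro x
    have := YSUB e m h x
    rw [hm] at this
    exact this
  · intro x hx
    rw [← hm] at hx
    obtain ⟨x', hx', rfl⟩ := mem_gmap.mp hx
    rw [YSUB.conj_mulVec e m h, Matrix.mulVec_mulVec, ← Units.val_mul, inv_mul_cancel,
      Units.val_one, Matrix.one_mulVec, cps_of_mem_Vw e h hx', tn_zero_left, Matrix.mulVec_zero,
      add_zero]

end Cfsg.Agent.S5637P
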