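import Cfsg.Agent.Helper24.S5637.Defs

set_option autoImplicit false
set_option linter.unusedSectionVars false
set_option linter.unusedVariables false

/-! # S5637, piece XRNE (helper6) -/

namespace Cfsg.Agent.S5637P

open Matrix Kronecker Cfsg.Agent.Helper28.SLMax Cfsg.Agent.S5634P
open scoped MatrixGroups

variable {F : Type*} [Field F] {n a b : ℕ} (e : Fin n ≃ Fin a × Fin b)

/-- XRNE (S). `XR e w ψ` moves `tn e u w'` when `u ≠ 0`, `ψ w' ≠ 0`. -/
theorem XRNE (ha : 1 ≤ a) {w ψ : Fin b → F} (hw : w ≠ 0) (hψ : ψ ≠ 0) (h : ψ ⬝ᵥ w = 0) :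
    XR e w ψ ≠ 1 := by
  intro hone
  -- a non-zero `u`
  let i0 : Fin a := ⟨0, ha⟩
  have hu : (Pi.single i0 (1 : F) : Fin a → F) ≠ 0 := by
    intro h0
    have := congrFun h0 i0
    simp at this
  -- `w'` with `ψ w' ≠ 0`
  obtain ⟨j, hj⟩ : ∃ j, ψ j ≠ 0 := by
    by_contra hcon
    push Not at hcon
    exact hψ (funext hcon)
  have hdot : ψ ⬝ᵥ (Pi.single j (1 : F) : Fin b → F) = ψ j := by
    rw [dotProduct_single, mul_one]
  have h1 := XR_mulVec_tn e h (Pi.single i0 (1 : F)) (Pi.single j (1 : F))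
  rw [hone, Units.val_one, Matrix.one_mulVec, hdot] at h1
  have h2 := tn_right_injective e hu h1
  have h3 : ψ j • w = 0 := by
    have := congrArg (fun v => v - (Pi.single j (1 : F) : Fin b → F)) h2
    simpa using this.symm
  rcases smul_eq_zero.mp h3 with h4 | h4
  · exact hj h4
  · exact hw h4

end Cfsg.Agent.S5637P
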