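import Mathlib
import Cfsg.Agent.Helper26.S3050Defs
import Cfsg.Prelude.Def_BaumannBlocks

/-!
# S3050, piece D6 (board `s3050pieces`, driver helper26): the commutator map

If `M ≤ Z(Q)` has exponent 2 and `Q/M` is abelian, then `(q̄, q̄') ↦ [q, q']` is a well defined biadditive,
symmetric, `SL₂(F)`-equivariant map `Additive(Q/M) × Additive(Q/M) → Additive M`.
-/

set_option autoImplicit false

namespace Cfsg.Agent.S3050P

open Cfsg.Agent.Helper18.NatMod Cfsg.Agent.S3050P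
open scoped IsMulCommutative

universe u

section groups

variable {F : Type*} [Field F] [CharP F 2]

local notation "SF" => Matrix.SpecialLinearGroup (Fin 2) F
local notation "MF" => Matrix (Fin 2) (Fin 2) F

variable {G : Type*} [Group G] (Q : Subgroup G) [Q.Normal]
  (e : G ⧸ Q ≃* Matrix.SpecialLinearGroup (Fin 2) F)

/-- the group commutator `q q' q⁻¹ q'⁻¹` -/
def D6_aux_cm (q q' : G) : G := q * q' * q⁻¹ * q'⁻¹

/-- D6 -/
theorem comm_map {G' : Type*} [Group G']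
    (M : Subgroup G) [M.Normal] [IsMulCommutative ↥M] (hMQ : M ≤ Q)
    (hMc : Q ≤ Subgroup.centralizer (M : Set G)) (hM2 : ∀ m ∈ M, m * m = 1)
    (π : G →* G') (hπ : Function.Surjective π) (hker : π.ker = M)
    (Q' : Subgroup G') [Q'.Normal] [IsMulCommutative ↥Q'] (hQ' : Q' = Q.map π)
    (hc' : Q' ≤ Subgroup.centralizer (Q' : Set G'))
    (e' : G' ⧸ Q' ≃* SF) (he' : ∀ g : G, e' ((π g : G') : G' ⧸ Q') = e (g : G ⧸ Q)) :
    letI := modOf Q' e' Q' hc'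
    letI := modOf Q e M hMc
    ∃ B : Additive ↥Q' →+ Additive ↥Q' →+ Additive ↥M,
      (∀ (q q' : G) (hq : π q ∈ Q') (hq' : π q' ∈ Q'),
        ((Additive.toMul (B (Additive.ofMul ⟨π q, hq⟩) (Additive.ofMul ⟨π q', hq'⟩)) : ↥M) : G)
          = q * q' * q⁻¹ * q'⁻¹) ∧
      (∀ (g : SF) (x y : Additive ↥Q'), B (g • x) (g • y) = g • B x y) ∧
      (∀ x y : Additive ↥Q', B x y = B y x) := by
  classical
  -- membership in `M` via the kernel
  have hmemM : ∀ x : G, x ∈ M ↔ π x = 1 := by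
    intro x; rw [← hker, MonoidHom.mem_ker]
  -- elements of `M` commute with elements of `Q`
  have hcen : ∀ q ∈ Q, ∀ m ∈ M, m * q = q * m := by
    intro q hq m hm
    have := hMc hq
    rw [Subgroup.mem_centralizer_iff] at this
    exact this m hm
  -- preimages of `Q'` lie in `Q`
  have hpre : ∀ q : G, π q ∈ Q' → q ∈ Q := by
    intro q hq
    rw [hQ'] at hq
    obtain ⟨q₀, hq₀, h⟩ := hq
    have h1 : q₀⁻¹ * q ∈ M := by
      rw [hmemM, map_mul, map_inv, h, inv_mul_cancel]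
    have : q = q₀ * (q₀⁻¹ * q) := by group
    rw [this]
    exact Q.mul_mem hq₀ (hMQ h1)
  have himg : ∀ q ∈ Q, π q ∈ Q' := by
    intro q hq; rw [hQ']; exact Subgroup.mem_map_of_mem π hq
  -- commutators of elements of `Q` lie in `M`
  have hcmM : ∀ q ∈ Q, ∀ q' ∈ Q, D6_aux_cm q q' ∈ M := by
    intro q hq q' hq'
    rw [hmemM]
    unfold D6_aux_cm
    simp only [map_mul, map_inv]
    have h1 := hc' (himg q hq)
    rw [Subgroup.mem_centralizer_iff] at h1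
    have h2 := h1 (π q') (himg q' hq')
    -- `π q' * π q = π q * π q'`
    calc π q * π q' * (π q)⁻¹ * (π q')⁻¹ = (π q' * π q) * (π q)⁻¹ * (π q')⁻¹ := by rw [h2]
      _ = 1 := by group
  -- independence of the representatives
  have hwd₁ : ∀ q₁ ∈ Q, ∀ q₂ ∈ Q, ∀ q' ∈ Q, π q₁ = π q₂ → D6_aux_cm q₁ q' = D6_aux_cm q₂ q' := by
    intro q₁ h₁ q₂ h₂ q' hq' h
    have hm : q₁⁻¹ * q₂ ∈ M := by
      rw [hmemM, map_mul, map_inv, h, inv_mul_cancel]
    have hc := hcen q' hq' _ hm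
    have e2 : q₂ = q₁ * (q₁⁻¹ * q₂) := by group
    set m := q₁⁻¹ * q₂ with hmdef
    rw [e2]
    unfold D6_aux_cm
    calc q₁ * q' * q₁⁻¹ * q'⁻¹ = q₁ * (q' * m) * m⁻¹ * q₁⁻¹ * q'⁻¹ := by group
      _ = q₁ * (m * q') * m⁻¹ * q₁⁻¹ * q'⁻¹ := by rw [hc]
      _ = q₁ * m * q' * (q₁ * m)⁻¹ * q'⁻¹ := by group
  have hwd₂ : ∀ q ∈ Q, ∀ q₁ ∈ Q, ∀ q₂ ∈ Q, π q₁ = π q₂ → D6_aux_cm q q₁ = D6_aux_cm q q₂ := by
    intro q hq q₁ h₁ q₂ h₂ h
    have hm : q₁⁻¹ * q₂ ∈ M := by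
      rw [hmemM, map_mul, map_inv, h, inv_mul_cancel]
    have hc := hcen q hq _ hm
    have e2 : q₂ = q₁ * (q₁⁻¹ * q₂) := by group
    set m := q₁⁻¹ * q₂ with hmdef
    rw [e2]
    unfold D6_aux_cm
    calc q * q₁ * q⁻¹ * q₁⁻¹ = q * q₁ * (m * q⁻¹) * m⁻¹ * q₁⁻¹ := by
          have : m * q⁻¹ = q⁻¹ * m := by
            calc m * q⁻¹ = q⁻¹ * (q * m) * q⁻¹ := by group
              _ = q⁻¹ * (m * q) * q⁻¹ := by rw [hc]
              _ = q⁻¹ * m := by group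
          rw [this]; group
      _ = q * (q₁ * m) * q⁻¹ * (q₁ * m)⁻¹ := by group
  -- additivity
  have hadd₁ : ∀ q₁ ∈ Q, ∀ q₂ ∈ Q, ∀ q' ∈ Q, D6_aux_cm (q₁ * q₂) q' = D6_aux_cm q₁ q' * D6_aux_cm q₂ q' := by
    intro q₁ h₁ q₂ h₂ q' hq'
    have hm := hcmM q₂ h₂ q' hq'
    have hc := hcen q₁ h₁ _ hm
    have hcomm : D6_aux_cm q₁ q' * D6_aux_cm q₂ q' = D6_aux_cm q₂ q' * D6_aux_cm q₁ q' := by
      have := mul_comm (⟨D6_aux_cm q₁ q', hcmM q₁ h₁ q' hq'⟩ : ↥M) ⟨D6_aux_cm q₂ q', hm⟩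
      exact congrArg Subtype.val this
    rw [hcomm]
    calc D6_aux_cm (q₁ * q₂) q' = q₁ * D6_aux_cm q₂ q' * q' * q₁⁻¹ * q'⁻¹ := by unfold D6_aux_cm; group
      _ = (q₁ * D6_aux_cm q₂ q') * q' * q₁⁻¹ * q'⁻¹ := by group
      _ = (D6_aux_cm q₂ q' * q₁) * q' * q₁⁻¹ * q'⁻¹ := by rw [hc]
      _ = D6_aux_cm q₂ q' * D6_aux_cm q₁ q' := by unfold D6_aux_cm; group
  have hadd₂ : ∀ q ∈ Q, ∀ q₁ ∈ Q, ∀ q₂ ∈ Q, D6_aux_cm q (q₁ * q₂) = D6_aux_cm q q₁ * D6_aux_cm q q₂ := by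
    intro q hq q₁ h₁ q₂ h₂
    have hm := hcmM q hq q₂ h₂
    have hc := hcen q₁ h₁ _ hm
    calc D6_aux_cm q (q₁ * q₂) = D6_aux_cm q q₁ * (q₁ * D6_aux_cm q q₂) * q₁⁻¹ := by unfold D6_aux_cm; group
      _ = D6_aux_cm q q₁ * (D6_aux_cm q q₂ * q₁) * q₁⁻¹ := by rw [hc]
      _ = D6_aux_cm q q₁ * D6_aux_cm q q₂ := by group
  -- symmetry
  have hsymm : ∀ q ∈ Q, ∀ q' ∈ Q, D6_aux_cm q q' = D6_aux_cm q' q := by
    intro q hq q' hq'
    have h2 := hM2 _ (hcmM q' hq' q hq)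
    have : D6_aux_cm q q' = (D6_aux_cm q' q)⁻¹ := by unfold D6_aux_cm; group
    rw [this]
    exact inv_eq_of_mul_eq_one_left h2
  -- conjugation
  have hconj : ∀ g q q' : G, D6_aux_cm (g * q * g⁻¹) (g * q' * g⁻¹) = g * D6_aux_cm q q' * g⁻¹ := by
    intro g q q'; unfold D6_aux_cm; group
  -- representatives
  have hex : ∀ x : ↥Q', ∃ q : G, q ∈ Q ∧ π q = (x : G') := by
    intro x
    have hsub : ∀ y : G', y ∈ Q' → y ∈ Q.map π := fun y hy => hQ' ▸ hy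
    obtain ⟨q, hq, h⟩ := hsub _ x.2
    exact ⟨q, hq, h⟩
  choose lift hliftQ hliftπ using hex
  -- the map
  let b : ↥Q' → ↥Q' → ↥M := fun x y => ⟨D6_aux_cm (lift x) (lift y), hcmM _ (hliftQ x) _ (hliftQ y)⟩
  have hb₁ : ∀ x₁ x₂ y : ↥Q', b (x₁ * x₂) y = b x₁ y * b x₂ y := by
    intro x₁ x₂ y
    apply Subtype.ext
    show D6_aux_cm (lift (x₁ * x₂)) (lift y) = D6_aux_cm (lift x₁) (lift y) * D6_aux_cm (lift x₂) (lift y)
    rw [← hadd₁ _ (hliftQ x₁) _ (hliftQ x₂) _ (hliftQ y)]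
    apply hwd₁ _ (hliftQ _) _ (Q.mul_mem (hliftQ x₁) (hliftQ x₂)) _ (hliftQ y)
    rw [hliftπ, map_mul, hliftπ, hliftπ]; rfl
  have hb₂ : ∀ x y₁ y₂ : ↥Q', b x (y₁ * y₂) = b x y₁ * b x y₂ := by
    intro x y₁ y₂
    apply Subtype.ext
    show D6_aux_cm (lift x) (lift (y₁ * y₂)) = D6_aux_cm (lift x) (lift y₁) * D6_aux_cm (lift x) (lift y₂)
    rw [← hadd₂ _ (hliftQ x) _ (hliftQ y₁) _ (hliftQ y₂)]
    apply hwd₂ _ (hliftQ x) _ (hliftQ _) _ (Q.mul_mem (hliftQ y₁) (hliftQ y₂))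
    rw [hliftπ, map_mul, hliftπ, hliftπ]; rfl
  -- value on arbitrary representatives
  have hbval : ∀ (x y : ↥Q') (q q' : G), π q = (x : G') → π q' = (y : G') →
      ((b x y : ↥M) : G) = D6_aux_cm q q' := by
    intro x y q q' hq hq'
    have hqQ : q ∈ Q := hpre q (by rw [hq]; exact x.2)
    have hq'Q : q' ∈ Q := hpre q' (by rw [hq']; exact y.2)
    show D6_aux_cm (lift x) (lift y) = D6_aux_cm q q'
    rw [hwd₁ _ (hliftQ x) q hqQ _ (hliftQ y) (by rw [hliftπ, hq])]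
    exact hwd₂ q hqQ _ (hliftQ y) q' hq'Q (by rw [hliftπ, hq'])
  let B : Additive ↥Q' →+ Additive ↥Q' →+ Additive ↥M :=
    AddMonoidHom.mk' (fun x => AddMonoidHom.mk'
        (fun y => Additive.ofMul (b (Additive.toMul x) (Additive.toMul y)))
        (by
          intro y₁ y₂
          show Additive.ofMul (b (Additive.toMul x) (Additive.toMul y₁ * Additive.toMul y₂)) = _
          rw [hb₂]; rfl))
      (by
        intro x₁ x₂
        apply AddMonoidHom.ext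
        intro y
        show Additive.ofMul (b (Additive.toMul x₁ * Additive.toMul x₂) (Additive.toMul y)) = _
        rw [hb₁]; rfl)
  have hBdef : ∀ x y : Additive ↥Q', B x y = Additive.ofMul (b (Additive.toMul x) (Additive.toMul y)) :=
    fun _ _ => rfl
  refine ⟨B, ?_, ?_, ?_⟩
  · intro q q' hq hq'
    rw [hBdef]
    exact hbval _ _ q q' rfl rfl
  · intro g x y
    obtain ⟨γ, rfl⟩ := e.surjective g
    obtain ⟨g₀, rfl⟩ := QuotientGroup.mk_surjective γ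
    -- coordinates of the two actions
    have hact' : ∀ a : Additive ↥Q',
        ((Additive.toMul (letI := modOf Q' e' Q' hc'; (e ((g₀ : G) : G ⧸ Q)) • a) : ↥Q') : G')
          = π g₀ * ((Additive.toMul a : ↥Q') : G') * (π g₀)⁻¹ := by
      intro a
      rw [← he' g₀]
      exact modOf_smul_coe Q' e' Q' hc' (π g₀) a
    have hact : ∀ a : Additive ↥M,
        ((Additive.toMul (letI := modOf Q e M hMc; (e ((g₀ : G) : G ⧸ Q)) • a) : ↥M) : G)
          = g₀ * ((Additive.toMul a : ↥M) : G) * g₀⁻¹ := fun a => modOf_smul_coe Q e M hMc g₀ a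
    apply Additive.toMul.injective
    apply Subtype.ext
    rw [hact, hBdef, hBdef]
    show ((b _ _ : ↥M) : G) = g₀ * ((b _ _ : ↥M) : G) * g₀⁻¹
    have hx := hliftπ (Additive.toMul x)
    have hy := hliftπ (Additive.toMul y)
    rw [hbval _ _ (g₀ * lift (Additive.toMul x) * g₀⁻¹) (g₀ * lift (Additive.toMul y) * g₀⁻¹)
      (by rw [hact', map_mul, map_mul, map_inv, hx])
      (by rw [hact', map_mul, map_mul, map_inv, hy])]
    rw [hconj]
  · intro x y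
    rw [hBdef, hBdef]
    congr 1
    apply Subtype.ext
    show D6_aux_cm (lift _) (lift _) = D6_aux_cm (lift _) (lift _)
    exact hsymm _ (hliftQ _) _ (hliftQ _)

end groups

end Cfsg.Agent.S3050P
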