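import Mathlib
import Cfsg.Prelude.Def_Solvable
import Cfsg.Agent.Helper14.PCore

/-! Board `s3822pieces`, row AUX: `O_q(V)` is `A`-invariant when `A` normalises `V`; `O_r(A)` is a
normal `r`-subgroup of `A`. -/

set_option autoImplicit false

namespace Cfsg.Agent.S3822P

theorem AUX_aux_map_conj {G : Type*} [Group G] (V : Subgroup G) (a : G)
    (ha : a ∈ Subgroup.normalizer (V : Set G)) :
    V.map (MulAut.conj a).toMonoidHom = V := by
  ext x
  rw [Subgroup.mem_normalizer_iff] at ha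
  constructor
  · rintro ⟨v, hv, rfl⟩
    simpa [MulAut.conj_apply] using (ha v).1 hv
  · intro hx
    refine ⟨a⁻¹ * x * a, ?_, by simp [MulAut.conj_apply, mul_assoc]⟩
    apply (ha (a⁻¹ * x * a)).2
    have e : a * (a⁻¹ * x * a) * a⁻¹ = x := by group
    rw [e]; exact hx

/-- A-invariance of `O_q(V)`. -/
theorem pCore_invariant {G : Type*} [Group G] [Finite G] (A V : Subgroup G)
    (hAV : A ≤ Subgroup.normalizer (V : Set G)) (q : ℕ) :
    ∀ a ∈ A, ∀ w ∈ (Cfsg.pCore q ↥V).map V.subtype, a * w * a⁻¹ ∈ (Cfsg.pCore q ↥V).map V.subtype := by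
  intro a ha w hw
  have h1 := Cfsg.Agent.Helper14.pCoreOf_map_conj q V a
  rw [AUX_aux_map_conj V a (hAV ha)] at h1
  have h2 : a * w * a⁻¹ ∈ (Cfsg.pCoreOf q V).map (MulAut.conj a).toMonoidHom :=
    ⟨w, hw, by simp [MulAut.conj_apply]⟩
  rw [← h1] at h2
  exact h2

/-- `O_r(A)` is a normal `r`-subgroup of `A`. -/
theorem pCore_facts {G : Type*} [Group G] [Finite G] (A : Subgroup G) (r : ℕ) (_hr : r.Prime) :
    IsPGroup r ↥((Cfsg.pCore r ↥A).map A.subtype) ∧ (Cfsg.pCore r ↥A).map A.subtype ≤ A ∧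
      ∀ a ∈ A, ∀ y ∈ (Cfsg.pCore r ↥A).map A.subtype, a * y * a⁻¹ ∈ (Cfsg.pCore r ↥A).map A.subtype := by
  refine ⟨Cfsg.Agent.Helper14.pCoreOf_isPGroup r A, Cfsg.Agent.Helper14.pCoreOf_le r A, ?_⟩
  intro a ha y hy
  have := Cfsg.Agent.Helper14.le_normalizer_pCoreOf r A ha
  rw [Subgroup.mem_normalizer_iff] at this
  exact (this y).1 hy

end Cfsg.Agent.S3822P
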