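import Mathlib
import Cfsg.Prelude.Def_Solvable
import Cfsg.Agent.Helper14.PCore
import Cfsg.Agent.Helper7.Fitting
import Cfsg.Agent.Helper6.S3822AUX

/-! Board `s3822pieces`, row B0: nilpotency of `F(A)V` from the commuting claim MC. -/

set_option autoImplicit false

namespace Cfsg.Agent.S3822P

open scoped commutatorElement

/-- commuting nilpotent subgroups generate a nilpotent subgroup -/
theorem B0_aux_sup {G : Type*} [Group G] {A B : Subgroup G}
    (comm : ∀ a ∈ A, ∀ b ∈ B, a * b = b * a) (hA : Group.IsNilpotent A)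
    (hB : Group.IsNilpotent B) : Group.IsNilpotent ↥(A ⊔ B) := by
  obtain ⟨f, hr⟩ : ∃ f : A × B →* G, f.range = A ⊔ B :=
    ⟨MonoidHom.noncommCoprod A.subtype B.subtype
      (fun a b => (commute_iff_eq _ _).mpr (comm a a.2 b b.2)), by
      rw [MonoidHom.noncommCoprod_range, Subgroup.range_subtype, Subgroup.range_subtype]⟩
  rw [← hr]
  exact Group.nilpotent_of_surjective f.rangeRestrict f.rangeRestrict_surjective

theorem B0_aux_finset {G : Type*} [Group G] (t : Finset (Subgroup G))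
    (hnil : ∀ H ∈ t, Group.IsNilpotent ↥H)
    (hcomm : ∀ H ∈ t, ∀ K ∈ t, H ≠ K → ∀ x ∈ H, ∀ y ∈ K, x * y = y * x) :
    Group.IsNilpotent ↥(t.sup id) := by
  classical
  induction t using Finset.induction_on with
  | empty =>
    rw [Finset.sup_empty]
    infer_instance
  | insert H t hH ih =>
    rw [Finset.sup_insert, id]
    apply B0_aux_sup
    · intro a ha b hb
      have hle : t.sup id ≤ Subgroup.centralizer (H : Set G) := by
        apply Finset.sup_le
        intro K hK y hy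
        rw [Subgroup.mem_centralizer_iff]
        intro x hx
        have hne : H ≠ K := fun h => hH (h ▸ hK)
        exact hcomm H (Finset.mem_insert_self _ _) K (Finset.mem_insert_of_mem hK) hne x hx y hy
      have := hle hb
      rw [Subgroup.mem_centralizer_iff] at this
      exact this a ha
    · exact hnil H (Finset.mem_insert_self _ _)
    · exact ih (fun K hK => hnil K (Finset.mem_insert_of_mem hK))
        (fun K hK L hL => hcomm K (Finset.mem_insert_of_mem hK) L (Finset.mem_insert_of_mem hL))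

/-- in a finite group, a family of pairwise commuting nilpotent subgroups generates a nilpotent
subgroup -/
theorem B0_aux_iSup {G : Type*} [Group G] [Finite G] {ι : Sort*} (P : ι → Subgroup G)
    (hnil : ∀ i, Group.IsNilpotent ↥(P i))
    (hcomm : ∀ i j, P i ≠ P j → ∀ x ∈ P i, ∀ y ∈ P j, x * y = y * x) :
    Group.IsNilpotent ↥(⨆ i, P i) := by
  obtain ⟨t, hts, ht⟩ :=
    CompleteLattice.WellFoundedGT.isSupFiniteCompact (Subgroup G) (Set.range P)
  have e : (⨆ i, P i) = t.sup id := by rw [← ht]; rfl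
  rw [e]
  apply B0_aux_finset
  · intro H hH
    obtain ⟨i, rfl⟩ := hts hH
    exact hnil i
  · intro H hH K hK hne x hx y hy
    obtain ⟨i, rfl⟩ := hts hH
    obtain ⟨j, rfl⟩ := hts hK
    exact hcomm i j hne x hx y hy

theorem B0_aux_cores_comm {H : Type*} [Group H] {p q : ℕ} (hp : p.Prime) (hq : q.Prime)
    (hne : p ≠ q) {x y : H} (hx : x ∈ Cfsg.pCore p H) (hy : y ∈ Cfsg.pCore q H) :
    x * y = y * x := by
  have : Fact p.Prime := ⟨hp⟩
  have : Fact q.Prime := ⟨hq⟩
  have h1 : ⁅x, y⁆ ∈ ⁅Cfsg.pCore p H, Cfsg.pCore q H⁆ := Subgroup.commutator_mem_commutator hx hy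
  rw [Cfsg.Agent.Helper7.pCore_commute_of_ne hne, Subgroup.mem_bot] at h1
  exact commutatorElement_eq_one_iff_mul_comm.1 h1

/-- B0: nilpotency of `F(A)V` from the commuting claim MC. -/
theorem B0_nilpotent_of_MC {G : Type*} [Group G] [Finite G] (A V : Subgroup G)
    (hV : Group.IsNilpotent ↥V) (hAV : A ≤ Subgroup.normalizer (V : Set G))
    (hMC : ∀ q r : ℕ, q.Prime → r.Prime → q ≠ r →
      ∀ y ∈ (Cfsg.pCore r ↥A).map A.subtype, ∀ w ∈ (Cfsg.pCore q ↥V).map V.subtype, y * w = w * y) :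
    Group.IsNilpotent ↥((Cfsg.fittingSubgroup ↥A).map A.subtype ⊔ V) := by
  have hF : (Cfsg.fittingSubgroup ↥A).map A.subtype =
      ⨆ p : Nat.Primes, (Cfsg.pCore (p : ℕ) ↥A).map A.subtype := by
    rw [Cfsg.Agent.Helper7.fittingSubgroup_eq_pCoreSup, Cfsg.Agent.Helper7.pCoreSup,
      Subgroup.map_iSup]
  have hVe : V = ⨆ p : Nat.Primes, (Cfsg.pCore (p : ℕ) ↥V).map V.subtype := by
    have := hV
    have h1 : Cfsg.Agent.Helper7.pCoreSup ↥V = ⊤ :=
      Cfsg.Agent.Helper7.pCoreSup_eq_top_of_isNilpotent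
    have h2 : (Cfsg.Agent.Helper7.pCoreSup ↥V).map V.subtype = V := by
      rw [h1, ← MonoidHom.range_eq_map, Subgroup.range_subtype]
    rw [Cfsg.Agent.Helper7.pCoreSup, Subgroup.map_iSup] at h2
    exact h2.symm
  have hsup : (Cfsg.fittingSubgroup ↥A).map A.subtype ⊔ V =
      ⨆ p : Nat.Primes, ((Cfsg.pCore (p : ℕ) ↥A).map A.subtype ⊔
        (Cfsg.pCore (p : ℕ) ↥V).map V.subtype) := by
    rw [iSup_sup_eq, ← hF, ← hVe]
  rw [hsup]
  -- elementwise commuting facts
  have hRR : ∀ p q : ℕ, p.Prime → q.Prime → p ≠ q →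
      ∀ x ∈ (Cfsg.pCore p ↥A).map A.subtype, ∀ y ∈ (Cfsg.pCore q ↥A).map A.subtype,
        x * y = y * x := by
    rintro p q hp hq hne _ ⟨x, hx, rfl⟩ _ ⟨y, hy, rfl⟩
    have := B0_aux_cores_comm hp hq hne hx hy
    exact congrArg Subtype.val this
  have hWW : ∀ p q : ℕ, p.Prime → q.Prime → p ≠ q →
      ∀ x ∈ (Cfsg.pCore p ↥V).map V.subtype, ∀ y ∈ (Cfsg.pCore q ↥V).map V.subtype,
        x * y = y * x := by
    rintro p q hp hq hne _ ⟨x, hx, rfl⟩ _ ⟨y, hy, rfl⟩
    have := B0_aux_cores_comm hp hq hne hx hy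
    exact congrArg Subtype.val this
  have hcl : ∀ H K : Subgroup G, (∀ x ∈ H, ∀ y ∈ K, x * y = y * x) →
      K ≤ Subgroup.centralizer (H : Set G) := by
    intro H K h y hy
    rw [Subgroup.mem_centralizer_iff]
    intro x hx
    exact h x hx y hy
  apply B0_aux_iSup
  · intro p
    have : Fact (p : ℕ).Prime := ⟨p.2⟩
    apply IsPGroup.isNilpotent (p := (p : ℕ))
    apply IsPGroup.to_sup_of_normal_right' (Cfsg.Agent.Helper14.pCoreOf_isPGroup (p : ℕ) A)
      (Cfsg.Agent.Helper14.pCoreOf_isPGroup (p : ℕ) V)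
    intro a ha
    have haA : a ∈ A := Cfsg.Agent.Helper14.pCoreOf_le (p : ℕ) A ha
    rw [Subgroup.mem_normalizer_iff]
    intro w
    constructor
    · intro hw
      exact pCore_invariant A V hAV (p : ℕ) a haA w hw
    · intro hw
      have := pCore_invariant A V hAV (p : ℕ) a⁻¹ (inv_mem haA) _ hw
      have e : a⁻¹ * (a * w * a⁻¹) * a⁻¹⁻¹ = w := by group
      rw [e] at this
      exact this
  · intro p q hne x hx y hy
    have hpq : (p : ℕ) ≠ (q : ℕ) := by
      intro h
      apply hne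
      rw [Subtype.ext h]
    have h1 : (Cfsg.pCore (q : ℕ) ↥A).map A.subtype ⊔ (Cfsg.pCore (q : ℕ) ↥V).map V.subtype ≤
        Subgroup.centralizer (((Cfsg.pCore (p : ℕ) ↥A).map A.subtype : Subgroup G) : Set G) :=
      sup_le (hcl _ _ (hRR p q p.2 q.2 hpq))
        (hcl _ _ (fun x hx y hy => hMC q p q.2 p.2 hpq.symm x hx y hy))
    have h2 : (Cfsg.pCore (q : ℕ) ↥A).map A.subtype ⊔ (Cfsg.pCore (q : ℕ) ↥V).map V.subtype ≤
        Subgroup.centralizer (((Cfsg.pCore (p : ℕ) ↥V).map V.subtype : Subgroup G) : Set G) :=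
      sup_le (hcl _ _ (fun x hx y hy => (hMC p q p.2 q.2 hpq y hy x hx).symm))
        (hcl _ _ (hWW p q p.2 q.2 hpq))
    have h3 : (Cfsg.pCore (p : ℕ) ↥A).map A.subtype ⊔ (Cfsg.pCore (p : ℕ) ↥V).map V.subtype ≤
        Subgroup.centralizer (((Cfsg.pCore (q : ℕ) ↥A).map A.subtype ⊔
          (Cfsg.pCore (q : ℕ) ↥V).map V.subtype : Subgroup G) : Set G) :=
      sup_le (Subgroup.le_centralizer_iff.1 h1) (Subgroup.le_centralizer_iff.1 h2)
    have := h3 hx
    rw [Subgroup.mem_centralizer_iff] at this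
    exact (this y hy).symm

end Cfsg.Agent.S3822P
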