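import Mathlib
import Cfsg.Agent.Helper26.S4395HeisDefs

/-!
# S4395, piece EXev2 (helper6): counting in the unitary Heisenberg group.
-/

set_option autoImplicit false

namespace Cfsg.Agent.S4395P

open Polynomial in
/-- number of roots of a nonzero polynomial over a field. -/
theorem EXev2_aux_card_roots {F : Type*} [Field F] (P : Polynomial F) (hP : P ≠ 0) :
    Nat.card {x : F // P.IsRoot x} ≤ P.natDegree := by
  classical
  have hset : {x : F | P.IsRoot x} = (P.roots.toFinset : Set F) := by
    ext x; simp [Polynomial.mem_roots hP]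
  calc Nat.card {x : F // P.IsRoot x} = Nat.card ↥({x : F | P.IsRoot x}) := rfl
    _ = Nat.card ↥(P.roots.toFinset : Set F) := by rw [hset]
    _ = P.roots.toFinset.card := by
        rw [Nat.card_eq_fintype_card]; simp
    _ ≤ Multiset.card P.roots := Multiset.toFinset_card_le _
    _ ≤ P.natDegree := Polynomial.card_roots' P

/-- at most `n` solutions of `x ^ n = c * x` for `2 ≤ n`. -/
theorem EXev2_aux_card_pow_eq {F : Type*} [Field F] [Finite F] (n : ℕ) (hn : 2 ≤ n) (c : F) :
    Nat.card {x : F // x ^ n = c * x} ≤ n := by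
  classical
  set P : Polynomial F := Polynomial.X ^ n - Polynomial.C c * Polynomial.X with hPdef
  have hdeg : P.natDegree = n := by
    rw [hPdef]
    have h1 : (Polynomial.C c * Polynomial.X : Polynomial F).natDegree < (Polynomial.X ^ n : Polynomial F).natDegree := by
      rw [Polynomial.natDegree_X_pow]
      calc (Polynomial.C c * Polynomial.X : Polynomial F).natDegree
            ≤ (Polynomial.X : Polynomial F).natDegree := Polynomial.natDegree_C_mul_le c _
        _ ≤ 1 := Polynomial.natDegree_X_le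
        _ < n := by omega
    rw [Polynomial.natDegree_sub_eq_left_of_natDegree_lt h1, Polynomial.natDegree_X_pow]
  have hP0 : P ≠ 0 := by
    intro h
    rw [h, Polynomial.natDegree_zero] at hdeg
    omega
  have hle := EXev2_aux_card_roots P hP0
  rw [hdeg] at hle
  refine le_trans ?_ hle
  refine Nat.card_le_card_of_injective (fun x => ⟨x.1, ?_⟩) ?_
  · have := x.2
    simp only [hPdef, Polynomial.IsRoot, Polynomial.eval_sub, Polynomial.eval_pow, Polynomial.eval_X,
      Polynomial.eval_mul, Polynomial.eval_C]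
    rw [this]; ring
  · intro x y h
    apply Subtype.ext
    exact congrArg (fun t : {x : F // P.IsRoot x} => t.1) h

/-- EXev2 (M/L): counting in the unitary Heisenberg group. -/
theorem EXev2 (p : ℕ) [Fact p.Prime] (b : ℕ)
    {F : Type*} [Field F] [Finite F] [CharP F p] (hF : Nat.card F = p ^ (2 * b))
    (hσ : ∀ x : F, iterateFrobenius F p b (iterateFrobenius F p b x) = x) :
    Nat.card ↥(heisU F (iterateFrobenius F p b) hσ) = p ^ (3 * b) ∧
    (∀ x : F, ∃ g ∈ heisU F (iterateFrobenius F p b) hσ, g.x = x) ∧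
    (∀ z : F, z + iterateFrobenius F p b z = 0 → ∃ x : F, z = x - iterateFrobenius F p b x) := by
  classical
  have hp : p.Prime := Fact.out
  set σ : F →+* F := iterateFrobenius F p b with hσdef
  have hσx : ∀ x : F, σ x = x ^ p ^ b := fun x => rfl
  -- b ≠ 0
  have hb : b ≠ 0 := by
    intro h0
    have h1 : 1 < Nat.card F := Finite.one_lt_card
    rw [hF, h0] at h1
    simp at h1
  have hpb2 : 2 ≤ p ^ b := by
    calc 2 ≤ p := hp.two_le
      _ = p ^ 1 := (pow_one p).symm
      _ ≤ p ^ b := Nat.pow_le_pow_right hp.pos (Nat.one_le_iff_ne_zero.2 hb)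
  have hFF : Nat.card F = p ^ b * p ^ b := by rw [hF, two_mul, pow_add]
  -- the two additive maps
  let D : F →+ F := AddMonoidHom.id F - σ.toAddMonoidHom
  let T : F →+ F := AddMonoidHom.id F + σ.toAddMonoidHom
  have hD : ∀ x, D x = x - σ x := fun x => rfl
  have hT : ∀ x, T x = x + σ x := fun x => rfl
  -- kernel bounds
  have hkD : Nat.card ↥D.ker ≤ p ^ b := by
    refine le_trans ?_ (EXev2_aux_card_pow_eq (F := F) (p ^ b) hpb2 1)
    refine Nat.card_le_card_of_injective (fun x => ⟨x.1, ?_⟩) ?_
    · have hx : D x.1 = 0 := x.2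
      rw [hD, hσx] at hx
      rw [one_mul]
      exact (sub_eq_zero.1 hx).symm
    · intro x y h
      apply Subtype.ext
      exact congrArg (fun t : {x : F // x ^ p ^ b = 1 * x} => t.1) h
  have hkT : Nat.card ↥T.ker ≤ p ^ b := by
    refine le_trans ?_ (EXev2_aux_card_pow_eq (F := F) (p ^ b) hpb2 (-1))
    refine Nat.card_le_card_of_injective (fun x => ⟨x.1, ?_⟩) ?_
    · have hx : T x.1 = 0 := x.2
      rw [hT, hσx] at hx
      have : x.1 ^ p ^ b = -x.1 := by
        have := eq_neg_of_add_eq_zero_right hx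
        exact this
      rw [this]; ring
    · intro x y h
      apply Subtype.ext
      exact congrArg (fun t : {x : F // x ^ p ^ b = -1 * x} => t.1) h
  -- rank-nullity
  have hDmul : Nat.card ↥D.ker * Nat.card ↥D.range = p ^ b * p ^ b := by
    rw [← hFF, ← AddSubgroup.index_ker]; exact AddSubgroup.card_mul_index D.ker
  have hTmul : Nat.card ↥T.ker * Nat.card ↥T.range = p ^ b * p ^ b := by
    rw [← hFF, ← AddSubgroup.index_ker]; exact AddSubgroup.card_mul_index T.ker
  -- inclusions
  have hDT : D.range ≤ T.ker := by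
    rintro _ ⟨x, rfl⟩
    rw [AddMonoidHom.mem_ker, hT, hD, map_sub, hσdef, hσ]
    ring
  have hTD : T.range ≤ D.ker := by
    rintro _ ⟨x, rfl⟩
    rw [AddMonoidHom.mem_ker, hD, hT, map_add, hσdef, hσ]
    ring
  have hrDkT : Nat.card ↥D.range ≤ Nat.card ↥T.ker := AddSubgroup.card_le_of_le hDT
  have hrTkD : Nat.card ↥T.range ≤ Nat.card ↥D.ker := AddSubgroup.card_le_of_le hTD
  have hpbpos : 0 < p ^ b := by positivity
  -- card D.range ≥ p^b
  have hrD : p ^ b ≤ Nat.card ↥D.range := by
    by_contra hlt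
    push Not at hlt
    have : Nat.card ↥D.ker * Nat.card ↥D.range < p ^ b * p ^ b := by
      calc Nat.card ↥D.ker * Nat.card ↥D.range ≤ p ^ b * Nat.card ↥D.range := Nat.mul_le_mul_right _ hkD
        _ < p ^ b * p ^ b := Nat.mul_lt_mul_of_pos_left hlt hpbpos
    omega
  have hkTeq : Nat.card ↥T.ker = p ^ b := le_antisymm hkT (le_trans hrD hrDkT)
  have hrDeq : Nat.card ↥D.range = p ^ b := le_antisymm (le_trans hrDkT hkT) hrD
  have hkDeq : Nat.card ↥D.ker = p ^ b := by
    rw [hrDeq] at hDmul
    exact Nat.eq_of_mul_eq_mul_right hpbpos hDmul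
  have hrTeq : Nat.card ↥T.range = p ^ b := by
    rw [hkTeq] at hTmul
    exact Nat.eq_of_mul_eq_mul_left hpbpos hTmul
  have hDTeq : D.range = T.ker :=
    AddSubgroup.eq_of_le_of_card_ge hDT (by rw [hkTeq, hrDeq])
  have hTDeq : T.range = D.ker :=
    AddSubgroup.eq_of_le_of_card_ge hTD (by rw [hkDeq, hrTeq])
  -- (3)
  have h3 : ∀ z : F, z + σ z = 0 → ∃ x : F, z = x - σ x := by
    intro z hz
    have : z ∈ T.ker := by rw [AddMonoidHom.mem_ker, hT]; exact hz
    rw [← hDTeq] at this
    obtain ⟨x, hx⟩ := this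
    exact ⟨x, by rw [← hx, hD]⟩
  -- existence of z over each x
  have hex : ∀ x : F, ∃ z : F, z + σ z + x * σ x = 0 := by
    intro x
    have : -(x * σ x) ∈ D.ker := by
      rw [AddMonoidHom.mem_ker, hD, map_neg, map_mul, hσdef, hσ]
      ring
    rw [← hTDeq] at this
    obtain ⟨z, hz⟩ := this
    refine ⟨z, ?_⟩
    rw [hT] at hz
    rw [hz]; ring
  choose zx hzx using hex
  have h2 : ∀ x : F, ∃ g ∈ heisU F σ hσ, g.x = x := by
    intro x
    exact ⟨⟨x, zx x⟩, (mem_heisU σ hσ _).2 (hzx x), rfl⟩
  refine ⟨?_, h2, h3⟩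
  -- (1) counting
  let e : ↥(heisU F σ hσ) ≃ F × ↥T.ker :=
    { toFun := fun g => (g.1.x, ⟨g.1.z - zx g.1.x, by
        have hg := (mem_heisU σ hσ g.1).1 g.2
        have hz := hzx g.1.x
        rw [AddMonoidHom.mem_ker, hT, map_sub]
        linear_combination hg - hz⟩)
      invFun := fun xk => ⟨⟨xk.1, zx xk.1 + xk.2.1⟩, by
        have hk : T xk.2.1 = 0 := xk.2.2
        rw [hT] at hk
        have hz := hzx xk.1
        rw [mem_heisU]
        simp only [map_add]
        linear_combination hz + hk⟩
      left_inv := by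
        intro g
        apply Subtype.ext
        ext
        · rfl
        · simp
      right_inv := by
        rintro ⟨x, k⟩
        apply Prod.ext
        · rfl
        · apply Subtype.ext
          simp }
  rw [Nat.card_congr e, Nat.card_prod, hF, hkTeq, ← pow_add]
  congr 1
  ring

end Cfsg.Agent.S4395P
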