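import Mathlib
import Cfsg.Agent.Helper26.S4395HeisDefs

/-!
# S4395, piece EXev3 (helper6): a subgroup of the unitary Heisenberg group `U` projecting onto `F` is `U`.
-/

set_option autoImplicit false

namespace Cfsg.Agent.S4395P

/-- EXev3 (M/L): a subgroup of `U` projecting onto `F` is `U` (because `U' = Z₀`). -/
theorem EXev3 {F : Type*} [Field F] (σ : F →+* F) (hσ : ∀ x : F, σ (σ x) = x)
    (hc : ∀ z : F, z + σ z = 0 → ∃ x : F, z = x - σ x)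
    (M : Subgroup (HeisH F σ)) (hM : M ≤ heisU F σ hσ) (hsurj : ∀ x : F, ∃ g ∈ M, g.x = x) :
    heisU F σ hσ ≤ M := by
  -- the central elements `(0, z)` with `z + σ z = 0` lie in `M`
  have hZ : ∀ z : F, z + σ z = 0 → (⟨0, z⟩ : HeisH F σ) ∈ M := by
    intro z hz
    obtain ⟨w, hw⟩ := hc z hz
    obtain ⟨m₁, hm₁, hx₁⟩ := hsurj 1
    obtain ⟨m₂, hm₂, hx₂⟩ := hsurj (-w)
    have hmem : m₁ * m₂ * (m₂ * m₁)⁻¹ ∈ M :=
      M.mul_mem (M.mul_mem hm₁ hm₂) (M.inv_mem (M.mul_mem hm₂ hm₁))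
    have heq : m₁ * m₂ * (m₂ * m₁)⁻¹ = (⟨0, z⟩ : HeisH F σ) := by
      ext
      · simp only [HeisH.mul_x, HeisH.inv_x]; ring
      · simp only [HeisH.mul_x, HeisH.mul_z, HeisH.inv_x, HeisH.inv_z, hx₁, hx₂, map_add, map_neg,
          map_one, hw]
        ring
    rw [← heq]; exact hmem
  intro g hg
  obtain ⟨m, hm, hx⟩ := hsurj g.x
  have hmU : m ∈ heisU F σ hσ := hM hm
  have hgm : g * m⁻¹ ∈ heisU F σ hσ := (heisU F σ hσ).mul_mem hg ((heisU F σ hσ).inv_mem hmU)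
  have hx0 : (g * m⁻¹).x = 0 := by simp [hx]
  have hz0 : (g * m⁻¹).z + σ (g * m⁻¹).z = 0 := by
    have := (mem_heisU σ hσ _).1 hgm
    rw [hx0] at this
    simpa using this
  have h1 : (⟨0, (g * m⁻¹).z⟩ : HeisH F σ) ∈ M := hZ _ hz0
  have h2 : (⟨0, (g * m⁻¹).z⟩ : HeisH F σ) = g * m⁻¹ := by
    ext
    · exact hx0.symm
    · rfl
  rw [h2] at h1
  have : g * m⁻¹ * m ∈ M := M.mul_mem h1 hm
  simpa using this

end Cfsg.Agent.S4395P
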