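import Mathlib

/-! Board `s0745pieces`, row NUM3 (arithmetic core): `r ∣ 24`, `r (r c - 1) ∣ 120`, `c` odd, `r ≥ 2`
leaves seven pairs. -/

set_option autoImplicit false

namespace Cfsg.Agent.S0745P

theorem NUM3_aux_core {c r : ℕ} (hc : Odd c) (hr2 : 2 ≤ r) (hr : r ∣ 24)
    (hm : r * (r * c - 1) ∣ 120) :
    (r = 2 ∧ c = 1) ∨ (r = 2 ∧ c = 3) ∨ (r = 3 ∧ c = 1) ∨ (r = 3 ∧ c = 3) ∨ (r = 3 ∧ c = 7) ∨
      (r = 4 ∧ c = 1) ∨ (r = 6 ∧ c = 1) := by
  have hc' : c % 2 = 1 := Nat.odd_iff.1 hc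
  have hrle : r ≤ 24 := Nat.le_of_dvd (by norm_num) hr
  have hle := Nat.le_of_dvd (by norm_num) hm
  interval_cases r
  all_goals (first
    | (exfalso; revert hr; norm_num; done)
    | skip)
  all_goals (
    have hcb : c ≤ 61 := by omega
    interval_cases c
    all_goals (first
      | (exfalso; omega)
      | (exfalso; revert hm; norm_num; done)
      | simp))

end Cfsg.Agent.S0745P
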