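import Mathlib
import Cfsg.Agent.Helper27.S0745Defs
import Cfsg.Agent.Helper6.S0745NUM3core
import Cfsg.Agent.Helper3.S0745CARDL
import Cfsg.Agent.Helper27.S0745CARDM

/-! Board `s0745pieces`, row NUM3: the seven numerical possibilities for `t = 3`. -/

set_option autoImplicit false

namespace Cfsg.Agent.S0745P

open Equiv

variable {α : Type*} [Fintype α] [DecidableEq α]

/-- NUM3 -/
theorem num3 {G : Subgroup (Perm α)} {c r : ℕ} (h : Hyp G 3 c r) (hc : Odd c) :
    (r = 2 ∧ c = 1) ∨ (r = 2 ∧ c = 3) ∨ (r = 3 ∧ c = 1) ∨ (r = 3 ∧ c = 3) ∨ (r = 3 ∧ c = 7) ∨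
      (r = 4 ∧ c = 1) ∨ (r = 6 ∧ c = 1) := by
  have hc1 : 1 ≤ c := by
    obtain ⟨k, hk⟩ := hc; omega
  have hn : 5 ≤ Fintype.card α := by
    have h0 := h.deg
    have h1 : 2 * 1 ≤ r * c := Nat.mul_le_mul h.two_le hc1
    omega
  obtain ⟨Δ, -, hΔ⟩ := Finset.exists_subset_card_eq (s := (Finset.univ : Finset α)) (n := 4)
    (by rw [Finset.card_univ]; omega)
  obtain ⟨S, -, hS⟩ := Finset.exists_subset_card_eq (s := (Finset.univ : Finset α)) (n := 5)
    (by rw [Finset.card_univ]; omega)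
  have hL := card_L h Δ hΔ
  have hM := card_M h S hS
  have e4 : (3 + 1).factorial = 24 := by decide
  have e5 : (3 + 2).factorial = 120 := by decide
  rw [e4] at hL
  rw [e5] at hM
  exact NUM3_aux_core hc h.two_le (Dvd.intro_left _ hL) (Dvd.intro_left _ hM)

end Cfsg.Agent.S0745P
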