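import Mathlib
import Cfsg.Agent.Helper27.S0745Defs

/-! Board `s0745pieces`, row TRF: multiple transitivity in elementwise form. -/

set_option autoImplicit false

namespace Cfsg.Agent.S0745P

open Equiv

variable {α : Type*} [Fintype α] [DecidableEq α]

/-- TRF -/
theorem trans_elt (G : Subgroup (Perm α)) (t : ℕ) (h : MulAction.IsMultiplyPretransitive G α t) :
    ∀ x y : Fin t ↪ α, ∃ g ∈ G, ∀ i, g (x i) = y i := by
  intro x y
  obtain ⟨g, hg⟩ := h.exists_smul_eq x y
  refine ⟨g, g.2, fun i => ?_⟩
  have := congrArg (fun f : Fin t ↪ α => f i) hg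
  simpa [Function.Embedding.smul_apply, Subgroup.smul_def] using this

end Cfsg.Agent.S0745P
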