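import Mathlib
import Cfsg.Agent.Helper27.S4009Defs
import Cfsg.Agent.Helper21.PolySeq

/-! s4009pieces row CYC1 (helper6): if `X ≤ Gam b` is cyclic modulo `Gam (b+1)` then `[X,X] ≤ Gam (2b+2)`
(modulo `Gam (2b+2)` the elements `c`, `g`, `g'` with `g, g' ∈ Gam (b+1)` commute pairwise). -/

set_option autoImplicit false

namespace Cfsg.Agent.S4009P

open Cfsg.Agent.S4009P Subgroup
open scoped commutatorElement

variable {P : Type*} [Group P]

/-- modulo `Gam (2b+2)`, `Gam (b+1)` commutes with `Gam b`. -/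
theorem CYC1_aux_commute {b : ℕ} {g z : P} (hg : g ∈ Gam P (b + 1)) (hz : z ∈ Gam P b) :
    Commute (QuotientGroup.mk' (Gam P (2 * b + 2)) g) (QuotientGroup.mk' (Gam P (2 * b + 2)) z) := by
  rw [← commutatorElement_eq_one_iff_commute, ← map_commutatorElement, QuotientGroup.mk'_apply,
    QuotientGroup.eq_one_iff]
  have h := Cfsg.Agent.Helper21.PolySeq.lcs_comm_le (G := P) b (b + 1)
  have e : b + 1 + b + 1 = 2 * b + 2 := by omega
  rw [e] at h
  exact h (Subgroup.commutator_mem_commutator hg hz)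

/-- CYC1 (M): if `X ≤ Gam b` is cyclic modulo `Gam (b+1)` then `[X,X] ≤ Gam (2b+2)`. -/
theorem CYC1 {X : Subgroup P} {b : ℕ} (hX : X ≤ Gam P b) (hc : Cyc P X b) : ⁅X, X⁆ ≤ Gam P (2 * b + 2) := by
  obtain ⟨c, hcX, hXc⟩ := hc
  have hanti : Gam P (b + 1) ≤ Gam P b := (⊤ : Subgroup P).lowerCentralSeries_antitone (Nat.le_succ b)
  have hcb : c ∈ Gam P b := hX hcX
  rw [Subgroup.commutator_le]
  intro x hx y hy
  obtain ⟨s, hs, g, hg, rfl⟩ := Subgroup.mem_sup_of_normal_right.mp (hXc hx)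
  obtain ⟨t, ht, g', hg', rfl⟩ := Subgroup.mem_sup_of_normal_right.mp (hXc hy)
  obtain ⟨k, rfl⟩ := Subgroup.mem_zpowers_iff.mp hs
  obtain ⟨l, rfl⟩ := Subgroup.mem_zpowers_iff.mp ht
  rw [← QuotientGroup.eq_one_iff, ← QuotientGroup.mk'_apply, map_commutatorElement,
    commutatorElement_eq_one_iff_commute]
  simp only [map_mul, map_zpow]
  have hgc : Commute (QuotientGroup.mk' (Gam P (2 * b + 2)) g) (QuotientGroup.mk' (Gam P (2 * b + 2)) c) :=
    CYC1_aux_commute hg hcb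
  have hg'c : Commute (QuotientGroup.mk' (Gam P (2 * b + 2)) g') (QuotientGroup.mk' (Gam P (2 * b + 2)) c) :=
    CYC1_aux_commute hg' hcb
  have hgg' : Commute (QuotientGroup.mk' (Gam P (2 * b + 2)) g) (QuotientGroup.mk' (Gam P (2 * b + 2)) g') :=
    CYC1_aux_commute hg (hanti hg')
  refine Commute.mul_left (Commute.mul_right ?_ ?_) (Commute.mul_right ?_ ?_)
  · exact (Commute.refl _).zpow_zpow k l
  · exact (hg'c.symm).zpow_left k
  · exact hgc.zpow_right l
  · exact hgg'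

end Cfsg.Agent.S4009P
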