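import Mathlib
import Cfsg.Agent.Helper27.S4009Defs
import Cfsg.Agent.Helper21.PolySeq

/-! s4009pieces row CYC2 (helper6, hedge): if `X ≤ Gam b` is generated by `c, d` modulo `Gam (b+1)` then `[X,X]` is
generated by `[c,d]` modulo `Gam (2b+2)`. `M := zpowers ⁅c,d⁆ ⊔ Gam (2b+2)` is normal, and modulo `M` the elements `c`, `d`
and those of `Gam (b+1)` commute pairwise. -/

set_option autoImplicit false

namespace Cfsg.Agent.S4009P

open Cfsg.Agent.S4009P Subgroup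
open scoped commutatorElement

variable {P : Type*} [Group P]

/-- `⁅Gam (b+1), Gam b⁆ ≤ Gam (2b+2)`, elementwise, both orders. -/
theorem CYC2_aux_comm_mem {b : ℕ} {g z : P} (hg : g ∈ Gam P (b + 1)) (hz : z ∈ Gam P b) :
    ⁅g, z⁆ ∈ Gam P (2 * b + 2) ∧ ⁅z, g⁆ ∈ Gam P (2 * b + 2) := by
  have h := Cfsg.Agent.Helper21.PolySeq.lcs_comm_le (G := P) b (b + 1)
  have e : b + 1 + b + 1 = 2 * b + 2 := by omega
  rw [e] at h
  have h1 : ⁅g, z⁆ ∈ Gam P (2 * b + 2) := h (Subgroup.commutator_mem_commutator hg hz)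
  refine ⟨h1, ?_⟩
  rw [← commutatorElement_inv]
  exact inv_mem h1

/-- `zpowers t ⊔ Gam (2b+2)` is normal for `t ∈ Gam (2b+1)`. -/
theorem CYC2_aux_normal {b : ℕ} {t : P} (ht : t ∈ Gam P (2 * b + 1)) :
    (zpowers t ⊔ Gam P (2 * b + 2)).Normal := by
  constructor
  intro n hn g
  obtain ⟨s, hs, q, hq, rfl⟩ := Subgroup.mem_sup_of_normal_right.mp hn
  obtain ⟨k, rfl⟩ := Subgroup.mem_zpowers_iff.mp hs
  have hgt : ⁅g, t⁆ ∈ Gam P (2 * b + 2) := by
    have h0 : ⁅t, g⁆ ∈ Gam P (2 * b + 1 + 1) := by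
      show ⁅t, g⁆ ∈ (⊤ : Subgroup P).lowerCentralSeries (2 * b + 1 + 1)
      rw [Subgroup.lowerCentralSeries_succ]
      exact Subgroup.commutator_mem_commutator ht (Subgroup.mem_top g)
    rw [← commutatorElement_inv]
    exact inv_mem h0
  have h1 : g * t * g⁻¹ ∈ zpowers t ⊔ Gam P (2 * b + 2) := by
    have e : g * t * g⁻¹ = ⁅g, t⁆ * t := by rw [commutatorElement_def]; group
    rw [e]
    exact mul_mem ((le_sup_right : Gam P (2 * b + 2) ≤ zpowers t ⊔ Gam P (2 * b + 2)) hgt)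
      ((le_sup_left : zpowers t ≤ zpowers t ⊔ Gam P (2 * b + 2)) (mem_zpowers t))
  have h2 : g * q * g⁻¹ ∈ zpowers t ⊔ Gam P (2 * b + 2) :=
    (le_sup_right : Gam P (2 * b + 2) ≤ zpowers t ⊔ Gam P (2 * b + 2))
      ((inferInstance : (Gam P (2 * b + 2)).Normal).conj_mem q hq g)
  have e : g * (t ^ k * q) * g⁻¹ = (g * t * g⁻¹) ^ k * (g * q * g⁻¹) := by
    rw [conj_zpow]; group
  rw [e]
  exact mul_mem (zpow_mem h1 k) h2

/-- CYC2 (M/L): if `X ≤ Gam b` is generated by `c, d` modulo `Gam (b+1)` then `[X,X]` is generated by `[c,d]` modulo `Gam (2b+2)`. -/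
theorem CYC2 {X : Subgroup P} {b : ℕ} (hX : X ≤ Gam P b) {c d : P} (hc : c ∈ X) (hd : d ∈ X)
    (hgen : X ≤ closure {c, d} ⊔ Gam P (b + 1)) : ⁅X, X⁆ ≤ zpowers ⁅c, d⁆ ⊔ Gam P (2 * b + 2) := by
  have hanti : Gam P (b + 1) ≤ Gam P b := (⊤ : Subgroup P).lowerCentralSeries_antitone (Nat.le_succ b)
  have hcb : c ∈ Gam P b := hX hc
  have hdb : d ∈ Gam P b := hX hd
  have ht : ⁅c, d⁆ ∈ Gam P (2 * b + 1) := by
    have h := Cfsg.Agent.Helper21.PolySeq.lcs_comm_le (G := P) b b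
    have e : b + b + 1 = 2 * b + 1 := by omega
    rw [e] at h
    exact h (Subgroup.commutator_mem_commutator hcb hdb)
  haveI hMn : (zpowers ⁅c, d⁆ ⊔ Gam P (2 * b + 2)).Normal := CYC2_aux_normal ht
  have hQM : Gam P (2 * b + 2) ≤ zpowers ⁅c, d⁆ ⊔ Gam P (2 * b + 2) := le_sup_right
  have htM : ⁅c, d⁆ ∈ zpowers ⁅c, d⁆ ⊔ Gam P (2 * b + 2) :=
    (le_sup_left : zpowers ⁅c, d⁆ ≤ _) (mem_zpowers _)
  -- the generating set
  have hT : ∀ z1 : P, (z1 = c ∨ z1 = d ∨ z1 ∈ Gam P (b + 1)) → ∀ z2 : P,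
      (z2 = c ∨ z2 = d ∨ z2 ∈ Gam P (b + 1)) → ⁅z1, z2⁆ ∈ zpowers ⁅c, d⁆ ⊔ Gam P (2 * b + 2) := by
    intro z1 h1 z2 h2
    rcases h1 with rfl | rfl | h1
    · rcases h2 with rfl | rfl | h2
      · rw [commutatorElement_self]; exact one_mem _
      · exact htM
      · exact hQM (CYC2_aux_comm_mem h2 hcb).2
    · rcases h2 with rfl | rfl | h2
      · have e : ⁅z1, z2⁆ = ⁅z2, z1⁆⁻¹ := (commutatorElement_inv z2 z1).symm
        rw [e]; exact inv_mem htM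
      · rw [commutatorElement_self]; exact one_mem _
      · exact hQM (CYC2_aux_comm_mem h2 hdb).2
    · rcases h2 with rfl | rfl | h2
      · exact hQM (CYC2_aux_comm_mem h1 hcb).1
      · exact hQM (CYC2_aux_comm_mem h1 hdb).1
      · exact hQM (CYC2_aux_comm_mem h1 (hanti h2)).1
  have hXT : X ≤ closure {z : P | z = c ∨ z = d ∨ z ∈ Gam P (b + 1)} := by
    refine hgen.trans (sup_le ?_ ?_)
    · apply Subgroup.closure_mono
      intro z hz
      rcases hz with rfl | hz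
      · exact Or.inl rfl
      · exact Or.inr (Or.inl hz)
    · intro z hz
      exact Subgroup.subset_closure (Or.inr (Or.inr hz))
  have hcommS : ∀ u ∈ (QuotientGroup.mk' (zpowers ⁅c, d⁆ ⊔ Gam P (2 * b + 2))) ''
        {z : P | z = c ∨ z = d ∨ z ∈ Gam P (b + 1)},
      ∀ v ∈ (QuotientGroup.mk' (zpowers ⁅c, d⁆ ⊔ Gam P (2 * b + 2))) ''
        {z : P | z = c ∨ z = d ∨ z ∈ Gam P (b + 1)}, u * v = v * u := by
    rintro _ ⟨z1, h1, rfl⟩ _ ⟨z2, h2, rfl⟩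
    have : Commute (QuotientGroup.mk' (zpowers ⁅c, d⁆ ⊔ Gam P (2 * b + 2)) z1)
        (QuotientGroup.mk' (zpowers ⁅c, d⁆ ⊔ Gam P (2 * b + 2)) z2) := by
      rw [← commutatorElement_eq_one_iff_commute, ← map_commutatorElement, QuotientGroup.mk'_apply,
        QuotientGroup.eq_one_iff]
      exact hT z1 h1 z2 h2
    exact this
  have hcl := Subgroup.isMulCommutative_closure hcommS
  have hmem : ∀ x ∈ X, QuotientGroup.mk' (zpowers ⁅c, d⁆ ⊔ Gam P (2 * b + 2)) x ∈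
      closure ((QuotientGroup.mk' (zpowers ⁅c, d⁆ ⊔ Gam P (2 * b + 2))) ''
        {z : P | z = c ∨ z = d ∨ z ∈ Gam P (b + 1)}) := by
    intro x hx
    rw [← MonoidHom.map_closure]
    exact Subgroup.mem_map_of_mem _ (hXT hx)
  rw [Subgroup.commutator_le]
  intro x hx y hy
  rw [← QuotientGroup.eq_one_iff, ← QuotientGroup.mk'_apply, map_commutatorElement,
    commutatorElement_eq_one_iff_commute]
  have h := hcl.is_comm.comm (⟨_, hmem x hx⟩ : closure ((QuotientGroup.mk' (zpowers ⁅c, d⁆ ⊔ Gam P (2 * b + 2))) ''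
        {z : P | z = c ∨ z = d ∨ z ∈ Gam P (b + 1)})) ⟨_, hmem y hy⟩
  exact congrArg Subtype.val h

end Cfsg.Agent.S4009P
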