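import Mathlib
import Cfsg.Agent.Helper27.S4150Defs

/-! # S4150, piece RESTRALT (helper6): restriction of a group of even permutations is even -/

set_option autoImplicit false

namespace Cfsg.Agent.S4150P

open Equiv Equiv.Perm MulAction

section
variable {α : Type*} [Fintype α] [DecidableEq α]

/-- RESTRALT [S]: restriction of a group of even permutations is even (`sign_ofSubtype`). -/
theorem RESTRALT.main (G : Subgroup (Perm α)) (D : Finset α) (hG : G ≤ alternatingGroup α) :
    restr G D ≤ alternatingGroup ↥D := by
  intro g hg
  have h1 : Equiv.Perm.ofSubtype g ∈ alternatingGroup α := hG (mem_restr.mp hg)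
  rw [Equiv.Perm.mem_alternatingGroup] at h1 ⊢
  rw [← h1, Equiv.Perm.sign_ofSubtype]

end

end Cfsg.Agent.S4150P
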