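import Mathlib
import Cfsg.Prelude.Def_PLocal
import Cfsg.Agent.Helper28.S2768Defs

set_option autoImplicit false

/-! Piece SYLFIN of the S2768/S2769 board: `L ∩ S = B` implies that `B` is a Sylow `p`-subgroup of
`L = ⟨B^G⟩`. -/

namespace Cfsg.Agent.S2768P

open Subgroup

variable {G : Type*} [Group G] [Finite G] {p : ℕ} [Fact p.Prime]

/-- a `p`-subgroup of a normal subgroup `N` has order at most `|N ∩ S|`, `S` a Sylow `p`-subgroup -/
theorem SYLFIN_aux_card_le (S : Sylow p G) (N : Subgroup G) (hN : N.Normal) (P : Subgroup G)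
    (hP : IsPGroup p P) (hPN : P ≤ N) : Nat.card P ≤ Nat.card ↥(N ⊓ (S : Subgroup G)) := by
  obtain ⟨S', hS'⟩ := hP.exists_le_sylow
  obtain ⟨g, rfl⟩ := MulAction.exists_smul_eq G S S'
  -- conjugation by `g⁻¹` embeds `P` into `N ⊓ S`
  have hmem : ∀ x ∈ P, g⁻¹ * x * g ∈ N ⊓ (S : Subgroup G) := by
    intro x hx
    refine mem_inf.mpr ⟨?_, ?_⟩
    · have := hN.conj_mem x (hPN hx) g⁻¹
      simpa using this
    · have h1 : x ∈ ((g • S : Sylow p G) : Subgroup G) := hS' hx
      rw [Sylow.coe_subgroup_smul] at h1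
      have h2 := Subgroup.mem_pointwise_smul_iff_inv_smul_mem.mp h1
      have h3 : (MulAut.conj g)⁻¹ • x = g⁻¹ * x * g := by
        simp [MulAut.smul_def, MulAut.conj_inv_apply]
      rw [h3] at h2
      exact h2
  let f : P → ↥(N ⊓ (S : Subgroup G)) := fun x => ⟨g⁻¹ * x * g, hmem x x.2⟩
  have hf : Function.Injective f := by
    intro x y hxy
    have := congrArg Subtype.val hxy
    simp only [f] at this
    ext
    have h2 : g⁻¹ * (x : G) * g = g⁻¹ * (y : G) * g := this
    have h3 := congrArg (fun z => g * z * g⁻¹) h2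
    simpa [mul_assoc] using h3
  exact Nat.card_le_card_of_injective f hf

theorem SYLFIN (S : Sylow p G) (h : L (S : Subgroup G) ⊓ (S : Subgroup G) = B (S : Subgroup G)) :
    ∃ P : Sylow p ↥(L (S : Subgroup G)),
      (P : Subgroup ↥(L (S : Subgroup G))) = (B (S : Subgroup G)).subgroupOf (L (S : Subgroup G)) := by
  have hLn : (L (S : Subgroup G)).Normal := by
    unfold L; exact normalClosure_normal
  have hBL : B (S : Subgroup G) ≤ L (S : Subgroup G) := by
    unfold L; exact le_normalClosure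
  have hBS : B (S : Subgroup G) ≤ (S : Subgroup G) := by
    unfold B; exact inf_le_left
  have hBp : IsPGroup p (B (S : Subgroup G)) := S.2.to_le hBS
  have hBp' : IsPGroup p ((B (S : Subgroup G)).subgroupOf (L (S : Subgroup G))) :=
    hBp.comap_subtype
  obtain ⟨P, hP⟩ := hBp'.exists_le_sylow
  refine ⟨P, ?_⟩
  symm
  apply eq_of_le_of_card_ge hP
  -- `|P| ≤ |L ∩ S| = |B| = |B.subgroupOf L|`
  have h1 : IsPGroup p ((P : Subgroup ↥(L (S : Subgroup G))).map (L (S : Subgroup G)).subtype) :=
    P.2.map _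
  have h2 : (P : Subgroup ↥(L (S : Subgroup G))).map (L (S : Subgroup G)).subtype ≤
      L (S : Subgroup G) := map_subtype_le _
  have h3 := SYLFIN_aux_card_le S (L (S : Subgroup G)) hLn _ h1 h2
  rw [h] at h3
  have h4 : Nat.card ((P : Subgroup ↥(L (S : Subgroup G))).map (L (S : Subgroup G)).subtype) =
      Nat.card (P : Subgroup ↥(L (S : Subgroup G))) :=
    Nat.card_congr
      (Subgroup.equivMapOfInjective _ _ (L (S : Subgroup G)).subtype_injective).toEquiv.symm
  have h5 : Nat.card ((B (S : Subgroup G)).subgroupOf (L (S : Subgroup G))) =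
      Nat.card (B (S : Subgroup G)) :=
    Nat.card_congr (Subgroup.subgroupOfEquivOfLe hBL).toEquiv
  rw [h5, ← h4]
  exact h3

end Cfsg.Agent.S2768P
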