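import Mathlib
import Cfsg.Agent.Helper7.S5655.Defs4
import Cfsg.Agent.Helper7.S5655.MonoLib
import Cfsg.Agent.Helper28.S5655QR

/-! # S5655 `k = 1`, chapter P2, piece U2G (helper6): the product of two quasi-reflections of `K²` -/

set_option autoImplicit false

namespace Cfsg.Agent.S5655K1

open Matrix
open Cfsg.Agent.S2644 Cfsg.Agent.Helper2.SUGen Cfsg.Agent.Helper28.SimMax Cfsg.Agent.MonoP

variable {K : Type*} [Field K] {q n : ℕ}

local notation "h" => Cfsg.hermForm n K q
local notation "T" => Cfsg.unitaryTransvection n q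
local notation "h₂" => Cfsg.hermForm 2 K q
local notation "T₂" => Cfsg.unitaryTransvection 2 q

/-- the entries of `T₂ v c` -/
theorem U2G.T_apply (v : Fin 2 → K) (c : K) (i j : Fin 2) :
    (T₂ v c) i j = (if i = j then 1 else 0) + c * (v i * v j ^ q) := by
  simp [Cfsg.unitaryTransvection, Matrix.add_apply, Matrix.one_apply, Matrix.smul_apply,
    Matrix.vecMulVec_apply]

/-- `r_{e₀}` explicitly -/
theorem U2G.left_eq (D : Frob K q) (c : K) : T₂ ![1, 0] c = !![1 + c, 0; 0, 1] := by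
  have h0 : (0 : K) ^ q = 0 := by rw [← D.pow, map_zero]
  ext i j
  fin_cases i <;> fin_cases j <;> simp [U2G.T_apply, h0]

/-- `r_w` explicitly -/
theorem U2G.right_eq (D : Frob K q) (α β c : K) :
    T₂ ![α, β] c = !![1 + c * (α * D.σ α), c * (α * D.σ β); c * (β * D.σ α), 1 + c * (β * D.σ β)] := by
  ext i j
  fin_cases i <;> fin_cases j <;> simp [U2G.T_apply, D.pow]

/-- the form of `K²` -/
theorem U2G.h2_apply (D : Frob K q) (u v : Fin 2 → K) : h₂ u v = u 0 * D.σ (v 0) + u 1 * D.σ (v 1) := by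
  unfold Cfsg.hermForm
  rw [Fin.sum_univ_two, D.pow, D.pow]

/-- the matrix `g2` explicitly -/
theorem U2G.g2_eq (D : Frob K q) (α β x y : K) :
    g2 q α β x y =
      !![(1 + (x * y - 1)) * (1 + (x * y⁻¹ - 1) * (α * D.σ α)),
          (1 + (x * y - 1)) * ((x * y⁻¹ - 1) * (α * D.σ β));
        (x * y⁻¹ - 1) * (β * D.σ α), 1 + (x * y⁻¹ - 1) * (β * D.σ β)] := by
  unfold g2
  rw [U2G.left_eq D, U2G.right_eq D, Matrix.mul_fin_two]
  congr 1 <;> simp

/-- U2G (M): the product of two quasi-reflections: isometry, determinant, trace, and it is scalar only for `x = 1`. -/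
theorem U2G.facts (D : Frob K q) (α β : K) (hα : α ≠ 0) (hβ : β ≠ 0) (hαβ : α * D.σ α + β * D.σ β = 1)
    (x y : K) (hx : IsU D x) (hy : IsU D y) :
    Pres (q := q) (g2 q α β x y) ∧ (g2 q α β x y).det = x ^ 2 ∧
    (g2 q α β x y).trace = x * ((α * D.σ α) * (x + x⁻¹) + (β * D.σ β) * (y + y⁻¹)) ∧
    (g2 q α β x y = x • (1 : Matrix (Fin 2) (Fin 2) K) → x = 1) := by
  have hx0 : x ≠ 0 := IsU.ne_zero D hx
  have hy0 : y ≠ 0 := IsU.ne_zero D hy
  have hxx : x * x⁻¹ = 1 := mul_inv_cancel₀ hx0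
  have hyy : y * y⁻¹ = 1 := mul_inv_cancel₀ hy0
  refine ⟨?_, ?_, ?_, ?_⟩
  · -- isometry
    unfold g2
    apply Pres.mul
    · apply QR.pres D
      have h1 : h₂ ![1, 0] ![1, 0] = 1 := by
        rw [U2G.h2_apply D]; simp
      have hxy : IsU D (x * y) := IsU.mul D hx hy
      unfold IsU at hxy
      rw [h1, map_sub, map_one]
      rw [map_mul] at hxy ⊢
      linear_combination hxy
    · apply QR.pres D
      have h1 : h₂ ![α, β] ![α, β] = 1 := by
        rw [U2G.h2_apply D]; simpa using hαβ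
      have hxy : IsU D (x * y⁻¹) := IsU.mul D hx (IsU.inv D hy)
      unfold IsU at hxy
      rw [h1, map_sub, map_one]
      rw [map_mul] at hxy ⊢
      linear_combination hxy
  · -- determinant
    rw [U2G.g2_eq D, Matrix.det_fin_two_of]
    linear_combination (x * y * (x * y⁻¹ - 1)) * hαβ + x ^ 2 * hyy
  · -- trace
    rw [U2G.g2_eq D, Matrix.trace_fin_two_of]
    linear_combination (-(x * y + 1)) * hαβ + (x ^ 2 * (α * D.σ α)) * hyy - (α * D.σ α) * hxx
  · -- not scalar
    intro hsc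
    rw [U2G.g2_eq D] at hsc
    have h10 := congrFun (congrFun hsc 1) 0
    have h11 := congrFun (congrFun hsc 1) 1
    simp at h10 h11
    have hc' : x * y⁻¹ - 1 = 0 := by
      rcases h10 with h1 | h1 | h1
      · exact h1
      · exact absurd h1 hβ
      · exact absurd h1 hα
    rw [hc', zero_mul, add_zero] at h11
    exact h11.symm

end Cfsg.Agent.S5655K1
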