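import Mathlib
import Cfsg.Agent.Helper7.S5655.Defs4
import Cfsg.Agent.Helper7.S5655.MonoLib
import Cfsg.Agent.Lead.S5655SUMSET
import Cfsg.Agent.Helper5.S5655MU

/-! # S5655 `k = 1`, chapter P2, piece U2SOLVE (helper6) -/

set_option autoImplicit false

namespace Cfsg.Agent.S5655K1

open Matrix
open Cfsg.Agent.S2644 Cfsg.Agent.Helper2.SUGen Cfsg.Agent.Helper28.SimMax Cfsg.Agent.MonoP

variable {K : Type*} [Field K] {q n : ℕ}

local notation "h" => Cfsg.hermForm n K q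
local notation "T" => Cfsg.unitaryTransvection n q
local notation "h₂" => Cfsg.hermForm 2 K q
local notation "T₂" => Cfsg.unitaryTransvection 2 q

open scoped Classical in
/-- U2SOLVE (M): every `c` in the fixed field is `a Tr x + b Tr y` with `x ≠ 1`. -/
theorem U2SOLVE.exists (D : Frob K q) [Fintype K] (hK : Fintype.card K = q ^ 2) (a b : K) (ha : D.σ a = a)
    (hb : D.σ b = b) (ha0 : a ≠ 0) (hb0 : b ≠ 0) (c : K) (hc : D.σ c = c) :
    ∃ x y : K, IsU D x ∧ IsU D y ∧ x ≠ 1 ∧ a * (x + x⁻¹) + b * (y + y⁻¹) = c := by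
  set μ : Finset K := Finset.univ.filter (fun t : K => IsU D t) with hμ
  have hμc : μ.card = q + 1 := MU.card D hK
  have h1μ : (1 : K) ∈ μ := by
    rw [hμ, Finset.mem_filter]
    exact ⟨Finset.mem_univ _, IsU.one D⟩
  have hS1 : ∀ t ∈ μ.erase 1, IsU D t := by
    intro t ht
    have := Finset.mem_of_mem_erase ht
    rw [hμ, Finset.mem_filter] at this
    exact this.2
  have hS2 : ∀ t ∈ μ, IsU D t := by
    intro t ht
    rw [hμ, Finset.mem_filter] at ht
    exact ht.2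
  have hcard : 2 * q + 1 ≤ (μ.erase 1).card + μ.card := by
    rw [Finset.card_erase_of_mem h1μ, hμc]
    omega
  obtain ⟨t₁, ht₁, t₂, ht₂, heq⟩ :=
    SUMSET.main D hK (μ.erase 1) μ hS1 hS2 a b ha0 hb0 hcard c hc
  refine ⟨t₁, t₂, hS1 t₁ ht₁, hS2 t₂ ht₂, Finset.ne_of_mem_erase ht₁, ?_⟩
  rw [map_mul, map_mul, ha, hb, IsU.sigma D (hS1 t₁ ht₁), IsU.sigma D (hS2 t₂ ht₂)] at heq
  rw [← heq]
  ring

end Cfsg.Agent.S5655K1
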