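import Mathlib
import Cfsg.Agent.Helper28.S5658.Defs
import Cfsg.Agent.Helper28.S5658.Lib
import Cfsg.Agent.Helper12.LSUSTD

/-! S5658 piece REDUCE (driver helper28; helper6): reduction to `P = 1` (unitary twin of Lead.S5650REDUCE). -/

set_option autoImplicit false

namespace Cfsg.Agent.S5658P

open Matrix
open Cfsg.Agent.S2644 Cfsg.Agent.Helper2.SUGen Cfsg.Agent.Helper28.SimMax Cfsg.Agent.S5639P

variable {K : Type*} [Field K] {q n : ℕ}

local notation "h" => Cfsg.hermForm n K q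
local notation "T" => Cfsg.unitaryTransvection n q

namespace REDUCE

theorem up_single (F₀ : Subfield K) (k : Fin n) :
    up F₀ (Pi.single k (1 : F₀)) = (Pi.single k 1 : Fin n → K) := by
  funext l
  simp only [up, Pi.single_apply]
  split_ifs <;> simp

theorem expand (y : Fin n → K) : y = ∑ i, y i • (Pi.single i 1 : Fin n → K) := by
  funext k
  simp [Finset.sum_apply, Pi.single_apply]

/-- the rational Hermitian form `f₀(u,v) = h(Pu,Pv)` -/
def f0 (F₀ : Subfield K) (P : Matrix.GeneralLinearGroup (Fin n) K)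
    (hP : Cfsg.Geo.IsFormRationalStructure (Cfsg.hermForm n K q) F₀ 1 P) (u v : Fin n → F₀) : F₀ :=
  ⟨h ((P : Matrix (Fin n) (Fin n) K) *ᵥ up F₀ u) ((P : Matrix (Fin n) (Fin n) K) *ᵥ up F₀ v), by
    have := hP _ _ (rat_up u) (rat_up v)
    rwa [one_mul] at this⟩

theorem f0_val (F₀ : Subfield K) (P : Matrix.GeneralLinearGroup (Fin n) K)
    (hP : Cfsg.Geo.IsFormRationalStructure (Cfsg.hermForm n K q) F₀ 1 P) (u v : Fin n → F₀) :
    ((f0 F₀ P hP u v : F₀) : K) =
      h ((P : Matrix (Fin n) (Fin n) K) *ᵥ up F₀ u) ((P : Matrix (Fin n) (Fin n) K) *ᵥ up F₀ v) := rfl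

theorem inv_mulVec_mulVec (P : Matrix.GeneralLinearGroup (Fin n) K) (w : Fin n → K) :
    ((P⁻¹ : Matrix.GeneralLinearGroup (Fin n) K) : Matrix (Fin n) (Fin n) K) *ᵥ
      ((P : Matrix (Fin n) (Fin n) K) *ᵥ w) = w := by
  rw [Matrix.mulVec_mulVec, inv_mul_coe, Matrix.one_mulVec]

theorem mulVec_inv_mulVec (P : Matrix.GeneralLinearGroup (Fin n) K) (w : Fin n → K) :
    (P : Matrix (Fin n) (Fin n) K) *ᵥ
      (((P⁻¹ : Matrix.GeneralLinearGroup (Fin n) K) : Matrix (Fin n) (Fin n) K) *ᵥ w) = w := by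
  rw [Matrix.mulVec_mulVec, mul_inv_coe, Matrix.one_mulVec]

theorem f0_nondeg (D : Frob K q) (F₀ : Subfield K) (P : Matrix.GeneralLinearGroup (Fin n) K)
    (hP : Cfsg.Geo.IsFormRationalStructure (Cfsg.hermForm n K q) F₀ 1 P) (v : Fin n → F₀)
    (hv : v ≠ 0) : ∃ x, f0 F₀ P hP v x ≠ 0 := by
  by_contra hcon
  push Not at hcon
  apply hv
  set z : Fin n → K := (P : Matrix (Fin n) (Fin n) K) *ᵥ up F₀ v with hz
  have h1 : ∀ i : Fin n, h z ((P : Matrix (Fin n) (Fin n) K) *ᵥ Pi.single i 1) = 0 := by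
    intro i
    have := congrArg Subtype.val (hcon (Pi.single i 1))
    rw [f0_val, up_single] at this
    exact this
  have h2 : ∀ y : Fin n → K, h z ((P : Matrix (Fin n) (Fin n) K) *ᵥ y) = 0 := by
    intro y
    rw [expand y, Matrix.mulVec_sum, h_sum_right D]
    apply Finset.sum_eq_zero
    intro i _
    rw [Matrix.mulVec_smul, h_smul_right D, h1 i, mul_zero]
  have h3 : z = 0 := by
    funext j
    have := h2 (((P⁻¹ : Matrix.GeneralLinearGroup (Fin n) K) : Matrix (Fin n) (Fin n) K) *ᵥ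
      Pi.single j 1)
    rw [mulVec_inv_mulVec, h_single_right D] at this
    exact this
  have h4 : up F₀ v = 0 := by
    have := congrArg (fun w => ((P⁻¹ : Matrix.GeneralLinearGroup (Fin n) K) :
      Matrix (Fin n) (Fin n) K) *ᵥ w) h3
    simp only [hz, inv_mulVec_mulVec, Matrix.mulVec_zero] at this
    exact this
  apply up_injective (F₀ := F₀)
  rw [h4]
  rfl

/-- a matrix preserving the form on the standard basis preserves it -/
theorem pres_of_singles (D : Frob K q) (A : Matrix (Fin n) (Fin n) K)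
    (key : ∀ i j : Fin n, h (A *ᵥ Pi.single i 1) (A *ᵥ Pi.single j 1) =
      h (Pi.single i 1 : Fin n → K) (Pi.single j 1)) : Pres (q := q) A := by
  intro x y
  rw [expand x, expand y]
  simp only [Matrix.mulVec_sum, Matrix.mulVec_smul, h_sum_left, h_sum_right D, h_smul_left,
    h_smul_right D, key]

/-- conjugation by an isometry preserves `GU ⊓ SL` (one inclusion) -/
theorem conj_mem {Q : Matrix.GeneralLinearGroup (Fin n) K}
    (hQ : Pres (q := q) (Q : Matrix (Fin n) (Fin n) K))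
    {g : Matrix.GeneralLinearGroup (Fin n) K}
    (hg : g ∈ Cfsg.GU n K q ⊓ Cfsg.Geo.specialLinear (Fin n) K) :
    Q * g * Q⁻¹ ∈ Cfsg.GU n K q ⊓ Cfsg.Geo.specialLinear (Fin n) K := by
  obtain ⟨hg1, hg2⟩ := (mem_G_iff g).1 hg
  rw [mem_G_iff]
  constructor
  · intro u v
    have e1 : ∀ w : Fin n → K, ((Q * g * Q⁻¹ : Matrix.GeneralLinearGroup (Fin n) K) :
        Matrix (Fin n) (Fin n) K) *ᵥ w = (Q : Matrix (Fin n) (Fin n) K) *ᵥ
        ((g : Matrix (Fin n) (Fin n) K) *ᵥ (((Q⁻¹ : Matrix.GeneralLinearGroup (Fin n) K) :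
          Matrix (Fin n) (Fin n) K) *ᵥ w)) := by
      intro w
      rw [Matrix.GeneralLinearGroup.coe_mul, Matrix.GeneralLinearGroup.coe_mul,
        Matrix.mulVec_mulVec, Matrix.mulVec_mulVec]
    rw [e1, e1, hQ, hg1, ← hQ, mulVec_inv_mulVec, mulVec_inv_mulVec]
  · rw [Matrix.GeneralLinearGroup.coe_mul, Matrix.GeneralLinearGroup.coe_mul, Matrix.det_mul,
      Matrix.det_mul, hg2, mul_one, ← Matrix.det_mul, mul_inv_coe, Matrix.det_one]

end REDUCE

theorem REDUCE.exists_conj [Finite K] (D : Frob K q) (F₀ : Subfield K) (hθ : ∃ θ ∈ F₀, D.σ θ ≠ θ)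
    (P : Matrix.GeneralLinearGroup (Fin n) K)
    (hP : Cfsg.Geo.IsFormRationalStructure (Cfsg.hermForm n K q) F₀ 1 P) :
    ∃ Q : Matrix.GeneralLinearGroup (Fin n) K,
      Cfsg.Geo.subfieldSubgroup F₀ P =
        (Cfsg.Geo.subfieldSubgroup F₀ (1 : Matrix.GeneralLinearGroup (Fin n) K)).map
          (MulAut.conj Q).toMonoidHom ∧
      (Cfsg.GU n K q ⊓ Cfsg.Geo.specialLinear (Fin n) K).map (MulAut.conj Q).toMonoidHom =
        Cfsg.GU n K q ⊓ Cfsg.Geo.specialLinear (Fin n) K := by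
  classical
  haveI : Finite F₀ := Finite.of_injective (fun x : F₀ => (x : K)) Subtype.val_injective
  obtain ⟨g₀, hg₀⟩ := Cfsg.Agent.Helper12.LSU.exists_std_q (frob0 D F₀ hθ) (REDUCE.f0 F₀ P hP)
    (fun x y v => by
      apply Subtype.ext
      show h ((P : Matrix (Fin n) (Fin n) K) *ᵥ up F₀ (x + y)) _ = _ + _
      rw [up_add, Matrix.mulVec_add, h_add_left]; rfl)
    (fun c x v => by
      apply Subtype.ext
      show h ((P : Matrix (Fin n) (Fin n) K) *ᵥ up F₀ (c • x)) _ = (c : K) * _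
      rw [up_smul, Matrix.mulVec_smul, h_smul_left]; rfl)
    (fun v w => by
      apply Subtype.ext
      rw [frob0_coe, REDUCE.f0_val, REDUCE.f0_val, h_conj D])
    (fun v hv => REDUCE.f0_nondeg D F₀ P hP v hv)
  set Cg : Matrix.GeneralLinearGroup (Fin n) K :=
    Matrix.GeneralLinearGroup.map (F₀.subtype : F₀ →+* K) g₀ with hCg
  have hCgval : (Cg : Matrix (Fin n) (Fin n) K) = upM F₀ (g₀ : Matrix (Fin n) (Fin n) F₀) := by
    ext a b
    rw [hCg, Matrix.GeneralLinearGroup.map_apply]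
    rfl
  have hCgmem : Cg ∈ (Matrix.GeneralLinearGroup.map (F₀.subtype : F₀ →+* K)).range ⊔
      Cfsg.Geo.scalars (Fin n) K :=
    Subgroup.mem_sup_left ⟨g₀, rfl⟩
  -- `Q = P * Cg` is an isometry
  have hQ : Pres (q := q) ((P * Cg : Matrix.GeneralLinearGroup (Fin n) K) :
      Matrix (Fin n) (Fin n) K) := by
    apply REDUCE.pres_of_singles D
    intro i j
    rw [Matrix.GeneralLinearGroup.coe_mul, hCgval, ← Matrix.mulVec_mulVec, ← Matrix.mulVec_mulVec,
      ← REDUCE.up_single F₀ i, ← REDUCE.up_single F₀ j, upM_mulVec, upM_mulVec, ← REDUCE.f0_val F₀ P hP,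
      hg₀, herm_up]
  have hQi : Pres (q := q) (((P * Cg)⁻¹ : Matrix.GeneralLinearGroup (Fin n) K) :
      Matrix (Fin n) (Fin n) K) := by
    intro x y
    rw [← hQ, REDUCE.mulVec_inv_mulVec, REDUCE.mulVec_inv_mulVec]
  refine ⟨P * Cg, ?_, ?_⟩
  · -- the subfield groups
    unfold Cfsg.Geo.subfieldSubgroup
    ext x
    simp only [Subgroup.mem_map, MulEquiv.coe_toMonoidHom, MulAut.conj_apply, exists_exists_and_eq_and,
      one_mul, inv_one, mul_one]
    constructor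
    · rintro ⟨y, hy, rfl⟩
      refine ⟨Cg⁻¹ * y * Cg, ?_, ?_⟩
      · exact Subgroup.mul_mem _ (Subgroup.mul_mem _ (Subgroup.inv_mem _ hCgmem) hy) hCgmem
      · group
    · rintro ⟨y, hy, rfl⟩
      refine ⟨Cg * y * Cg⁻¹, ?_, ?_⟩
      · exact Subgroup.mul_mem _ (Subgroup.mul_mem _ hCgmem hy) (Subgroup.inv_mem _ hCgmem)
      · group
  · apply le_antisymm
    · rintro _ ⟨g, hg, rfl⟩
      exact REDUCE.conj_mem hQ hg
    · intro x hx
      refine ⟨(P * Cg)⁻¹ * x * ((P * Cg)⁻¹)⁻¹, REDUCE.conj_mem hQi hx, ?_⟩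
      simp only [MulEquiv.coe_toMonoidHom, MulAut.conj_apply]
      group

end Cfsg.Agent.S5658P
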