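import Mathlib
import Cfsg.Agent.Helper29.EsnDefs
import Cfsg.Agent.Helper6.EsnLINA1
import Cfsg.Agent.Helper29.EsnCFG
import Cfsg.Agent.Helper15.EsnLINB

set_option autoImplicit false

/-! S5877 piece DIV3: `three_dvd_of_three`. -/

namespace Cfsg.Agent.S5877P

open Matrix Module

variable {n : ℕ} {F : Type*} [Field F]

namespace DIV3

/-- In a `3`-group of exponent `3` or `4` with a centre of order `3`, every element has cube `1`. -/
theorem cube_eq_one {G : Type*} [Group G] (hR : IsPGroup 3 G)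
    (hZ : Nat.card (Subgroup.center G) = 3)
    (hexp : Monoid.exponent G = 3 ∨ Monoid.exponent G = 4) (x : G) : x ^ 3 = 1 := by
  rcases hexp with h | h
  · rw [← h]; exact Monoid.pow_exponent_eq_one x
  · exfalso
    have hall : ∀ y : G, y = 1 := by
      intro y
      obtain ⟨k, hk⟩ := hR y
      have h4 : y ^ 4 = 1 := by rw [← h]; exact Monoid.pow_exponent_eq_one y
      have hd1 : orderOf y ∣ 3 ^ k := orderOf_dvd_of_pow_eq_one hk
      have hd2 : orderOf y ∣ 4 := orderOf_dvd_of_pow_eq_one h4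
      have hcop : Nat.Coprime (3 ^ k) 4 := Nat.Coprime.pow_left k (by decide)
      have h1 : orderOf y = 1 := Nat.eq_one_of_dvd_coprimes hcop hd1 hd2
      exact orderOf_eq_one_iff.mp h1
    have hsub : Subsingleton (Subgroup.center G) :=
      ⟨fun a b => Subtype.ext ((hall a).trans (hall b).symm)⟩
    have : Nat.card (Subgroup.center G) = 1 := Nat.card_unique
    omega

/-- a group whose commutator subgroup is its centre of order `3` has a noncentral element -/
theorem exists_noncentral {G : Type*} [Group G] (hZ : Nat.card (Subgroup.center G) = 3)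
    (hext : commutator G = Subgroup.center G) : ∃ a : G, a ∉ Subgroup.center G := by
  by_contra hcon
  push Not at hcon
  have hbot : commutator G = ⊥ := by
    rw [commutator_def, Subgroup.commutator_eq_bot_iff_le_centralizer]
    intro a _
    rw [Subgroup.mem_centralizer_iff]
    intro b _
    exact ((Subgroup.mem_center_iff.mp (hcon a)) b).symm ▸ rfl
  rw [hext] at hbot
  rw [hbot] at hZ
  simp at hZ

end DIV3

theorem three_dvd_of_three [Fintype F] (hn : 0 < n) (R : Subgroup (GLn n F))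
    (hR : IsPGroup 3 R) (hZ : Nat.card (Subgroup.center R) = 3)
    (hext : commutator R = Subgroup.center R)
    (hexp : Monoid.exponent R = 3 ∨ Monoid.exponent R = 4)
    (hirr : Cfsg.Geo.ActsAbsolutelyIrreducibly (Cfsg.Geo.matrixSet R)) : 3 ∣ n := by
  have h3 : Nat.Prime 3 := Nat.prime_three
  obtain ⟨ζ, hC⟩ := exists_cfg (r := 3) hn R h3 hR hZ hext hirr
  obtain ⟨a, ha⟩ := DIV3.exists_noncentral hZ hext
  have ha3 : (a : GLn n F) ^ 3 = 1 := by
    have := DIV3.cube_eq_one hR hZ hexp a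
    have h2 := congrArg (Subtype.val) this
    simpa using h2
  have haQ : (a : GLn n F) ∈ R ⊔ Zs n F := Subgroup.mem_sup_left a.2
  -- `a` is not scalar
  have haZ : (a : GLn n F) ∉ Zs n F := by
    intro hz
    apply ha
    rw [Subgroup.mem_center_iff]
    intro b
    apply Subtype.ext
    have := Subgroup.mem_center_iff.mp (Zs_le_center hz) (b : GLn n F)
    simpa using this
  -- some `b ∈ Q` does not commute with `a`
  have hnc : ∃ b ∈ R ⊔ Zs n F, (a : GLn n F) * b ≠ b * a := by
    by_contra hcon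
    push Not at hcon
    exact haZ (hC.centG a hcon)
  obtain ⟨b, hbQ, hb⟩ := hnc
  obtain ⟨k, hk⟩ := hC.comm b hbQ a haQ
  have hconj : b * (a : GLn n F) * b⁻¹ = sc n (ζ ^ k) * a := by
    rw [hk, mul_assoc, mul_assoc, mul_inv_cancel, mul_one]
  have hζ3 : ζ ^ 3 = 1 := hC.zeta_pow
  have hshift : ∀ c : F, finrank F (Eig (a : GLn n F) c)
      = finrank F (Eig (a : GLn n F) ((((ζ ^ k)⁻¹ : Fˣ) : F) * c)) :=
    fun c => finrank_Eig_shift b a (ζ ^ k) hconj c
  have hkmod : ζ ^ k = ζ ^ (k % 3) := pow_eq_pow_mod k hζ3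
  have hinv : ζ⁻¹ = ζ ^ 2 := by
    rw [inv_eq_iff_mul_eq_one, ← pow_succ', hζ3]
  have hinv2 : (ζ ^ 2)⁻¹ = ζ := by
    rw [inv_eq_iff_mul_eq_one, ← pow_succ, hζ3]
  -- decomposition of the whole space
  have hdec := finrank_eq_sum_inf_Eig h3 ζ hζ3 hC.zeta_ne (a : GLn n F) ha3 ⊤
    (fun v _ => Submodule.mem_top)
  rw [finrank_top, Module.finrank_fin_fun] at hdec
  rw [Finset.sum_range_succ, Finset.sum_range_succ, Finset.sum_range_succ, Finset.sum_range_zero,
    zero_add] at hdec
  have t0 : (⊤ ⊓ Eig (a : GLn n F) ((ζ ^ 0 : Fˣ) : F) : Submodule F (Fin n → F))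
      = Eig (a : GLn n F) 1 := by rw [top_inf_eq, pow_zero, Units.val_one]
  have t1 : (⊤ ⊓ Eig (a : GLn n F) ((ζ ^ 1 : Fˣ) : F) : Submodule F (Fin n → F))
      = Eig (a : GLn n F) ((ζ : Fˣ) : F) := by rw [top_inf_eq, pow_one]
  have t2 : (⊤ ⊓ Eig (a : GLn n F) ((ζ ^ 2 : Fˣ) : F) : Submodule F (Fin n → F))
      = Eig (a : GLn n F) ((ζ ^ 2 : Fˣ) : F) := by rw [top_inf_eq]
  rw [t0, t1, t2] at hdec
  have hk3 : k % 3 < 3 := Nat.mod_lt _ (by norm_num)
  have hcases : k % 3 = 0 ∨ k % 3 = 1 ∨ k % 3 = 2 := by omega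
  rcases hcases with h0 | h1 | h2
  · exfalso
    rw [h0, pow_zero] at hkmod
    apply hb
    rw [hkmod, map_one, one_mul] at hk
    exact hk.symm
  · rw [h1, pow_one] at hkmod
    rw [hkmod, hinv] at hshift
    have e1 := hshift 1
    have e2 := hshift ((ζ ^ 2 : Fˣ) : F)
    rw [mul_one] at e1
    rw [← Units.val_mul, ← pow_add, show 2 + 2 = 3 + 1 from rfl, pow_add, hζ3, one_mul,
      pow_one] at e2
    exact ⟨finrank F (Eig (a : GLn n F) 1), by omega⟩
  · rw [h2] at hkmod
    rw [hkmod, hinv2] at hshift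
    have e1 := hshift 1
    have e2 := hshift ((ζ : Fˣ) : F)
    rw [mul_one] at e1
    rw [← Units.val_mul, ← pow_two] at e2
    exact ⟨finrank F (Eig (a : GLn n F) 1), by omega⟩

end Cfsg.Agent.S5877P
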