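import Mathlib
import Cfsg.Agent.Helper29.S2221Defs

/-! S2221 piece CARDPTS (helper6; driver helper29): the numbers of points. -/

set_option autoImplicit false

namespace Cfsg.Agent.S2221P

open Equiv

/-- S3 CARDPTS (S–M; `Nat.sum_toFinset_bitIndices_two_pow`). -/
theorem card_Om (k : ℕ) : Fintype.card (Om k) = 2 ^ k := by
  induction k with
  | zero => rfl
  | succ k ih =>
    show Fintype.card (Om k ⊕ Om k) = 2 ^ (k + 1)
    rw [Fintype.card_sum, ih, pow_succ]
    ring

theorem card_pts (n : ℕ) : Fintype.card (Pts n) = n := by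
  rw [Fintype.card_sigma]
  simp only [card_Om]
  rw [Finset.sum_coe_sort (bitsF n) (fun k => 2 ^ k)]
  exact Finset.sum_toFinset_bitIndices_two_pow n

end Cfsg.Agent.S2221P
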