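import Mathlib
import Cfsg.Agent.Helper29.S2221Defs

/-! S2221 piece RHOINJ (helper6; driver helper29): the action of `PW n` on the points is faithful. -/

set_option autoImplicit false

namespace Cfsg.Agent.S2221P

open Equiv

/-- S2 RHOINJ (S; `Equiv.Perm.sigmaCongrRightHom_injective`). -/
theorem rho_injective (n : ℕ) : Function.Injective (rho n) := by
  unfold rho
  intro w w' h
  have h1 := Perm.sigmaCongrRightHom_injective h
  funext k
  apply Subtype.ext
  have h2 := congrFun h1 k
  exact h2

end Cfsg.Agent.S2221P
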