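import Mathlib
import Cfsg.Agent.Helper29.S2221Defs
import Cfsg.Agent.Helper23.S2221ODDT
import Cfsg.Agent.Helper29.S2221SIGNRHO

/-! S2221 piece SGNSURJ (helper6; driver helper29): the sign character of `PW n` is onto for
`n ≥ 2`. -/

set_option autoImplicit false

namespace Cfsg.Agent.S2221P

open Equiv

/-- S6 SGNSURJ (S–M; dep ODDT, SIGNRHO). -/
theorem exists_sgn_neg (n : ℕ) (hn : 2 ≤ n) : ∃ w : PW n, sgn n w = -1 := by
  classical
  -- a binary digit of positive index
  obtain ⟨k, hk, hk1⟩ : ∃ k ∈ bitsF n, 1 ≤ k := by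
    by_contra hcon
    push Not at hcon
    have h0 : bitsF n ⊆ {0} := by
      intro k hk
      have := hcon k hk
      simp only [Finset.mem_singleton]
      omega
    have hsum : ∑ i ∈ bitsF n, 2 ^ i = n := Finset.sum_toFinset_bitIndices_two_pow n
    have hle : ∑ i ∈ bitsF n, 2 ^ i ≤ ∑ i ∈ ({0} : Finset ℕ), 2 ^ i :=
      Finset.sum_le_sum_of_subset h0
    rw [hsum] at hle
    simp at hle
    omega
  let k' : Idx n := ⟨k, hk⟩
  refine ⟨Pi.mulSingle k' ⟨tc k, tc_mem k⟩, ?_⟩
  rw [sgn_apply, Finset.prod_eq_single k']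
  · rw [Pi.mulSingle_eq_same]
    show Perm.sign (tc k) = -1
    exact sign_tc k hk1
  · intro l _ hl
    rw [Pi.mulSingle_eq_of_ne hl, map_one]
  · intro h
    exact absurd (Finset.mem_univ k') h

end Cfsg.Agent.S2221P
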