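import Mathlib
import Cfsg.Agent.Helper4.MinIdxDefs
import Cfsg.Agent.Helper4.MinIdxCommon
import Cfsg.Agent.Helper4.MinIdxLin

set_option autoImplicit false

/-! # S2140, piece AFIX: in case (A) the group `Qc v` has exactly `f` fixed points -/

namespace Cfsg.Agent.S2140P

open Matrix Cfsg.Agent.Helper12.TVG Cfsg.Agent.Helper12

section

variable {n : ℕ} {F : Type*} [Field F] [Fintype F]
variable {Ω : Type*} [MulAction (SLn n F) Ω] [Finite Ω]

namespace AFIX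

omit [Fintype F] [Finite Ω] in
theorem TS_congr (v : Fin n → F) {φ ψ : Fin n → F} (h : φ ⬝ᵥ v = 0) (h' : ψ ⬝ᵥ v = 0)
    (e : φ = ψ) : TS v φ h = TS v ψ h' := by
  subst e
  rfl

omit [Fintype F] [Finite Ω] in
/-- `ω` is fixed by `Qc v` iff `fixCov v ω` is everything -/
theorem fixed_iff (v : Fin n → F) (ω : Ω) :
    (∀ (φ : Fin n → F) (h : φ ⬝ᵥ v = 0), TS v φ h • ω = ω) ↔
      fixCov v ω = {φ | φ ⬝ᵥ v = 0} := by
  constructor
  · intro h
    ext φ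
    constructor
    · rintro ⟨h1, _⟩
      exact h1
    · intro h1
      exact ⟨h1, h φ h1⟩
  · intro h φ h1
    have h2 : φ ∈ fixCov v ω := by
      rw [h]
      exact h1
    obtain ⟨_, h3⟩ := h2
    exact h3

/-- for `n ≥ 2` there is a nonzero covector killing `v` -/
theorem exists_ne_zero (hn : 2 ≤ n) (v : Fin n → F) (hv : v ≠ 0) :
    ∃ φ : Fin n → F, φ ⬝ᵥ v = 0 ∧ φ ≠ 0 := by
  classical
  by_contra hno
  push Not at hno
  have h1 : Nat.card (annV v) = (Fintype.card F) ^ (n - 1) := card_annV v hv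
  have h2 : Nat.card (annV v) = 1 := by
    haveI : Subsingleton (annV v) := by
      constructor
      intro a b
      apply Subtype.ext
      rw [hno a.1 a.2, hno b.1 b.2]
    haveI : Nonempty (annV v) := ⟨0⟩
    exact Nat.card_unique
  have h3 : 2 ≤ Fintype.card F := Fintype.one_lt_card
  have h4 : 2 ≤ (Fintype.card F) ^ (n - 1) := by
    calc 2 ≤ Fintype.card F := h3
      _ = (Fintype.card F) ^ 1 := (pow_one _).symm
      _ ≤ (Fintype.card F) ^ (n - 1) := Nat.pow_le_pow_right (by omega) (by omega)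
  omega

end AFIX

open AFIX

theorem caseA_card_fixed (hn : 2 ≤ n) (v : Fin n → F) (hv : v ≠ 0) (f : ℕ) (hA : CaseA Ω v)
    (hd : Nat.card Ω = f + (Fintype.card F) ^ (n - 1)) :
    Nat.card {ω : Ω // ∀ (φ : Fin n → F) (h : φ ⬝ᵥ v = 0), TS v φ h • ω = ω} = f := by
  classical
  obtain ⟨h1, ⟨ω₀, hω₀⟩, h3⟩ := hA
  obtain ⟨φ₁, hφ₁, hφ₁0⟩ := exists_ne_zero hn v hv
  -- a point is not fixed iff `fixCov = {0}`
  have hnot : ∀ ω : Ω, (¬ ∀ (φ : Fin n → F) (h : φ ⬝ᵥ v = 0), TS v φ h • ω = ω) ↔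
      fixCov v ω = {0} := by
    intro ω
    rw [fixed_iff]
    constructor
    · intro h
      rcases h1 ω with h2 | h2
      · exact h2
      · exact absurd h2 h
    · intro h h2
      rw [h] at h2
      have : φ₁ ∈ ({0} : Set (Fin n → F)) := by
        rw [h2]
        exact hφ₁
      exact hφ₁0 this
  -- the regular orbit
  let e : annV v → {ω : Ω // ¬ ∀ (φ : Fin n → F) (h : φ ⬝ᵥ v = 0), TS v φ h • ω = ω} :=
    fun φ => ⟨TS v φ.1 (mem_annV.1 φ.2) • ω₀,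
      (hnot _).2 ((fixCov_TS_smul v φ.1 (mem_annV.1 φ.2) ω₀).trans hω₀)⟩
  have he : Function.Bijective e := by
    constructor
    · intro φ ψ hφψ
      have hφ2 : φ.1 ⬝ᵥ v = 0 := mem_annV.1 φ.2
      have hψ2 : ψ.1 ⬝ᵥ v = 0 := mem_annV.1 ψ.2
      have h4 : TS v φ.1 hφ2 • ω₀ = TS v ψ.1 hψ2 • ω₀ := congrArg Subtype.val hφψ
      have hδ : (φ.1 - ψ.1) ⬝ᵥ v = 0 := by
        rw [sub_dotProduct, hφ2, hψ2, sub_zero]
      have hsum : (ψ.1 + (φ.1 - ψ.1)) ⬝ᵥ v = 0 := by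
        rw [add_dotProduct, hψ2, hδ, add_zero]
      have h5 : TS v ψ.1 hψ2 * TS v (φ.1 - ψ.1) hδ = TS v φ.1 hφ2 := by
        rw [TS_mul_TS_cov v ψ.1 (φ.1 - ψ.1) hψ2 hδ hsum]
        exact TS_congr v _ _ (by abel)
      rw [← h5, mul_smul] at h4
      have h6 : TS v (φ.1 - ψ.1) hδ • ω₀ = ω₀ := smul_left_cancel _ h4
      have h7 : φ.1 - ψ.1 ∈ fixCov v ω₀ := ⟨hδ, h6⟩
      rw [hω₀] at h7
      apply Subtype.ext
      exact sub_eq_zero.1 h7
    · rintro ⟨ω, hω⟩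
      obtain ⟨φ, h, h4⟩ := h3 ω₀ ω hω₀ ((hnot ω).1 hω)
      exact ⟨⟨φ, h⟩, Subtype.ext h4⟩
  have hreg : Nat.card {ω : Ω // ¬ ∀ (φ : Fin n → F) (h : φ ⬝ᵥ v = 0), TS v φ h • ω = ω} =
      (Fintype.card F) ^ (n - 1) := by
    rw [← Nat.card_eq_of_bijective e he, card_annV v hv]
  have hsum : Nat.card Ω =
      Nat.card {ω : Ω // ∀ (φ : Fin n → F) (h : φ ⬝ᵥ v = 0), TS v φ h • ω = ω} +
      Nat.card {ω : Ω // ¬ ∀ (φ : Fin n → F) (h : φ ⬝ᵥ v = 0), TS v φ h • ω = ω} := by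
    rw [← Nat.card_sum]
    exact Nat.card_congr (Equiv.sumCompl _).symm
  omega

end

end Cfsg.Agent.S2140P
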