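import Mathlib
import Cfsg.Agent.Helper4.MinIdxDefs
import Cfsg.Agent.Helper4.MinIdxCommon
import Cfsg.Agent.Helper12.CrossCharA
import Cfsg.Agent.Helper12.SLNonzero

set_option autoImplicit false

/-! # S2140, piece ARITH: `|Ω|` divides `(q^(m+1) - 1) [SL_m : T]` when `Qc e₀` and `blockSL T` fix a point -/

namespace Cfsg.Agent.S2140P

open Matrix Cfsg.Agent.Helper12.TVG Cfsg.Agent.Helper12

section

variable {m : ℕ} {F : Type*} [Field F]

namespace ARITH

/-- The first standard basis vector (local copy of the abbreviation of the stub file). -/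
abbrev e0' (m : ℕ) (F : Type*) [Field F] : Fin (m + 1) → F := Pi.single 0 1

/-- the lower right block -/
def low (A : Matrix (Fin (m + 1)) (Fin (m + 1)) F) : Matrix (Fin m) (Fin m) F :=
  A.submatrix Fin.succ Fin.succ

theorem mulVec_e0 (A : Matrix (Fin (m + 1)) (Fin (m + 1)) F) (i : Fin (m + 1)) :
    (A *ᵥ e0' m F) i = A i 0 := by
  simp [e0', Matrix.mulVec_single]

theorem col_zero_of_fix {A : Matrix (Fin (m + 1)) (Fin (m + 1)) F} (hA : A *ᵥ e0' m F = e0' m F)
    (i : Fin (m + 1)) : A i 0 = if i = 0 then 1 else 0 := by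
  have h := mulVec_e0 A i
  rw [hA] at h
  rw [← h]
  simp [e0', Pi.single_apply]

theorem low_mul {A B : Matrix (Fin (m + 1)) (Fin (m + 1)) F} (hA : A *ᵥ e0' m F = e0' m F) :
    low (A * B) = low A * low B := by
  ext a b
  simp only [low, Matrix.submatrix_apply, Matrix.mul_apply]
  rw [Fin.sum_univ_succ, col_zero_of_fix hA, if_neg (Fin.succ_ne_zero a), zero_mul, zero_add]

theorem low_one : low (1 : Matrix (Fin (m + 1)) (Fin (m + 1)) F) = 1 := by
  ext a b
  simp [low, Matrix.one_apply, Fin.succ_inj]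

theorem det_low {A : Matrix (Fin (m + 1)) (Fin (m + 1)) F} (hA : A *ᵥ e0' m F = e0' m F) :
    (low A).det = A.det := by
  rw [Matrix.det_succ_column_zero A, Fin.sum_univ_succ]
  have h1 : ∀ i : Fin m, (-1 : F) ^ ((i.succ : Fin (m + 1)) : ℕ) * A i.succ 0 *
      (A.submatrix i.succ.succAbove Fin.succ).det = 0 := by
    intro i
    rw [col_zero_of_fix hA, if_neg (Fin.succ_ne_zero i), mul_zero, zero_mul]
  rw [Finset.sum_eq_zero (fun i _ => h1 i), add_zero, col_zero_of_fix hA, if_pos rfl]
  simp [low, Fin.succAbove_zero]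

/-- the matrix of `blockSL g` -/
theorem low_blockSL (g : SLn m F) :
    low ((blockSL m F g : SLn (m + 1) F) : Matrix (Fin (m + 1)) (Fin (m + 1)) F) =
      (g : Matrix (Fin m) (Fin m) F) := by
  show low (embMat (succE m F) (succE m F)ᵀ (g : Matrix (Fin m) (Fin m) F)) = _
  generalize (g : Matrix (Fin m) (Fin m) F) = A
  ext a b
  simp only [low, embMat, Matrix.submatrix_apply, Matrix.add_apply, Matrix.one_apply,
    Fin.succ_inj]
  have h1 : (succE m F * (A - 1) * (succE m F)ᵀ : Matrix (Fin (m + 1)) (Fin (m + 1)) F)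
      a.succ b.succ = (A - 1) a b := by
    rw [Matrix.mul_apply]
    have h2 : ∀ l : Fin m, (succE m F)ᵀ l b.succ = if l = b then 1 else 0 := by
      intro l
      simp [succE, coordE, Matrix.one_apply, Fin.succ_inj, eq_comm]
    have h3 : ∀ l : Fin m, (succE m F * (A - 1) : Matrix (Fin (m + 1)) (Fin m) F) a.succ l =
        (A - 1) a l := by
      intro l
      rw [Matrix.mul_apply, Finset.sum_eq_single a]
      · simp [succE, coordE, Matrix.one_apply]
      · intro k _ hk
        have : succE m F a.succ k = 0 := by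
          simp [succE, coordE, Matrix.one_apply, Fin.succ_inj, Ne.symm hk]
        rw [this, zero_mul]
      · intro h
        exact (h (Finset.mem_univ _)).elim
    rw [Finset.sum_eq_single b]
    · rw [h2, if_pos rfl, mul_one, h3]
    · intro l _ hl
      rw [h2, if_neg hl, mul_zero]
    · intro h
      exact (h (Finset.mem_univ _)).elim
  rw [h1, Matrix.sub_apply, Matrix.one_apply]
  ring

theorem blockSL_mulVec_e0 (g : SLn m F) :
    ((blockSL m F g : SLn (m + 1) F) : Matrix (Fin (m + 1)) (Fin (m + 1)) F) *ᵥ e0' m F =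
      e0' m F := by
  show embMat (succE m F) (succE m F)ᵀ (g : Matrix (Fin m) (Fin m) F) *ᵥ e0' m F = _
  unfold embMat
  rw [Matrix.add_mulVec, Matrix.one_mulVec, ← Matrix.mulVec_mulVec, succE_transpose_mulVec_single,
    Matrix.mulVec_zero, add_zero]

theorem blockSL_mem_Gv (g : SLn m F) : blockSL m F g ∈ Gv (e0' m F) := blockSL_mulVec_e0 g

/-- the projection of the vector stabilizer onto the block `SL_m` -/
def proj (m : ℕ) (F : Type*) [Field F] : ↥(Gv (e0' m F)) →* SLn m F where
  toFun g := ⟨low ((g : SLn (m + 1) F) : Matrix (Fin (m + 1)) (Fin (m + 1)) F), by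
    rw [det_low (mem_Gv.1 g.2)]
    exact (g : SLn (m + 1) F).2⟩
  map_one' := by
    apply Subtype.ext
    show low ((1 : SLn (m + 1) F) : Matrix (Fin (m + 1)) (Fin (m + 1)) F) = 1
    rw [Matrix.SpecialLinearGroup.coe_one, low_one]
  map_mul' g h := by
    apply Subtype.ext
    show low (((g : SLn (m + 1) F) * (h : SLn (m + 1) F) : SLn (m + 1) F) :
      Matrix (Fin (m + 1)) (Fin (m + 1)) F) = low _ * low _
    rw [Matrix.SpecialLinearGroup.coe_mul, low_mul (mem_Gv.1 g.2)]

theorem proj_blockSL (g : SLn m F) : proj m F ⟨blockSL m F g, blockSL_mem_Gv g⟩ = g := by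
  apply Subtype.ext
  exact low_blockSL g

theorem proj_surjective : Function.Surjective (proj m F) :=
  fun g => ⟨⟨blockSL m F g, blockSL_mem_Gv g⟩, proj_blockSL g⟩

/-- the kernel of the projection consists of transvections with centre `e₀` -/
theorem mem_Qc_of_proj_eq_one (g : ↥(Gv (e0' m F))) (hg : proj m F g = 1) :
    (g : SLn (m + 1) F) ∈ Qc (e0' m F) := by
  have hfix := mem_Gv.1 g.2
  have hlow : low ((g : SLn (m + 1) F) : Matrix (Fin (m + 1)) (Fin (m + 1)) F) = 1 :=
    congrArg Subtype.val hg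
  set A : Matrix (Fin (m + 1)) (Fin (m + 1)) F := ((g : SLn (m + 1) F) :
    Matrix (Fin (m + 1)) (Fin (m + 1)) F) with hAdef
  let φ : Fin (m + 1) → F := fun j => if j = 0 then 0 else A 0 j
  have hφ : φ ⬝ᵥ e0' m F = 0 := by
    simp [φ, e0', dotProduct_single]
  refine ⟨φ, hφ, ?_⟩
  apply Subtype.ext
  show A = TM (e0' m F) φ
  ext i j
  unfold TM
  rw [Matrix.add_apply, Matrix.vecMulVec_apply, Matrix.one_apply]
  refine Fin.cases ?_ (fun a => ?_) i
  · refine Fin.cases ?_ (fun b => ?_) j
    · rw [col_zero_of_fix hfix]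
      simp [φ, e0']
    · simp [φ, e0', Fin.succ_ne_zero, (Fin.succ_ne_zero b).symm]
  · refine Fin.cases ?_ (fun b => ?_) j
    · rw [col_zero_of_fix hfix]
      simp [e0', Fin.succ_ne_zero]
    · have h1 : A a.succ b.succ = (1 : Matrix (Fin m) (Fin m) F) a b := by
        rw [← hlow]
        rfl
      rw [h1, Matrix.one_apply]
      simp [e0', Fin.succ_ne_zero, Fin.succ_inj]

variable [Fintype F]

theorem card_nzVec (n : ℕ) : Nat.card (NzVec n F) = (Fintype.card F) ^ n - 1 := by
  classical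
  rw [Nat.card_eq_fintype_card]
  show Fintype.card {v : Fin n → F // v ≠ 0} = _
  rw [Fintype.card_subtype_compl, Fintype.card_pi, Finset.prod_const, Finset.card_univ,
    Fintype.card_fin, Fintype.card_subtype_eq]

theorem index_Gv (hm : 1 ≤ m) : (Gv (e0' m F)).index = (Fintype.card F) ^ (m + 1) - 1 := by
  have hne : e0' m F ≠ 0 := by
    intro h
    have := congrFun h 0
    simp [e0'] at this
  haveI := nzVec_isPretransitive (F := F) (n := m + 1) (by omega)
  have h1 : Gv (e0' m F) = MulAction.stabilizer (SLn (m + 1) F)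
      (⟨e0' m F, hne⟩ : NzVec (m + 1) F) := by
    ext g
    rw [MulAction.mem_stabilizer_iff, mem_Gv]
    constructor
    · intro h
      exact Subtype.ext h
    · intro h
      exact congrArg Subtype.val h
  rw [h1, MulAction.index_stabilizer_of_transitive, card_nzVec]

end ARITH

open ARITH

variable [Fintype F]

theorem arith_dvd (hm : 1 ≤ m) {Ω : Type*} [MulAction (SLn (m + 1) F) Ω] [Finite Ω]
    [MulAction.IsPretransitive (SLn (m + 1) F) Ω] (ω : Ω)
    (hω : ∀ (φ : Fin (m + 1) → F) (h : φ ⬝ᵥ (Pi.single 0 1 : Fin (m + 1) → F) = 0),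
      TS (Pi.single 0 1 : Fin (m + 1) → F) φ h • ω = ω)
    (T : Subgroup (SLn m F)) (hT : ∀ g ∈ T, blockSL m F g • ω = ω) :
    Nat.card Ω ∣ ((Fintype.card F) ^ (m + 1) - 1) * T.index := by
  set K' : Subgroup ↥(Gv (e0' m F)) := T.comap (proj m F) with hK'
  have hK'idx : K'.index = T.index := Subgroup.index_comap_of_surjective T proj_surjective
  set K : Subgroup (SLn (m + 1) F) := K'.map (Gv (e0' m F)).subtype with hK
  have hKidx : K.index = T.index * ((Fintype.card F) ^ (m + 1) - 1) := by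
    rw [hK, Subgroup.index_map_subtype, hK'idx, index_Gv hm]
  have hKM : K ≤ MulAction.stabilizer (SLn (m + 1) F) ω := by
    rintro _ ⟨g, hg, rfl⟩
    rw [MulAction.mem_stabilizer_iff]
    have hgT : proj m F g ∈ T := hg
    set b : ↥(Gv (e0' m F)) := ⟨blockSL m F (proj m F g), blockSL_mem_Gv _⟩ with hb
    have h1 : proj m F (g * b⁻¹) = 1 := by
      rw [map_mul, map_inv, hb, proj_blockSL, mul_inv_cancel]
    obtain ⟨φ, h, h2⟩ := mem_Qc_of_proj_eq_one (g * b⁻¹) h1
    have h3 : ((g * b⁻¹ : ↥(Gv (e0' m F))) : SLn (m + 1) F) • ω = ω := by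
      rw [h2]
      exact hω φ h
    have h4 : (b : SLn (m + 1) F) • ω = ω := hT _ hgT
    have h5 : ((Gv (e0' m F)).subtype g : SLn (m + 1) F) =
        ((g * b⁻¹ : ↥(Gv (e0' m F))) : SLn (m + 1) F) * (b : SLn (m + 1) F) := by
      rw [← Subgroup.coe_mul, inv_mul_cancel_right]
      rfl
    rw [h5, mul_smul, h4, h3]
  have h6 := Subgroup.index_dvd_of_le hKM
  rw [MulAction.index_stabilizer_of_transitive, hKidx, mul_comm] at h6
  exact h6

end

end Cfsg.Agent.S2140P
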