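import Mathlib
import Cfsg.Agent.Helper4.MinIdxDefs
import Cfsg.Agent.Helper4.MinIdxCommon

set_option autoImplicit false

/-! # S2140, piece TRANSP: case (A) is transported by the action of `SL_n` -/

namespace Cfsg.Agent.S2140P

open Matrix Cfsg.Agent.Helper12.TVG Cfsg.Agent.Helper12

section

variable {n : ℕ} {F : Type*} [Field F]
variable {Ω : Type*} [MulAction (SLn n F) Ω]

namespace TRANSP

theorem vecMul_mul_inv (g : SLn n F) (ψ : Fin n → F) :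
    (ψ ᵥ* (g : Matrix (Fin n) (Fin n) F)) ᵥ* ((g⁻¹ : SLn n F) : Matrix (Fin n) (Fin n) F) = ψ := by
  rw [vecMul_vecMul, coe_mul_inv, vecMul_one]

theorem vecMul_inv_mul (g : SLn n F) (ψ : Fin n → F) :
    (ψ ᵥ* ((g⁻¹ : SLn n F) : Matrix (Fin n) (Fin n) F)) ᵥ* (g : Matrix (Fin n) (Fin n) F) = ψ := by
  rw [vecMul_vecMul, coe_inv_mul, vecMul_one]

/-- `fixCov (g v) ω` in terms of `fixCov v (g⁻¹ ω)` -/
theorem mem_fixCov_mulVec (g : SLn n F) (v ψ : Fin n → F) (ω : Ω) :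
    ψ ∈ fixCov ((g : Matrix (Fin n) (Fin n) F) *ᵥ v) ω ↔
      (ψ ᵥ* (g : Matrix (Fin n) (Fin n) F)) ∈ fixCov v (g⁻¹ • ω) := by
  have h := mem_fixCov_smul g v (ψ ᵥ* (g : Matrix (Fin n) (Fin n) F)) (g⁻¹ • ω)
  rw [vecMul_mul_inv, smul_inv_smul] at h
  exact h.symm

theorem fixCov_mulVec_eq_zero (g : SLn n F) (v : Fin n → F) (ω : Ω) :
    fixCov ((g : Matrix (Fin n) (Fin n) F) *ᵥ v) ω = {0} ↔ fixCov v (g⁻¹ • ω) = {0} := by
  constructor
  · intro h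
    ext φ
    have h1 := mem_fixCov_mulVec g v (φ ᵥ* ((g⁻¹ : SLn n F) : Matrix (Fin n) (Fin n) F)) ω
    rw [vecMul_inv_mul, h] at h1
    rw [← h1, Set.mem_singleton_iff, Set.mem_singleton_iff]
    constructor
    · intro h2
      have h3 := vecMul_inv_mul g φ
      rw [h2, zero_vecMul] at h3
      exact h3.symm
    · intro h2
      rw [h2, zero_vecMul]
  · intro h
    ext ψ
    rw [mem_fixCov_mulVec, h, Set.mem_singleton_iff, Set.mem_singleton_iff]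
    constructor
    · intro h2
      have h3 := vecMul_mul_inv g ψ
      rw [h2, zero_vecMul] at h3
      exact h3.symm
    · intro h2
      rw [h2, zero_vecMul]

end TRANSP

open TRANSP

theorem caseA_smul (g : SLn n F) (v : Fin n → F) (hA : CaseA Ω v) :
    CaseA Ω ((g : Matrix (Fin n) (Fin n) F) *ᵥ v) := by
  obtain ⟨h1, ⟨ω₀, hω₀⟩, h3⟩ := hA
  refine ⟨?_, ?_, ?_⟩
  · intro ω
    rcases h1 (g⁻¹ • ω) with h | h
    · left
      exact (fixCov_mulVec_eq_zero g v ω).2 h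
    · right
      ext ψ
      rw [mem_fixCov_mulVec, h]
      show (ψ ᵥ* (g : Matrix (Fin n) (Fin n) F)) ⬝ᵥ v = 0 ↔
        ψ ⬝ᵥ ((g : Matrix (Fin n) (Fin n) F) *ᵥ v) = 0
      rw [dotProduct_mulVec]
  · refine ⟨g • ω₀, ?_⟩
    rw [fixCov_mulVec_eq_zero, inv_smul_smul]
    exact hω₀
  · intro ω ω' hω hω'
    rw [fixCov_mulVec_eq_zero] at hω hω'
    obtain ⟨φ, h, h4⟩ := h3 _ _ hω hω'
    have h' : (φ ᵥ* ((g⁻¹ : SLn n F) : Matrix (Fin n) (Fin n) F)) ⬝ᵥ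
        ((g : Matrix (Fin n) (Fin n) F) *ᵥ v) = 0 := (dot_conj g v φ).trans h
    refine ⟨_, h', ?_⟩
    rw [← conj_TS g v φ h h', mul_smul, mul_smul, h4, smul_inv_smul]

end

end Cfsg.Agent.S2140P
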