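import Mathlib
import Cfsg.Agent.Helper16.S3174Defs
import Cfsg.Agent.Helper23.S3174MSUB
import Cfsg.Agent.Helper3.S3174FI

/-! # S3174, piece PHICORE (`phi_core`), core part (the bound of CCARD is a hypothesis).
Blueprint: `departures/helper16_S3174_blueprint.md`. -/

set_option autoImplicit false

namespace Cfsg.Agent.S3174P

open scoped commutatorElement

section abstract

variable {Q : Type*} [Group Q]

/-- the "norm" of `x` under the four-group generated by `s, s'` -/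
def PHICORE_aux_nm (s s' x : Q) : Q :=
  x * (s * x * s⁻¹) * (s' * x * s'⁻¹) * (s * s' * x * (s * s')⁻¹)

theorem PHICORE_aux_four_comm {a b c d : Q} (hab : Commute a b) (hac : Commute a c)
    (had : Commute a d) (hbc : Commute b c) (hbd : Commute b d) (hcd : Commute c d) :
    b * a * d * c = a * b * c * d := by
  rw [hab.eq.symm, mul_assoc (a * b), hcd.eq.symm, ← mul_assoc]

/-- in a commutative subgroup normalised by `s, s'` with `s², s'², [s,s'] ∈ A`, the norm is fixed -/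
theorem PHICORE_aux_norm_fixed (A : Subgroup Q)
    (hA : ∀ a ∈ A, ∀ b ∈ A, a * b = b * a)
    (s s' : Q) (hs : ∀ a ∈ A, s * a * s⁻¹ ∈ A) (hs' : ∀ a ∈ A, s' * a * s'⁻¹ ∈ A)
    (hss : s * s ∈ A) (hss' : s' * s' ∈ A) (hcomm : ∃ a ∈ A, s' * s = s * s' * a)
    (x : Q) (hx : x ∈ A) :
    s * PHICORE_aux_nm s s' x * s⁻¹ = PHICORE_aux_nm s s' x ∧
    s' * PHICORE_aux_nm s s' x * s'⁻¹ = PHICORE_aux_nm s s' x := by
  have h1 : s * x * s⁻¹ ∈ A := hs x hx
  have h2 : s' * x * s'⁻¹ ∈ A := hs' x hx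
  have h3 : s * s' * x * (s * s')⁻¹ ∈ A := by
    have : s * s' * x * (s * s')⁻¹ = s * (s' * x * s'⁻¹) * s⁻¹ := by group
    rw [this]; exact hs _ h2
  have cm : ∀ {a b : Q}, a ∈ A → b ∈ A → Commute a b := fun ha hb => hA _ ha _ hb
  -- conjugation by an element of `A` fixes elements of `A`
  have hfix : ∀ a ∈ A, ∀ b ∈ A, a * b * a⁻¹ = b := fun a ha b hb => by
    rw [hA a ha b hb, mul_inv_cancel_right]
  constructor
  · -- conjugate by `s`
    have e1 : s * (s * x * s⁻¹) * s⁻¹ = x := by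
      have : s * (s * x * s⁻¹) * s⁻¹ = (s * s) * x * (s * s)⁻¹ := by group
      rw [this]; exact hfix _ hss _ hx
    have e2 : s * (s * s' * x * (s * s')⁻¹) * s⁻¹ = s' * x * s'⁻¹ := by
      have : s * (s * s' * x * (s * s')⁻¹) * s⁻¹ = (s * s) * (s' * x * s'⁻¹) * (s * s)⁻¹ := by group
      rw [this]; exact hfix _ hss _ h2
    have e3 : s * (s' * x * s'⁻¹) * s⁻¹ = s * s' * x * (s * s')⁻¹ := by group
    have : s * PHICORE_aux_nm s s' x * s⁻¹
        = (s * x * s⁻¹) * (s * (s * x * s⁻¹) * s⁻¹) * (s * (s' * x * s'⁻¹) * s⁻¹)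
          * (s * (s * s' * x * (s * s')⁻¹) * s⁻¹) := by
      unfold PHICORE_aux_nm; group
    rw [this, e1, e2, e3]
    unfold PHICORE_aux_nm
    exact PHICORE_aux_four_comm (cm hx h1) (cm hx h2) (cm hx h3) (cm h1 h2) (cm h1 h3) (cm h2 h3)
  · -- conjugate by `s'`
    obtain ⟨a, ha, hsa⟩ := hcomm
    have e1 : s' * (s' * x * s'⁻¹) * s'⁻¹ = x := by
      have : s' * (s' * x * s'⁻¹) * s'⁻¹ = (s' * s') * x * (s' * s')⁻¹ := by group
      rw [this]; exact hfix _ hss' _ hx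
    have e2 : s' * (s * x * s⁻¹) * s'⁻¹ = s * s' * x * (s * s')⁻¹ := by
      have : s' * (s * x * s⁻¹) * s'⁻¹ = (s' * s) * x * (s' * s)⁻¹ := by group
      rw [this, hsa]
      have : s * s' * a * x * (s * s' * a)⁻¹ = s * s' * (a * x * a⁻¹) * (s * s')⁻¹ := by group
      rw [this, hfix _ ha _ hx]
    have e3 : s' * (s * s' * x * (s * s')⁻¹) * s'⁻¹ = s * x * s⁻¹ := by
      -- s' s s' = s s' a s' = s (s'^2) (s'⁻¹ a s')
      have hb : s'⁻¹ * a * s' ∈ A := by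
        have h := hs' (s'⁻¹ * a * s')
        -- use: s'⁻¹ a s' = (s' s')⁻¹ (s' a s'⁻¹) (s' s')
        have : s'⁻¹ * a * s' = (s' * s')⁻¹ * (s' * a * s'⁻¹) * (s' * s') := by group
        rw [this]
        exact A.mul_mem (A.mul_mem (A.inv_mem hss') (hs' a ha)) hss'
      have hb2 : s' * s' * (s'⁻¹ * a * s') ∈ A := A.mul_mem hss' hb
      have : s' * (s * s' * x * (s * s')⁻¹) * s'⁻¹
          = s * ((s' * s' * (s'⁻¹ * a * s')) * x * (s' * s' * (s'⁻¹ * a * s'))⁻¹) * s⁻¹ := by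
        have h : s' * (s * s' * x * (s * s')⁻¹) * s'⁻¹ = (s' * s) * s' * x * ((s' * s) * s')⁻¹ := by
          group
        rw [h, hsa]; group
      rw [this, hfix _ hb2 _ hx]
    have : s' * PHICORE_aux_nm s s' x * s'⁻¹
        = (s' * x * s'⁻¹) * (s' * (s * x * s⁻¹) * s'⁻¹) * (s' * (s' * x * s'⁻¹) * s'⁻¹)
          * (s' * (s * s' * x * (s * s')⁻¹) * s'⁻¹) := by
      unfold PHICORE_aux_nm; group
    rw [this, e1, e2, e3]
    unfold PHICORE_aux_nm
    -- x2 * x3 * x * x1 = x * x1 * x2 * x3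
    have c01 := cm hx h1; have c02 := cm hx h2; have c03 := cm hx h3
    have c12 := cm h1 h2; have c13 := cm h1 h3; have c23 := cm h2 h3
    calc s' * x * s'⁻¹ * (s * s' * x * (s * s')⁻¹) * x * (s * x * s⁻¹)
        = (s' * x * s'⁻¹ * (s * s' * x * (s * s')⁻¹)) * (x * (s * x * s⁻¹)) := by group
      _ = (x * (s * x * s⁻¹)) * (s' * x * s'⁻¹ * (s * s' * x * (s * s')⁻¹)) :=
          ((c02.mul_left c12).mul_right ((c03.mul_left c13))).symm.eq.symm ▸ rfl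
      _ = x * (s * x * s⁻¹) * (s' * x * s'⁻¹) * (s * s' * x * (s * s')⁻¹) := by group

/-- the norm is multiplicative on a commutative subgroup normalised by `s, s'` -/
theorem PHICORE_aux_norm_mul (A : Subgroup Q)
    (hA : ∀ a ∈ A, ∀ b ∈ A, a * b = b * a)
    (s s' : Q) (hs : ∀ a ∈ A, s * a * s⁻¹ ∈ A) (hs' : ∀ a ∈ A, s' * a * s'⁻¹ ∈ A)
    (x y : Q) (hx : x ∈ A) (hy : y ∈ A) :
    PHICORE_aux_nm s s' (x * y) = PHICORE_aux_nm s s' x * PHICORE_aux_nm s s' y := by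
  have hc : ∀ a ∈ A, s * s' * a * (s * s')⁻¹ ∈ A := fun a ha => by
    have : s * s' * a * (s * s')⁻¹ = s * (s' * a * s'⁻¹) * s⁻¹ := by group
    rw [this]; exact hs _ (hs' a ha)
  have cm : ∀ {a b : Q}, a ∈ A → b ∈ A → Commute a b := fun ha hb => hA _ ha _ hb
  have x1 := hs x hx; have x2 := hs' x hx; have x3 := hc x hx
  have y1 := hs y hy; have y2 := hs' y hy; have y3 := hc y hy
  have e1 : s * (x * y) * s⁻¹ = (s * x * s⁻¹) * (s * y * s⁻¹) := by group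
  have e2 : s' * (x * y) * s'⁻¹ = (s' * x * s'⁻¹) * (s' * y * s'⁻¹) := by group
  have e3 : s * s' * (x * y) * (s * s')⁻¹ = (s * s' * x * (s * s')⁻¹) * (s * s' * y * (s * s')⁻¹) := by
    group
  unfold PHICORE_aux_nm
  rw [e1, e2, e3]
  rw [Commute.mul_mul_mul_comm (cm hy x1)]
  rw [Commute.mul_mul_mul_comm ((cm hy x2).mul_left (cm y1 x2))]
  rw [Commute.mul_mul_mul_comm (((cm hy x3).mul_left (cm y1 x3)).mul_left (cm y2 x3))]

end abstract

section main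

variable {T : Type*} [Group T] [Finite T]

omit [Finite T] in
theorem PHICORE_aux_card_double [Finite T] {H K : Subgroup T} (h : H ≤ K) {g : T} (hg : g ∈ K)
    (hg' : g ∉ H) : 2 * Nat.card ↥H ≤ Nat.card ↥K := by
  obtain ⟨k, hk⟩ := Subgroup.card_dvd_of_le h
  have hK : 0 < Nat.card ↥K := Nat.card_pos
  have hk0 : k ≠ 0 := by rintro rfl; omega
  have hk1 : k ≠ 1 := by
    rintro rfl
    have : H = K := Subgroup.eq_of_le_of_card_ge h (by omega)
    exact hg' (this ▸ hg)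
  have : 2 ≤ k := by omega
  calc 2 * Nat.card ↥H = Nat.card ↥H * 2 := by ring
    _ ≤ Nat.card ↥H * k := Nat.mul_le_mul_left _ this
    _ = Nat.card ↥K := hk.symm

theorem PHICORE_aux_zw {W : Subgroup T} (c : Cfg T W) {w z : T} (hw : w ∈ W) (hz : z ∈ Zi T 3) :
    z * w = w * z := by
  have h : w ∈ Subgroup.centralizer ((Zi T 3 : Subgroup T) : Set T) := c.hW ▸ hw
  exact (Subgroup.mem_centralizer_iff.mp h) z hz

theorem PHICORE_aux_conj_z {W : Subgroup T} (c : Cfg T W) {w z : T} (hw : w ∈ W) (hz : z ∈ Zi T 3) :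
    w * z * w⁻¹ = z := by
  rw [← PHICORE_aux_zw c hw hz, mul_inv_cancel_right]

/-- commutators in `W` are multiplicative in the second variable -/
theorem PHICORE_aux_comm_mul_right {W : Subgroup T} (c : Cfg T W) {a b b' : T} (ha : a ∈ W)
    (hb : b ∈ W) (hb' : b' ∈ W) : ⁅a, b * b'⁆ = ⁅a, b⁆ * ⁅a, b'⁆ := by
  have h : ⁅a, b * b'⁆ = ⁅a, b⁆ * (b * ⁅a, b'⁆ * b⁻¹) := by
    simp only [commutatorElement_def]; group
  rw [h, PHICORE_aux_conj_z c hb (c.cm a ha b' hb')]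

/-- commutators in `W` are multiplicative in the first variable -/
theorem PHICORE_aux_comm_mul_left {W : Subgroup T} (c : Cfg T W) {a a' b : T} (ha : a ∈ W)
    (ha' : a' ∈ W) (hb : b ∈ W) : ⁅a * a', b⁆ = ⁅a, b⁆ * ⁅a', b⁆ := by
  have h : ⁅a * a', b⁆ = (a * ⁅a', b⁆ * a⁻¹) * ⁅a, b⁆ := by
    simp only [commutatorElement_def]; group
  rw [h, PHICORE_aux_conj_z c ha (c.cm a' ha' b hb)]
  exact PHICORE_aux_zw c (c.ZW (c.cm a ha b hb)) (c.cm a' ha' b hb)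

theorem PHICORE_aux_comm_inv_right {W : Subgroup T} (c : Cfg T W) {a b : T} (ha : a ∈ W)
    (hb : b ∈ W) : ⁅a, b⁻¹⁆ = ⁅a, b⁆⁻¹ := by
  have h := PHICORE_aux_comm_mul_right c ha hb (W.inv_mem hb)
  rw [mul_inv_cancel, commutatorElement_one_right] at h
  exact eq_inv_of_mul_eq_one_right h.symm

/-- the subgroup `{y ∈ W | ⁅u, y⁆ ∈ Z_2}` -/
def PHICORE_aux_R {W : Subgroup T} (c : Cfg T W) (u : T) (hu : u ∈ W) : Subgroup T where
  carrier := {y | y ∈ W ∧ ⁅u, y⁆ ∈ Zi T 2}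
  one_mem' := ⟨W.one_mem, by rw [commutatorElement_one_right]; exact Subgroup.one_mem _⟩
  mul_mem' := by
    rintro a b ⟨ha, ha'⟩ ⟨hb, hb'⟩
    refine ⟨W.mul_mem ha hb, ?_⟩
    rw [PHICORE_aux_comm_mul_right c hu ha hb]
    exact Subgroup.mul_mem _ ha' hb'
  inv_mem' := by
    rintro a ⟨ha, ha'⟩
    refine ⟨W.inv_mem ha, ?_⟩
    rw [PHICORE_aux_comm_inv_right c hu ha]
    exact Subgroup.inv_mem _ ha'

theorem PHICORE_aux_mem_R {W : Subgroup T} (c : Cfg T W) (u : T) (hu : u ∈ W) (y : T) :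
    y ∈ PHICORE_aux_R c u hu ↔ y ∈ W ∧ ⁅u, y⁆ ∈ Zi T 2 := Iff.rfl

/-- PHICORE, with the bound `|C_M| ≤ 32` (CCARD) as a hypothesis -/
theorem PHICORE_aux_core {W : Subgroup T} (c : Cfg T W)
    (hC32 : Nat.card ↥(fixMod W (Zi T 3) (Mc T)) ≤ 32) (n : T) (hn4 : n ∈ Zi T 4) (hn3 : n ∉ Zi T 3) (hnW : n ∈ W)
    (hnc : ∀ y ∈ W, ⁅n, y⁆ ∈ Zi T 2)
    (t t' : T) (ht : t ∈ Mc T) (ht' : t' ∈ Mc T) (h1 : t ∉ W) (h2 : t' ∉ W) (h3 : t⁻¹ * t' ∉ W)
    (x x' : T) (hx : x ∈ W) (hx' : x' ∈ W) :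
    ⁅x, x' * (t * x' * t⁻¹) * (t' * x' * t'⁻¹) * (t * t' * x' * (t * t')⁻¹)⁆ ∈ Zi T 2 := by
  show ⁅x, PHICORE_aux_nm t t' x'⁆ ∈ Zi T 2
  obtain ⟨hWM, hMidx, hMsq, hMcm, -, -⟩ := msub c
  haveI : W.Normal := c.nW
  have cj : ∀ (g : T) {u : T}, u ∈ W → g * u * g⁻¹ ∈ W := fun g u hu => c.nW.conj_mem u hu g
  -- the norm lies in `W`
  have hNW : ∀ {u : T}, u ∈ W → PHICORE_aux_nm t t' u ∈ W := fun {u} hu =>
    W.mul_mem (W.mul_mem (W.mul_mem hu (cj t hu)) (cj t' hu)) (cj (t * t') hu)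
  -- the quotient `T ⧸ Z_3`
  let π : T →* T ⧸ Zi T 3 := QuotientGroup.mk' (Zi T 3)
  have hπ : ∀ {a b : T}, π a = π b ↔ a⁻¹ * b ∈ Zi T 3 := fun {a b} => QuotientGroup.eq
  have hπN : ∀ u : T, π (PHICORE_aux_nm t t' u) = PHICORE_aux_nm (π t) (π t') (π u) := fun u => by
    unfold PHICORE_aux_nm; simp only [map_mul, map_inv]
  let A : Subgroup (T ⧸ Zi T 3) := W.map π
  have hA : ∀ a ∈ A, ∀ b ∈ A, a * b = b * a := by
    rintro _ ⟨w, hw, rfl⟩ _ ⟨w', hw', rfl⟩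
    rw [← map_mul, ← map_mul, hπ]
    have : (w * w')⁻¹ * (w' * w) = ⁅w'⁻¹, w⁻¹⁆ := by
      simp only [commutatorElement_def]; group
    rw [this]
    exact c.cm _ (W.inv_mem hw') _ (W.inv_mem hw)
  have hs : ∀ g : T, ∀ a ∈ A, π g * a * (π g)⁻¹ ∈ A := by
    rintro g _ ⟨w, hw, rfl⟩
    exact ⟨g * w * g⁻¹, cj g hw, by simp only [map_mul, map_inv]⟩
  have hss : ∀ g ∈ Mc T, π g * π g ∈ A := fun g hg => ⟨g * g, hMsq g hg, by simp only [map_mul]⟩
  have hcomm : ∃ a ∈ A, π t' * π t = π t * π t' * a := by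
    refine ⟨π ((t * t')⁻¹ * (t' * t)), ⟨_, ?_, rfl⟩, ?_⟩
    · have : (t * t')⁻¹ * (t' * t) = ⁅t'⁻¹, t⁻¹⁆ := by
        simp only [commutatorElement_def]; group
      rw [this]
      exact hMcm _ (Subgroup.inv_mem _ ht') _ (Subgroup.inv_mem _ ht)
    · simp only [map_mul, map_inv]; group
  -- norms are fixed mod `Z_3` by `t, t'`
  have hfix : ∀ {u : T}, u ∈ W → ⁅t, PHICORE_aux_nm t t' u⁆ ∈ Zi T 3 ∧
      ⁅t', PHICORE_aux_nm t t' u⁆ ∈ Zi T 3 := by
    intro u hu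
    have hu' : π u ∈ A := ⟨u, hu, rfl⟩
    obtain ⟨e1, e2⟩ := PHICORE_aux_norm_fixed A hA (π t) (π t') (hs t) (hs t') (hss t ht)
      (hss t' ht') hcomm (π u) hu'
    rw [← hπN] at e1 e2
    constructor
    · rw [← QuotientGroup.eq_one_iff, commutatorElement_def]
      show π (t * PHICORE_aux_nm t t' u * t⁻¹ * (PHICORE_aux_nm t t' u)⁻¹) = 1
      rw [map_mul, map_mul, map_mul, map_inv, map_inv, e1, mul_inv_cancel]
    · rw [← QuotientGroup.eq_one_iff, commutatorElement_def]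
      show π (t' * PHICORE_aux_nm t t' u * t'⁻¹ * (PHICORE_aux_nm t t' u)⁻¹) = 1
      rw [map_mul, map_mul, map_mul, map_inv, map_inv, e2, mul_inv_cancel]
  -- index computations: `M = ⟨W, t, t'⟩`
  have hrel4 : W.relIndex (Mc T) = 4 := by
    have := Subgroup.relIndex_mul_index hWM
    rw [hMidx, c.idx] at this
    omega
  -- norms lie in `C_M`
  have hNC : ∀ {u : T}, u ∈ W → PHICORE_aux_nm t t' u ∈ fixMod W (Zi T 3) (Mc T) := by
    intro u hu
    refine ⟨hNW hu, ?_⟩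
    let H : Subgroup T := commIn (Zi T 3) (PHICORE_aux_nm t t' u) ⊓ Mc T
    have hWH : W ≤ H := fun w hw => ⟨c.cm w hw _ (hNW hu), hWM hw⟩
    have htH : t ∈ H := ⟨(hfix hu).1, ht⟩
    have ht'H : t' ∈ H := ⟨(hfix hu).2, ht'⟩
    have hHM : H ≤ Mc T := inf_le_right
    have hmul := Subgroup.relIndex_mul_relIndex W H (Mc T) hWH hHM
    rw [hrel4] at hmul
    have ha1 : W.relIndex H ≠ 1 := fun h => h1 (Subgroup.relIndex_eq_one.mp h htH)
    have ha2 : W.relIndex H ≠ 2 := by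
      intro h
      have h' : (W.subgroupOf H).index = 2 := h
      have := Subgroup.mul_mem_iff_of_index_two h' (a := (⟨t, htH⟩ : ↥H)⁻¹) (b := ⟨t', ht'H⟩)
      rw [Subgroup.mem_subgroupOf, Subgroup.mem_subgroupOf, Subgroup.mem_subgroupOf] at this
      have e : (((⟨t, htH⟩ : ↥H)⁻¹ * ⟨t', ht'H⟩ : ↥H) : T) = t⁻¹ * t' := rfl
      rw [e] at this
      apply h3
      rw [this]
      constructor
      · intro h; exact absurd (by simpa using W.inv_mem h) h1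
      · intro h; exact absurd h h2
    have hb1 : H.relIndex (Mc T) = 1 := by
      have hle : W.relIndex H ≤ 4 := Nat.le_of_dvd (by norm_num) ⟨_, hmul.symm⟩
      have hpos : W.relIndex H ≠ 0 := fun h => by rw [h] at hmul; omega
      interval_cases hh : W.relIndex H <;> omega
    intro g hg
    exact (Subgroup.relIndex_eq_one.mp hb1 hg).1
  -- `⁅u, N u⁆ ∈ Z_2`
  have hself : ∀ {u : T}, u ∈ W → ⁅u, PHICORE_aux_nm t t' u⁆ ∈ Zi T 2 := by
    intro u hu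
    unfold PHICORE_aux_nm
    rw [PHICORE_aux_comm_mul_right c hu (W.mul_mem (W.mul_mem hu (cj t hu)) (cj t' hu)) (cj (t * t') hu),
      PHICORE_aux_comm_mul_right c hu (W.mul_mem hu (cj t hu)) (cj t' hu),
      PHICORE_aux_comm_mul_right c hu hu (cj t hu), commutatorElement_self, one_mul]
    exact Subgroup.mul_mem _ (Subgroup.mul_mem _ (fi2 c u hu t ht) (fi2 c u hu t' ht'))
      (fi2 c u hu (t * t') (Subgroup.mul_mem _ ht ht'))
  -- the subgroup `Z_1 = ⟨Z, n⟩`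
  let Z1 : Subgroup T := Zi T 3 ⊔ Subgroup.zpowers n
  have hZZ1 : Zi T 3 ≤ Z1 := le_sup_left
  have hnZ1 : n ∈ Z1 := (le_sup_right : Subgroup.zpowers n ≤ Z1) (Subgroup.mem_zpowers n)
  have hZC : Zi T 3 ≤ fixMod W (Zi T 3) (Mc T) := by
    intro z hz
    refine ⟨c.ZW hz, fun g _ => ?_⟩
    rw [commutatorElement_def]
    exact Subgroup.mul_mem _ ((inferInstance : (Zi T 3).Normal).conj_mem z hz g) (Subgroup.inv_mem _ hz)
  have hnC : n ∈ fixMod W (Zi T 3) (Mc T) := by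
    refine ⟨hnW, fun g _ => ?_⟩
    have h := (Subgroup.mem_upperCentralSeries_succ_iff).mp hn4 g
    have : ⁅g, n⁆ = (n * g * n⁻¹ * g⁻¹)⁻¹ := by
      simp only [commutatorElement_def]; group
    rw [this]
    exact Subgroup.inv_mem _ h
  have hZ1C : Z1 ≤ fixMod W (Zi T 3) (Mc T) :=
    sup_le hZC ((Subgroup.zpowers_le).mpr hnC)
  have hZ1card : 16 ≤ Nat.card ↥Z1 := by
    have := PHICORE_aux_card_double hZZ1 hnZ1 hn3
    rw [c.c3] at this
    omega
  have hZR : ∀ (u : T) (hu : u ∈ W), Z1 ≤ PHICORE_aux_R c u hu := by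
    intro u hu
    refine sup_le (fun z hz => ⟨c.ZW hz, ?_⟩) ((Subgroup.zpowers_le).mpr ⟨hnW, ?_⟩)
    · have : ⁅u, z⁆ = 1 := by
        rw [commutatorElement_def, PHICORE_aux_conj_z c hu hz, mul_inv_cancel]
      rw [this]; exact Subgroup.one_mem _
    · have : ⁅u, n⁆ = ⁅n, u⁆⁻¹ := (commutatorElement_inv n u).symm
      rw [this]
      exact Subgroup.inv_mem _ (hnc u hu)
  -- Claim A
  have claimA : ∀ {u : T} (hu : u ∈ W), PHICORE_aux_nm t t' u ∉ Z1 →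
      ∀ y ∈ fixMod W (Zi T 3) (Mc T), ⁅u, y⁆ ∈ Zi T 2 := by
    intro u hu hN y hy
    let D : Subgroup T := Z1 ⊔ Subgroup.zpowers (PHICORE_aux_nm t t' u)
    have hND : PHICORE_aux_nm t t' u ∈ D :=
      (le_sup_right : Subgroup.zpowers _ ≤ D) (Subgroup.mem_zpowers _)
    have hDC : D ≤ fixMod W (Zi T 3) (Mc T) := sup_le hZ1C ((Subgroup.zpowers_le).mpr (hNC hu))
    have hDcard : 2 * Nat.card ↥Z1 ≤ Nat.card ↥D :=
      PHICORE_aux_card_double (le_sup_left : Z1 ≤ D) hND hN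
    have hCD : fixMod W (Zi T 3) (Mc T) = D := by
      refine (Subgroup.eq_of_le_of_card_ge hDC ?_).symm
      omega
    have hDR : D ≤ PHICORE_aux_R c u hu :=
      sup_le (hZR u hu) ((Subgroup.zpowers_le).mpr ⟨hNW hu, hself hu⟩)
    exact (hDR (hCD ▸ hy)).2
  -- final argument
  by_cases hc : PHICORE_aux_nm t t' x' ∈ Z1
  · exact (hZR x hx hc).2
  · by_cases hNx : PHICORE_aux_nm t t' x ∈ Z1
    · have hNxx : PHICORE_aux_nm t t' (x * x') ∉ Z1 := by
        intro h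
        apply hc
        have hmul : π (PHICORE_aux_nm t t' (x * x'))
            = π (PHICORE_aux_nm t t' x * PHICORE_aux_nm t t' x') := by
          rw [map_mul, hπN, hπN, hπN, map_mul]
          exact PHICORE_aux_norm_mul A hA (π t) (π t') (hs t) (hs t') (π x) (π x')
            ⟨x, hx, rfl⟩ ⟨x', hx', rfl⟩
        have hz := hπ.mp hmul
        have : PHICORE_aux_nm t t' x' = (PHICORE_aux_nm t t' x)⁻¹ * (PHICORE_aux_nm t t' (x * x')
            * ((PHICORE_aux_nm t t' (x * x'))⁻¹ * (PHICORE_aux_nm t t' x * PHICORE_aux_nm t t' x'))) := by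
          group
        rw [this]
        exact Z1.mul_mem (Z1.inv_mem hNx) (Z1.mul_mem h (hZZ1 hz))
      have e1 := claimA (W.mul_mem hx hx') hNxx _ (hNC hx')
      have e2 := claimA hx' hc _ (hNC hx')
      rw [PHICORE_aux_comm_mul_left c hx hx' (hNW hx')] at e1
      have : ⁅x, PHICORE_aux_nm t t' x'⁆
          = (⁅x, PHICORE_aux_nm t t' x'⁆ * ⁅x', PHICORE_aux_nm t t' x'⁆)
            * (⁅x', PHICORE_aux_nm t t' x'⁆)⁻¹ := by group
      rw [this]
      exact Subgroup.mul_mem _ e1 (Subgroup.inv_mem _ e2)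
    · exact claimA hx hNx _ (hNC hx')

end main

end Cfsg.Agent.S3174P
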