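import Mathlib
import Cfsg.Agent.Helper5.VL.Defs

/-! s3777pieces PHI1 (helper6): the commutator subgroup lies in the kernel of every functional. -/

set_option autoImplicit false
set_option linter.style.haveILetI false
set_option linter.unusedSectionVars false
set_option linter.unusedVariables false

namespace Cfsg.Agent.Helper5.VL

open Subgroup
open scoped commutatorElement

universe u
variable {p : ℕ} [Fact p.Prime] {G : Type u} [Group G] [Finite G]

/-- PHI1 -/
theorem commutator_le_Phi : commutator G ≤ Phi p G := by
  unfold Phi
  exact le_iInf fun φ => Abelianization.commutator_subset_ker φ

end Cfsg.Agent.Helper5.VL
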