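import Mathlib
import Cfsg.Agent.Helper5.VL.Defs
import Cfsg.Agent.Helper6.VLPHI1

/-! s3777pieces SEP (helper6): a subgroup `K ≥ Phi` is separated from any `c ∉ K` by a functional (direct: `G ⧸ K` is an
`𝔽_p`-vector space, take a linear functional that does not vanish at the image of `c`). -/

set_option autoImplicit false
set_option linter.style.haveILetI false
set_option linter.unusedSectionVars false
set_option linter.unusedVariables false

namespace Cfsg.Agent.Helper5.VL

open Subgroup
open scoped commutatorElement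

universe u
variable {p : ℕ} [Fact p.Prime] {G : Type u} [Group G] [Finite G]

theorem SEP_aux_pow (x : G) : x ^ p ∈ Phi p G := by
  rw [mem_Phi]
  intro φ
  rw [map_pow]
  have h : ∀ a : Multiplicative (ZMod p), a ^ p = 1 := by
    intro a
    rw [← ofAdd_toAdd a, ← ofAdd_nsmul]
    simp
  exact h _

theorem SEP_aux_dual {M : Type*} [AddCommGroup M] [Module (ZMod p) M] (v : M) (hv : v ≠ 0) :
    ∃ f : M →+ ZMod p, f v ≠ 0 := by
  by_contra hno
  push Not at hno
  apply hv
  rw [← Module.forall_dual_apply_eq_zero_iff (ZMod p) v]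
  intro φ
  exact hno φ.toAddMonoidHom

theorem SEP_aux_add {M : Type*} [AddCommGroup M] (hexp : ∀ x : M, p • x = 0) (v : M) (hv : v ≠ 0) :
    ∃ f : M →+ ZMod p, f v ≠ 0 :=
  @SEP_aux_dual p _ M _ (AddCommGroup.zmodModule hexp) v hv

/-- SEP -/
theorem exists_sep {K : Subgroup G} (hK : Phi p G ≤ K) {c : G} (hc : c ∉ K) :
    ∃ φ : Fn p G, K ≤ φ.ker ∧ φ c ≠ 1 := by
  classical
  have hcomm : commutator G ≤ K := (commutator_le_Phi (p := p)).trans hK
  let K' : Subgroup (Abelianization G) := K.map Abelianization.of
  let π : G →* (Abelianization G ⧸ K') := (QuotientGroup.mk' K').comp Abelianization.of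
  have hπ : ∀ g : G, π g = 1 ↔ g ∈ K := by
    intro g
    show (QuotientGroup.mk' K') (Abelianization.of g) = 1 ↔ g ∈ K
    rw [QuotientGroup.mk'_apply, QuotientGroup.eq_one_iff]
    constructor
    · rintro ⟨k, hk, hkg⟩
      have h1 : k⁻¹ * g ∈ commutator G := by
        rw [← Abelianization.ker_of, MonoidHom.mem_ker, map_mul, map_inv, hkg, inv_mul_cancel]
      have h2 : k * (k⁻¹ * g) ∈ K := K.mul_mem hk (hcomm h1)
      simpa using h2
    · intro hg
      exact ⟨g, hg, rfl⟩
  have hexp : ∀ x : Additive (Abelianization G ⧸ K'), p • x = 0 := by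
    intro x
    induction x using Additive.rec with
    | ofMul q =>
      rw [← ofMul_pow]
      induction q using QuotientGroup.induction_on with
      | H a =>
        obtain ⟨g, rfl⟩ := QuotientGroup.mk_surjective (s := commutator G) a
        have h1 : π (g ^ p) = 1 := (hπ _).mpr (hK (SEP_aux_pow g))
        rw [map_pow] at h1
        show Additive.ofMul ((π g) ^ p) = 0
        rw [h1]
        rfl
  have hc' : Additive.ofMul (π c) ≠ 0 := by
    intro h0
    have : π c = 1 := h0
    exact hc ((hπ c).mp this)
  obtain ⟨f, hf⟩ := SEP_aux_add (p := p) hexp _ hc'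
  refine ⟨(AddMonoidHom.toMultiplicativeRight f).comp π, ?_, ?_⟩
  · intro k hk
    rw [MonoidHom.mem_ker, MonoidHom.comp_apply, (hπ k).mpr hk, map_one]
  · intro h1
    apply hf
    have : Multiplicative.ofAdd (f (Additive.ofMul (π c))) = 1 := h1
    exact this

end Cfsg.Agent.Helper5.VL
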