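import Mathlib
import Cfsg.Agent.Helper11.AutStab
import Cfsg.Agent.Helper6.Chev.BruhatNF2
import Cfsg.Agent.Helper6.Chev.WeylChain

set_option autoImplicit false
set_option linter.unusedSectionVars false
set_option linter.unusedSimpArgs false
set_option linter.unusedVariables false

/-!
Stage (A) of the decomposition of automorphisms of a Chevalley group: every automorphism becomes,
after composing with an inner automorphism, one that stabilises `U` and `V`.
-/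

namespace Cfsg.Agent.Helper6.AutStabA

open Cfsg.Lie Cfsg.Agent.Helper6 Cfsg.Agent.Helper11 Cfsg.Agent.Helper11.AutStab
open scoped Pointwise

variable {D : ChevalleyDatum} {F : Type*} [Field F]

/-- an element `n ∈ N` with `U ∩ n U n⁻¹ = 1` conjugates `U` onto `V` -/
theorem conj_monomial_iff (hD : IsTabulated D) {n₀ : GL D.Idx F} (hn₀ : n₀ ∈ D.monomialSubgroup F)
    (hn₀U : (D.posUnipotent F).map (MulAut.conj n₀).toMonoidHom = D.negUnipotent F)
    {n : GL D.Idx F} (hn : n ∈ D.monomialSubgroup F)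
    (hdis : ∀ c ∈ D.posUnipotent F, n * c * n⁻¹ ∈ D.posUnipotent F → c = 1) :
    ∀ c : GL D.Idx F, c ∈ D.posUnipotent F ↔ n * c * n⁻¹ ∈ D.negUnipotent F := by
  have Δ := bnData_of_tabulated F hD
  have hB := Δ.hB
  -- conjugation by `n₀`
  have h0 : ∀ d : GL D.Idx F, d ∈ D.posUnipotent F ↔ n₀ * d * n₀⁻¹ ∈ D.negUnipotent F := by
    intro d
    constructor
    · intro hd
      rw [← hn₀U]
      exact ⟨d, hd, rfl⟩
    · intro hd
      rw [← hn₀U] at hd
      obtain ⟨d', hd', e⟩ := hd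
      have e' : n₀ * d' * n₀⁻¹ = n₀ * d * n₀⁻¹ := e
      have : d' = d := by
        have h1 : n₀⁻¹ * (n₀ * d' * n₀⁻¹) * n₀ = n₀⁻¹ * (n₀ * d * n₀⁻¹) * n₀ := by rw [e']
        simpa [mul_assoc] using h1
      rw [← this]; exact hd'
  -- `m = n₀⁻¹ n ∈ H`
  have hm : n₀⁻¹ * n ∈ D.diagonalSubgroup F := by
    apply Δ.mem_diag_of_simple_pos (Subgroup.mul_mem _ (Subgroup.inv_mem _ hn₀) hn)
    intro i hi t
    have hp : D.simple i < D.nroots := (Δ.hAll i hi).hS.1
    have hpos : D.IsPosRoot (D.simple i) := (Δ.hsign' _ hp).2 (Δ.hpN i hi)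
    obtain ⟨σ, c, hσ⟩ := Δ.rootPermP_of_mem hn
    obtain ⟨hσlt, _, hconj⟩ := hσ _ hp
    have hneg : D.IsNegRoot (σ (D.simple i)) := by
      rcases Δ.pos_or_neg hσlt with hpp | hnn
      · exfalso
        have h1 : n * xU hB (D.simple i) 1 * n⁻¹ ∈ D.posUnipotent F := by
          rw [hconj]; exact Δ.xU_pos_mem hpp _
        exact Δ.xU_one_ne_one hp (hdis _ (Δ.xU_pos_mem hpos 1) h1)
      · exact hnn
    have h2 : n * xU hB (D.simple i) t * n⁻¹ ∈ D.negUnipotent F := by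
      rw [hconj]; exact Δ.xU_neg_mem hneg _
    have e : n₀⁻¹ * n * xU Δ.hB (D.simple i) t * (n₀⁻¹ * n)⁻¹ =
        n₀⁻¹ * (n * xU hB (D.simple i) t * n⁻¹) * n₀ := by group
    rw [e]
    apply (h0 _).2
    have e2 : n₀ * (n₀⁻¹ * (n * xU hB (D.simple i) t * n⁻¹) * n₀) * n₀⁻¹ =
        n * xU hB (D.simple i) t * n⁻¹ := by group
    rw [e2]; exact h2
  have hnormU := diagonal_le_normalizer_posUnipotent Δ.hB Δ.hAll Δ.hAdd Δ.hH hm
  intro c
  have e : n * c * n⁻¹ = n₀ * ((n₀⁻¹ * n) * c * (n₀⁻¹ * n)⁻¹) * n₀⁻¹ := by group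
  rw [e, ← h0]
  exact (Subgroup.mem_normalizer_iff.1 hnormU) c

/-- a conjugate `y U y⁻¹` of `U` meeting `U` trivially is a `U`-conjugate of `V` -/
theorem exists_conj_neg (hD : IsTabulated D) {n₀ : GL D.Idx F} (hn₀ : n₀ ∈ D.monomialSubgroup F)
    (hn₀U : (D.posUnipotent F).map (MulAut.conj n₀).toMonoidHom = D.negUnipotent F)
    {y : GL D.Idx F} (hy : y ∈ D.group F)
    (hdis : ∀ a ∈ D.posUnipotent F, y * a * y⁻¹ ∈ D.posUnipotent F → a = 1) :
    ∃ u' ∈ D.posUnipotent F, ∀ a : GL D.Idx F,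
      a ∈ D.posUnipotent F ↔ u'⁻¹ * (y * a * y⁻¹) * u' ∈ D.negUnipotent F := by
  have Δ := bnData_of_tabulated F hD
  have hB := Δ.hB
  obtain ⟨b, hb, n, hn, u, hu, rfl⟩ := Δ.exists_normal_form hy
  have huU : u ∈ D.posUnipotent F := Δ.unegGen_le_posUnipotent n hu
  -- `b = u' h`
  have hb' : b ∈ ((D.posUnipotent F ⊔ D.diagonalSubgroup F : Subgroup (GL D.Idx F)) :
      Set (GL D.Idx F)) := hb
  rw [Subgroup.coe_mul_of_right_le_normalizer_left _ _
    (diagonal_le_normalizer_posUnipotent Δ.hB Δ.hAll Δ.hAdd Δ.hH), Set.mem_mul] at hb'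
  obtain ⟨u', hu', h, hh, rfl⟩ := hb'
  have hbN : u' * h ∈ Subgroup.normalizer ((D.posUnipotent F : Subgroup (GL D.Idx F)) :
      Set (GL D.Idx F)) :=
    Subgroup.mul_mem _ (Subgroup.le_normalizer hu')
      (diagonal_le_normalizer_posUnipotent Δ.hB Δ.hAll Δ.hAdd Δ.hH hh)
  -- the hypothesis for `n`
  have hdisn : ∀ c ∈ D.posUnipotent F, n * c * n⁻¹ ∈ D.posUnipotent F → c = 1 := by
    intro c hc hnc
    have ha : u⁻¹ * c * u ∈ D.posUnipotent F :=
      Subgroup.mul_mem _ (Subgroup.mul_mem _ (Subgroup.inv_mem _ huU) hc) huU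
    have e : u' * h * n * u * (u⁻¹ * c * u) * (u' * h * n * u)⁻¹ =
        (u' * h) * (n * c * n⁻¹) * (u' * h)⁻¹ := by group
    have h1 : u' * h * n * u * (u⁻¹ * c * u) * (u' * h * n * u)⁻¹ ∈ D.posUnipotent F := by
      rw [e]
      exact ((Subgroup.mem_normalizer_iff.1 hbN) _).1 hnc
    have h2 := hdis _ ha h1
    have : c = u * (u⁻¹ * c * u) * u⁻¹ := by group
    rw [this, h2]; group
  have key := conj_monomial_iff hD hn₀ hn₀U hn hdisn
  have hnormV := diagonal_le_normalizer_negUnipotent Δ.hB Δ.hAll Δ.hAdd Δ.hH hh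
  refine ⟨u', hu', fun a => ?_⟩
  have e : u'⁻¹ * (u' * h * n * u * a * (u' * h * n * u)⁻¹) * u' =
      h * (n * (u * a * u⁻¹) * n⁻¹) * h⁻¹ := by group
  rw [e, ← (Subgroup.mem_normalizer_iff.1 hnormV) _, ← key]
  constructor
  · intro ha
    exact Subgroup.mul_mem _ (Subgroup.mul_mem _ huU ha) (Subgroup.inv_mem _ huU)
  · intro ha
    have : a = u⁻¹ * (u * a * u⁻¹) * u := by group
    rw [this]
    exact Subgroup.mul_mem _ (Subgroup.mul_mem _ (Subgroup.inv_mem _ huU) ha) huU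

/-- **Stage (A).** Every automorphism of a tabulated Chevalley group over a finite field becomes,
after composition with an inner automorphism, an automorphism stabilising `U` and `V`. -/
theorem exists_conj_stab [Finite F] (hD : IsTabulated D) (θ : ↥(D.group F) ≃* ↥(D.group F)) :
    ∃ x : ↥(D.group F), Stab (θ.trans (MulAut.conj x)) := by
  classical
  have : Fintype F := Fintype.ofFinite F
  obtain ⟨p, hp⟩ := CharP.exists F
  have := hp
  have : Fact p.Prime := ⟨CharP.char_is_prime F p⟩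
  have Δ := bnData_of_tabulated F hD
  have hB := Δ.hB
  have hUG : D.posUnipotent F ≤ D.group F := posUnipotent_le_group (F := F) hB
  have hVG : D.negUnipotent F ≤ D.group F := negUnipotent_le_group (F := F) hB
  obtain ⟨P, hP⟩ := ChevSylow.exists_sylow (F := F) p hD
  obtain ⟨n₀, hn₀, hn₀U⟩ := Cfsg.Agent.S1053.result (F := F) D hD
  have hn₀G : n₀ ∈ D.group F := monomialSubgroup_le_group hB hn₀
  -- Sylow conjugacy
  let θa : MulAut ↥(D.group F) := θ
  obtain ⟨x₁, hx₁⟩ := MulAction.exists_smul_eq ↥(D.group F) (θa • P) P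
  set θ₁ : ↥(D.group F) ≃* ↥(D.group F) := θ.trans (MulAut.conj x₁) with hθ₁
  have h1 : ∀ g : ↥(D.group F), g ∈ UG D F ↔ θ₁ g ∈ UG D F := by
    intro g
    have e2 : θ₁ g = MulAut.conj x₁ • (θa • g) := rfl
    have key : θ₁ g ∈ (MulAut.conj x₁ • (θa • (P : Subgroup ↥(D.group F)))) ↔
        g ∈ (P : Subgroup ↥(D.group F)) := by
      rw [e2, Subgroup.smul_mem_pointwise_smul_iff, Subgroup.smul_mem_pointwise_smul_iff]
    have e1 : MulAut.conj x₁ • (θa • (P : Subgroup ↥(D.group F))) = UG D F := by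
      rw [← Sylow.pointwise_smul_def, ← Sylow.coe_subgroup_smul, hx₁, hP]
    rw [e1, hP] at key
    exact key.symm
  -- `U ∩ V = 1`
  have hUV : ∀ g : GL D.Idx F, g ∈ D.posUnipotent F → g ∈ D.negUnipotent F → g = 1 := by
    intro g hgU hgV
    have : g ∈ D.borelSubgroup F ⊓ D.negUnipotent F := ⟨Δ.posUnipotent_le_borel hgU, hgV⟩
    rw [borel_inf_negUnipotent Δ.hB Δ.hH Δ.good2, Subgroup.mem_bot] at this
    exact this
  -- conjugation by `n₀`
  have h0 : ∀ d : GL D.Idx F, d ∈ D.posUnipotent F ↔ n₀ * d * n₀⁻¹ ∈ D.negUnipotent F := by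
    intro d
    constructor
    · intro hd
      rw [← hn₀U]
      exact ⟨d, hd, rfl⟩
    · intro hd
      rw [← hn₀U] at hd
      obtain ⟨d', hd', e⟩ := hd
      have e' : n₀ * d' * n₀⁻¹ = n₀ * d * n₀⁻¹ := e
      have : d' = d := by
        have h1 : n₀⁻¹ * (n₀ * d' * n₀⁻¹) * n₀ = n₀⁻¹ * (n₀ * d * n₀⁻¹) * n₀ := by rw [e']
        simpa [mul_assoc] using h1
      rw [← this]; exact hd'
  let n₀' : ↥(D.group F) := ⟨n₀, hn₀G⟩
  set y : ↥(D.group F) := θ₁ n₀' with hy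
  have hdis : ∀ a ∈ D.posUnipotent F, (y : GL D.Idx F) * a * (y : GL D.Idx F)⁻¹ ∈
      D.posUnipotent F → a = 1 := by
    intro a ha hya
    let a' : ↥(D.group F) := ⟨a, hUG ha⟩
    have ha' : a' ∈ UG D F := Subgroup.mem_subgroupOf.2 ha
    set g : ↥(D.group F) := θ₁.symm a' with hg
    have hgU : g ∈ UG D F := by
      rw [h1, hg, MulEquiv.apply_symm_apply]; exact ha'
    have e1 : y * a' * y⁻¹ = θ₁ (n₀' * g * n₀'⁻¹) := by
      rw [map_mul, map_mul, map_inv, hg, MulEquiv.apply_symm_apply]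
    have h2 : n₀' * g * n₀'⁻¹ ∈ UG D F := by
      rw [h1, ← e1, Subgroup.mem_subgroupOf]
      simpa using hya
    have h3 : n₀ * (g : GL D.Idx F) * n₀⁻¹ ∈ D.negUnipotent F :=
      (h0 _).1 (Subgroup.mem_subgroupOf.1 hgU)
    have h4 : n₀ * (g : GL D.Idx F) * n₀⁻¹ = 1 := by
      apply hUV _ _ h3
      have := Subgroup.mem_subgroupOf.1 h2
      simpa using this
    have h5 : (g : GL D.Idx F) = 1 := by
      have : (g : GL D.Idx F) = n₀⁻¹ * (n₀ * (g : GL D.Idx F) * n₀⁻¹) * n₀ := by group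
      rw [this, h4]; group
    have h6 : g = 1 := Subtype.ext h5
    have h7 : a' = 1 := by
      have : a' = θ₁ g := by rw [hg, MulEquiv.apply_symm_apply]
      rw [this, h6, map_one]
    exact congrArg Subtype.val h7
  obtain ⟨u', hu', hkey⟩ := exists_conj_neg hD hn₀ hn₀U y.2 hdis
  let x₂ : ↥(D.group F) := ⟨u', hUG hu'⟩⁻¹
  refine ⟨x₂ * x₁, ?_, ?_⟩
  · intro g
    rw [h1 g]
    have e : (θ.trans (MulAut.conj (x₂ * x₁))) g = x₂ * θ₁ g * x₂⁻¹ := by
      simp only [hθ₁, MulEquiv.trans_apply, MulAut.conj_apply]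
      group
    rw [e]
    have hx₂ : x₂ ∈ UG D F := Subgroup.inv_mem _ (Subgroup.mem_subgroupOf.2 hu')
    constructor
    · intro h
      exact Subgroup.mul_mem _ (Subgroup.mul_mem _ hx₂ h) (Subgroup.inv_mem _ hx₂)
    · intro h
      have : θ₁ g = x₂⁻¹ * (x₂ * θ₁ g * x₂⁻¹) * x₂ := by group
      rw [this]
      exact Subgroup.mul_mem _ (Subgroup.mul_mem _ (Subgroup.inv_mem _ hx₂) h) hx₂
  · intro g
    have e : (θ.trans (MulAut.conj (x₂ * x₁))) g = x₂ * θ₁ g * x₂⁻¹ := by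
      simp only [hθ₁, MulEquiv.trans_apply, MulAut.conj_apply]
      group
    rw [e]
    -- `g ∈ V ↔ g' := n₀⁻¹ g n₀ ∈ U`
    set g' : ↥(D.group F) := n₀'⁻¹ * g * n₀' with hg'
    have e1 : g = n₀' * g' * n₀'⁻¹ := by rw [hg']; group
    have h2 : g ∈ VG D F ↔ g' ∈ UG D F := by
      rw [Subgroup.mem_subgroupOf, Subgroup.mem_subgroupOf, h0]
      have : n₀ * ((g' : ↥(D.group F)) : GL D.Idx F) * n₀⁻¹ = (g : GL D.Idx F) :=
        (congrArg Subtype.val e1).symm
      rw [this]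
    rw [h2, h1 g', Subgroup.mem_subgroupOf, hkey, Subgroup.mem_subgroupOf]
    have e2 : θ₁ g = y * θ₁ g' * y⁻¹ := by
      rw [e1, map_mul, map_mul, map_inv]
    have e3 : ((x₂ * θ₁ g * x₂⁻¹ : ↥(D.group F)) : GL D.Idx F) =
        u'⁻¹ * ((y : GL D.Idx F) * ((θ₁ g' : ↥(D.group F)) : GL D.Idx F) * (y : GL D.Idx F)⁻¹) *
          u' := by
      rw [e2]
      simp [x₂]
    rw [e3]

end Cfsg.Agent.Helper6.AutStabA
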