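import Mathlib
import Cfsg.Agent.Helper15.Iso44Defs
import Cfsg.Agent.Helper15.Iso44Bas
import Cfsg.Agent.Helper7.Quasisimple

/-! s3044pieces EFA (`map_le_fitting`): if `[[Y,Y],Y] ≤ O = O_p(Y) = O_p(G) ∩ Y` then the image of `Y` in `G / O_p(G)` is a normal
subgroup of class at most two, hence lies in the Fitting subgroup. -/

set_option autoImplicit false

namespace Cfsg.Agent.Helper15.Iso44

open Cfsg Subgroup
open scoped commutatorElement

variable {G : Type*} [Group G] [Finite G] {p : ℕ} [Fact p.Prime] {S : Sylow p G} {P : Subgroup G}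

theorem map_le_fitting [hnG : (Cfsg.pCore p G).Normal]
    (hc : ⁅⁅Ysub p P, Ysub p P⁆, Ysub p P⁆ ≤ Osub p P) :
    (Ysub p P).map (QuotientGroup.mk' (Cfsg.pCore p G)) ≤
      Cfsg.fittingSubgroup (G ⧸ Cfsg.pCore p G) := by
  have hOle : Osub p P ≤ Cfsg.pCore p G := by
    rw [O_eq (p := p) (P := P)]
    exact inf_le_left
  -- the triple commutator of the image is trivial
  have h3 : ⁅⁅(Ysub p P).map (QuotientGroup.mk' (Cfsg.pCore p G)),
      (Ysub p P).map (QuotientGroup.mk' (Cfsg.pCore p G))⁆,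
      (Ysub p P).map (QuotientGroup.mk' (Cfsg.pCore p G))⁆ = ⊥ := by
    rw [← Subgroup.map_commutator, ← Subgroup.map_commutator, eq_bot_iff]
    calc (⁅⁅Ysub p P, Ysub p P⁆, Ysub p P⁆).map (QuotientGroup.mk' (Cfsg.pCore p G))
        ≤ (Cfsg.pCore p G).map (QuotientGroup.mk' (Cfsg.pCore p G)) := Subgroup.map_mono (hc.trans hOle)
      _ = ⊥ := QuotientGroup.map_mk'_self _
  have hnorm : ((Ysub p P).map (QuotientGroup.mk' (Cfsg.pCore p G))).Normal :=
    Subgroup.Normal.map (Y_normal (p := p) (P := P)) _ (QuotientGroup.mk'_surjective _)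
  have hnil : Group.IsNilpotent ↥((Ysub p P).map (QuotientGroup.mk' (Cfsg.pCore p G))) := by
    apply Cfsg.Agent.Helper7.isNilpotent_of_commutator_le_center
    intro x hx
    rw [Subgroup.mem_center_iff]
    intro z
    have hx' : (x : G ⧸ Cfsg.pCore p G) ∈ ⁅(Ysub p P).map (QuotientGroup.mk' (Cfsg.pCore p G)),
        (Ysub p P).map (QuotientGroup.mk' (Cfsg.pCore p G))⁆ := by
      rw [← Subgroup.map_subtype_commutator]
      exact Subgroup.mem_map.mpr ⟨x, hx, rfl⟩
    have h4 : ⁅(x : G ⧸ Cfsg.pCore p G), (z : G ⧸ Cfsg.pCore p G)⁆ ∈ (⊥ : Subgroup (G ⧸ Cfsg.pCore p G)) := by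
      rw [← h3]
      exact Subgroup.commutator_mem_commutator hx' z.2
    have h5 := commutatorElement_eq_one_iff_mul_comm.mp (Subgroup.mem_bot.mp h4)
    apply Subtype.ext
    simpa using h5.symm
  unfold Cfsg.fittingSubgroup
  exact le_sSup ⟨hnorm, hnil⟩

end Cfsg.Agent.Helper15.Iso44
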