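import Mathlib
import Cfsg.Agent.Helper18.K2P.Defs
import Cfsg.Agent.Helper18.K2P.QB
import Cfsg.Agent.Helper28.TwoRankLow
import Cfsg.Agent.Helper18.K2P.OMEGA

/-! # S5692 `k = 2` hyperbolic blocks (K2P), chapter B, piece S-REFL4 (helper6; port of helper16's K2M piece):
four orthogonal block reflections -/

set_option autoImplicit false
set_option linter.unusedSectionVars false
set_option linter.unusedVariables false

namespace Cfsg.Agent.K2P

open Matrix Cfsg.Agent.OC2P Cfsg.Agent.Helper28.Sg Cfsg.Agent.Helper28.Spin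
  Cfsg.Agent.Helper12.OrthGen Cfsg.Agent.K2M

variable {F : Type*} [Field F] [Fintype F] {t : ℕ} {Q : QuadraticForm F (Fin t × Fin 2 → F)}
  {q : QuadraticForm F (Fin 2 → F)}

/-- the product of two non-squares of a finite field is a square -/
theorem SREFL4.isSquare_mul_of_not {a b : F} (ha : ¬ IsSquare a) (hb : ¬ IsSquare b) :
    IsSquare (a * b) := by
  classical
  have ha0 : a ≠ 0 := by rintro rfl; exact ha IsSquare.zero
  have hb0 : b ≠ 0 := by rintro rfl; exact hb IsSquare.zero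
  rw [← quadraticChar_one_iff_isSquare (mul_ne_zero ha0 hb0), map_mul,
    quadraticChar_neg_one_iff_not_isSquare.2 ha, quadraticChar_neg_one_iff_not_isSquare.2 hb]
  norm_num

/-- reflections in vectors of different blocks commute -/
theorem SREFL4.comm (bm : BM0 Q q) {i j : Fin t} (hij : i ≠ j) (y y' : Fin 2 → F)
    (hy : Q (binj i y) ≠ 0) (hy' : Q (binj j y') ≠ 0) :
    reflO Q (binj i y) hy * reflO Q (binj j y') hy' =
      reflO Q (binj j y') hy' * reflO Q (binj i y) hy :=
  Cfsg.Agent.Helper28.TR.reflO_comm Q _ _ hy hy' (QB.B_binj_binj_ne bm hij y y')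

/-- S-REFL4 -/
theorem SREFL4.main (bm : BM0 Q q) (ht : 3 ≤ t) {H : Subgroup (OG Q)} (hH : HasMO H)
    (e : Fin 4 → Fin t) (he : Function.Injective e) (d : Fin 4 → (Fin 2 → F))
    (hd : ∀ s, Q (binj (e s) (d s)) ≠ 0) (h01 : q (d 1) = - q (d 0)) (h23 : q (d 3) = - q (d 2)) :
    reflO Q (binj (e 0) (d 0)) (hd 0) * reflO Q (binj (e 1) (d 1)) (hd 1) *
      (reflO Q (binj (e 2) (d 2)) (hd 2) * reflO Q (binj (e 3) (d 3)) (hd 3)) ∈ H := by
  have hne : ∀ s s' : Fin 4, s ≠ s' → e s ≠ e s' := fun s s' h h' => h (he h')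
  have c12 := SREFL4.comm bm (hne 1 2 (by decide)) (d 1) (d 2) (hd 1) (hd 2)
  have c13 := SREFL4.comm bm (hne 1 3 (by decide)) (d 1) (d 3) (hd 1) (hd 3)
  have c23 := SREFL4.comm bm (hne 2 3 (by decide)) (d 2) (d 3) (hd 2) (hd 3)
  have pm := fun (s s' : Fin 4) (hsq : IsSquare (q (d s) * q (d s'))) =>
    OMEGA.pair_mem bm ht hH (e s) (e s') (d s) (d s') (hd s) (hd s') hsq
  by_cases hA : IsSquare (q (d 0) * q (d 2))
  · -- pairs (0,2), (1,3)
    have h02 := pm 0 2 hA
    have h13 := pm 1 3 (by rw [h01, h23, neg_mul_neg]; exact hA)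
    have := H.mul_mem h02 h13
    have heq : reflO Q (binj (e 0) (d 0)) (hd 0) * reflO Q (binj (e 1) (d 1)) (hd 1) *
        (reflO Q (binj (e 2) (d 2)) (hd 2) * reflO Q (binj (e 3) (d 3)) (hd 3)) =
        reflO Q (binj (e 0) (d 0)) (hd 0) * reflO Q (binj (e 2) (d 2)) (hd 2) *
        (reflO Q (binj (e 1) (d 1)) (hd 1) * reflO Q (binj (e 3) (d 3)) (hd 3)) := by
      simp only [mul_assoc]
      rw [← mul_assoc (reflO Q (binj (e 1) (d 1)) (hd 1)), c12, mul_assoc]
    rw [heq]
    exact this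
  · by_cases hB : IsSquare (- (q (d 0) * q (d 2)))
    · -- pairs (0,3), (1,2)
      have h03 := pm 0 3 (by rw [h23, mul_neg]; exact hB)
      have h12 := pm 1 2 (by rw [h01, neg_mul]; exact hB)
      have := H.mul_mem h03 h12
      have heq : reflO Q (binj (e 0) (d 0)) (hd 0) * reflO Q (binj (e 1) (d 1)) (hd 1) *
          (reflO Q (binj (e 2) (d 2)) (hd 2) * reflO Q (binj (e 3) (d 3)) (hd 3)) =
          reflO Q (binj (e 0) (d 0)) (hd 0) * reflO Q (binj (e 3) (d 3)) (hd 3) *
          (reflO Q (binj (e 1) (d 1)) (hd 1) * reflO Q (binj (e 2) (d 2)) (hd 2)) := by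
        simp only [mul_assoc]
        rw [c23, ← mul_assoc (reflO Q (binj (e 1) (d 1)) (hd 1)), c13, mul_assoc]
      rw [heq]
      exact this
    · -- `-1` is a square: pairs (0,1), (2,3)
      have hm1 : IsSquare (-1 : F) := by
        have h := SREFL4.isSquare_mul_of_not hA hB
        have h0 : q (d 0) * q (d 2) ≠ 0 := by
          intro h0
          rw [h0] at hA
          exact hA IsSquare.zero
        obtain ⟨r, hr⟩ := h
        refine ⟨r / (q (d 0) * q (d 2)), ?_⟩
        rw [div_mul_div_comm, ← hr, mul_neg, neg_div, div_self (mul_ne_zero h0 h0)]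
      have hsq : ∀ x : F, IsSquare (x * -x) := by
        intro x
        obtain ⟨r, hr⟩ := hm1
        exact ⟨r * x, by linear_combination (x * x) * hr⟩
      have h01' := pm 0 1 (by rw [h01]; exact hsq _)
      have h23' := pm 2 3 (by rw [h23]; exact hsq _)
      exact H.mul_mem h01' h23'

end Cfsg.Agent.K2P
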