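import Mathlib

set_option autoImplicit false

/-! # S2345, piece ARITH: the arithmetic of the bound `D(N) = (q^N - 1)(q^(N-1) + q)/(q^2 - 1)` -/

namespace Cfsg.Agent.Helper12.LOP

namespace ARITH

/-- Integer divisibility `(q² − 1) ∣ (q^(M+1) − 1)(q^M + q)`. -/
theorem num_dvd_int (q : ℤ) (M : ℕ) : (q ^ 2 - 1) ∣ (q ^ (M + 1) - 1) * (q ^ M + q) := by
  induction M with
  | zero => exact ⟨1, by ring⟩
  | succ M ih =>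
    have h : (q ^ (M + 1 + 1) - 1) * (q ^ (M + 1) + q) =
        (q ^ (M + 1) - 1) * (q ^ M + q) + (q ^ 2 - 1) * (q * (q ^ M) ^ 2 + q * q ^ M - q ^ M) := by
      ring
    rw [h]
    exact dvd_add ih (dvd_mul_right _ _)

theorem cast_sq_sub_one (q : ℕ) (hq : 1 ≤ q) : ((q ^ 2 - 1 : ℕ) : ℤ) = (q : ℤ) ^ 2 - 1 := by
  have : 1 ≤ q ^ 2 := Nat.one_le_pow _ _ hq
  push_cast [Nat.cast_sub this]
  ring

theorem cast_pow_sub_one (q : ℕ) (hq : 1 ≤ q) (j : ℕ) :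
    ((q ^ j - 1 : ℕ) : ℤ) = (q : ℤ) ^ j - 1 := by
  have : 1 ≤ q ^ j := Nat.one_le_pow _ _ hq
  push_cast [Nat.cast_sub this]
  ring

theorem num_dvd (q : ℕ) (hq : 1 ≤ q) (M : ℕ) :
    (q ^ 2 - 1) ∣ (q ^ (M + 1) - 1) * (q ^ M + q) := by
  have h := num_dvd_int (q : ℤ) M
  rw [← Int.natCast_dvd_natCast]
  push_cast [cast_sq_sub_one q hq, cast_pow_sub_one q hq]
  exact h

/-- The recurrence `D(N+1) = D(N) + sing(N)` for the numerators (`a = q^M`, `N = M + 1`). -/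
theorem num_succ (q M : ℕ) (hq : 1 ≤ q) :
    (q ^ (M + 2) - 1) * (q ^ (M + 1) + q) =
      (q ^ (M + 1) - 1) * (q ^ M + q) +
        (q ^ 2 - 1) * (q ^ (2 * M + 1) + q ^ (M + 1) - q ^ M) := by
  have h1 : q ^ M ≤ q ^ (M + 1) := Nat.pow_le_pow_right hq (by omega)
  have h2 : q ^ M ≤ q ^ (2 * M + 1) + q ^ (M + 1) := le_trans h1 (Nat.le_add_left _ _)
  zify
  push_cast [cast_sq_sub_one q hq, cast_pow_sub_one q hq, Nat.cast_sub h2]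
  ring

theorem D_succ (q M : ℕ) (hq : 2 ≤ q) :
    (q ^ (M + 2) - 1) * (q ^ (M + 1) + q) / (q ^ 2 - 1) =
      (q ^ (M + 1) - 1) * (q ^ M + q) / (q ^ 2 - 1) +
        (q ^ (2 * M + 1) + q ^ (M + 1) - q ^ M) := by
  have hpos : 0 < q ^ 2 - 1 := by
    have : 4 ≤ q ^ 2 := by nlinarith
    omega
  rw [num_succ q M (by omega), Nat.add_mul_div_left _ _ hpos]


theorem sing_ge (q M : ℕ) (hq : 1 ≤ q) :
    q ^ (2 * M + 1) + 1 ≤ q ^ (2 * M + 1) + q ^ (M + 1) - q ^ M + 1 ∧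
      q ^ M ≤ q ^ (M + 1) ∧ 1 ≤ q ^ (2 * M + 1) ∧ q ^ M ≤ q ^ (2 * M + 1) := by
  have h1 : q ^ M ≤ q ^ (M + 1) := Nat.pow_le_pow_right hq (by omega)
  have h2 : 1 ≤ q ^ (2 * M + 1) := Nat.one_le_pow _ _ hq
  have h3 : q ^ M ≤ q ^ (2 * M + 1) := Nat.pow_le_pow_right hq (by omega)
  refine ⟨by omega, h1, h2, h3⟩

theorem excl_size (Q b : ℤ) (M : ℕ) (hQ : 4 ≤ Q) (hb : b = Q ^ (M + 2))
    (h6 : (Q ^ 2 * b + Q ^ 2 + Q - 1) ∣ (Q ^ 2 - 1) ^ 3) : False := by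
  have hQ0 : (0 : ℤ) ≤ Q := by linarith
  have hpos : (0 : ℤ) < (Q ^ 2 - 1) ^ 3 := by
    have : (0 : ℤ) < Q ^ 2 - 1 := by nlinarith
    positivity
  rcases M with _ | _ | M
  · -- N = 3
    have hb2 : b = Q ^ 2 := by rw [hb]
    subst hb2
    by_cases h9 : 9 ≤ Q
    · have hR : (Q ^ 2 * Q ^ 2 + Q ^ 2 + Q - 1) ∣ (Q ^ 3 - 8 * Q ^ 2 - 4 * Q + 5) := by
        have e : Q ^ 3 - 8 * Q ^ 2 - 4 * Q + 5 =
            (Q ^ 2 * Q ^ 2 + Q ^ 2 + Q - 1) * (Q ^ 2 - 4) - (Q ^ 2 - 1) ^ 3 := by ring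
        rw [e]
        exact dvd_sub (dvd_mul_right _ _) h6
      have hRpos : (0 : ℤ) < Q ^ 3 - 8 * Q ^ 2 - 4 * Q + 5 := by
        nlinarith [mul_nonneg (by linarith : (0:ℤ) ≤ Q - 9) (by positivity : (0:ℤ) ≤ Q ^ 2)]
      have hle := Int.le_of_dvd hRpos hR
      nlinarith [mul_nonneg hQ0 (by positivity : (0:ℤ) ≤ Q ^ 3), sq_nonneg Q]
    · have h8 : Q ≤ 8 := by omega
      interval_cases Q <;> norm_num at h6
  · -- N = 4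
    have hb3 : b = Q ^ 3 := by rw [hb]
    subst hb3
    have hR : (Q ^ 2 * Q ^ 3 + Q ^ 2 + Q - 1) ∣ (3 * Q ^ 4 + Q ^ 3 - 2 * Q ^ 2 - Q + 1) := by
      have e : 3 * Q ^ 4 + Q ^ 3 - 2 * Q ^ 2 - Q + 1 =
          (Q ^ 2 * Q ^ 3 + Q ^ 2 + Q - 1) * Q - (Q ^ 2 - 1) ^ 3 := by ring
      rw [e]
      exact dvd_sub (dvd_mul_right _ _) h6
    have hRpos : (0 : ℤ) < 3 * Q ^ 4 + Q ^ 3 - 2 * Q ^ 2 - Q + 1 := by
      nlinarith [mul_nonneg (by linarith : (0:ℤ) ≤ Q - 4) (by positivity : (0:ℤ) ≤ Q ^ 3),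
        mul_nonneg hQ0 (by positivity : (0:ℤ) ≤ Q ^ 2), sq_nonneg Q]
    have hle := Int.le_of_dvd hRpos hR
    nlinarith [mul_nonneg (by linarith : (0:ℤ) ≤ Q - 4) (by positivity : (0:ℤ) ≤ Q ^ 4),
      mul_nonneg (by linarith : (0:ℤ) ≤ Q - 4) (by positivity : (0:ℤ) ≤ Q ^ 3),
      mul_nonneg (by linarith : (0:ℤ) ≤ Q - 4) (by positivity : (0:ℤ) ≤ Q ^ 2), sq_nonneg Q]
  · -- N ≥ 5
    have hb4 : Q ^ 4 ≤ b := by
      rw [hb]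
      exact pow_le_pow_right₀ (by linarith) (by omega)
    have hle := Int.le_of_dvd hpos h6
    have h1 : Q ^ 2 * Q ^ 4 ≤ Q ^ 2 * b := mul_le_mul_of_nonneg_left hb4 (by positivity)
    nlinarith [sq_nonneg Q, mul_nonneg hQ0 hQ0, sq_nonneg (Q ^ 2)]

theorem excl_int (Q b k Dn : ℤ) (M : ℕ) (hQ : 4 ≤ Q) (hb : b = Q ^ (M + 2))
    (hD : (Q ^ 2 - 1) * Dn = (Q * b - 1) * (b + Q))
    (hk : k = Dn + (Q * b ^ 2 + Q * b - b - 1)) :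
    ¬ k ∣ ((Q ^ 3 * b ^ 2 + Q ^ 2 * b - Q * b - 1) * (Q * (Q * b ^ 2 + Q * b - b - 1))) *
      (k - Q * b ^ 2) := by
  intro hdiv
  have hb1 : (1 : ℤ) ≤ b := by
    rw [hb]
    exact one_le_pow₀ (by linarith)
  have hkA : (Q ^ 2 - 1) * k = (Q * b - 1) * (Q ^ 2 * b + Q ^ 2 + Q - 1) := by
    rw [hk, mul_add, hD]; ring
  have hcop_kQ : IsCoprime k Q :=
    ⟨Q ^ 2 - 1, -(b * (Q ^ 2 * b + Q ^ 2 + Q - 1) - (Q * b + Q + 1)), by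
      linear_combination hkA⟩
  have hcop_kb : IsCoprime k b := by rw [hb]; exact hcop_kQ.pow_right
  have hcop : IsCoprime k (Q * Q * b ^ 2) :=
    (hcop_kQ.mul_right hcop_kQ).mul_right hcop_kb.pow_right
  have h1 : k ∣ ((Q ^ 2 * b - 1) * (Q * b + 1) * (Q * b - 1) * (b + 1)) * (Q * Q * b ^ 2) := by
    have e : ((Q ^ 2 * b - 1) * (Q * b + 1) * (Q * b - 1) * (b + 1)) * (Q * Q * b ^ 2) =
        ((Q ^ 3 * b ^ 2 + Q ^ 2 * b - Q * b - 1) * (Q * (Q * b ^ 2 + Q * b - b - 1))) * k -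
        ((Q ^ 3 * b ^ 2 + Q ^ 2 * b - Q * b - 1) * (Q * (Q * b ^ 2 + Q * b - b - 1))) *
          (k - Q * b ^ 2) := by ring
    rw [e]
    exact dvd_sub (dvd_mul_left _ _) hdiv
  have h2 : k ∣ (Q ^ 2 * b - 1) * (Q * b + 1) * (Q * b - 1) * (b + 1) :=
    hcop.dvd_of_dvd_mul_right h1
  have h3 : (Q * b - 1) * (Q ^ 2 * b + Q ^ 2 + Q - 1) ∣
      (Q * b - 1) * ((Q ^ 2 - 1) * (Q ^ 2 * b - 1) * (Q * b + 1) * (b + 1)) := by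
    have := mul_dvd_mul_left (Q ^ 2 - 1) h2
    rw [hkA] at this
    have e : (Q * b - 1) * ((Q ^ 2 - 1) * (Q ^ 2 * b - 1) * (Q * b + 1) * (b + 1)) =
        (Q ^ 2 - 1) * ((Q ^ 2 * b - 1) * (Q * b + 1) * (Q * b - 1) * (b + 1)) := by ring
    rw [e]; exact this
  have hne : Q * b - 1 ≠ 0 := by nlinarith
  have h4 : (Q ^ 2 * b + Q ^ 2 + Q - 1) ∣
      (Q ^ 2 - 1) * (Q ^ 2 * b - 1) * (Q * b + 1) * (b + 1) :=
    (mul_dvd_mul_iff_left hne).mp h3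
  have h5 : (Q ^ 2 * b + Q ^ 2 + Q - 1) ∣ Q * (Q ^ 2 - 1) ^ 3 := by
    have e : Q * (Q ^ 2 - 1) ^ 3 =
        (Q ^ 2 * b + Q ^ 2 + Q - 1) * ((Q ^ 2 - 1) * ((Q ^ 2 * b) ^ 2 + (Q ^ 3 - Q ^ 2 - Q))) -
        ((Q ^ 2 - 1) * (Q ^ 2 * b - 1) * (Q * b + 1) * (b + 1)) * Q ^ 3 := by ring
    rw [e]
    exact dvd_sub (dvd_mul_right _ _) (dvd_mul_of_dvd_left h4 _)
  have hcopA : IsCoprime (Q ^ 2 * b + Q ^ 2 + Q - 1) Q := ⟨-1, Q * b + Q + 1, by ring⟩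
  have h6 : (Q ^ 2 * b + Q ^ 2 + Q - 1) ∣ (Q ^ 2 - 1) ^ 3 := hcopA.dvd_of_dvd_mul_left h5
  exact excl_size Q b M hQ hb h6

end ARITH

open ARITH

theorem arith_base (q : ℕ) (hq : 2 ≤ q) :
    (q ^ 3 - 1) * (q ^ 2 + q) / (q ^ 2 - 1) = (q ^ 4 - q) / (q - 1) := by
  have hpos : 0 < q ^ 2 - 1 := by
    have : 4 ≤ q ^ 2 := by nlinarith
    omega
  have hpos' : 0 < q - 1 := by omega
  have e1 : (q ^ 3 - 1) * (q ^ 2 + q) = (q ^ 2 - 1) * (q ^ 3 + q ^ 2 + q) := by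
    zify
    push_cast [cast_sq_sub_one q (by omega), cast_pow_sub_one q (by omega)]
    ring
  have e2 : q ^ 4 - q = (q - 1) * (q ^ 3 + q ^ 2 + q) := by
    have h4 : q ≤ q ^ 4 := by
      calc q = q ^ 1 := (pow_one q).symm
        _ ≤ q ^ 4 := Nat.pow_le_pow_right (by omega) (by omega)
    have h1 : 1 ≤ q := by omega
    zify
    push_cast [Nat.cast_sub h4, Nat.cast_sub h1]
    ring
  rw [e1, e2, Nat.mul_div_cancel_left _ hpos, Nat.mul_div_cancel_left _ hpos']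

theorem arith_step (q N c : ℕ) (hq : 4 ≤ q) (hN : 3 ≤ N)
    (hc : (q ^ N - 1) * (q ^ (N - 1) + q) / (q ^ 2 - 1) + 1 ≤ c) :
    (q ^ (N + 1) - 1) * (q ^ N + q) / (q ^ 2 - 1) ≤
      c + (q ^ (2 * N - 1) + q ^ N - q ^ (N - 1) - 1) := by
  obtain ⟨M, rfl⟩ : ∃ M, N = M + 1 := ⟨N - 1, by omega⟩
  have e1 : 2 * (M + 1) - 1 = 2 * M + 1 := by omega
  have e2 : M + 1 - 1 = M := by omega
  rw [e2] at hc
  rw [e1, e2, D_succ q M (by omega)]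
  obtain ⟨h1, h2, h3, h4⟩ := sing_ge q M (by omega)
  omega

theorem arith_level (q N : ℕ) (hq : 4 ≤ q) (hN : 3 ≤ N) :
    (q ^ (N + 1) - 1) * (q ^ N + q) / (q ^ 2 - 1) ≤ 2 * (q ^ (2 * N - 1) - q ^ (N - 1)) := by
  obtain ⟨M, rfl⟩ : ∃ M, N = M + 1 := ⟨N - 1, by omega⟩
  have e1 : 2 * (M + 1) - 1 = 2 * M + 1 := by omega
  have e2 : M + 1 - 1 = M := by omega
  rw [e1, e2]
  apply Nat.div_le_of_le_mul
  obtain ⟨-, h2, h3, h4⟩ := sing_ge q M (by omega)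
  have ha : q ≤ q ^ M := by
    calc q = q ^ 1 := (pow_one q).symm
      _ ≤ q ^ M := Nat.pow_le_pow_right (by omega) (by omega)
  zify
  push_cast [cast_sq_sub_one q (by omega), cast_pow_sub_one q (by omega), Nat.cast_sub h4]
  have hq' : (4 : ℤ) ≤ (q : ℤ) := by exact_mod_cast hq
  have ha' : (q : ℤ) ≤ (q : ℤ) ^ M := by exact_mod_cast ha
  set a : ℤ := (q : ℤ) ^ M with hadef
  set Q : ℤ := (q : ℤ) with hQdef
  have p1 : Q ^ (M + 1 + 1) = Q * Q * a := by rw [hadef]; ring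
  have p2 : Q ^ (M + 1) = Q * a := by rw [hadef]; ring
  have p3 : Q ^ (2 * M + 1) = Q * a * a := by rw [hadef]; ring
  rw [p1, p2, p3]
  have hq3 : 0 ≤ Q ^ 3 - 2 * Q := by nlinarith
  have hq4 : 0 ≤ Q ^ 4 - Q ^ 3 - 4 * Q ^ 2 + Q + 2 := by nlinarith [mul_nonneg (by linarith : (0:ℤ) ≤ Q - 4) (by positivity : (0:ℤ) ≤ Q ^ 3), mul_nonneg (by linarith : (0:ℤ) ≤ Q - 4) (by positivity : (0:ℤ) ≤ Q ^ 2)]
  have hkey : 0 ≤ a * (Q ^ 3 - 2 * Q) - (Q ^ 3 + 2 * Q ^ 2 - Q - 2) := by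
    nlinarith [mul_nonneg (by linarith : (0:ℤ) ≤ a - Q) hq3]
  nlinarith [mul_nonneg (by linarith : (0:ℤ) ≤ a) hkey]

theorem arith_twice (q N : ℕ) (hq : 4 ≤ q) (hN : 3 ≤ N) :
    (q ^ (N + 1) - 1) * (q ^ N + q) / (q ^ 2 - 1) ≤
      2 * (q ^ (2 * N - 1) + q ^ N - q ^ (N - 1) - 1) := by
  refine le_trans (arith_level q N hq hN) ?_
  obtain ⟨M, rfl⟩ : ∃ M, N = M + 1 := ⟨N - 1, by omega⟩
  have e1 : 2 * (M + 1) - 1 = 2 * M + 1 := by omega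
  have e2 : M + 1 - 1 = M := by omega
  rw [e1, e2]
  have h1 : 1 ≤ q ^ (M + 1) := Nat.one_le_pow _ _ (by omega)
  omega

theorem arith_excl (q N k T : ℕ) (hq : 4 ≤ q) (hN : 3 ≤ N)
    (hk : k = (q ^ N - 1) * (q ^ (N - 1) + q) / (q ^ 2 - 1) +
      (q ^ (2 * N - 1) + q ^ N - q ^ (N - 1) - 1))
    (hT : T = (q ^ (2 * N + 1) + q ^ (N + 1) - q ^ N - 1) *
      (q * (q ^ (2 * N - 1) + q ^ N - q ^ (N - 1) - 1))) :
    ¬ ((k : ℤ) ∣ (T : ℤ) * ((k : ℤ) - (q : ℤ) ^ (2 * N - 1))) := by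
  obtain ⟨M, rfl⟩ : ∃ M, N = M + 3 := ⟨N - 3, by omega⟩
  have e1 : 2 * (M + 3) - 1 = 2 * M + 5 := by omega
  have e2 : M + 3 - 1 = M + 2 := by omega
  have e3 : 2 * (M + 3) + 1 = 2 * M + 7 := by omega
  have e4 : M + 3 + 1 = M + 4 := by omega
  rw [e1, e2] at hk hT
  rw [e3, e4] at hT
  rw [e1]
  have hq1 : 1 ≤ q := by omega
  -- the division is exact
  have hdvd := num_dvd q hq1 (M + 2)
  set Dn : ℕ := (q ^ (M + 3) - 1) * (q ^ (M + 2) + q) / (q ^ 2 - 1) with hDn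
  have hDnat : (q ^ 2 - 1) * Dn = (q ^ (M + 2 + 1) - 1) * (q ^ (M + 2) + q) :=
    Nat.mul_div_cancel' hdvd
  have hD : ((q : ℤ) ^ 2 - 1) * (Dn : ℤ) =
      ((q : ℤ) * (q : ℤ) ^ (M + 2) - 1) * ((q : ℤ) ^ (M + 2) + (q : ℤ)) := by
    have := congrArg (fun x : ℕ => (x : ℤ)) hDnat
    push_cast [cast_sq_sub_one q hq1, cast_pow_sub_one q hq1] at this
    rw [this]; ring
  -- the casts of the truncated subtractions
  have c1 : q ^ (M + 2) + 1 ≤ q ^ (2 * M + 5) + q ^ (M + 3) := by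
    have h1 : q ^ (M + 2) ≤ q ^ (M + 3) := Nat.pow_le_pow_right hq1 (by omega)
    have h2 : 1 ≤ q ^ (2 * M + 5) := Nat.one_le_pow _ _ hq1
    omega
  have c2 : q ^ (M + 3) + 1 ≤ q ^ (2 * M + 7) + q ^ (M + 4) := by
    have h1 : q ^ (M + 3) ≤ q ^ (M + 4) := Nat.pow_le_pow_right hq1 (by omega)
    have h2 : 1 ≤ q ^ (2 * M + 7) := Nat.one_le_pow _ _ hq1
    omega
  have s1 : ((q ^ (2 * M + 5) + q ^ (M + 3) - q ^ (M + 2) - 1 : ℕ) : ℤ) =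
      (q : ℤ) * ((q : ℤ) ^ (M + 2)) ^ 2 + (q : ℤ) * (q : ℤ) ^ (M + 2) - (q : ℤ) ^ (M + 2) - 1 := by
    rw [Nat.sub_sub, Nat.cast_sub c1]
    push_cast
    ring
  have s2 : ((q ^ (2 * M + 7) + q ^ (M + 4) - q ^ (M + 3) - 1 : ℕ) : ℤ) =
      (q : ℤ) ^ 3 * ((q : ℤ) ^ (M + 2)) ^ 2 + (q : ℤ) ^ 2 * (q : ℤ) ^ (M + 2) -
        (q : ℤ) * (q : ℤ) ^ (M + 2) - 1 := by
    rw [Nat.sub_sub, Nat.cast_sub c2]
    push_cast
    ring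
  have hkZ : (k : ℤ) = (Dn : ℤ) + ((q : ℤ) * ((q : ℤ) ^ (M + 2)) ^ 2 +
      (q : ℤ) * (q : ℤ) ^ (M + 2) - (q : ℤ) ^ (M + 2) - 1) := by
    rw [hk, Nat.cast_add, s1]
  have hTZ : (T : ℤ) = ((q : ℤ) ^ 3 * ((q : ℤ) ^ (M + 2)) ^ 2 + (q : ℤ) ^ 2 * (q : ℤ) ^ (M + 2) -
      (q : ℤ) * (q : ℤ) ^ (M + 2) - 1) * ((q : ℤ) * ((q : ℤ) * ((q : ℤ) ^ (M + 2)) ^ 2 +
      (q : ℤ) * (q : ℤ) ^ (M + 2) - (q : ℤ) ^ (M + 2) - 1)) := by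
    rw [hT, Nat.cast_mul, Nat.cast_mul, s1, s2]
  have hpow : (q : ℤ) ^ (2 * M + 5) = (q : ℤ) * ((q : ℤ) ^ (M + 2)) ^ 2 := by ring
  rw [hTZ, hpow]
  exact excl_int (q : ℤ) ((q : ℤ) ^ (M + 2)) (k : ℤ) (Dn : ℤ) M (by exact_mod_cast hq) rfl hD hkZ

end Cfsg.Agent.Helper12.LOP
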