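import Mathlib
import Cfsg.Agent.Helper6.MaxCentBasic
import Cfsg.Agent.Helper6.MaxCentFrob
import Cfsg.Agent.Helper6.MaxCentCount
import Cfsg.Agent.Helper29.Schmidt
import Cfsg.Agent.Helper29.NilpHall
import Cfsg.Agent.Helper1.FrobeniusCompl

/-!
Structure of `G / Z(G)` for groups in which the centralizer of every noncentral element is a
maximal subgroup.
-/

set_option autoImplicit false
set_option linter.unusedSectionVars false

namespace Cfsg.Agent.Helper6.MaxCent

open Subgroup
open scoped commutatorElement Pointwise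
open Cfsg.Agent.S4314 (exists_pow_primePow centralizer_singleton_eq_top_iff)

variable {G : Type*} [Group G]

/-- a normal maximal subgroup contains the commutator subgroup -/
theorem commutator_le_of_normal_coatom {M : Subgroup G} (hn : M.Normal) (hM : IsCoatom M) :
    _root_.commutator G ≤ M := by
  obtain ⟨t, -, ht⟩ := SetLike.exists_of_lt (lt_top_iff_ne_top.mpr hM.1)
  have hsup : M ⊔ zpowers t = ⊤ := by
    apply hM.2
    apply lt_of_le_of_ne le_sup_left
    intro e
    apply ht
    rw [e]
    exact (le_sup_right : zpowers t ≤ _) (mem_zpowers t)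
  exact Subgroup.Normal.commutator_le_of_self_sup_commutative_eq_top hsup inferInstance

theorem quotient_comm_of_commutator_le {M : Subgroup G} [M.Normal]
    (hcomm : _root_.commutator G ≤ M) (a b : G ⧸ M) : a * b = b * a := by
  obtain ⟨a, rfl⟩ := QuotientGroup.mk_surjective a
  obtain ⟨b, rfl⟩ := QuotientGroup.mk_surjective b
  rw [← QuotientGroup.mk_mul, ← QuotientGroup.mk_mul, QuotientGroup.eq]
  apply hcomm
  have : (a * b)⁻¹ * (b * a) = ⁅b⁻¹, a⁻¹⁆ := by
    rw [commutatorElement_def]; group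
  rw [this]
  exact Subgroup.commutator_mem_commutator (mem_top _) (mem_top _)

/-- a normal maximal subgroup has prime index -/
theorem index_prime_of_normal_coatom {M : Subgroup G} (hn : M.Normal) (hM : IsCoatom M) :
    M.index.Prime := by
  have hcomm := commutator_le_of_normal_coatom hn hM
  have hs : IsSimpleGroup (G ⧸ M) :=
    Cfsg.Agent.Helper29.isSimpleGroup_quotient_of_isCoatom' M hM
  let inst : CommGroup (G ⧸ M) :=
    { (inferInstance : Group (G ⧸ M)) with mul_comm := quotient_comm_of_commutator_le hcomm }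
  have := @IsSimpleGroup.prime_card (G ⧸ M) inst hs
  rw [Subgroup.index_eq_card]
  exact this

/-- an element commuting with everything outside... membership in the centre via centralizers -/
theorem mem_center_of_forall_mem_centralizer {c : G}
    (hc : ∀ g : G, g ∉ center G → c ∈ centralizer ({g} : Set G)) : c ∈ center G := by
  rw [mem_center_iff]
  intro g
  by_cases hg : g ∈ center G
  · exact (mem_center_iff.mp hg c).symm
  · have := hc g hg
    rw [mem_centralizer_singleton_iff] at this
    exact this.symm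

section Nilpotent

variable [Finite G]

/-- in a nilpotent group with `Hyp2`, all noncentral elements of prime power order belong to the
same prime -/
theorem Hyp2.prime_unique [hG : Group.IsNilpotent G] (h : Hyp2 G) {a b : G} {s r k e : ℕ}
    (hs : s.Prime) (hr : r.Prime) (ha : a ∉ center G) (hb : b ∉ center G)
    (horda : orderOf a = s ^ k) (hordb : orderOf b = r ^ e) : r = s := by
  by_contra hrs
  have hco : (orderOf a).Coprime (orderOf b) := by
    rw [horda, hordb]
    exact Nat.Coprime.pow _ _ ((Nat.coprime_primes hs hr).mpr (Ne.symm hrs))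
  have hcomm : Commute a b :=
    Cfsg.Agent.Helper29.commute_of_nilpotent_of_coprime_orderOf G a b hco
  have hbM : b ∈ centralizer ({a} : Set G) := by
    rw [mem_centralizer_singleton_iff]
    exact hcomm.eq.symm
  have hCb : centralizer ({b} : Set G) = centralizer ({a} : Set G) := h.key_eq ha hb hbM hco
  obtain ⟨t, -, ht⟩ := SetLike.exists_of_lt (lt_top_iff_ne_top.mpr (ne_top_of_not_mem ha))
  obtain ⟨j, u, f, hu, hordt, htM⟩ :=
    exists_pow_primePow (centralizer ({a} : Set G)) (orderOf t) t rfl ht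
  have hus : u = s := by
    by_contra hne
    apply htM
    rw [mem_centralizer_singleton_iff]
    have hco' : (orderOf (t ^ j)).Coprime (orderOf a) := by
      rw [hordt, horda]
      exact Nat.Coprime.pow _ _ ((Nat.coprime_primes hu hs).mpr hne)
    exact (Cfsg.Agent.Helper29.commute_of_nilpotent_of_coprime_orderOf G _ _ hco').eq
  have hur : u = r := by
    by_contra hne
    apply htM
    rw [← hCb, mem_centralizer_singleton_iff]
    have hco' : (orderOf (t ^ j)).Coprime (orderOf b) := by
      rw [hordt, hordb]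
      exact Nat.Coprime.pow _ _ ((Nat.coprime_primes hu hr).mpr hne)
    exact (Cfsg.Agent.Helper29.commute_of_nilpotent_of_coprime_orderOf G _ _ hco').eq
  exact hrs (hur.symm.trans hus)

/-- in a nonabelian nilpotent group with `Hyp2`, `G / Z(G)` is an `s`-group -/
theorem Hyp2.exists_prime_of_nilpotent [hG : Group.IsNilpotent G] (h : Hyp2 G) {g₀ : G}
    (hg₀ : g₀ ∉ center G) :
    ∃ s : ℕ, s.Prime ∧ ∀ g : G, ∃ k : ℕ, g ^ (s ^ k) ∈ center G := by
  obtain ⟨j, s, k, hs, horda, ha, -⟩ := h.exists_primePow hg₀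
  refine ⟨s, hs, fun g => ?_⟩
  obtain ⟨i, l, hsl, hil⟩ := Nat.exists_eq_pow_mul_and_not_dvd (orderOf_pos g).ne' s hs.ne_one
  refine ⟨i, ?_⟩
  by_contra hgc
  have hsi0 : s ^ i ≠ 0 := pow_ne_zero _ hs.ne_zero
  have hordl : orderOf (g ^ (s ^ i)) = l := by
    rw [orderOf_pow_of_dvd hsi0 (by rw [hil]; exact Dvd.intro _ rfl), hil]
    exact Nat.mul_div_cancel_left _ (Nat.pos_of_ne_zero hsi0)
  obtain ⟨j', r, e, hr, hordb, hb⟩ :=
    exists_pow_primePow (center G) (orderOf (g ^ (s ^ i))) (g ^ (s ^ i)) rfl hgc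
  have hrs : r = s := h.prime_unique hs hr ha hb horda hordb
  have he : e ≠ 0 := by
    rintro rfl
    rw [pow_zero, orderOf_eq_one_iff] at hordb
    apply hb
    rw [hordb]
    exact one_mem _
  apply hsl
  have h1 : r ^ e ∣ l := by
    rw [← hordb, ← hordl]
    exact orderOf_pow_dvd j'
  rw [← hrs]
  exact (dvd_pow_self r he).trans h1

/-- if `G / Z(G)` is an `s`-group (and `G` satisfies `Hyp2`) then it is elementary abelian -/
theorem Hyp2.elementary_of_nilpotent [hG : Group.IsNilpotent G] (h : Hyp2 G) {s : ℕ}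
    (hs : s.Prime) (hpow : ∀ g : G, ∃ k : ℕ, g ^ (s ^ k) ∈ center G) :
    (_root_.commutator G ≤ center G) ∧ ∀ x : G, x ^ s ∈ center G := by
  have hnormal : ∀ g : G, g ∉ center G → (centralizer ({g} : Set G)).Normal := fun g hg =>
    (Group.normalizerCondition_of_isNilpotent (G := G)).normal_of_coatom _ (h g hg)
  constructor
  · intro c hc
    apply mem_center_of_forall_mem_centralizer
    intro g hg
    exact commutator_le_of_normal_coatom (hnormal g hg) (h g hg) hc
  · intro x
    apply mem_center_of_forall_mem_centralizer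
    intro g hg
    have hn := hnormal g hg
    have hprime := index_prime_of_normal_coatom hn (h g hg)
    have h1 : x ^ (centralizer ({g} : Set G)).index ∈ centralizer ({g} : Set G) :=
      Subgroup.pow_index_mem _ x
    -- the index divides `|G / Z|`, a power of `s`
    have hp : IsPGroup s (G ⧸ center G) := by
      intro a
      obtain ⟨a, rfl⟩ := QuotientGroup.mk_surjective a
      obtain ⟨k, hk⟩ := hpow a
      refine ⟨k, ?_⟩
      rw [← QuotientGroup.mk_pow, QuotientGroup.eq_one_iff]
      exact hk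
    have : Fact s.Prime := ⟨hs⟩
    obtain ⟨n, hn'⟩ := IsPGroup.iff_card.mp hp
    have h2 : (centralizer ({g} : Set G)).index ∣ s ^ n := by
      rw [← hn', ← Subgroup.index_eq_card]
      exact Subgroup.index_dvd_of_le (center_le_centralizer g)
    have h3 : (centralizer ({g} : Set G)).index = s :=
      (Nat.prime_dvd_prime_iff_eq hprime hs).mp (hprime.dvd_of_dvd_pow h2)
    rwa [h3] at h1

end Nilpotent

section Frobenius

variable [Finite G]

/-- an abelian non-normal noncentral centralizer gives a Frobenius complement in `G / Z(G)` -/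
theorem Hyp2.isFrobeniusComplement_map (h : Hyp2 G) {x : G} (hx : x ∉ center G)
    (hn : ¬ (centralizer ({x} : Set G)).Normal) (hab : AbelianCent x) :
    Cfsg.IsFrobeniusComplement
      ((centralizer ({x} : Set G)).map (QuotientGroup.mk' (center G))) := by
  set Z := center G with hZ
  set M := centralizer ({x} : Set G) with hM
  have hZM : Z ≤ M := center_le_centralizer x
  set π := QuotientGroup.mk' Z with hπ
  have hπ1 : ∀ a : G, π a = 1 ↔ a ∈ Z := fun a => by
    rw [hπ, QuotientGroup.mk'_apply, QuotientGroup.eq_one_iff]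
  set H := M.map π with hH
  have hmem : ∀ a : G, π a ∈ H ↔ a ∈ M := fun a => mk_mem_map_iff hZM a
  have hH1 : H ≠ ⊥ := by
    intro e
    have h1 : π x ∈ H := (hmem x).mpr (self_mem_centralizer x)
    rw [e, mem_bot, hπ1] at h1
    exact hx h1
  have hMt : M ≠ ⊤ := ne_top_of_not_mem hx
  have hH2 : H ≠ ⊤ := by
    intro e
    apply hMt
    rw [eq_top_iff]
    intro a _
    rw [← hmem a, e]
    exact mem_top _
  refine ⟨hH1, hH2, ?_⟩
  intro g' hg'
  obtain ⟨g, rfl⟩ := QuotientGroup.mk'_surjective Z g'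
  rw [eq_bot_iff]
  intro a' ha'
  obtain ⟨a, rfl⟩ := QuotientGroup.mk'_surjective Z a'
  rw [mem_inf, Cfsg.Agent.Helper1.mem_conj_smul_iff] at ha'
  rw [mem_bot]
  change π a = 1
  rw [hπ1]
  have hg : g ∉ M := fun hg => hg' ((hmem g).mpr hg)
  have ha1 : a ∈ M := (hmem a).mp ha'.1
  have ha2 : g⁻¹ * a * g ∈ M := by
    rw [← hmem]
    have := ha'.2
    rwa [← map_inv, ← map_mul, ← map_mul] at this
  exact h.ti_of_abelian hx hn hab hg ha1 ha2

/-- the structure of `G / Z(G)` in the presence of an abelian non-normal noncentral centralizer -/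
theorem Hyp2.frobenius_structure (h : Hyp2 G) {x : G} (hx : x ∉ center G)
    (hn : ¬ (centralizer ({x} : Set G)).Normal) (hab : AbelianCent x) :
    ¬ IsMulCommutative (G ⧸ center G) ∧
    (∀ L : Subgroup (G ⧸ center G), L ≠ ⊤ → IsMulCommutative ↥L) ∧
      ∃ p q a : ℕ, p.Prime ∧ q.Prime ∧ p ≠ q ∧ Nat.card (G ⧸ center G) = p ^ a * q ∧
        ∀ P : Subgroup (G ⧸ center G), Nat.card ↥P = p ^ a → P.Normal := by
  classical
  have hfrob := h.isFrobeniusComplement_map hx hn hab
  set Z := center G with hZ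
  set M := centralizer ({x} : Set G) with hM
  have hZM : Z ≤ M := center_le_centralizer x
  set π := QuotientGroup.mk' Z with hπ
  have hπ1 : ∀ a : G, π a = 1 ↔ a ∈ Z := fun a => by
    rw [hπ, QuotientGroup.mk'_apply, QuotientGroup.eq_one_iff]
  set H := M.map π with hH
  have hmem : ∀ a : G, π a ∈ H ↔ a ∈ M := fun a => mk_mem_map_iff hZM a
  have : Fintype (G ⧸ Z) := Fintype.ofFinite _
  obtain ⟨N, hN, hNn, hNc⟩ := Cfsg.Agent.Helper1.frobenius_theorem hfrob
  have hNmem : ∀ a : G ⧸ Z, a ∈ N ↔ a ∈ Cfsg.frobeniusKernel H := fun a => by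
    rw [← hN]; rfl
  have hdisj : ∀ a : G ⧸ Z, a ∈ N → a ∈ H → a = 1 := by
    intro a h1 h2
    have := hNc.disjoint
    rw [disjoint_iff] at this
    have h3 : a ∈ N ⊓ H := mem_inf.mpr ⟨h1, h2⟩
    rw [this, mem_bot] at h3
    exact h3
  -- `H` is a maximal subgroup
  have hHco : IsCoatom H := by
    refine ⟨hfrob.2.1, fun L hL => ?_⟩
    have h1 : M < L.comap π := by
      refine lt_of_le_of_ne (fun a ha => hL.le ((hmem a).mpr ha)) ?_
      intro e
      apply hL.ne
      ext a'
      obtain ⟨a, rfl⟩ := QuotientGroup.mk'_surjective Z a'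
      rw [hmem, e]
      rfl
    have h2 := (h x hx).2 _ h1
    rw [eq_top_iff]
    intro a' _
    obtain ⟨a, rfl⟩ := QuotientGroup.mk'_surjective Z a'
    have : a ∈ L.comap π := by rw [h2]; exact mem_top _
    exact this
  have hHab : ∀ a ∈ H, ∀ b ∈ H, a * b = b * a := by
    rintro _ ⟨a, ha, rfl⟩ _ ⟨b, hb, rfl⟩
    rw [← map_mul, ← map_mul, hab a ha b hb]
  set K := N.comap π with hK
  have hKn : K.Normal := hNn.comap π
  have hKt : K ≠ ⊤ := by
    intro e
    apply hfrob.1
    rw [eq_bot_iff]
    intro a' ha'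
    obtain ⟨a, rfl⟩ := QuotientGroup.mk'_surjective Z a'
    rw [mem_bot]
    apply hdisj _ _ ha'
    have : a ∈ K := by rw [e]; exact mem_top _
    exact this
  have hcent : ∀ n ∈ K, n ∉ Z → centralizer ({n} : Set G) = K := by
    intro n hnK hnZ
    have hle : centralizer ({n} : Set G) ≤ K := by
      intro c hc
      rw [mem_centralizer_singleton_iff] at hc
      change π c ∈ N
      by_contra hcN
      rw [hNmem, Cfsg.Agent.Helper1.not_mem_frobeniusKernel_iff] at hcN
      obtain ⟨hc1, g', hg'⟩ := hcN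
      have hn' : g' * π n * g'⁻¹ ∈ N := hNn.conj_mem _ hnK g'
      have hcomm : (g' * π n * g'⁻¹) * (g' * π c * g'⁻¹) =
          (g' * π c * g'⁻¹) * (g' * π n * g'⁻¹) := by
        have e1 : (g' * π n * g'⁻¹) * (g' * π c * g'⁻¹) = g' * π (n * c) * g'⁻¹ := by
          rw [map_mul]; group
        have e2 : (g' * π c * g'⁻¹) * (g' * π n * g'⁻¹) = g' * π (c * n) * g'⁻¹ := by
          rw [map_mul]; group
        rw [e1, e2, hc]
      have hne : g' * π c * g'⁻¹ ≠ 1 := by
        intro e
        apply hc1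
        have : π c = g'⁻¹ * (g' * π c * g'⁻¹) * g' := by group
        rw [this, e]; group
      have hnH := Cfsg.Agent.Helper1.frob_centralizer_le hfrob hg' hne hcomm
      have h1 := hdisj _ hn' hnH
      apply hnZ
      rw [← hπ1]
      have : π n = g'⁻¹ * (g' * π n * g'⁻¹) * g' := by group
      rw [this, h1]; group
    exact (h.maximal hnZ hle hKt).symm
  have hNbot : N ≠ ⊥ := by
    intro e
    apply hfrob.2.1
    have := hNc.sup_eq_top
    rwa [e, bot_sup_eq] at this
  have hKZ : ¬ K ≤ Z := by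
    intro hKZ
    apply hNbot
    rw [eq_bot_iff]
    intro a' ha'
    obtain ⟨a, rfl⟩ := QuotientGroup.mk'_surjective Z a'
    rw [mem_bot]
    change π a = 1
    rw [hπ1]
    exact hKZ ha'
  obtain ⟨n₀, hn₀K, hn₀Z⟩ := SetLike.not_le_iff_exists.mp hKZ
  have hKco : IsCoatom K := by
    rw [← hcent n₀ hn₀K hn₀Z]
    exact h n₀ hn₀Z
  have hq : K.index.Prime := index_prime_of_normal_coatom hKn hKco
  have hNidx : N.index = K.index :=
    (Subgroup.index_comap_of_surjective N (QuotientGroup.mk'_surjective Z)).symm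
  have hHcard : Nat.card H = K.index := by
    rw [← hNidx]
    exact hNc.symm.index_eq_card.symm
  have hKab : ∀ a ∈ K, ∀ b ∈ K, a * b = b * a := by
    intro a ha b hb
    by_cases hac : a ∈ Z
    · exact (mem_center_iff.mp hac b).symm
    · have := hcent a ha hac
      rw [← this, mem_centralizer_singleton_iff] at hb
      exact hb.symm
  have hNab : ∀ a ∈ N, ∀ b ∈ N, a * b = b * a := by
    intro a' ha' b' hb'
    obtain ⟨a, rfl⟩ := QuotientGroup.mk'_surjective Z a'
    obtain ⟨b, rfl⟩ := QuotientGroup.mk'_surjective Z b'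
    change π a * π b = π b * π a
    rw [← map_mul, ← map_mul, hKab a ha' b hb']
  -- a prime dividing `|N|`
  have hNcard1 : Nat.card N ≠ 1 := fun e => hNbot (Subgroup.card_eq_one.mp e)
  obtain ⟨p, hp, hpN⟩ := Nat.exists_prime_and_dvd hNcard1
  have hpF : Fact p.Prime := ⟨hp⟩
  obtain ⟨y, hy⟩ := exists_prime_orderOf_dvd_card' p hpN
  let L : Subgroup (G ⧸ Z) :=
    { carrier := {n | n ∈ N ∧ n ^ p = 1}
      mul_mem' := by
        rintro a b ⟨ha, ha'⟩ ⟨hb, hb'⟩
        refine ⟨N.mul_mem ha hb, ?_⟩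
        have hc : Commute a b := hNab a ha b hb
        rw [hc.mul_pow, ha', hb', one_mul]
      one_mem' := ⟨N.one_mem, one_pow _⟩
      inv_mem' := by
        rintro a ⟨ha, ha'⟩
        exact ⟨N.inv_mem ha, by rw [inv_pow, ha', inv_one]⟩ }
  have hLmem : ∀ n : G ⧸ Z, n ∈ L ↔ n ∈ N ∧ n ^ p = 1 := fun n => Iff.rfl
  have hLn : L.Normal := by
    constructor
    intro n hn g
    rw [hLmem] at hn ⊢
    refine ⟨hNn.conj_mem n hn.1 g, ?_⟩
    rw [conj_pow, hn.2, mul_one, mul_inv_cancel]
  have hLN : L ≤ N := fun n hn => hn.1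
  have hyL : (y : G ⧸ Z) ∈ L := by
    rw [hLmem]
    refine ⟨y.2, ?_⟩
    have := pow_orderOf_eq_one y
    rw [hy] at this
    have := congrArg Subtype.val this
    simpa using this
  have hy1 : (y : G ⧸ Z) ≠ 1 := by
    intro e
    have : y = 1 := Subtype.ext e
    rw [this, orderOf_one] at hy
    exact hp.one_lt.ne hy
  have hLH : L ⊔ H = ⊤ := by
    apply hHco.2
    refine lt_of_le_of_ne le_sup_right ?_
    intro e
    have hLleH : L ≤ H := by
      rw [e]
      exact le_sup_left
    exact hy1 (hdisj _ y.2 (hLleH hyL))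
  have hNL : N ≤ L := by
    intro n hn
    have hn' : n ∈ L ⊔ H := by rw [hLH]; exact mem_top n
    obtain ⟨l, hl, h', hh', rfl⟩ := mem_sup_of_normal_left.mp hn'
    have h1 : h' ∈ N := by
      have := N.mul_mem (N.inv_mem (hLN hl)) hn
      rwa [inv_mul_cancel_left] at this
    have := hdisj h' h1 hh'
    rw [this, mul_one]
    exact hl
  have hNexp : ∀ n ∈ N, n ^ p = 1 := fun n hn => (hNL hn).2
  have hNp : IsPGroup p N := by
    rintro ⟨n, hn⟩
    refine ⟨1, ?_⟩
    apply Subtype.ext
    rw [pow_one, Subgroup.coe_pow, Subgroup.coe_one]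
    exact hNexp n hn
  obtain ⟨a, ha⟩ := IsPGroup.iff_card.mp hNp
  have ha0 : a ≠ 0 := by
    rintro rfl
    rw [pow_zero] at ha
    exact hNcard1 ha
  have hcop := Cfsg.Agent.Helper1.frob_coprime hfrob
  have hHidx : H.index = Nat.card N := hNc.index_eq_card
  have hpq : p ≠ K.index := by
    intro e
    rw [hHidx, ha, hHcard, ← e] at hcop
    have : p ∣ Nat.gcd p (p ^ a) := Nat.dvd_gcd dvd_rfl (dvd_pow_self p ha0)
    rw [Nat.Coprime.gcd_eq_one hcop] at this
    exact hp.one_lt.ne' (Nat.dvd_one.mp this)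
  have hcardG : Nat.card (G ⧸ Z) = p ^ a * K.index := by
    rw [← hNc.card_mul_card, ha, hHcard]
  refine ⟨?_, ?_, p, K.index, a, hp, hq, hpq, hcardG, ?_⟩
  · -- nonabelian
    intro hc
    obtain ⟨g, -, hg⟩ := SetLike.exists_of_lt (lt_top_iff_ne_top.mpr hfrob.2.1)
    have h1 := hfrob.2.2 g hg
    apply hfrob.1
    rw [eq_bot_iff, ← h1]
    intro b hb
    refine mem_inf.mpr ⟨hb, ?_⟩
    rw [Cfsg.Agent.Helper1.mem_conj_smul_iff]
    have : g⁻¹ * b * g = b := by
      rw [hc.is_comm.comm g⁻¹ b, mul_assoc, inv_mul_cancel, mul_one]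
    rwa [this]
  · -- proper subgroups are abelian
    intro L' hL'
    by_cases hL'N : L' ≤ N
    · exact ⟨⟨fun a b => Subtype.ext (hNab a (hL'N a.2) b (hL'N b.2))⟩⟩
    · obtain ⟨w, hwL, hwN⟩ := SetLike.not_le_iff_exists.mp hL'N
      rw [hNmem, Cfsg.Agent.Helper1.not_mem_frobeniusKernel_iff] at hwN
      obtain ⟨hw1, g, hg⟩ := hwN
      have hqF : Fact (K.index).Prime := ⟨hq⟩
      have hgw1 : (⟨g * w * g⁻¹, hg⟩ : H) ≠ 1 := by
        intro e
        apply hw1
        have e' : g * w * g⁻¹ = 1 := congrArg Subtype.val e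
        have : w = g⁻¹ * (g * w * g⁻¹) * g := by group
        rw [this, e']; group
      have hzp := zpowers_eq_top_of_prime_card hHcard hgw1
      -- `g⁻¹ H g ≤ L'`
      have hHL : ∀ b ∈ H, g⁻¹ * b * g ∈ L' := by
        intro b hb
        have : (⟨b, hb⟩ : H) ∈ zpowers (⟨g * w * g⁻¹, hg⟩ : H) := by rw [hzp]; exact mem_top _
        obtain ⟨i, hi⟩ := mem_zpowers_iff.mp this
        have hi' : (g * w * g⁻¹) ^ i = b := by
          have := congrArg Subtype.val hi
          simpa using this
        rw [← hi', conj_zpow]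
        have : g⁻¹ * (g * w ^ i * g⁻¹) * g = w ^ i := by group
        rw [this]
        exact L'.zpow_mem hwL i
      have hle : MulAut.conj g⁻¹ • H ≤ L' := by
        intro b hb
        rw [Cfsg.Agent.Helper1.mem_conj_smul_iff, inv_inv] at hb
        have := hHL _ hb
        have e : g⁻¹ * (g * b * g⁻¹) * g = b := by group
        rwa [e] at this
      have hco' : IsCoatom (MulAut.conj g⁻¹ • H) := Cfsg.Agent.Helper29.isCoatom_smul hHco _
      have heq : L' = MulAut.conj g⁻¹ • H := by
        rcases eq_or_lt_of_le hle with e | e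
        · exact e.symm
        · exact absurd (hco'.2 _ e) hL'
      refine ⟨⟨fun a b => ?_⟩⟩
      have ha' : (a : G ⧸ Z) ∈ MulAut.conj g⁻¹ • H := heq ▸ a.2
      have hb' : (b : G ⧸ Z) ∈ MulAut.conj g⁻¹ • H := heq ▸ b.2
      rw [Cfsg.Agent.Helper1.mem_conj_smul_iff, inv_inv] at ha' hb'
      have := hHab _ ha' _ hb'
      apply Subtype.ext
      rw [Subgroup.coe_mul, Subgroup.coe_mul]
      calc (a : G ⧸ Z) * b = g⁻¹ * ((g * a * g⁻¹) * (g * b * g⁻¹)) * g := by group
        _ = g⁻¹ * ((g * b * g⁻¹) * (g * a * g⁻¹)) * g := by rw [this]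
        _ = (b : G ⧸ Z) * a := by group
  · -- subgroups of order `p ^ a` are normal
    intro P hP
    have hPN : P ≤ N := by
      intro z hz
      have h1 : orderOf (QuotientGroup.mk' N z) ∣ orderOf z := orderOf_map_dvd _ z
      have h2 : orderOf z ∣ p ^ a := hP ▸ Subgroup.orderOf_dvd_natCard P hz
      have h3 : orderOf (QuotientGroup.mk' N z) ∣ K.index := by
        have := orderOf_dvd_natCard (QuotientGroup.mk' N z)
        rwa [← Subgroup.index_eq_card, hNidx] at this
      have hcop' : (p ^ a).Coprime K.index :=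
        Nat.Coprime.pow_left a ((Nat.coprime_primes hp hq).mpr hpq)
      have h4 : orderOf (QuotientGroup.mk' N z) = 1 :=
        Nat.eq_one_of_dvd_coprimes hcop' (h1.trans h2) h3
      rw [orderOf_eq_one_iff, QuotientGroup.mk'_apply, QuotientGroup.eq_one_iff] at h4
      exact h4
    have : P = N := Subgroup.eq_of_le_of_card_ge hPN (by rw [hP, ha])
    rw [this]
    exact hNn

end Frobenius

end Cfsg.Agent.Helper6.MaxCent
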