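import Mathlib

/-!
# PURESPAN (generic): a hyperplane of a "tensor product" is spanned by its pure tensors

`T : U →ₗ W →ₗ V` bilinear whose values span `V` (e.g. `T u w = u ⊗ w`, or the function-level
`tn u w = fun ij => u ij.1 * w ij.2`).  For every linear functional `φ` on `V`, the kernel of `φ` is
spanned by the pure tensors `T u w` lying in it.
-/

namespace Cfsg.Agent.Helper6.PureSpan

open Submodule

variable {F U W V : Type*} [Field F] [AddCommGroup U] [AddCommGroup W] [AddCommGroup V]
  [Module F U] [Module F W] [Module F V]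

/-- the key identity: modulo pure tensors in `ker φ`, `T u w ≡ (φ (T u w) / c) • T u0 w0`. -/
theorem key (T : U →ₗ[F] W →ₗ[F] V) (φ : V →ₗ[F] F) (u0 : U) (w0 : W)
    (hc : φ (T u0 w0) ≠ 0) (u : U) (w : W) :
    T u w - (φ (T u w) / φ (T u0 w0)) • T u0 w0 ∈
      span F {x : V | ∃ u w, x = T u w ∧ φ x = 0} := by
  set S := span F {x : V | ∃ u w, x = T u w ∧ φ x = 0} with hS
  set c := φ (T u0 w0) with hcdef
  have hmem : ∀ u w, φ (T u w) = 0 → T u w ∈ S := fun u w hx =>
    subset_span ⟨u, w, rfl, hx⟩
  set a := φ (T u w0) / c with ha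
  set b := φ (T u0 w) / c with hb
  set u' := u - a • u0 with hu'
  set w' := w - b • w0 with hw'
  have h1 : φ (T u' w0) = 0 := by
    simp only [hu', map_sub, map_smul, LinearMap.sub_apply, LinearMap.smul_apply, smul_eq_mul,
      ← hcdef]
    rw [ha]; field_simp; ring
  have h2 : φ (T u0 w') = 0 := by
    simp only [hw', map_sub, map_smul, smul_eq_mul, ← hcdef]
    rw [hb]; field_simp; ring
  set δ := φ (T u' w') with hδ
  have h3 : φ (T (u0 + u') (w' - (δ / c) • w0)) = 0 := by
    simp only [map_add, map_sub, map_smul, LinearMap.add_apply, smul_eq_mul, h1, h2, ← hδ, ← hcdef]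
    field_simp; ring
  have hδ' : φ (T u w) = δ + a * b * c := by
    have e1 : φ (T u w0) = a * c := by rw [ha]; field_simp
    have e2 : φ (T u0 w) = b * c := by rw [hb]; field_simp
    simp only [hδ, hu', hw', map_sub, map_smul, LinearMap.sub_apply, LinearMap.smul_apply,
      smul_eq_mul, ← hcdef, e1, e2]
    ring
  have hexp : T u w - (φ (T u w) / c) • T u0 w0 =
      T (u0 + u') (w' - (δ / c) • w0) - T u0 w' + (δ / c) • T u' w0 + b • T u' w0 + a • T u0 w' := by
    rw [hδ']
    have hdiv : (δ + a * b * c) / c = δ / c + a * b := by field_simp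
    rw [hdiv]
    have eu : u = u' + a • u0 := by rw [hu']; abel
    have ew : w = w' + b • w0 := by rw [hw']; abel
    conv_lhs => rw [eu, ew]
    simp only [map_add, map_sub, map_smul, LinearMap.add_apply, LinearMap.smul_apply, smul_add,
      smul_sub, add_smul, mul_smul]
    module
  rw [hexp]
  refine S.add_mem (S.add_mem (S.add_mem (S.sub_mem (hmem _ _ h3) (hmem _ _ h2)) ?_) ?_) ?_
  · exact S.smul_mem _ (hmem _ _ h1)
  · exact S.smul_mem _ (hmem _ _ h1)
  · exact S.smul_mem _ (hmem _ _ h2)

/-- **PURESPAN**: the kernel of a functional is spanned by the pure tensors in it. -/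
theorem purespan (T : U →ₗ[F] W →ₗ[F] V)
    (hT : span F {x : V | ∃ u w, x = T u w} = ⊤) (φ : V →ₗ[F] F) :
    span F {x : V | ∃ u w, x = T u w ∧ φ x = 0} = LinearMap.ker φ := by
  apply le_antisymm
  · rw [span_le]
    rintro x ⟨u, w, rfl, hx⟩
    exact hx
  · by_cases hall : ∀ u w, φ (T u w) = 0
    · have : {x : V | ∃ u w, x = T u w ∧ φ x = 0} = {x : V | ∃ u w, x = T u w} := by
        ext x; constructor
        · rintro ⟨u, w, rfl, -⟩; exact ⟨u, w, rfl⟩
        · rintro ⟨u, w, rfl⟩; exact ⟨u, w, rfl, hall u w⟩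
      rw [this, hT]; exact le_top
    · push Not at hall
      obtain ⟨u0, w0, hc⟩ := hall
      set S := span F {x : V | ∃ u w, x = T u w ∧ φ x = 0} with hS
      -- the projection `ψ x = x - (φ x / c) • T u0 w0`
      let ψ : V →ₗ[F] V :=
        LinearMap.id - (LinearMap.smulRight ((1 / φ (T u0 w0)) • φ) (T u0 w0))
      have hψ : ∀ x, ψ x = x - (φ x / φ (T u0 w0)) • T u0 w0 := by
        intro x
        simp only [ψ, LinearMap.sub_apply, LinearMap.id_apply, LinearMap.smulRight_apply,
          LinearMap.smul_apply, smul_eq_mul]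
        congr 2; field_simp
      have hmap : Submodule.map ψ ⊤ ≤ S := by
        rw [← hT, Submodule.map_span_le]
        rintro x ⟨u, w, rfl⟩
        rw [hψ]
        exact key T φ u0 w0 hc u w
      intro x hx
      have hx0 : φ x = 0 := hx
      have : ψ x = x := by rw [hψ, hx0]; simp
      rw [← this]
      exact hmap (Submodule.mem_map_of_mem trivial)

/-- membership form. -/
theorem mem_span_pure_of_ker (T : U →ₗ[F] W →ₗ[F] V)
    (hT : span F {x : V | ∃ u w, x = T u w} = ⊤) (φ : V →ₗ[F] F) {x : V} (hx : φ x = 0) :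
    x ∈ span F {x : V | ∃ u w, x = T u w ∧ φ x = 0} := by
  rw [purespan T hT φ]; exact hx

/-! ### function-level instance: `tn u w = fun ij => u ij.1 * w ij.2` on `I × J → F` -/

section Fun

variable {I J : Type*} (F)

/-- the pure tensor map on functions, as a bilinear map. -/
def tnL (I J : Type*) : (I → F) →ₗ[F] (J → F) →ₗ[F] (I × J → F) :=
  LinearMap.mk₂ F (fun u w ij => u ij.1 * w ij.2)
    (by intro u u' w; funext ij; simp [add_mul])
    (by intro c u w; funext ij; simp [mul_assoc])
    (by intro u w w'; funext ij; simp [mul_add])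
    (by intro c u w; funext ij; simp [mul_left_comm])

@[simp] theorem tnL_apply (u : I → F) (w : J → F) (ij : I × J) :
    tnL F I J u w ij = u ij.1 * w ij.2 := rfl

theorem tnL_eq (u : I → F) (w : J → F) :
    tnL F I J u w = fun ij => u ij.1 * w ij.2 := rfl

variable [Fintype I] [Fintype J] [DecidableEq I] [DecidableEq J]

theorem span_tnL_eq_top :
    span F {x : I × J → F | ∃ u w, x = tnL F I J u w} = ⊤ := by
  rw [eq_top_iff]
  intro x _
  have hx : x = ∑ ij : I × J, x ij • (Pi.single ij (1 : F) : I × J → F) := by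
    funext kl
    simp [Finset.sum_apply, Pi.single_apply]
  rw [hx]
  refine Submodule.sum_mem _ (fun ij _ => Submodule.smul_mem _ _ (subset_span ?_))
  refine ⟨Pi.single ij.1 1, Pi.single ij.2 1, ?_⟩
  funext kl
  by_cases h1 : kl.1 = ij.1
  · by_cases h2 : kl.2 = ij.2
    · have : kl = ij := Prod.ext h1 h2
      subst this; simp
    · have : kl ≠ ij := fun hh => h2 (by rw [hh])
      simp [Pi.single_apply, this, h2]
  · have : kl ≠ ij := fun hh => h1 (by rw [hh])
    simp [Pi.single_apply, this, h1]

/-- **PURESPAN**, function level: a vector of `I × J → F` killed by `φ` is a combination of pure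
tensors `fun ij => u ij.1 * w ij.2` killed by `φ`. -/
theorem purespan_fun (φ : (I × J → F) →ₗ[F] F) {x : I × J → F} (hx : φ x = 0) :
    x ∈ span F {x : I × J → F |
      ∃ (u : I → F) (w : J → F), x = (fun ij => u ij.1 * w ij.2) ∧ φ x = 0} := by
  have := mem_span_pure_of_ker (tnL F I J) (span_tnL_eq_top F) φ hx
  exact this

end Fun

end Cfsg.Agent.Helper6.PureSpan
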