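import Cfsg.Agent.Helper18.S0747Defs
import Cfsg.Agent.S4219

/-! Board `s0747pieces`, row A_WITT: Witt's lemma (`Cfsg.Agent.S4219.result`) as `IsMultiplyPretransitive`. -/

set_option autoImplicit false

namespace Cfsg.Agent.S0747P

open MulAction

/-- A_WITT: Witt's lemma (`Cfsg.Agent.S4219.result`): if `P` is a Sylow `p`-subgroup of the stabilizer of `k` points,
`N_G(P)` is `k`-transitive on the fixed points of `P`. -/
theorem A_WITT {G : Type*} [Group G] [Finite G] {α : Type*} [Fintype α] [MulAction G α] {k : ℕ}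
    (hG : IsMultiplyPretransitive G α k) {p : ℕ} [Fact p.Prime] (P : Subgroup G) (x : Fin k ↪ α)
    (S : Sylow p (stabilizer G x))
    (hS : (S : Subgroup (stabilizer G x)).map (stabilizer G x).subtype = P) :
    IsMultiplyPretransitive ↥(Subgroup.normalizer (P : Set G)) ↥(fixSub α P) k := by
  subst hS
  constructor
  intro a b
  let a' : Fin k ↪ α := a.trans (Function.Embedding.subtype _)
  let b' : Fin k ↪ α := b.trans (Function.Embedding.subtype _)
  have ha : ∀ i, a' i ∈ fixedPoints
      ((S : Subgroup (stabilizer G x)).map (stabilizer G x).subtype) α := fun i => (a i).2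
  have hb : ∀ i, b' i ∈ fixedPoints
      ((S : Subgroup (stabilizer G x)).map (stabilizer G x).subtype) α := fun i => (b i).2
  obtain ⟨g, hg, hgab⟩ := Cfsg.Agent.S4219.result hG x S a' b' ha hb
  refine ⟨⟨g, hg⟩, ?_⟩
  ext i
  have h : g • a' i = b' i := by
    have := DFunLike.congr_fun hgab i
    rwa [Function.Embedding.smul_apply] at this
  show g • ((a i : ↥(fixSub α _)) : α) = ((b i : ↥(fixSub α _)) : α)
  exact h

end Cfsg.Agent.S0747P
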