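import Mathlib
import Cfsg.Prelude.Def_Transfer
import Cfsg.Agent.Helper8.S1904Defs
import Cfsg.Agent.Helper1.PGroup

/-! Board `s1904pieces`, row S2 (core): a special 2-group `X` with `Z(X)` a four-group containing all
involutions, admitting an odd-order group `A` of automorphisms without fixed cosets in `X/Z(X)`, has
order at least 64.  (`|X/Z| = 4`: centralizer counting; `|X/Z| = 8`: orbit counting.) -/

set_option autoImplicit false

namespace Cfsg.Agent.S1904P

variable {X : Type*} [Group X] [Finite X]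

/-- class two, squares central: the commutator in terms of squares -/
theorem S2_aux_comm_sq (hcomm : ∀ x y : X, x * y * x⁻¹ * y⁻¹ ∈ Subgroup.center X)
    (hsq : ∀ x : X, x * x ∈ Subgroup.center X) (x y : X) :
    x * y * x⁻¹ * y⁻¹ = (x * y) * (x * y) * (y * y)⁻¹ * (x * x)⁻¹ := by
  have hc := hcomm x y
  have hx := hsq x
  have e3 : y * (x * x) = (x * x) * y := (Subgroup.mem_center_iff.1 hx) y
  have e4 : x * (x * y * x⁻¹ * y⁻¹) = (x * y * x⁻¹ * y⁻¹) * x := (Subgroup.mem_center_iff.1 hc) x
  have h2 : (x * y) * (x * y) = (x * y * x⁻¹ * y⁻¹) * ((x * x) * (y * y)) := by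
    have e1 : (x * y) * (x * y) = ((x * y * x⁻¹ * y⁻¹) * y * x) * (x * y) := by group
    rw [e1]
    have e2 : (x * y * x⁻¹ * y⁻¹) * y * x * (x * y) = (x * y * x⁻¹ * y⁻¹) * (y * (x * x)) * y := by
      group
    rw [e2, e3]; group
  rw [h2]; group

theorem S2_aux_comm_mem (hc : commutator X = Subgroup.center X) (x y : X) :
    x * y * x⁻¹ * y⁻¹ ∈ Subgroup.center X := by
  rw [← hc, ← commutatorElement_def]
  exact Subgroup.commutator_mem_commutator (Subgroup.mem_top x) (Subgroup.mem_top y)

/-- all commutators in a subgroup of order at most two: contradiction with `|X'| = 4` -/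
theorem S2_aux_small (hc : commutator X = Subgroup.center X)
    (h4 : Nat.card (Subgroup.center X) = 4) (w : X) (hw2 : w * w = 1)
    (hall : ∀ x y : X, x * y * x⁻¹ * y⁻¹ ∈ Subgroup.zpowers w) : False := by
  have hle : commutator X ≤ Subgroup.zpowers w := by
    rw [commutator_eq_closure, Subgroup.closure_le]
    rintro g ⟨x, y, rfl⟩
    rw [SetLike.mem_coe, commutatorElement_def]
    exact hall x y
  have hcard : Nat.card (Subgroup.zpowers w) ≤ 2 := by
    rw [Nat.card_zpowers]
    exact Nat.le_of_dvd (by norm_num) (orderOf_dvd_of_pow_eq_one (by rw [pow_two]; exact hw2))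
  have h5 := Subgroup.card_le_of_le hle
  rw [hc, h4] at h5
  omega

/-- all noncentral elements have the same square: contradiction -/
theorem S2_aux_const (hc : commutator X = Subgroup.center X)
    (hsq : ∀ x : X, x * x ∈ Subgroup.center X)
    (hZ : ∀ z ∈ Subgroup.center X, z * z = 1) (h4 : Nat.card (Subgroup.center X) = 4)
    (w : X) (hw2 : w * w = 1) (hw : ∀ x : X, x ∉ Subgroup.center X → x * x = w) : False := by
  have hsqK : ∀ x : X, x * x ∈ Subgroup.zpowers w := by
    intro x
    by_cases hx : x ∈ Subgroup.center X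
    · rw [hZ x hx]; exact one_mem _
    · rw [hw x hx]; exact Subgroup.mem_zpowers w
  refine S2_aux_small hc h4 w hw2 (fun x y => ?_)
  rw [S2_aux_comm_sq (S2_aux_comm_mem hc) hsq x y]
  exact mul_mem (mul_mem (hsqK _) (inv_mem (hsqK _))) (inv_mem (hsqK _))

theorem S2_aux_lt_card {G : Type*} [Group G] [Finite G] {H K : Subgroup G} (h : H < K) :
    2 * Nat.card H ≤ Nat.card K := by
  obtain ⟨j, hj⟩ := Subgroup.card_dvd_of_le h.le
  have hKpos : 0 < Nat.card K := Nat.card_pos
  have hHpos : 0 < Nat.card H := Nat.card_pos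
  have hj1 : j ≠ 1 := by
    intro h1
    rw [h1, mul_one] at hj
    exact h.ne (Subgroup.eq_of_le_of_card_ge h.le hj.le)
  have hj0 : j ≠ 0 := by
    intro h0; rw [h0, mul_zero] at hj; omega
  have h2 : 2 ≤ j := by omega
  calc 2 * Nat.card H = Nat.card H * 2 := by ring
    _ ≤ Nat.card H * j := Nat.mul_le_mul_left _ h2
    _ = Nat.card K := hj.symm

theorem S2_aux_memC (x y : X) : y ∈ Subgroup.centralizer ({x} : Set X) ↔ x * y = y * x := by
  rw [Subgroup.mem_centralizer_iff]
  simp

theorem S2_aux_cent_lt (a : X) (ha : a ∉ Subgroup.center X) :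
    Subgroup.center X < Subgroup.centralizer ({a} : Set X) ∧
      Subgroup.centralizer ({a} : Set X) < ⊤ := by
  constructor
  · refine lt_of_le_of_ne (Subgroup.center_le_centralizer _) ?_
    intro h
    apply ha
    rw [h, S2_aux_memC]
  · refine lt_of_le_of_ne le_top ?_
    intro h
    rw [Subgroup.centralizer_eq_top_iff_subset] at h
    exact ha (h (Set.mem_singleton a))

/-- `|X| = 16` is impossible -/
theorem S2_aux_16 (hc : commutator X = Subgroup.center X)
    (hZ : ∀ z ∈ Subgroup.center X, z * z = 1) (h4 : Nat.card (Subgroup.center X) = 4)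
    (h16 : Nat.card X = 16) : False := by
  have hcardC : ∀ x : X, x ∉ Subgroup.center X →
      Nat.card (Subgroup.centralizer ({x} : Set X)) = 8 := by
    intro x hx
    obtain ⟨h1, h2⟩ := S2_aux_cent_lt x hx
    have c1 := S2_aux_lt_card h1
    have c2 := S2_aux_lt_card h2
    rw [Subgroup.card_top, h16] at c2
    rw [h4] at c1
    omega
  have hidx : ∀ x : X, x ∉ Subgroup.center X →
      (Subgroup.centralizer ({x} : Set X)).index = 2 := by
    intro x hx
    have := (Subgroup.centralizer ({x} : Set X)).card_mul_index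
    rw [hcardC x hx, h16] at this
    omega
  have hsame : ∀ x : X, x ∉ Subgroup.center X → ∀ y y' : X, x * y ≠ y * x → x * y' ≠ y' * x →
      x * y * x⁻¹ * y⁻¹ = x * y' * x⁻¹ * y'⁻¹ := by
    intro x hx y y' hy hy'
    have hmem : y⁻¹ * y' ∈ Subgroup.centralizer ({x} : Set X) := by
      rw [Subgroup.mul_mem_iff_of_index_two (hidx x hx), inv_mem_iff, S2_aux_memC, S2_aux_memC]
      exact ⟨fun h => absurd h hy, fun h => absurd h hy'⟩
    rw [S2_aux_memC] at hmem
    have key : ∀ c : X, x * c = c * x → x * (y * c) * x⁻¹ * (y * c)⁻¹ = x * y * x⁻¹ * y⁻¹ := by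
      intro c hc
      have h5 : c * x⁻¹ = x⁻¹ * c := by
        calc c * x⁻¹ = x⁻¹ * (x * c) * x⁻¹ := by group
          _ = x⁻¹ * (c * x) * x⁻¹ := by rw [hc]
          _ = x⁻¹ * c := by group
      calc x * (y * c) * x⁻¹ * (y * c)⁻¹ = x * y * (c * x⁻¹) * c⁻¹ * y⁻¹ := by group
        _ = x * y * (x⁻¹ * c) * c⁻¹ * y⁻¹ := by rw [h5]
        _ = x * y * x⁻¹ * y⁻¹ := by group
    have h6 := key (y⁻¹ * y') hmem
    rw [← h6]; group
  -- a noncentral element
  have hZne : ∃ a : X, a ∉ Subgroup.center X := by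
    by_contra hcon
    push Not at hcon
    have : Subgroup.center X = ⊤ := (Subgroup.eq_top_iff' _).2 hcon
    rw [this, Subgroup.card_top, h16] at h4
    omega
  obtain ⟨a, ha⟩ := hZne
  obtain ⟨b, -, hb⟩ := SetLike.exists_of_lt (S2_aux_cent_lt a ha).2
  rw [S2_aux_memC] at hb
  have hbZ : b ∉ Subgroup.center X := by
    intro h; exact hb ((Subgroup.mem_center_iff.1 h) a)
  have hba : b * a ≠ a * b := fun h => hb h.symm
  -- C(a) ⊓ C(b) = Z
  have hD : ∀ x : X, x * a = a * x → x * b = b * x → x ∈ Subgroup.center X := by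
    intro x hxa hxb
    have hle : Subgroup.center X ≤
        Subgroup.centralizer ({a} : Set X) ⊓ Subgroup.centralizer ({b} : Set X) :=
      le_inf (Subgroup.center_le_centralizer _) (Subgroup.center_le_centralizer _)
    have hlt : Subgroup.centralizer ({a} : Set X) ⊓ Subgroup.centralizer ({b} : Set X) <
        Subgroup.centralizer ({a} : Set X) := by
      refine lt_of_le_of_ne inf_le_left ?_
      intro h
      have h1 : a ∈ Subgroup.centralizer ({a} : Set X) := by rw [S2_aux_memC]
      rw [← h, Subgroup.mem_inf, S2_aux_memC, S2_aux_memC] at h1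
      exact hba h1.2
    have c1 := S2_aux_lt_card hlt
    rw [hcardC a ha] at c1
    have : Subgroup.center X =
        Subgroup.centralizer ({a} : Set X) ⊓ Subgroup.centralizer ({b} : Set X) :=
      Subgroup.eq_of_le_of_card_ge hle (by rw [h4]; omega)
    rw [this, Subgroup.mem_inf, S2_aux_memC, S2_aux_memC]
    exact ⟨hxa.symm, hxb.symm⟩
  set w := a * b * a⁻¹ * b⁻¹ with hwdef
  have hwZ : w ∈ Subgroup.center X := S2_aux_comm_mem hc a b
  refine S2_aux_small hc h4 w (hZ w hwZ) (fun x y => ?_)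
  by_cases hxy : x * y = y * x
  · have : x * y * x⁻¹ * y⁻¹ = 1 := by rw [hxy]; group
    rw [this]; exact one_mem _
  · have hxZ : x ∉ Subgroup.center X := by
      intro h; exact hxy ((Subgroup.mem_center_iff.1 h) y).symm
    by_cases hxa : x * a = a * x
    · by_cases hxb : x * b = b * x
      · exact absurd (hD x hxa hxb) hxZ
      · -- comm x y = comm x b = (comm b x)⁻¹, comm b x = comm b a = w⁻¹
        have h1 := hsame x hxZ y b hxy hxb
        have h2 := hsame b hbZ x a (fun h => hxb h.symm) hba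
        have h3 : x * b * x⁻¹ * b⁻¹ = (b * x * b⁻¹ * x⁻¹)⁻¹ := by group
        have h4' : b * a * b⁻¹ * a⁻¹ = w⁻¹ := by rw [hwdef]; group
        rw [h1, h3, h2, h4', inv_inv]
        exact Subgroup.mem_zpowers w
    · have h1 := hsame x hxZ y a hxy hxa
      have h2 := hsame a ha x b (fun h => hxa h.symm) hb
      have h3 : x * a * x⁻¹ * a⁻¹ = (a * x * a⁻¹ * x⁻¹)⁻¹ := by group
      rw [h1, h3, h2]
      exact inv_mem (Subgroup.mem_zpowers w)

/-- an odd-order group acting on a set of 7 points without fixed points is transitive -/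
theorem S2_aux_orbit {G α : Type*} [Group G] [Finite G] [MulAction G α] (hodd : Odd (Nat.card G))
    (S : Set α) (hS : S.ncard = 7) (hinv : ∀ g : G, ∀ s ∈ S, g • s ∈ S)
    (hnf : ∀ s ∈ S, ∃ g : G, g • s ≠ s) : ∀ s ∈ S, ∀ t ∈ S, ∃ g : G, g • s = t := by
  have hfin : S.Finite := Set.finite_of_ncard_ne_zero (by rw [hS]; norm_num)
  have horb : ∀ s ∈ S, MulAction.orbit G s ⊆ S ∧ Odd (MulAction.orbit G s).ncard ∧
      3 ≤ (MulAction.orbit G s).ncard := by
    intro s hs
    have hsub : MulAction.orbit G s ⊆ S := by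
      rintro _ ⟨g, rfl⟩; exact hinv g s hs
    have hoddO : Odd (MulAction.orbit G s).ncard := by
      rw [← MulAction.index_stabilizer]
      exact Odd.of_dvd_nat hodd (Subgroup.index_dvd_card _)
    refine ⟨hsub, hoddO, ?_⟩
    have hne1 : (MulAction.orbit G s).ncard ≠ 1 := by
      intro h1
      obtain ⟨u, hu⟩ := Set.ncard_eq_one.1 h1
      obtain ⟨g, hg⟩ := hnf s hs
      have h1' : s ∈ MulAction.orbit G s := MulAction.mem_orbit_self s
      have h2' : g • s ∈ MulAction.orbit G s := MulAction.mem_orbit s g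
      rw [hu, Set.mem_singleton_iff] at h1' h2'
      exact hg (h2'.trans h1'.symm)
    obtain ⟨k, hk⟩ := hoddO
    omega
  have hdis : ∀ a b : α, b ∉ MulAction.orbit G a →
      Disjoint (MulAction.orbit G a) (MulAction.orbit G b) := by
    intro a b hb
    rw [Set.disjoint_left]
    intro u hua hub
    apply hb
    have h1 : MulAction.orbit G u = MulAction.orbit G a := MulAction.orbit_eq_iff.2 hua
    have h2 : MulAction.orbit G u = MulAction.orbit G b := MulAction.orbit_eq_iff.2 hub
    rw [← h1, h2]; exact MulAction.mem_orbit_self b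
  intro s hs t ht
  by_contra hcon
  have hts : t ∉ MulAction.orbit G s := fun h => by
    obtain ⟨g, hg⟩ := h
    exact hcon ⟨g, hg⟩
  obtain ⟨hs1, hs2, hs3⟩ := horb s hs
  obtain ⟨ht1, ht2, ht3⟩ := horb t ht
  have hU : (MulAction.orbit G s ∪ MulAction.orbit G t).ncard =
      (MulAction.orbit G s).ncard + (MulAction.orbit G t).ncard :=
    Set.ncard_union_eq (hdis s t hts) (hfin.subset hs1) (hfin.subset ht1)
  have hUsub : MulAction.orbit G s ∪ MulAction.orbit G t ⊆ S := Set.union_subset hs1 ht1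
  have hUle := Set.ncard_le_ncard hUsub hfin
  rw [hS] at hUle
  obtain ⟨k1, hk1⟩ := hs2
  obtain ⟨k2, hk2⟩ := ht2
  have hUlt : (MulAction.orbit G s ∪ MulAction.orbit G t).ncard < S.ncard := by
    rw [hS]; omega
  obtain ⟨u, huS, huU⟩ := Set.exists_mem_notMem_of_ncard_lt_ncard hUlt (hfin.subset hUsub)
  obtain ⟨hu1, hu2, hu3⟩ := horb u huS
  have hus : u ∉ MulAction.orbit G s := fun h => huU (Or.inl h)
  have hut : u ∉ MulAction.orbit G t := fun h => huU (Or.inr h)
  have hd3 : Disjoint (MulAction.orbit G s ∪ MulAction.orbit G t) (MulAction.orbit G u) := by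
    rw [Set.disjoint_union_left]
    exact ⟨hdis s u hus, hdis t u hut⟩
  have hV : ((MulAction.orbit G s ∪ MulAction.orbit G t) ∪ MulAction.orbit G u).ncard =
      (MulAction.orbit G s ∪ MulAction.orbit G t).ncard + (MulAction.orbit G u).ncard :=
    Set.ncard_union_eq hd3 (hfin.subset hUsub) (hfin.subset hu1)
  have hVle := Set.ncard_le_ncard (Set.union_subset hUsub hu1) hfin
  rw [hS] at hVle
  omega

theorem S2_aux_cen_aut (φ : MulAut X) {z : X} (hz : z ∈ Subgroup.center X) :
    φ z ∈ Subgroup.center X := by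
  rw [Subgroup.mem_center_iff] at hz ⊢
  intro g
  have := hz (φ.symm g)
  have h2 := congrArg φ this
  simpa using h2

theorem S2_aux_enum (h4 : Nat.card (Subgroup.center X) = 4) {w1 w2 w3 : X}
    (h1 : w1 ∈ Subgroup.center X) (h2 : w2 ∈ Subgroup.center X) (h3 : w3 ∈ Subgroup.center X)
    (n1 : w1 ≠ 1) (n2 : w2 ≠ 1) (n3 : w3 ≠ 1) (n12 : w1 ≠ w2) (n13 : w1 ≠ w3) (n23 : w2 ≠ w3) :
    ∀ z ∈ Subgroup.center X, z = 1 ∨ z = w1 ∨ z = w2 ∨ z = w3 := by
  classical
  have hsub : ({1, w1, w2, w3} : Set X) ⊆ (Subgroup.center X : Set X) := by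
    intro z hz
    simp only [Set.mem_insert_iff, Set.mem_singleton_iff] at hz
    rcases hz with rfl | rfl | rfl | rfl
    · exact one_mem _
    · exact h1
    · exact h2
    · exact h3
  have hcard : ({1, w1, w2, w3} : Set X).ncard = 4 := by
    rw [Set.ncard_insert_of_notMem, Set.ncard_insert_of_notMem, Set.ncard_pair n23]
    · simp [n12, n13]
    · simp [n1.symm, n2.symm, n3.symm]
  have hZc : (Subgroup.center X : Set X).ncard = 4 := by
    rw [← Nat.card_coe_set_eq]; exact h4
  have heq : ({1, w1, w2, w3} : Set X) = (Subgroup.center X : Set X) :=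
    Set.eq_of_subset_of_ncard_le hsub (by rw [hcard, hZc]) (Set.toFinite _)
  intro z hz
  have : z ∈ ({1, w1, w2, w3} : Set X) := by rw [heq]; exact hz
  simpa using this

/-- `|X| = 32`, some element of odd order of `Aut X` moves a central involution: impossible -/
theorem S2_aux_32i (hsq : ∀ x : X, x * x ∈ Subgroup.center X)
    (hZ : ∀ z ∈ Subgroup.center X, z * z = 1) (h4 : Nat.card (Subgroup.center X) = 4)
    (hinv : ∀ t : X, t * t = 1 → t ∈ Subgroup.center X) (h32 : Nat.card X = 32)
    (φ : MulAut X) (hodd : Odd (orderOf φ)) (w : X) (hw : w ∈ Subgroup.center X)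
    (hφw : φ w ≠ w) : False := by
  classical
  have hw1 : w ≠ 1 := by
    intro h; apply hφw; rw [h, map_one]
  have h21 : φ w ≠ 1 := by
    intro h; exact hw1 ((map_eq_one_iff φ φ.injective).1 h)
  have h31 : φ (φ w) ≠ 1 := by
    intro h; exact h21 ((map_eq_one_iff φ φ.injective).1 h)
  have h23 : φ w ≠ φ (φ w) := by
    intro h; exact hφw (φ.injective h).symm
  have h13 : w ≠ φ (φ w) := by
    intro hφ2
    have hk : ∀ k : ℕ, (φ ^ (2 * k)) w = w := by
      intro k
      induction k with
      | zero => simp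
      | succ k ih =>
        have e : φ ^ (2 * (k + 1)) = φ ^ (2 * k) * (φ * φ) := by
          rw [mul_add, pow_add, mul_one, pow_two]
        rw [e, MulAut.mul_apply, MulAut.mul_apply, ← hφ2, ih]
    obtain ⟨j, hj⟩ := hodd
    have h1 : (φ ^ (2 * j + 1)) w = w := by
      rw [← hj, pow_orderOf_eq_one]; rfl
    rw [pow_succ', MulAut.mul_apply, hk j] at h1
    exact hφw h1
  have hw2Z : φ w ∈ Subgroup.center X := S2_aux_cen_aut φ hw
  have hw3Z : φ (φ w) ∈ Subgroup.center X := S2_aux_cen_aut φ hw2Z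
  have henum := S2_aux_enum h4 hw hw2Z hw3Z hw1 h21 h31 (Ne.symm hφw) h13 h23
  haveI : Fintype X := Fintype.ofFinite X
  have hmaps : ((Finset.univ : Finset X) : Set X).MapsTo (fun x : X => x * x)
      (({1, w, φ w, φ (φ w)} : Finset X) : Set X) := by
    intro x _
    rcases henum (x * x) (hsq x) with h | h | h | h <;> simp [h]
  have hsum := Finset.card_eq_sum_card_fiberwise hmaps
  rw [Finset.sum_insert (by simp [hw1.symm, h21.symm, h31.symm]),
    Finset.sum_insert (by simp [Ne.symm hφw, h13]), Finset.sum_pair h23] at hsum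
  -- the fibre over 1 is the centre
  have hf1 : (Finset.univ.filter (fun x : X => x * x = 1)).card = 4 := by
    rw [← h4, Nat.card_eq_fintype_card, Fintype.card_subtype]
    congr 1
    ext x
    simp only [Finset.mem_filter, Finset.mem_univ, true_and]
    exact ⟨fun h => hinv x h, fun h => hZ x h⟩
  -- φ maps the fibre over u onto the fibre over φ u
  have hfib : ∀ u : X, (Finset.univ.filter (fun x : X => x * x = u)).card =
      (Finset.univ.filter (fun x : X => x * x = φ u)).card := by
    intro u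
    refine Finset.card_bij (fun x _ => φ x) ?_ ?_ ?_
    · intro x hx
      simp only [Finset.mem_filter, Finset.mem_univ, true_and] at hx ⊢
      rw [← map_mul, hx]
    · intro x _ y _ hxy
      exact φ.injective hxy
    · intro y hy
      simp only [Finset.mem_filter, Finset.mem_univ, true_and] at hy
      refine ⟨φ.symm y, ?_, by simp⟩
      simp only [Finset.mem_filter, Finset.mem_univ, true_and]
      rw [← map_mul, hy]; simp
  have hX : (Finset.univ : Finset X).card = 32 := by
    rw [Finset.card_univ, ← Nat.card_eq_fintype_card]; exact h32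
  rw [hX, hf1, ← hfib (φ w), ← hfib w] at hsum
  omega

theorem S2_aux_qa (A : Subgroup (MulAut X)) :
    MulAction.QuotientAction A (Subgroup.center X) where
  inv_mul_mem := by
    intro φ a a' h
    have e : (φ • a)⁻¹ * φ • a' = (φ : MulAut X) (a⁻¹ * a') := by
      simp [Subgroup.smul_def, MulAut.smul_def]
    rw [e]
    exact S2_aux_cen_aut _ h

/-- `|X| = 32`, `A` fixes the centre pointwise: impossible -/
theorem S2_aux_32ii {A : Subgroup (MulAut X)} (hoddA : Odd (Nat.card A))
    (hc : commutator X = Subgroup.center X) (hsq : ∀ x : X, x * x ∈ Subgroup.center X)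
    (hZ : ∀ z ∈ Subgroup.center X, z * z = 1) (h4 : Nat.card (Subgroup.center X) = 4)
    (h32 : Nat.card X = 32)
    (hT1 : ∀ x : X, (∀ φ ∈ A, x⁻¹ * φ x ∈ Subgroup.center X) → x ∈ Subgroup.center X)
    (hfix : ∀ φ ∈ A, ∀ w ∈ Subgroup.center X, φ w = w) : False := by
  have : Finite A := Nat.finite_of_card_ne_zero (by
    intro h; rw [h] at hoddA; exact absurd hoddA (by decide))
  have := S2_aux_qa A
  have hidx : Nat.card (X ⧸ Subgroup.center X) = 8 := by
    have := (Subgroup.center X).card_mul_index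
    rw [h4, h32, Subgroup.index_eq_card] at this
    omega
  have hScard : ({c : X ⧸ Subgroup.center X | c ≠ 1}).ncard = 7 := by
    have : {c : X ⧸ Subgroup.center X | c ≠ 1} = ({1} : Set (X ⧸ Subgroup.center X))ᶜ := by
      ext c; simp
    rw [this, Set.ncard_compl, Set.ncard_singleton, hidx]
  have hsmul : ∀ (g : A) (x : X), g • (x : X ⧸ Subgroup.center X) =
      (((g : MulAut X) x : X) : X ⧸ Subgroup.center X) := by
    intro g x
    rfl
  have hmk1 : ∀ x : X, ((x : X ⧸ Subgroup.center X) ≠ 1) ↔ x ∉ Subgroup.center X := by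
    intro x
    rw [Ne, QuotientGroup.eq_one_iff]
  have htrans := S2_aux_orbit (G := A) hoddA {c : X ⧸ Subgroup.center X | c ≠ 1} hScard
    (by
      intro g s hs
      obtain ⟨x, rfl⟩ := QuotientGroup.mk_surjective s
      rw [Set.mem_ofPred_eq] at hs ⊢
      rw [hsmul, hmk1]
      rw [hmk1] at hs
      intro h
      apply hs
      have := S2_aux_cen_aut (g : MulAut X).symm h
      simpa using this)
    (by
      intro s hs
      obtain ⟨x, rfl⟩ := QuotientGroup.mk_surjective s
      rw [Set.mem_ofPred_eq, hmk1] at hs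
      by_contra hcon
      push Not at hcon
      apply hs
      apply hT1
      intro φ hφ
      have := hcon ⟨φ, hφ⟩
      rw [hsmul] at this
      exact QuotientGroup.eq.1 this.symm)
  -- transitivity on noncentral cosets
  have htr : ∀ x y : X, x ∉ Subgroup.center X → y ∉ Subgroup.center X →
      ∃ φ ∈ A, (φ x)⁻¹ * y ∈ Subgroup.center X := by
    intro x y hx hy
    obtain ⟨g, hg⟩ := htrans (x : X ⧸ Subgroup.center X) ((hmk1 x).2 hx)
      (y : X ⧸ Subgroup.center X) ((hmk1 y).2 hy)
    rw [hsmul] at hg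
    exact ⟨g, g.2, QuotientGroup.eq.1 hg⟩
  have hZne : ∃ a : X, a ∉ Subgroup.center X := by
    by_contra hcon
    push Not at hcon
    have : Subgroup.center X = ⊤ := (Subgroup.eq_top_iff' _).2 hcon
    rw [this, Subgroup.card_top, h32] at h4
    omega
  obtain ⟨a, ha⟩ := hZne
  refine S2_aux_const hc hsq hZ h4 (a * a) (hZ _ (hsq a)) (fun x hx => ?_)
  obtain ⟨φ, hφ, hz⟩ := htr a x ha hx
  have hxe : x = φ a * ((φ a)⁻¹ * x) := by group
  have hcz : ((φ a)⁻¹ * x) * φ a = φ a * ((φ a)⁻¹ * x) := (Subgroup.mem_center_iff.1 hz) (φ a) |>.symm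
  have hz2 := hZ _ hz
  calc x * x = (φ a * ((φ a)⁻¹ * x)) * (φ a * ((φ a)⁻¹ * x)) := by rw [← hxe]
    _ = φ a * (((φ a)⁻¹ * x) * φ a) * ((φ a)⁻¹ * x) := by group
    _ = φ a * (φ a * ((φ a)⁻¹ * x)) * ((φ a)⁻¹ * x) := by rw [hcz]
    _ = (φ a * φ a) * (((φ a)⁻¹ * x) * ((φ a)⁻¹ * x)) := by group
    _ = φ (a * a) := by rw [hz2, mul_one, map_mul]
    _ = a * a := hfix φ hφ _ (hsq a)

/-- S2 with the needed instance of T1 as a hypothesis -/
theorem S2_aux_core {A : Subgroup (MulAut X)} (hpX : IsPGroup 2 X) (hoddA : Odd (Nat.card A))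
    (hna : ∃ a b : X, a * b ≠ b * a)
    (hT1 : ∀ x : X, (∀ φ ∈ A, x⁻¹ * φ x ∈ Subgroup.center X) → x ∈ Subgroup.center X)
    (hsp : Cfsg.IsSpecial 2 X) (hZ : ∀ z ∈ Subgroup.center X, z * z = 1)
    (h4 : Nat.card (Subgroup.center X) = 4) (hinv : ∀ t : X, t * t = 1 → t ∈ Subgroup.center X) :
    64 ≤ Nat.card X := by
  obtain ⟨-, hfr, hc⟩ := hsp
  have : Fact (Nat.Prime 2) := ⟨Nat.prime_two⟩
  have hsq : ∀ x : X, x * x ∈ Subgroup.center X := by
    intro x
    rw [← hfr, ← pow_two]
    exact Cfsg.Agent.Helper1.IsPGroup.pow_mem_frattini hpX x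
  obtain ⟨n, hn⟩ := IsPGroup.iff_card.1 hpX
  by_contra hlt
  push Not at hlt
  obtain ⟨a, b, hab⟩ := hna
  have haZ : a ∉ Subgroup.center X := by
    intro h; exact hab ((Subgroup.mem_center_iff.1 h b).symm)
  obtain ⟨h1, h2⟩ := S2_aux_cent_lt a haZ
  have c1 := S2_aux_lt_card h1
  have c2 := S2_aux_lt_card h2
  rw [Subgroup.card_top] at c2
  rw [h4] at c1
  have hcases : Nat.card X = 16 ∨ Nat.card X = 32 := by
    have h16 : 16 ≤ Nat.card X := by omega
    rw [hn] at hlt h16 ⊢
    have hn6 : n < 6 := by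
      by_contra h; push Not at h
      have : 2 ^ 6 ≤ 2 ^ n := Nat.pow_le_pow_right (by norm_num) h
      omega
    have hn4 : 4 ≤ n := by
      by_contra h; push Not at h
      have : 2 ^ n ≤ 2 ^ 3 := Nat.pow_le_pow_right (by norm_num) (by omega)
      omega
    interval_cases n <;> simp
  rcases hcases with h16 | h32
  · exact S2_aux_16 hc hZ h4 h16
  · by_cases hfix : ∀ φ ∈ A, ∀ w ∈ Subgroup.center X, φ w = w
    · exact S2_aux_32ii hoddA hc hsq hZ h4 h32 hT1 hfix
    · push Not at hfix
      obtain ⟨φ, hφ, w, hw, hφw⟩ := hfix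
      have hoddφ : Odd (orderOf φ) := Odd.of_dvd_nat hoddA (A.orderOf_dvd_natCard hφ)
      exact S2_aux_32i hsq hZ h4 hinv h32 φ hoddφ w hw hφw

end Cfsg.Agent.S1904P
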