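import Mathlib
import Cfsg.Agent.Helper6.S1904S2
import Cfsg.Agent.Helper19.S1904T1

/-! Board `s1904pieces`, row S2: `64 ≤ |X|` (wrapper of `S2_aux_core` with the landed T1). -/

set_option autoImplicit false

namespace Cfsg.Agent.S1904P

variable {X : Type*} [Group X] [Finite X] {A : Subgroup (MulAut X)}

theorem S2 (H : Hyp A) (hsp : Cfsg.IsSpecial 2 X) (hZ : ∀ z ∈ Subgroup.center X, z * z = 1)
    (h4 : Nat.card (Subgroup.center X) = 4) (hinv : ∀ t : X, t * t = 1 → t ∈ Subgroup.center X) :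
    64 ≤ Nat.card X := by
  refine S2_aux_core H.pX H.oddA H.na (fun x hx => ?_) hsp hZ h4 hinv
  refine T1 H (Subgroup.center X) inferInstance (fun φ _ n hn => S2_aux_cen_aut φ hn)
    (fun x y => S2_aux_comm_mem hsp.2.2 x y) x hx

end Cfsg.Agent.S1904P
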