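import Mathlib
import Cfsg.Prelude.Def_Characters
import Cfsg.Agent.Helper8.CharComp
import Cfsg.Agent.Helper7.S3Iso
import Cfsg.Agent.S2544

/-! S2548 piece D22, part a (helper6; driver helper10): lifting a Steinberg-type character along a
surjection whose kernel has no `p`-elements; the Steinberg character of `S₃`. -/

set_option autoImplicit false

namespace Cfsg.Agent.S2548P.D22

/-- a Steinberg-type character lifts along a surjection whose kernel contains no nontrivial
`p`-element -/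
theorem steinberg_lift {G H : Type*} [Group G] [Finite G] [Group H] [Finite H] (p : ℕ)
    [Fact p.Prime] (F : G →* H) (hF : Function.Surjective F)
    (hker : ∀ x : G, F x = 1 → ∀ k : ℕ, x ^ (p ^ k) = 1 → x = 1)
    (hH : ∃ χ : H → ℂ, Cfsg.IsIrrCharacter H χ ∧ ∀ P : Sylow p H, χ 1 = Nat.card P ∧
      ∀ x : H, x ∈ P → x ≠ 1 → χ x = 0) :
    ∃ χ : G → ℂ, Cfsg.IsIrrCharacter G χ ∧ ∀ P : Sylow p G, χ 1 = Nat.card P ∧
      ∀ x : G, x ∈ P → x ≠ 1 → χ x = 0 := by
  classical
  have hp : p.Prime := Fact.out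
  obtain ⟨χ, hχ, hP⟩ := hH
  refine ⟨fun g => χ (F g), Cfsg.Agent.Helper8.isIrrCharacter_comp_surjective F hF hχ, ?_⟩
  intro P
  -- `p` does not divide the order of the kernel
  have hcop : ¬ p ∣ Nat.card F.ker := by
    intro hdvd
    obtain ⟨x, hx⟩ := exists_prime_orderOf_dvd_card' (G := ↥F.ker) p hdvd
    have hxp : (x : G) ^ (p ^ 1) = 1 := by
      rw [pow_one, ← Subgroup.coe_pow, ← hx, pow_orderOf_eq_one]
      rfl
    have hx1 : (x : G) = 1 := hker x (F.mem_ker.mp x.2) 1 hxp
    have hx1' : x = 1 := Subtype.ext hx1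
    rw [hx1', orderOf_one] at hx
    exact hp.one_lt.ne hx
  have hcard : Nat.card G = Nat.card H * Nat.card F.ker := by
    rw [← Nat.card_congr (QuotientGroup.quotientKerEquivOfSurjective F hF).toEquiv]
    exact Subgroup.card_eq_card_quotient_mul_card_subgroup F.ker
  have hfac : (Nat.card G).factorization p = (Nat.card H).factorization p := by
    rw [hcard, Nat.factorization_mul Nat.card_pos.ne' Nat.card_pos.ne', Finsupp.add_apply,
      Nat.factorization_eq_zero_of_not_dvd hcop, add_zero]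
  obtain ⟨Q⟩ : Nonempty (Sylow p H) := inferInstance
  constructor
  · show χ (F 1) = _
    rw [map_one, (hP Q).1, Sylow.card_eq_multiplicity, Sylow.card_eq_multiplicity, hfac]
  · intro x hxP hx1
    obtain ⟨k, hk⟩ := P.2 ⟨x, hxP⟩
    have hxk : x ^ (p ^ k) = 1 := by
      have := congrArg Subtype.val hk
      simpa using this
    have hFx : F x ≠ 1 := fun h => hx1 (hker x h k hxk)
    have hFxk : (F x) ^ (p ^ k) = 1 := by rw [← map_pow, hxk, map_one]
    obtain ⟨j, -, hj⟩ := (Nat.dvd_prime_pow hp).mp (orderOf_dvd_of_pow_eq_one hFxk)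
    have hpg : IsPGroup p (Subgroup.zpowers (F x)) :=
      IsPGroup.of_card (n := j) (by rw [Nat.card_zpowers]; exact hj)
    obtain ⟨Q', hQ'⟩ := hpg.exists_le_sylow
    exact (hP Q').2 (F x) (hQ' (Subgroup.mem_zpowers _)) hFx

/-- the centre of `SL₂(𝔽₂)` is trivial -/
theorem center_SL2_two (x : Matrix.SpecialLinearGroup (Fin 2) (ZMod 2))
    (hx : ∀ y : Matrix.SpecialLinearGroup (Fin 2) (ZMod 2), y * x = x * y) : x = 1 := by
  revert x
  decide

/-- the Steinberg character of `S₃` -/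
theorem steinberg_S3 :
    ∃ χ : Equiv.Perm (Fin 3) → ℂ, Cfsg.IsIrrCharacter (Equiv.Perm (Fin 3)) χ ∧
      ∀ P : Sylow 2 (Equiv.Perm (Fin 3)), χ 1 = Nat.card P ∧
        ∀ x : Equiv.Perm (Fin 3), x ∈ P → x ≠ 1 → χ x = 0 := by
  haveI : Fact (Nat.Prime 2) := ⟨Nat.prime_two⟩
  obtain ⟨e⟩ := Cfsg.Agent.Helper7.nonempty_SL2_zmod_two_mulEquiv_perm
  let F : Equiv.Perm (Fin 3) →* Matrix.ProjectiveSpecialLinearGroup (Fin 2) (ZMod 2) :=
    (QuotientGroup.mk' _).comp e.symm.toMonoidHom
  have hF : Function.Surjective F :=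
    (QuotientGroup.mk'_surjective _).comp e.symm.surjective
  refine steinberg_lift 2 F hF ?_ (Cfsg.Agent.S2544.result (F := ZMod 2) 2 2 le_rfl)
  intro x hx k _
  have h1 : e.symm x ∈ Subgroup.center (Matrix.SpecialLinearGroup (Fin 2) (ZMod 2)) := by
    have : (QuotientGroup.mk' _ (e.symm x) :
        Matrix.ProjectiveSpecialLinearGroup (Fin 2) (ZMod 2)) = 1 := hx
    exact (QuotientGroup.eq_one_iff _).mp this
  have h2 : e.symm x = 1 := center_SL2_two _ (fun y => (Subgroup.mem_center_iff.mp h1 y))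
  have := congrArg e h2
  simpa using this

end Cfsg.Agent.S2548P.D22
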