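import Mathlib
import Cfsg.Prelude.Def_Classical
import Cfsg.Agent.S2566

/-! S2548 piece D22, part b (helper6; driver helper10): the commutator subgroup of `O⁺₄(2)` inside
`S₃ × S₃`, and its projection onto `S₃`. -/

set_option autoImplicit false

namespace Cfsg.Agent.S2548P.D22

open Cfsg.Agent.S2566 Equiv
open scoped commutatorElement

/-- the product of the two signs -/
def sgnprod : Perm (Fin 3) × Perm (Fin 3) →* ℤˣ :=
  (Perm.sign.comp (MonoidHom.fst _ _)) * (Perm.sign.comp (MonoidHom.snd _ _))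

theorem sgnprod_apply (p : Perm (Fin 3) × Perm (Fin 3)) :
    sgnprod p = Perm.sign p.1 * Perm.sign p.2 := rfl

theorem sgnprod_swap (p : Perm (Fin 3) × Perm (Fin 3)) : sgnprod p.swap = sgnprod p := by
  rw [sgnprod_apply, sgnprod_apply, Prod.fst_swap, Prod.snd_swap, mul_comm]

/-- the image of the even pairs -/
def Msub : Subgroup O4 := sgnprod.ker.map psi

theorem psi_apply (p : Perm (Fin 3) × Perm (Fin 3)) : psi p = fA p.1 * fB p.2 :=
  MonoidHom.noncommCoprod_apply _ _ _ _

theorem tO_inv : tO⁻¹ = tO := by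
  apply inv_eq_of_mul_eq_one_right
  apply O4_ext
  exact TT_sq

theorem tO_fA (σ : Perm (Fin 3)) : tO * fA σ * tO⁻¹ = fB σ := by
  rw [mul_inv_eq_iff_eq_mul]
  apply O4_ext
  show TT * LA (m2 σ) = RB (m2 σ) * TT
  exact TT_conj σ

theorem tO_fB (τ : Perm (Fin 3)) : tO * fB τ * tO⁻¹ = fA τ := by
  have h := tO_fA τ
  rw [← h, tO_inv]
  have h1 : tO * tO = 1 := by
    apply O4_ext
    exact TT_sq
  calc tO * (tO * fA τ * tO) * tO = (tO * tO) * fA τ * (tO * tO) := by group
    _ = fA τ := by rw [h1, one_mul, mul_one]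

theorem tO_psi (p : Perm (Fin 3) × Perm (Fin 3)) : tO * psi p * tO⁻¹ = psi p.swap := by
  rw [psi_apply, psi_apply, Prod.fst_swap, Prod.snd_swap]
  calc tO * (fA p.1 * fB p.2) * tO⁻¹ = (tO * fA p.1 * tO⁻¹) * (tO * fB p.2 * tO⁻¹) := by group
    _ = fB p.1 * fA p.2 := by rw [tO_fA, tO_fB]
    _ = fA p.2 * fB p.1 := ((fAB_comm p.2 p.1).eq).symm

theorem card_psi_range : Nat.card psi.range = 36 := by
  rw [← Nat.card_congr (MonoidHom.ofInjective psi_injective).toEquiv, Nat.card_prod,
    Nat.card_eq_fintype_card, Fintype.card_perm, Fintype.card_fin]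
  rfl

theorem index_psi_range : psi.range.index = 2 := by
  have h2 := Subgroup.card_mul_index psi.range
  rw [card_psi_range, card_O4] at h2
  omega

theorem tO_not_mem : tO ∉ psi.range := by
  rintro ⟨p, hp⟩
  have h1 := tO_fA (swap 0 1)
  rw [← hp] at h1
  have h2 : fA (swap 0 1) = psi (swap 0 1, 1) := by rw [psi_apply, map_one, mul_one]
  rw [h2, ← map_inv, ← map_mul, ← map_mul, psi_apply] at h1
  -- `fA a * fB b = fB s`
  have h3 : fA (p * (swap 0 1, 1) * p⁻¹).1 * fB ((p * (swap 0 1, 1) * p⁻¹).2 * (swap 0 1)⁻¹) = 1 := by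
    rw [map_mul, ← mul_assoc, h1, map_inv, mul_inv_cancel]
  have h4 := (fAB_ker _ _ h3).2
  have h5 : (p * ((swap 0 1 : Perm (Fin 3)), (1 : Perm (Fin 3))) * p⁻¹).2 = 1 := by
    simp
  rw [h5, one_mul, inv_eq_one] at h4
  revert h4
  decide

theorem card_Msub : Nat.card Msub = 18 := by
  have h1 : Nat.card Msub = Nat.card sgnprod.ker := by
    unfold Msub
    exact Nat.card_congr (sgnprod.ker.equivMapOfInjective psi psi_injective).toEquiv.symm
  have hsurj : Function.Surjective sgnprod := by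
    intro u
    rcases Int.units_eq_one_or u with rfl | rfl
    · exact ⟨1, map_one _⟩
    · refine ⟨(swap 0 1, 1), ?_⟩
      rw [sgnprod_apply]
      decide
  have h2 : sgnprod.ker.index = 2 := by
    rw [Subgroup.index_ker, MonoidHom.range_eq_top.mpr hsurj, Subgroup.card_top]
    simp
  have h3 := Subgroup.card_mul_index sgnprod.ker
  have h6 : Nat.card (Perm (Fin 3)) = 6 := by
    rw [Nat.card_eq_fintype_card, Fintype.card_perm, Fintype.card_fin]
    rfl
  rw [h2, Nat.card_prod, h6] at h3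
  rw [h1]
  omega

theorem index_Msub : Msub.index = 4 := by
  have h2 := Subgroup.card_mul_index Msub
  rw [card_Msub, card_O4] at h2
  omega

instance Msub_normal : Msub.Normal := by
  constructor
  rintro _ ⟨e, he, rfl⟩ g
  have he' : sgnprod e = 1 := he
  by_cases hg : g ∈ psi.range
  · obtain ⟨p, rfl⟩ := hg
    refine ⟨p * e * p⁻¹, ?_, by rw [map_mul, map_mul, map_inv]⟩
    show sgnprod (p * e * p⁻¹) = 1
    rw [map_mul, map_mul, map_inv, he']
    simp
  · have h2 : g * tO⁻¹ ∈ psi.range := by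
      rw [Subgroup.mul_mem_iff_of_index_two index_psi_range]
      constructor
      · intro h; exact absurd h hg
      · intro h
        rw [tO_inv] at h
        exact absurd h tO_not_mem
    obtain ⟨p, hp⟩ := h2
    have hg' : g = psi p * tO := by rw [hp]; group
    refine ⟨p * e.swap * p⁻¹, ?_, ?_⟩
    · show sgnprod (p * e.swap * p⁻¹) = 1
      rw [map_mul, map_mul, map_inv, sgnprod_swap, he']
      simp
    · rw [map_mul, map_mul, map_inv, ← tO_psi, hg']
      group

theorem commutator_le_Msub : commutator O4 ≤ Msub := by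
  have : Fact (Nat.Prime 2) := ⟨Nat.prime_two⟩
  apply Subgroup.Normal.quotient_commutative_iff_commutator_le.mp
  apply IsPGroup.isMulCommutative_of_card_eq_prime_sq (p := 2)
  have := index_Msub
  rw [Subgroup.index] at this
  rw [this]
  norm_num

theorem commutator_le_range : commutator O4 ≤ psi.range :=
  commutator_le_Msub.trans (Subgroup.map_le_range _ _)

/-- the first projection of the commutator subgroup -/
noncomputable def f0 : ↥(commutator O4) →* Perm (Fin 3) :=
  (MonoidHom.fst _ _).comp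
    ((MonoidHom.ofInjective psi_injective).symm.toMonoidHom.comp
      (Subgroup.inclusion commutator_le_range))

theorem f0_apply (x : ↥(commutator O4)) (p : Perm (Fin 3) × Perm (Fin 3))
    (hp : psi p = (x : O4)) : f0 x = p.1 := by
  unfold f0
  simp only [MonoidHom.coe_comp, Function.comp_apply, MonoidHom.coe_fst, MulEquiv.coe_toMonoidHom]
  congr 1
  rw [MulEquiv.symm_apply_eq]
  apply Subtype.ext
  rw [MonoidHom.ofInjective_apply]
  exact hp.symm

theorem exists_psi (x : ↥(commutator O4)) :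
    ∃ p : Perm (Fin 3) × Perm (Fin 3), sgnprod p = 1 ∧ psi p = (x : O4) := by
  obtain ⟨p, hp, hpx⟩ := commutator_le_Msub x.2
  exact ⟨p, hp, hpx⟩

theorem f0_surjective : Function.Surjective f0 := by
  intro σ
  have hmem : ⁅fA σ, tO⁆ ∈ commutator O4 := by
    rw [commutator_def]
    exact Subgroup.commutator_mem_commutator (Subgroup.mem_top _) (Subgroup.mem_top _)
  refine ⟨⟨_, hmem⟩, ?_⟩
  apply f0_apply _ (σ, σ⁻¹)
  rw [psi_apply]
  show fA σ * fB σ⁻¹ = ⁅fA σ, tO⁆
  rw [commutatorElement_def, ← map_inv fA, ← tO_fA σ⁻¹]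
  group

theorem cube_of_even : ∀ τ : Perm (Fin 3), Perm.sign τ = 1 → τ ^ 3 = 1 := by decide

/-- the kernel of the projection consists of elements of order dividing `3` -/
theorem pow_three_of_f0 (x : ↥(commutator O4)) (hx : f0 x = 1) : x ^ 3 = 1 := by
  obtain ⟨p, hp, hpx⟩ := exists_psi x
  have h1 : p.1 = 1 := by rw [← f0_apply x p hpx, hx]
  have h2 : Perm.sign p.2 = 1 := by
    rw [sgnprod_apply, h1, map_one, one_mul] at hp
    exact hp
  have h3 : p ^ 3 = 1 := by
    apply Prod.ext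
    · rw [Prod.pow_fst, h1, one_pow]; rfl
    · rw [Prod.pow_snd, cube_of_even _ h2]; rfl
  apply Subtype.ext
  rw [Subgroup.coe_pow, ← hpx, ← map_pow, h3, map_one]
  rfl

theorem center_S3 : ∀ s : Perm (Fin 3), (∀ t : Perm (Fin 3), t * s = s * t) → s = 1 := by decide

theorem center_le_ker : Subgroup.center ↥(commutator O4) ≤ f0.ker := by
  intro z hz
  rw [MonoidHom.mem_ker]
  apply center_S3
  intro t
  obtain ⟨y, rfl⟩ := f0_surjective t
  rw [← map_mul, ← map_mul, Subgroup.mem_center_iff.mp hz y]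

/-- the projection of `PΩ⁺₄(2)` onto `S₃` -/
noncomputable def fbar : Cfsg.POmega (ZMod 2) (Cfsg.quadFormPlus 2 (ZMod 2)) →* Perm (Fin 3) :=
  QuotientGroup.lift _ f0 center_le_ker

theorem fbar_surjective : Function.Surjective fbar := by
  intro σ
  obtain ⟨x, hx⟩ := f0_surjective σ
  exact ⟨QuotientGroup.mk x, hx⟩

theorem fbar_ker (x : Cfsg.POmega (ZMod 2) (Cfsg.quadFormPlus 2 (ZMod 2))) (hx : fbar x = 1) (k : ℕ)
    (hk : x ^ (2 ^ k) = 1) : x = 1 := by
  obtain ⟨y, rfl⟩ := QuotientGroup.mk_surjective x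
  have hy : f0 y = 1 := hx
  have h3 : (QuotientGroup.mk y : Cfsg.POmega (ZMod 2) (Cfsg.quadFormPlus 2 (ZMod 2))) ^ 3 = 1 := by
    rw [← QuotientGroup.mk_pow, pow_three_of_f0 y hy]
    rfl
  have hcop : Nat.Coprime (2 ^ k) 3 := Nat.Coprime.pow_left k (by norm_num)
  have := pow_gcd_eq_one.mpr ⟨hk, h3⟩
  rwa [hcop.gcd_eq_one, pow_one] at this

end Cfsg.Agent.S2548P.D22
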