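import Mathlib
import Cfsg.Prelude.Def_Classical
import Cfsg.Prelude.Def_Characters
import Cfsg.Agent.Helper6.S2548D22a
import Cfsg.Agent.Helper6.S2548D22b
import Cfsg.Agent.Helper28.FieldM5
import Cfsg.Agent.Helper28.IsoTransport

/-! S2548 piece D22 (helper6; driver helper10): the Steinberg character of `PΩ⁺₄(2)`
(a group of order 18): inflation of the Steinberg character of `S₃` along the projection of
`Ω⁺₄(2) ≤ S₃ × S₃` onto the first factor. -/

set_option autoImplicit false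

namespace Cfsg.Agent.S2548P

namespace D22

variable {K : Type*} [Field K]

theorem steinberg_d22 [Fintype K] (hK : Fintype.card K = 2) :
    ∃ χ : Cfsg.POmega K (Cfsg.quadFormPlus 2 K) → ℂ,
      Cfsg.IsIrrCharacter (Cfsg.POmega K (Cfsg.quadFormPlus 2 K)) χ ∧
      ∀ P : Sylow 2 (Cfsg.POmega K (Cfsg.quadFormPlus 2 K)), χ 1 = Nat.card P ∧
        ∀ x : Cfsg.POmega K (Cfsg.quadFormPlus 2 K), x ∈ P → x ≠ 1 → χ x = 0 := by
  classical
  haveI : Fact (Nat.Prime 2) := ⟨Nat.prime_two⟩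
  let e : K ≃+* ZMod 2 := (ZMod.ringEquivOfPrime K Nat.prime_two hK).symm
  have hQ : ∀ w : Fin 2 ⊕ Fin 2 → K,
      Cfsg.quadFormPlus 2 (ZMod 2) (e ∘ w) = e (Cfsg.quadFormPlus 2 K w) := by
    intro w
    simp only [Cfsg.quadFormPlus, Function.comp_apply, map_sum, map_mul]
  obtain ⟨e₁⟩ := Cfsg.Agent.Helper28.IsoTransport.isometryGroup_transport e
    (Cfsg.quadFormPlus 2 K) (Cfsg.quadFormPlus 2 (ZMod 2)) hQ
  let e₂ : ↥(Cfsg.Omega K (Cfsg.quadFormPlus 2 K)) ≃*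
      ↥(Cfsg.Omega (ZMod 2) (Cfsg.quadFormPlus 2 (ZMod 2))) :=
    Cfsg.Agent.Helper28.FM.commEquiv e₁
  let e₃ : Cfsg.POmega K (Cfsg.quadFormPlus 2 K) ≃*
      Cfsg.POmega (ZMod 2) (Cfsg.quadFormPlus 2 (ZMod 2)) :=
    Cfsg.Agent.Helper28.FM.quotCenterEquiv e₂
  let F : Cfsg.POmega K (Cfsg.quadFormPlus 2 K) →* Equiv.Perm (Fin 3) :=
    fbar.comp e₃.toMonoidHom
  have hF : Function.Surjective F := fbar_surjective.comp e₃.surjective
  refine steinberg_lift 2 F hF ?_ steinberg_S3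
  intro x hx k hk
  have h1 : e₃ x = 1 := by
    apply fbar_ker (e₃ x) hx k
    rw [← map_pow, hk, map_one]
  exact e₃.injective (h1.trans (map_one e₃).symm)

end D22

end Cfsg.Agent.S2548P
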