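import Mathlib
import Cfsg.Agent.S1012

set_option autoImplicit false

/-! # S2607, piece S4REC: a group of order 24 with a self-centralising normal subgroup of order 4
is `S₄` -/

namespace Cfsg.Agent.S2607P

namespace S4REC

open Subgroup

/-- Fixed-point congruence for conjugation by an element of prime order `p` on a subgroup `U`
normalised by it: `|U| ≡ |C_U(g)| (mod p)`. -/
theorem card_modEq_centralizer {N : Type*} [Group N] (p : ℕ) [Fact p.Prime] (g : N)
    (hg : orderOf g = p) (U : Subgroup N) [Finite U] (hU : g ∈ normalizer (U : Set N)) :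
    Nat.card U ≡ Nat.card ↥(U ⊓ centralizer {g}) [MOD p] := by
  have hle : zpowers g ≤ normalizer (U : Set N) := (zpowers_le).mpr hU
  have hHp : IsPGroup p (zpowers g) :=
    IsPGroup.of_card (n := 1) (by rw [Nat.card_zpowers, hg, pow_one])
  letI : MulAction (zpowers g) U :=
    { smul := fun h u => ⟨h * u * (h : N)⁻¹, (mem_normalizer_iff.mp (hle h.2) u).mp u.2⟩
      one_smul := fun u => Subtype.ext (by
        show ((1 : zpowers g) : N) * u * ((1 : zpowers g) : N)⁻¹ = u
        simp)
      mul_smul := fun a b u => Subtype.ext (by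
        show ((a * b : zpowers g) : N) * u * ((a * b : zpowers g) : N)⁻¹ =
          (a : N) * ((b : N) * u * (b : N)⁻¹) * (a : N)⁻¹
        simp [mul_assoc]) }
  have hsmul : ∀ (h : zpowers g) (u : U), ((h • u : U) : N) = h * u * (h : N)⁻¹ := fun _ _ => rfl
  have key := hHp.card_modEq_card_fixedPoints U
  have e : ↥(MulAction.fixedPoints (zpowers g) U) ≃ ↥(U ⊓ centralizer {g}) :=
    { toFun := fun u => ⟨u.1.1, ⟨u.1.2, by
        show (u.1 : N) ∈ centralizer {g}
        rw [mem_centralizer_singleton_iff]
        have h1 := u.2 ⟨g, mem_zpowers g⟩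
        have h2 : g * (u.1 : N) * g⁻¹ = u.1 := by
          have := congrArg Subtype.val h1
          rwa [hsmul] at this
        calc (u.1 : N) * g = (g * (u.1 : N) * g⁻¹) * g := by rw [h2]
          _ = g * (u.1 : N) := by group⟩⟩
      invFun := fun n => ⟨⟨n.1, n.2.1⟩, by
        intro h
        apply Subtype.ext
        rw [hsmul]
        show (h : N) * n.1 * (h : N)⁻¹ = n.1
        have hc : (h : N) ∈ centralizer {(n.1 : N)} := by
          have : zpowers g ≤ centralizer {(n.1 : N)} := by
            rw [zpowers_le, mem_centralizer_singleton_iff]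
            exact (mem_centralizer_singleton_iff.mp n.2.2).symm
          exact this h.2
        rw [mem_centralizer_singleton_iff] at hc
        rw [hc, mul_assoc, mul_inv_cancel, mul_one]⟩
      left_inv := fun u => rfl
      right_inv := fun n => rfl }
  rw [Nat.card_congr e] at key
  exact key

end S4REC

open Subgroup S4REC in
/-- S4REC: a group of order 24 with a self-centralising normal subgroup of order 4 is `S₄` -/
theorem equiv_perm_four_of_selfcentralizing {N : Type*} [Group N] [Finite N]
    (hN : Nat.card N = 24) (V : Subgroup N) [V.Normal] (hV : Nat.card ↥V = 4)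
    (hcent : ∀ n : N, (∀ v ∈ V, n * v = v * n) → n ∈ V) :
    Nonempty (N ≃* Equiv.Perm (Fin 4)) := by
  apply Cfsg.Agent.S1012.result hN
  intro x hx6
  have : Fact (Nat.Prime 2) := ⟨Nat.prime_two⟩
  have : Fact (Nat.Prime 3) := ⟨Nat.prime_three⟩
  set y := x ^ 2 with hy
  set z := x ^ 3 with hz
  have hoy : orderOf y = 3 := by
    rw [hy, orderOf_pow' x (by norm_num), hx6]; rfl
  have hoz : orderOf z = 2 := by
    rw [hz, orderOf_pow' x (by norm_num), hx6]; rfl
  have hyz : y * z = z * y := ((Commute.refl x).pow_pow 2 3).eq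
  have hVtop : ∀ g : N, g ∈ normalizer (V : Set N) := fun g => by
    rw [normalizer_eq_top]; exact mem_top g
  -- a subgroup of `V` has order 1, 2 or 4
  have hdiv : ∀ K : Subgroup N, K ≤ V → Nat.card K = 1 ∨ Nat.card K = 2 ∨ Nat.card K = 4 := by
    intro K hK
    have h1 : Nat.card K ∣ 4 := hV ▸ card_dvd_of_le hK
    have h2 : Nat.card K ≤ 4 := Nat.le_of_dvd (by norm_num) h1
    have h3 : 0 < Nat.card K := Nat.card_pos
    interval_cases (Nat.card K) <;> simp_all
  -- an element centralising `V ⊓ C(g)` of full order lies in `V`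
  have hfull : ∀ g : N, Nat.card ↥(V ⊓ centralizer {g}) = 4 → g ∈ V := by
    intro g h4
    have heq : V ⊓ centralizer {g} = V := eq_of_le_of_card_ge inf_le_left (by rw [h4, hV])
    apply hcent
    intro v hv
    have hv' : v ∈ V ⊓ centralizer {g} := by rw [heq]; exact hv
    exact (mem_centralizer_singleton_iff.mp hv'.2).symm
  have hynotV : y ∉ V := by
    intro hyV
    have := Subgroup.orderOf_dvd_natCard V hyV
    rw [hoy, hV] at this
    norm_num at this
  -- `C_V(y) = 1`
  have hCy : V ⊓ centralizer {y} = ⊥ := by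
    have h3 := card_modEq_centralizer 3 y hoy V (hVtop y)
    rw [hV] at h3
    rcases hdiv (V ⊓ centralizer {y}) inf_le_left with h | h | h
    · exact card_eq_one.mp h
    · rw [h] at h3; exact absurd h3 (by decide)
    · exact absurd (hfull y h) hynotV
  by_cases hzV : z ∈ V
  · have hz1 : z ∈ V ⊓ centralizer {y} := ⟨hzV, mem_centralizer_singleton_iff.mpr hyz.symm⟩
    rw [hCy, mem_bot] at hz1
    rw [hz1, orderOf_one] at hoz
    norm_num at hoz
  · -- `C_V(z)` has order 2
    have h2 := card_modEq_centralizer 2 z hoz V (hVtop z)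
    rw [hV] at h2
    have hU2 : Nat.card ↥(V ⊓ centralizer {z}) = 2 := by
      rcases hdiv (V ⊓ centralizer {z}) inf_le_left with h | h | h
      · rw [h] at h2; exact absurd h2 (by decide)
      · exact h
      · exact absurd (hfull z h) hzV
    -- `y` normalises `C_V(z)`
    have hyn : y ∈ normalizer ((V ⊓ centralizer {z} : Subgroup N) : Set N) := by
      have hyC : y ∈ normalizer ((centralizer {z} : Subgroup N) : Set N) :=
        le_normalizer (mem_centralizer_singleton_iff.mpr hyz)
      rw [mem_normalizer_iff] at hyC ⊢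
      have hyV := mem_normalizer_iff.mp (hVtop y)
      intro u
      rw [mem_inf, mem_inf, ← hyC u, ← hyV u]
    have h3 := card_modEq_centralizer 3 y hoy (V ⊓ centralizer {z}) hyn
    have hbot : V ⊓ centralizer {z} ⊓ centralizer {y} = ⊥ := by
      apply le_bot_iff.mp
      rw [← hCy]
      exact inf_le_inf_right _ inf_le_left
    rw [hU2, hbot, card_bot] at h3
    exact absurd h3 (by decide)

end Cfsg.Agent.S2607P
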