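import Mathlib
import Cfsg.Prelude.Def_FusionSystem
import Cfsg.Prelude.Def_KGroupFacts
import Cfsg.Agent.Helper7.S2647.Defs

/-! # S2647 piece HAD (driver helper7): a double transposition `pm ((i j)(k l))` is `Ω`-conjugate to the
diagonal element `dg (-1 at k, l)`, by `g = reflO (e_i - e_j - e_k - e_l) * reflO e_m`. -/

set_option autoImplicit false
set_option linter.unusedSectionVars false
set_option linter.unusedVariables false

namespace Cfsg.Agent.S2647P

open Matrix Cfsg.Agent.Helper28.IsoTransport Cfsg.Agent.Helper28.Spin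

variable {F : Type*} [Field F]

namespace HAD

theorem polar_Qd (v x : J → F) :
    QuadraticMap.polar (⇑(Qd F)) v x = -2 * ∑ a, v a * x a := by
  unfold QuadraticMap.polar
  simp only [Qd_apply, Pi.add_apply]
  have : ∀ a, (v a + x a) * (v a + x a) = v a * v a + x a * x a + 2 * (v a * x a) := by
    intro a; ring
  simp_rw [this, Finset.sum_add_distrib, ← Finset.mul_sum]
  ring

/-- the vector `e_i - e_j - e_k - e_l` -/
def wv (F : Type*) [Field F] (i j k l : J) : J → F :=
  Pi.single i 1 - Pi.single j 1 - Pi.single k 1 - Pi.single l 1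

theorem wv_dot (i j k l : J) (x : J → F) :
    ∑ a, wv F i j k l a * x a = x i - x j - x k - x l := by
  simp [wv, sub_mul, Finset.sum_sub_distrib, Pi.single_apply, ite_mul]

theorem single_dot (m : J) (x : J → F) :
    ∑ a, (Pi.single m (1 : F) : J → F) a * x a = x m := by
  simp [Pi.single_apply, ite_mul]

set_option synthInstance.maxSize 2000 in
theorem exists_fifth : ∀ i j k l : J, ∃ m : J, m ≠ i ∧ m ≠ j ∧ m ≠ k ∧ m ≠ l := by decide

section main

variable (i j k l : J) (hij : i ≠ j) (hik : i ≠ k) (hil : i ≠ l) (hjk : j ≠ k) (hjl : j ≠ l)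
  (hkl : k ≠ l)

include hij hik hil hjk hjl hkl

theorem wv_i : wv F i j k l i = 1 := by
  simp [wv, Pi.single_apply, hij, hik, hil]

theorem wv_j : wv F i j k l j = -1 := by
  simp [wv, Pi.single_apply, hij.symm, hjk, hjl]

theorem wv_k : wv F i j k l k = -1 := by
  simp [wv, Pi.single_apply, hik.symm, hjk.symm, hkl]

theorem wv_l : wv F i j k l l = -1 := by
  simp [wv, Pi.single_apply, hil.symm, hjl.symm, hkl.symm]

omit hij hik hil hjk hjl hkl in
theorem wv_other (a : J) (hi : a ≠ i) (hj : a ≠ j) (hk : a ≠ k) (hl : a ≠ l) :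
    wv F i j k l a = 0 := by
  simp [wv, Pi.single_apply, hi, hj, hk, hl]

theorem Qd_wv : Qd F (wv F i j k l) = -4 := by
  rw [Qd_apply, wv_dot, wv_i i j k l hij hik hil hjk hjl hkl, wv_j i j k l hij hik hil hjk hjl hkl,
    wv_k i j k l hij hik hil hjk hjl hkl, wv_l i j k l hij hik hil hjk hjl hkl]
  ring

theorem Qd_wv_ne (h2 : (2 : F) ≠ 0) : Qd F (wv F i j k l) ≠ 0 := by
  rw [Qd_wv i j k l hij hik hil hjk hjl hkl]
  have : (-4 : F) = -(2 * 2) := by ring
  rw [this]
  exact neg_ne_zero.2 (mul_ne_zero h2 h2)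

theorem rw_apply (h2 : (2 : F) ≠ 0) (x : J → F) :
    Cfsg.reflectionMatrix (⇑(Qd F)) (wv F i j k l) *ᵥ x =
      x - ((2 : F)⁻¹ * (x i - x j - x k - x l)) • wv F i j k l := by
  rw [refl_mulVec, Qd_wv i j k l hij hik hil hjk hjl hkl, polar_Qd, wv_dot]
  congr 2
  have : (-4 : F) = -(2 * 2) := by ring
  rw [this]
  field_simp

end main

theorem Qd_e (m : J) : Qd F (Pi.single m 1) = -1 := by
  rw [Qd_apply, single_dot]
  simp

theorem Qd_e_ne (m : J) : Qd F (Pi.single m (1 : F)) ≠ 0 := by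
  rw [Qd_e]
  exact neg_ne_zero.2 one_ne_zero

theorem rm_apply (m : J) (x : J → F) :
    Cfsg.reflectionMatrix (⇑(Qd F)) (Pi.single m 1) *ᵥ x = x - (2 * x m) • Pi.single m 1 := by
  rw [refl_mulVec, Qd_e, polar_Qd, single_dot]
  congr 2
  have : (-1 : F)⁻¹ = -1 := by rw [inv_neg, inv_one]
  rw [this]
  ring

/-- the sign vector `-1` at `k`, `l` -/
def epsKL (k l : J) : J → ℤˣ := Function.update (Function.update (1 : J → ℤˣ) k (-1)) l (-1)

theorem epsKL_mem (k l : J) (hkl : k ≠ l) : epsKL k l ∈ Ev := by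
  rw [mem_Ev]
  have h1 : ∀ a : J, epsKL k l a = (if a = k then (-1 : ℤˣ) else 1) * (if a = l then (-1 : ℤˣ) else 1) := by
    intro a
    unfold epsKL
    by_cases hl : a = l
    · subst hl
      simp [hkl.symm]
    · by_cases hk : a = k
      · subst hk
        simp [hl]
      · simp [Function.update_apply, hl, hk]
  simp_rw [h1, Finset.prod_mul_distrib, Finset.prod_ite_eq', Finset.mem_univ, if_true]
  decide

theorem sg_epsKL_k (k l : J) (hkl : k ≠ l) : sg F (epsKL k l k) = -1 := by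
  unfold epsKL
  simp [Function.update_apply, hkl, sg_neg_one]

theorem sg_epsKL_l (k l : J) : sg F (epsKL k l l) = -1 := by
  unfold epsKL
  simp [sg_neg_one]

theorem sg_epsKL_other (k l a : J) (hk : a ≠ k) (hl : a ≠ l) : sg F (epsKL k l a) = 1 := by
  unfold epsKL
  simp [Function.update_apply, hk, hl, sg_one]

section core

variable (i j k l : J) (hij : i ≠ j) (hik : i ≠ k) (hil : i ≠ l) (hjk : j ≠ k) (hjl : j ≠ l)
  (hkl : k ≠ l)

include hij hik hil hjk hjl hkl

theorem sigma_inv : (Equiv.swap i j * Equiv.swap k l)⁻¹ = Equiv.swap k l * Equiv.swap i j := by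
  rw [_root_.mul_inv_rev, Equiv.swap_inv, Equiv.swap_inv]

theorem sigma_i : (Equiv.swap i j * Equiv.swap k l)⁻¹ i = j := by
  rw [sigma_inv i j k l hij hik hil hjk hjl hkl, Equiv.Perm.mul_apply, Equiv.swap_apply_left,
    Equiv.swap_apply_of_ne_of_ne hjk hjl]

theorem sigma_j : (Equiv.swap i j * Equiv.swap k l)⁻¹ j = i := by
  rw [sigma_inv i j k l hij hik hil hjk hjl hkl, Equiv.Perm.mul_apply, Equiv.swap_apply_right,
    Equiv.swap_apply_of_ne_of_ne hik hil]

theorem sigma_k : (Equiv.swap i j * Equiv.swap k l)⁻¹ k = l := by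
  rw [sigma_inv i j k l hij hik hil hjk hjl hkl, Equiv.Perm.mul_apply,
    Equiv.swap_apply_of_ne_of_ne hik.symm hjk.symm, Equiv.swap_apply_left]

theorem sigma_l : (Equiv.swap i j * Equiv.swap k l)⁻¹ l = k := by
  rw [sigma_inv i j k l hij hik hil hjk hjl hkl, Equiv.Perm.mul_apply,
    Equiv.swap_apply_of_ne_of_ne hil.symm hjl.symm, Equiv.swap_apply_right]

theorem sigma_other (a : J) (hi : a ≠ i) (hj : a ≠ j) (hk : a ≠ k) (hl : a ≠ l) :
    (Equiv.swap i j * Equiv.swap k l)⁻¹ a = a := by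
  rw [sigma_inv i j k l hij hik hil hjk hjl hkl, Equiv.Perm.mul_apply,
    Equiv.swap_apply_of_ne_of_ne hi hj, Equiv.swap_apply_of_ne_of_ne hk hl]

/-- the core identity `r_w ∘ P = D ∘ r_w` -/
theorem core (h2 : (2 : F) ≠ 0) (x : J → F) :
    Cfsg.reflectionMatrix (⇑(Qd F)) (wv F i j k l) *ᵥ
        (fun a => x ((Equiv.swap i j * Equiv.swap k l)⁻¹ a)) =
      fun a => sg F (epsKL k l a) *
        (Cfsg.reflectionMatrix (⇑(Qd F)) (wv F i j k l) *ᵥ x) a := by
  rw [rw_apply i j k l hij hik hil hjk hjl hkl h2, rw_apply i j k l hij hik hil hjk hjl hkl h2]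
  funext a
  simp only [Pi.sub_apply, Pi.smul_apply, smul_eq_mul]
  rw [sigma_i i j k l hij hik hil hjk hjl hkl, sigma_j i j k l hij hik hil hjk hjl hkl,
    sigma_k i j k l hij hik hil hjk hjl hkl, sigma_l i j k l hij hik hil hjk hjl hkl]
  by_cases hi : a = i
  · subst hi
    rw [sigma_i a j k l hij hik hil hjk hjl hkl, wv_i a j k l hij hik hil hjk hjl hkl,
      sg_epsKL_other k l a hik hil]
    field_simp
    ring
  by_cases hj : a = j
  · subst hj
    rw [sigma_j i a k l hij hik hil hjk hjl hkl, wv_j i a k l hij hik hil hjk hjl hkl,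
      sg_epsKL_other k l a hjk hjl]
    field_simp
    ring
  by_cases hk : a = k
  · subst hk
    rw [sigma_k i j a l hij hik hil hjk hjl hkl, wv_k i j a l hij hik hil hjk hjl hkl,
      sg_epsKL_k a l hkl]
    field_simp
    ring
  by_cases hl : a = l
  · subst hl
    rw [sigma_l i j k a hij hik hil hjk hjl hkl, wv_l i j k a hij hik hil hjk hjl hkl,
      sg_epsKL_l k a]
    field_simp
    ring
  · rw [sigma_other i j k l hij hik hil hjk hjl hkl a hi hj hk hl, wv_other i j k l a hi hj hk hl,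
      sg_epsKL_other k l a hk hl]
    ring

end core

/-- `r_m` commutes with every sign-diagonal matrix -/
theorem rm_dg (m : J) (ε : J → ℤˣ) (y : J → F) :
    Cfsg.reflectionMatrix (⇑(Qd F)) (Pi.single m 1) *ᵥ (fun a => sg F (ε a) * y a) =
      fun a => sg F (ε a) * (Cfsg.reflectionMatrix (⇑(Qd F)) (Pi.single m 1) *ᵥ y) a := by
  rw [rm_apply, rm_apply]
  funext a
  simp only [Pi.sub_apply, Pi.smul_apply, smul_eq_mul, Pi.single_apply]
  by_cases h : a = m
  · subst h
    simp
    ring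
  · simp [h]

end HAD

open HAD in
theorem exists_conj_swap_swap [Fintype F] (h2 : (2 : F) ≠ 0) (i j k l : J) (hij : i ≠ j)
    (hik : i ≠ k) (hil : i ≠ l) (hjk : j ≠ k) (hjl : j ≠ l) (hkl : k ≠ l) :
    ∃ g ∈ Omd F, ∃ ε ∈ Ev, g * pm F (Equiv.swap i j * Equiv.swap k l) * g⁻¹ = dg F ε := by
  obtain ⟨m, -, -, -, -⟩ := exists_fifth i j k l
  have hw := Qd_wv_ne i j k l hij hik hil hjk hjl hkl h2
  have hm := Qd_e_ne (F := F) m
  refine ⟨reflO (Qd F) (Pi.single m 1) hm * reflO (Qd F) (wv F i j k l) hw, ?_, epsKL k l,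
    epsKL_mem k l hkl, ?_⟩
  · refine (spinor_criterion (Qd F) h2 _ [Pi.single m 1, wv F i j k l] ?_ ?_).2 ⟨?_, ?_⟩
    · intro v hv
      simp only [List.mem_cons, List.not_mem_nil, or_false] at hv
      rcases hv with rfl | rfl
      · exact hm
      · exact hw
    · simp only [List.map_cons, List.map_nil, List.prod_cons, List.prod_nil, mul_one]
      rfl
    · exact ⟨1, rfl⟩
    · simp only [List.map_cons, List.map_nil, List.prod_cons, List.prod_nil, mul_one]
      rw [Qd_e, Qd_wv i j k l hij hik hil hjk hjl hkl]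
      exact ⟨2, by ring⟩
  · rw [mul_inv_eq_iff_eq_mul]
    apply Subtype.ext
    apply Units.ext
    apply matrix_ext_mulVec
    intro x
    simp only [Subgroup.coe_mul, Units.val_mul, reflO_val]
    rw [← Matrix.mulVec_mulVec, ← Matrix.mulVec_mulVec, pm_mulVec,
      core i j k l hij hik hil hjk hjl hkl h2, rm_dg, ← Matrix.mulVec_mulVec,
      ← Matrix.mulVec_mulVec, dg_mulVec]

end Cfsg.Agent.S2647P
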