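import Mathlib
import Cfsg.Prelude.Def_FusionSystem
import Cfsg.Prelude.Def_KGroupFacts
import Cfsg.Agent.Helper7.S2647.Defs

/-! # S2647 piece NA7 (driver helper7): `D8` is self-normalising in `A7`. -/

set_option autoImplicit false
set_option linter.unusedSectionVars false
set_option linter.unusedVariables false

namespace Cfsg.Agent.S2647P

namespace NA7

theorem ord4 : ∀ τ ∈ Dl, τ * τ ≠ 1 → τ = rD ∨ τ = rD⁻¹ := by decide

theorem sD_conj : sD * rD * sD⁻¹ = rD⁻¹ := by decide

theorem rD_sq_ne : rD * rD ≠ 1 := by decide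

theorem fix_rD : ∀ j : J, rD j = j → j = p6 := by decide

theorem fix_rD2 : ∀ j : J, rD (rD j) = j → j = p4 ∨ j = p5 ∨ j = p6 := by decide

theorem nfix_rD2 : ∀ j : J, rD (rD j) ≠ j → j = p0 ∨ j = p1 ∨ j = p2 ∨ j = p3 := by decide

theorem all_J : ∀ j : J, j = p0 ∨ j = p1 ∨ j = p2 ∨ j = p3 ∨ j = p4 ∨ j = p5 ∨ j = p6 := by decide

theorem rD_p0 : rD p0 = p1 := by decide
theorem rD_p1 : rD p1 = p2 := by decide
theorem rD_p2 : rD p2 = p3 := by decide
theorem rD_p4 : rD p4 = p5 := by decide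
theorem rD_p5 : rD p5 = p4 := by decide
theorem rD_p6 : rD p6 = p6 := by decide

theorem comm_apply {π : Equiv.Perm J} (hπ : π * rD = rD * π) (j : J) : π (rD j) = rD (π j) := by
  have := congrArg (fun f : Equiv.Perm J => f j) hπ
  simpa [Equiv.Perm.mul_apply] using this

/-- a permutation commuting with `rD` is determined by its values at `p0`, `p4`, `p6` -/
theorem ext_of_comm (π g : Equiv.Perm J) (hπ : π * rD = rD * π) (hg : g * rD = rD * g)
    (h0 : π p0 = g p0) (h4 : π p4 = g p4) (h6 : π p6 = g p6) : π = g := by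
  have key : ∀ j, π j = g j → π (rD j) = g (rD j) := by
    intro j hj
    rw [comm_apply hπ, comm_apply hg, hj]
  have h1 : π p1 = g p1 := by rw [← rD_p0]; exact key _ h0
  have h2 : π p2 = g p2 := by rw [← rD_p1]; exact key _ h1
  have h3 : π p3 = g p3 := by rw [← rD_p2]; exact key _ h2
  have h5 : π p5 = g p5 := by rw [← rD_p4]; exact key _ h4
  ext j
  rcases all_J j with rfl | rfl | rfl | rfl | rfl | rfl | rfl
  · rw [h0]
  · rw [h1]
  · rw [h2]
  · rw [h3]
  · rw [h4]
  · rw [h5]
  · rw [h6]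

theorem sign_rD : Equiv.Perm.sign rD = 1 := by
  unfold rD
  rw [map_mul, map_mul, map_mul, Equiv.Perm.sign_swap (by decide), Equiv.Perm.sign_swap (by decide),
    Equiv.Perm.sign_swap (by decide), Equiv.Perm.sign_swap (by decide)]
  decide

theorem sign_sD : Equiv.Perm.sign sD = 1 := by
  unfold sD
  rw [map_mul, Equiv.Perm.sign_swap (by decide), Equiv.Perm.sign_swap (by decide)]
  decide

theorem sign_odd (k : ℕ) : Equiv.Perm.sign (rD ^ k * Equiv.swap p4 p5) = -1 := by
  rw [map_mul, map_pow, sign_rD, one_pow, one_mul, Equiv.Perm.sign_swap (by decide)]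

theorem rD_mem : rD ∈ Dl := by decide
theorem sD_mem : sD ∈ Dl := by decide

/-- an even permutation commuting with `rD` lies in `D8` (indeed in `⟨rD⟩`) -/
theorem mem_of_comm (π : Equiv.Perm J) (hπ : π * rD = rD * π) (hs : Equiv.Perm.sign π = 1) :
    π ∈ Dl := by
  have h6 : π p6 = p6 := fix_rD _ (by rw [← comm_apply hπ, rD_p6])
  have h4 : π p4 = p4 ∨ π p4 = p5 := by
    rcases fix_rD2 (π p4) (by rw [← comm_apply hπ, ← comm_apply hπ, rD_p4, rD_p5]) with h | h | h
    · exact Or.inl h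
    · exact Or.inr h
    · exfalso
      have := π.injective (h.trans h6.symm)
      revert this
      decide
  have h0 : π p0 = p0 ∨ π p0 = p1 ∨ π p0 = p2 ∨ π p0 = p3 := by
    apply nfix_rD2
    intro h
    rw [← comm_apply hπ, ← comm_apply hπ] at h
    have := π.injective h
    revert this
    decide
  have hodd : ∀ k : ℕ, π ≠ rD ^ k * Equiv.swap p4 p5 := by
    intro k hk
    rw [hk, sign_odd] at hs
    revert hs
    decide
  rcases h0 with h0 | h0 | h0 | h0 <;> rcases h4 with h4 | h4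
  · have : π = rD ^ 0 := ext_of_comm π _ hπ (by decide) (by rw [h0]; decide) (by rw [h4]; decide)
      (by rw [h6]; decide)
    rw [this]; decide
  · exact absurd (ext_of_comm π (rD ^ 0 * Equiv.swap p4 p5) hπ (by decide) (by rw [h0]; decide)
      (by rw [h4]; decide) (by rw [h6]; decide)) (hodd 0)
  · exact absurd (ext_of_comm π (rD ^ 1 * Equiv.swap p4 p5) hπ (by decide) (by rw [h0]; decide)
      (by rw [h4]; decide) (by rw [h6]; decide)) (hodd 1)
  · have : π = rD ^ 1 := ext_of_comm π _ hπ (by decide) (by rw [h0]; decide) (by rw [h4]; decide)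
      (by rw [h6]; decide)
    rw [this]; decide
  · have : π = rD ^ 2 := ext_of_comm π _ hπ (by decide) (by rw [h0]; decide) (by rw [h4]; decide)
      (by rw [h6]; decide)
    rw [this]; decide
  · exact absurd (ext_of_comm π (rD ^ 2 * Equiv.swap p4 p5) hπ (by decide) (by rw [h0]; decide)
      (by rw [h4]; decide) (by rw [h6]; decide)) (hodd 2)
  · exact absurd (ext_of_comm π (rD ^ 3 * Equiv.swap p4 p5) hπ (by decide) (by rw [h0]; decide)
      (by rw [h4]; decide) (by rw [h6]; decide)) (hodd 3)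
  · have : π = rD ^ 3 := ext_of_comm π _ hπ (by decide) (by rw [h0]; decide) (by rw [h4]; decide)
      (by rw [h6]; decide)
    rw [this]; decide

end NA7

open NA7 in
theorem normalizer_Dp (π : Equiv.Perm J) (hπ : π ∈ alternatingGroup J)
    (h : ∀ σ ∈ Dp, π * σ * π⁻¹ ∈ Dp) : π ∈ Dp := by
  have hs : Equiv.Perm.sign π = 1 := Equiv.Perm.mem_alternatingGroup.1 hπ
  have hτ : π * rD * π⁻¹ ∈ Dl := h rD rD_mem
  have hτ2 : (π * rD * π⁻¹) * (π * rD * π⁻¹) ≠ 1 := by
    intro h1
    apply rD_sq_ne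
    have : π * (rD * rD) * π⁻¹ = 1 := by rw [← h1]; group
    have h2 : rD * rD = π⁻¹ * (π * (rD * rD) * π⁻¹) * π := by group
    rw [h2, this]; group
  rcases ord4 _ hτ hτ2 with h1 | h1
  · have hc : π * rD = rD * π := mul_inv_eq_iff_eq_mul.1 h1
    exact mem_of_comm π hc hs
  · have hc : (π * sD) * rD = rD * (π * sD) := by
      have e1 : sD * rD = rD⁻¹ * sD := by rw [← sD_conj]; group
      have e2 : π * rD⁻¹ = rD * π := by
        have : π * rD⁻¹ * π⁻¹ = rD := by
          have : π * rD⁻¹ * π⁻¹ = (π * rD * π⁻¹)⁻¹ := by group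
          rw [this, h1, inv_inv]
        exact mul_inv_eq_iff_eq_mul.1 this
      rw [mul_assoc, e1, ← mul_assoc, e2, mul_assoc]
    have hs' : Equiv.Perm.sign (π * sD) = 1 := by rw [map_mul, hs, sign_sD, one_mul]
    have hm : π * sD ∈ Dp := mem_of_comm _ hc hs'
    have : π = (π * sD) * sD⁻¹ := by group
    rw [this]
    exact Dp.mul_mem hm (Dp.inv_mem sD_mem)

end Cfsg.Agent.S2647P
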