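import Mathlib
import Cfsg.Agent.Helper26.ZJInst
import Cfsg.Agent.Helper17.Basic

set_option autoImplicit false
set_option linter.unusedSectionVars false
set_option linter.unusedVariables false

/-! Piece F4b of the S2799 board (blueprint L4(b)): Thompson-replacement counting.  `A` an abelian
subgroup of `S` of largest order maximising `|A ∩ K|` among those not containing the abelian subgroup
`K`; `B` a subgroup of index `2` of `A` containing `A ∩ K` and not centralizing `K`.
Then `C_K(B) = A ∩ K`; in particular `C_K(B)` centralizes `A`. -/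

namespace Cfsg.Agent.S2799P

open Subgroup MulAction

theorem F4b_h6_aux_two_mul_card_le {X : Type*} [Group X] [Finite X] {D C : Subgroup X} (hDC : D ≤ C)
    (hne : ¬ C ≤ D) : 2 * Nat.card D ≤ Nat.card C := by
  obtain ⟨m, hm⟩ := Subgroup.card_dvd_of_le hDC
  have hpos : 0 < Nat.card D := Nat.card_pos
  rcases Nat.lt_or_ge m 2 with h | h
  · exfalso
    interval_cases m
    · rw [mul_zero] at hm
      have : 0 < Nat.card C := Nat.card_pos
      omega
    · rw [mul_one] at hm
      apply hne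
      have := Subgroup.eq_of_le_of_card_ge hDC (le_of_eq hm)
      rw [this]
  · rw [hm]
    calc 2 * Nat.card D = Nat.card D * 2 := by ring
      _ ≤ Nat.card D * m := Nat.mul_le_mul_left _ h

theorem F4b_h6 {X : Type*} [Group X] [Finite X] (S K : Subgroup X) (hKS : K ≤ S)
    (hKab : ∀ x ∈ K, ∀ y ∈ K, x * y = y * x)
    (A : Subgroup X) (hA : A ∈ Cfsg.Agent.Helper26.famEl 0 S)
    (hbest : ∀ A' ∈ Cfsg.Agent.Helper26.famEl 0 S, ¬ K ≤ A' →
      Nat.card (A' ⊓ K : Subgroup X) ≤ Nat.card (A ⊓ K : Subgroup X))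
    (B : Subgroup X) (hBA : B ≤ A) (hidx : B.relIndex A = 2) (hAKB : A ⊓ K ≤ B)
    (hBK : ¬ B ≤ centralizer (K : Set X)) :
    K ⊓ centralizer (B : Set X) ≤ centralizer (A : Set X) := by
  obtain ⟨hAS, ⟨hAab, -⟩, hAmax⟩ := hA
  -- `C = C_K(B)`
  obtain ⟨C, hCdef⟩ : ∃ C : Subgroup X, C = K ⊓ centralizer (B : Set X) := ⟨_, rfl⟩
  rw [← hCdef]
  have hCK : C ≤ K := hCdef ▸ inf_le_left
  have hCB : ∀ c ∈ C, ∀ b ∈ B, b * c = c * b := by
    intro c hc b hb
    have : c ∈ centralizer (B : Set X) := (hCdef ▸ hc : c ∈ K ⊓ centralizer (B : Set X)).2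
    exact mem_centralizer_iff.mp this b hb
  -- `A ∩ K ≤ C`
  have h1 : A ⊓ K ≤ C := by
    intro x hx
    rw [hCdef]
    refine mem_inf.mpr ⟨hx.2, ?_⟩
    rw [mem_centralizer_iff]
    intro b hb
    exact hAab b (hBA hb) x hx.1
  -- it suffices to show `C ≤ A ∩ K`
  suffices hsuff : C ≤ A ⊓ K by
    intro c hc
    rw [mem_centralizer_iff]
    intro a ha
    exact hAab a ha c (hsuff hc).1
  by_contra hne
  -- `B ∩ C = A ∩ K`
  have h2 : B ⊓ C = A ⊓ K := by
    apply le_antisymm
    · intro x hx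
      exact mem_inf.mpr ⟨hBA hx.1, hCK hx.2⟩
    · exact le_inf hAKB h1
  -- the product formula
  have hCn : C ≤ normalizer (B : Set X) := by
    intro c hc
    rw [mem_normalizer_iff]
    intro b
    have key : ∀ b' ∈ B, c * b' * c⁻¹ = b' := by
      intro b' hb'
      rw [← hCB c hc b' hb']; group
    constructor
    · intro hb
      rw [key b hb]; exact hb
    · intro hb
      have h3 : c⁻¹ * (c * b * c⁻¹) * c = b := by group
      have h4 := key _ hb
      have h5 : c⁻¹ * (c * b * c⁻¹) * c = c * b * c⁻¹ := by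
        have h6 : (c * b * c⁻¹) * c = c * (c * b * c⁻¹) := by
          have := hCB c hc _ hb
          exact this
        calc c⁻¹ * (c * b * c⁻¹) * c = c⁻¹ * ((c * b * c⁻¹) * c) := by group
          _ = c⁻¹ * (c * (c * b * c⁻¹)) := by rw [h6]
          _ = c * b * c⁻¹ := by group
      rw [← h3, h5]
      exact hb
  have hprod := Cfsg.Agent.Helper17.card_sup_mul_card_inf B C hCn
  rw [h2] at hprod
  -- `|A| = 2 |B|`
  have hAB : Nat.card A = 2 * Nat.card B := by
    have := Cfsg.Agent.Helper17.relIndex_mul_card_inf B A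
    rw [hidx, inf_eq_left.mpr hBA] at this
    exact this.symm
  -- `Y = B C` is abelian and inside `S`
  have hYab : ∀ x ∈ B ⊔ C, ∀ y ∈ B ⊔ C, x * y = y * x := by
    have hcl : B ⊔ C = closure ((B : Set X) ∪ (C : Set X)) := by
      rw [Subgroup.closure_union, Subgroup.closure_eq, Subgroup.closure_eq]
    have hel : Cfsg.IsElementaryAbelian 0 (closure ((B : Set X) ∪ (C : Set X))) := by
      apply Cfsg.Agent.Helper26.isElementaryAbelian_closure
      · rintro a (ha | ha) b (hb | hb)
        · exact hAab a (hBA ha) b (hBA hb)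
        · exact hCB b hb a ha
        · exact (hCB a ha b hb).symm
        · exact hKab a (hCK ha) b (hCK hb)
      · intro a _
        exact pow_zero a
    rw [hcl]
    exact (Cfsg.Agent.Helper26.isElementaryAbelian_iff_forall.mp hel).1
  have hYS : B ⊔ C ≤ S := sup_le (hBA.trans hAS) (hCK.trans hKS)
  have hYle : Nat.card (B ⊔ C : Subgroup X) ≤ Nat.card A :=
    hAmax _ hYS ⟨hYab, fun x _ => pow_zero x⟩
  -- `|C| ≥ 2 |A ∩ K|`
  have hC2 := F4b_h6_aux_two_mul_card_le h1 hne
  -- hence `|Y| ≥ |A|`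
  have hposD : 0 < Nat.card (A ⊓ K : Subgroup X) := Nat.card_pos
  have hYge : Nat.card A ≤ Nat.card (B ⊔ C : Subgroup X) := by
    have h3 : Nat.card A * Nat.card (A ⊓ K : Subgroup X) ≤
        Nat.card (B ⊔ C : Subgroup X) * Nat.card (A ⊓ K : Subgroup X) := by
      rw [hprod, hAB]
      calc 2 * Nat.card B * Nat.card (A ⊓ K : Subgroup X)
          = Nat.card B * (2 * Nat.card (A ⊓ K : Subgroup X)) := by ring
        _ ≤ Nat.card B * Nat.card C := Nat.mul_le_mul_left _ hC2
    exact Nat.le_of_mul_le_mul_right h3 hposD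
  -- so `Y` is a member of the family
  have hYmem : B ⊔ C ∈ Cfsg.Agent.Helper26.famEl 0 S := by
    refine ⟨hYS, ⟨hYab, fun x _ => pow_zero x⟩, ?_⟩
    intro Y' hY'S hY'
    exact (hAmax Y' hY'S hY').trans hYge
  -- `|Y ∩ K| > |A ∩ K|`
  have hlt : Nat.card (A ⊓ K : Subgroup X) < Nat.card ((B ⊔ C) ⊓ K : Subgroup X) := by
    have h4 : C ≤ (B ⊔ C) ⊓ K := le_inf le_sup_right hCK
    have h5 : Nat.card C ≤ Nat.card ((B ⊔ C) ⊓ K : Subgroup X) :=
      Subgroup.card_le_of_le h4
    omega
  -- hence `K ≤ Y`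
  have hKY : K ≤ B ⊔ C := by
    by_contra hK
    have := hbest _ hYmem hK
    omega
  -- and `B` centralizes `K`
  apply hBK
  intro b hb
  rw [mem_centralizer_iff]
  intro k hk
  exact hYab k (hKY hk) b (le_sup_left (a := B) (b := C) hb)

end Cfsg.Agent.S2799P
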