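import Cfsg.Agent.Helper7.S2806Defs

/-! s2806pieces row RELINF (helper6): a subnormal subgroup meets any subgroup `N` in a relatively subnormal subgroup
of `N`. -/

set_option autoImplicit false
set_option linter.unusedSectionVars false
set_option linter.unusedVariables false

namespace Cfsg.Agent.S2806P

open Cfsg Cfsg.Agent.Helper14 Cfsg.Agent.S2806P

variable {G : Type*} [Group G]

/-- RELINF (S): a subnormal subgroup meets any subgroup `N` in a relatively subnormal subgroup of `N`.
Induction on `hE`; step `B ≤ K`, `B.subgroupOf K` normal (`Subgroup.normal_subgroupOf_iff_le_normalizer`):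
`K ⊓ N` normalizes `B ⊓ N` (an element of `K ⊓ N` normalizes `B` and `N`). -/
theorem relSubn_inf {E : Subgroup G} (hE : E.IsSubnormal) (N : Subgroup G) : RelSubn N (E ⊓ N) := by
  induction hE with
  | top =>
    rw [top_inf_eq]
    exact RelSubn.top
  | step H K hle hK hN ih =>
    refine RelSubn.step (H ⊓ N) (K ⊓ N) (inf_le_inf_right N hle) ih ?_
    have hKH : K ≤ Subgroup.normalizer (H : Set G) :=
      (Subgroup.normal_subgroupOf_iff_le_normalizer hle).mp hN
    intro x hx
    have h1 := Subgroup.mem_normalizer_iff.mp (hKH hx.1)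
    have h2 := Subgroup.mem_normalizer_iff.mp (Subgroup.le_normalizer hx.2)
    rw [Subgroup.mem_normalizer_iff]
    intro h
    rw [Subgroup.mem_inf, Subgroup.mem_inf]
    exact and_congr (h1 h) (h2 h)

end Cfsg.Agent.S2806P
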