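import Mathlib
import Cfsg.Agent.Helper7.S2862Defs
import Cfsg.Agent.Helper7.S2862B1
import Cfsg.Agent.Helper19.S2862CP3
import Cfsg.Agent.Helper17.S2862CP9
import Cfsg.Agent.Helper22.S2862CP4

/-! Board `s2862pieces`, row B6 (core: takes the conclusions of B4 (second clause) and B5 as hypotheses). -/

set_option autoImplicit false
set_option linter.unusedVariables false
set_option linter.unusedSectionVars false

namespace Cfsg.Agent.S2862P

open Cfsg
open Cfsg.Agent.Helper14 (cj)
open Subgroup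
open scoped commutatorElement

variable {G : Type*} [Group G] [Finite G] {p : ℕ} [Fact p.Prime]
variable {H Y D L L0 Vt Vb : Subgroup G}

theorem B6_aux_core (K : KHyp p H Y D L L0) (C : ChiefPair p H Vt Vb)
    (hB4 : commP Vt Vb D = fixP Vt Vb Y) (hB5 : fixP Vt Vb D = commP Vt Vb Y) :
    commP Vt Vb Y ≠ Vb ∧ commP Vt Vb Y ≠ Vt := by
  constructor
  · -- a fixed point of the `p`-group `D` on `Vt/Vb`
    obtain ⟨v, hvt, hvb, hv⟩ := exists_fix C K.hDp le_rfl C.lt le_rfl (K.hDH.trans C.nt) (K.hDH.trans C.nb)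
    have hmem : v ∈ fixP Vt Vb D := (mem_fixP C K.hDH).mpr ⟨hvt, hv⟩
    intro h
    rw [hB5, h] at hmem
    exact hvb hmem
  · intro h
    -- `D` is trivial on `Vt/Vb`
    have h1 : fixP Vt Vb D = Vt := by rw [hB5, h]
    have h2 : ⁅Vt, D⁆ ≤ Vb := by
      rw [Subgroup.commutator_le]
      intro v hv d hd
      have hv' : v ∈ fixP Vt Vb D := by rw [h1]; exact hv
      exact ((mem_fixP C K.hDH).mp hv').2 d hd
    have h3 : commP Vt Vb D = Vb := by
      unfold commP
      exact sup_eq_right.mpr h2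
    have h4 : fixP Vt Vb Y = Vb := by rw [← hB4, h3]
    have h5 : Vt ≤ Vb := by
      calc Vt = commP Vt Vb Y := h.symm
        _ ≤ fixP Vt Vb Y := B1q K C
        _ = Vb := h4
    exact absurd (lt_of_lt_of_le C.lt h5) (lt_irrefl _)

end Cfsg.Agent.S2862P
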