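import Mathlib
import Cfsg.Agent.Helper27.S3001TOP
import Cfsg.Agent.Helper3.S3001S2a

/-! Board `s3001pieces`, row G3. -/

set_option autoImplicit false

namespace Cfsg.Agent.S3001P

open Cfsg.Agent.S2789P Cfsg.Agent.S2999P Cfsg.Agent.S3000P

universe u

variable {G : Type u} [Group G] [Finite G] {p : ℕ} [Fact p.Prime] {V P : Subgroup G}

/-- G3 (S): a `p'`-element `x` normalising `V` whose commutator with `v ∈ V` commutes with `x` centralises `v`. -/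
theorem G3 (hV : Cfsg.IsElementaryAbelian p V) {x v : G} (hxo : (orderOf x).Coprime p) (hv : v ∈ V)
    (hzV : x * v * x⁻¹ * v⁻¹ ∈ V) (hc : x * (x * v * x⁻¹ * v⁻¹) = (x * v * x⁻¹ * v⁻¹) * x) : x * v = v * x := by
  have hcv : x * v * x⁻¹ = (x * v * x⁻¹ * v⁻¹) * v := by group
  have h1 := S2a_aux_pow hc hcv (orderOf x)
  rw [pow_orderOf_eq_one] at h1
  have hzk : (x * v * x⁻¹ * v⁻¹) ^ orderOf x = 1 := by
    have : v = (x * v * x⁻¹ * v⁻¹) ^ orderOf x * v := by simpa using h1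
    exact (mul_eq_right (b := v)).mp this.symm
  have hzp : (x * v * x⁻¹ * v⁻¹) ^ p = 1 := hV.2 _ hzV
  have hd1 : orderOf (x * v * x⁻¹ * v⁻¹) ∣ orderOf x := orderOf_dvd_of_pow_eq_one hzk
  have hd2 : orderOf (x * v * x⁻¹ * v⁻¹) ∣ p := orderOf_dvd_of_pow_eq_one hzp
  have hd : orderOf (x * v * x⁻¹ * v⁻¹) ∣ 1 := by
    have := Nat.dvd_gcd hd1 hd2
    rwa [hxo.gcd_eq_one] at this
  have hz1 : x * v * x⁻¹ * v⁻¹ = 1 := orderOf_eq_one_iff.mp (Nat.dvd_one.mp hd)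
  calc x * v = (x * v * x⁻¹ * v⁻¹) * (v * x) := by group
    _ = v * x := by rw [hz1, one_mul]

end Cfsg.Agent.S3001P
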