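import Mathlib
import Cfsg.Agent.Helper10.S3001S3C

/-! Board `s3001pieces`, row G3R (one-liner from helper10's own copy `S3C_aux_g3r`). -/

set_option autoImplicit false

namespace Cfsg.Agent.S3001P

open Cfsg.Agent.S2789P Cfsg.Agent.S2999P Cfsg.Agent.S3000P Cfsg.Agent.S3001P

universe u

variable {G : Type u} [Group G] [Finite G] {p : ℕ} [Fact p.Prime] {V P : Subgroup G}

/-- G3R (S): a `p'`-element of `P` acting trivially on `v` modulo `R` centralises `v`. -/
theorem G3R (H : Hyp1 p V P) {x v : G} (hx : x ∈ P) (hxo : (orderOf x).Coprime p) (hv : v ∈ V)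
    (hz : x * v * x⁻¹ * v⁻¹ ∈ V0 p V P) : x * v = v * x :=
  S3C_aux_g3r H hx hxo hv hz

end Cfsg.Agent.S3001P
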