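import Mathlib
import Cfsg.Agent.Helper16.S3174Defs
import Cfsg.Agent.Helper6.S3174PHICOREa
import Cfsg.Agent.Helper8.S3174CCARD

/-! # S3174, piece PHICORE (`phi_core`).
Blueprint: `departures/helper16_S3174_blueprint.md`. -/

set_option autoImplicit false

namespace Cfsg.Agent.S3174P

open scoped commutatorElement

variable {T : Type*} [Group T] [Finite T]

/-- PHICORE -/
theorem phi_core {W : Subgroup T} (c : Cfg T W) (n : T) (hn4 : n ∈ Zi T 4) (hn3 : n ∉ Zi T 3) (hnW : n ∈ W)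
    (hnc : ∀ y ∈ W, ⁅n, y⁆ ∈ Zi T 2)
    (t t' : T) (ht : t ∈ Mc T) (ht' : t' ∈ Mc T) (h1 : t ∉ W) (h2 : t' ∉ W) (h3 : t⁻¹ * t' ∉ W)
    (x x' : T) (hx : x ∈ W) (hx' : x' ∈ W) :
    ⁅x, x' * (t * x' * t⁻¹) * (t' * x' * t'⁻¹) * (t * t' * x' * (t * t')⁻¹)⁆ ∈ Zi T 2 :=
  PHICORE_aux_core c (cM_card c) n hn4 hn3 hnW hnc t t' ht ht' h1 h2 h3 x x' hx hx'

end Cfsg.Agent.S3174P
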