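import Mathlib
import Cfsg.Agent.Helper10.S3805Defs

set_option autoImplicit false

namespace Cfsg.Agent.S3805P

open Cfsg

theorem UNFUSED_key : ∀ q : Q, q * q = 1 → q ≠ 1 →
    q.2 = 1 ∨ (∃ x : Q, x * (1, DihedralGroup.sr 0) * x⁻¹ = q) ∨
      (∃ x : Q, x * (DihedralGroup.sr 0, DihedralGroup.sr 0) * x⁻¹ = q) := by
  decide

/-- **UNFUSED.** If `u` is conjugate neither to `v` nor to `w`, then `u^G ∩ ι(Q) ⊆ ι(D3 × 1)`. -/
theorem snd_eq_one_of_isConj_u {G : Type*} [Group G] (c : Cfg G) (huv : ¬ IsConj c.u c.v)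
    (huw : ¬ IsConj c.u c.w) : ∀ q : Q, IsConj c.u (c.ι q) → q.2 = 1 := by
  intro q hq
  obtain ⟨g, hg⟩ := isConj_iff.mp hq
  have hu2 : c.u * c.u = 1 := by
    unfold Cfg.u
    rw [← map_mul]
    have : ((DihedralGroup.sr 0, 1) : Q) * (DihedralGroup.sr 0, 1) = 1 := by decide
    rw [this, map_one]
  have hu1 : c.u ≠ 1 := by
    unfold Cfg.u
    intro h
    have h' : c.ι (DihedralGroup.sr 0, 1) = c.ι 1 := by rw [h, map_one]
    have := c.inj h'
    revert this
    decide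
  have hq2 : q * q = 1 := by
    apply c.inj
    rw [map_mul, map_one, ← hg]
    calc g * c.u * g⁻¹ * (g * c.u * g⁻¹) = g * (c.u * c.u) * g⁻¹ := by group
      _ = 1 := by rw [hu2]; group
  have hq1 : q ≠ 1 := by
    intro h
    apply hu1
    rw [h, map_one] at hg
    have : c.u = g⁻¹ * (g * c.u * g⁻¹) * g := by group
    rw [this, hg]
    group
  rcases UNFUSED_key q hq2 hq1 with h | ⟨x, hx⟩ | ⟨x, hx⟩
  · exact h
  · exfalso
    apply huv
    have h1 : IsConj c.v (c.ι q) := by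
      rw [isConj_iff]
      refine ⟨c.ι x, ?_⟩
      unfold Cfg.v
      rw [← hx, map_mul, map_mul, map_inv]
    exact hq.trans h1.symm
  · exfalso
    apply huw
    have h1 : IsConj c.w (c.ι q) := by
      rw [isConj_iff]
      refine ⟨c.ι x, ?_⟩
      unfold Cfg.w
      rw [← hx, map_mul, map_mul, map_inv]
    exact hq.trans h1.symm

end Cfsg.Agent.S3805P
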