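import Mathlib
import Cfsg.Agent.S0638

/-! s4079pieces KE: in a non-cyclic metacyclic `p`-group `L`, `p` odd, `E = {x | x^p = 1}` is a commutative subgroup of order `p²`
(S0638 on main). -/

set_option autoImplicit false
open Cfsg

namespace Cfsg.Agent.S4079P

variable {L : Type*} [Group L] [Finite L] {p : ℕ} [Fact p.Prime]

/-- KE: `E = Ω₁(L) = {x | x^p = 1}` is a commutative subgroup of order `p²` (S0638 on main). -/
theorem KE (hp : p ≠ 2) (hL : IsPGroup p L) (hmc : Cfsg.IsMetacyclic L) (hncyc : ¬ IsCyclic L) :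
    ∃ E : Subgroup L, (∀ x, x ∈ E ↔ x ^ p = 1) ∧ Nat.card E = p ^ 2 ∧
      (∀ x ∈ E, ∀ y ∈ E, x * y = y * x) := by
  obtain ⟨hE, hcard⟩ := Cfsg.Agent.S0638.result hp hL hmc hncyc
  refine ⟨Cfsg.omegaOne p (⊤ : Subgroup L), ?_, hcard, ?_⟩
  · intro x
    constructor
    · intro hx
      exact hE.2 x hx
    · intro hx
      exact Subgroup.subset_closure ⟨Subgroup.mem_top x, hx⟩
  · intro x hx y hy
    obtain ⟨⟨⟨hc⟩⟩, -⟩ := hE
    have := hc ⟨x, hx⟩ ⟨y, hy⟩
    simpa using congrArg Subtype.val this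

end Cfsg.Agent.S4079P
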