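import Mathlib
import Cfsg.Agent.Lead.Coprime3
import Cfsg.Agent.Helper25.OliverA
import Cfsg.Agent.Helper26.Replacement

/-! DUPLICATE (alternative proof only; the board's `Cfsg.Agent.S4130P.PK2b` is in `Cfsg.Agent.Helper7.S4130PK2`, which landed
first - this file lives in its own namespace to avoid the name clash; do not import it together expecting `S4130P.PK2b`).
s4130pieces PK2b (pure group theory): `x` a `q'`-element, `Q` a normal `q`-subgroup, `C_Q(x)` abelian of index `q` in `Q`:
then `Q` is abelian.  (`C = C_Q(x)` is normal in `Q`; three subgroups: `[[⟨x⟩,Q],C] = 1`; `Q = [Q,⟨x⟩] C`; so `C ≤ Z(Q)` and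
`Q / Z(Q)` is cyclic.) -/

set_option autoImplicit false

namespace Cfsg.Agent.Helper6.S4130PK2balt

open Subgroup

/-- the centralizer of `⟨x⟩` is the centralizer of `x` -/
theorem PK2b_aux_centralizer_zpowers {G : Type*} [Group G] (x : G) :
    centralizer ((zpowers x : Subgroup G) : Set G) = centralizer ({x} : Set G) := by
  ext y
  simp only [mem_centralizer_iff, SetLike.mem_coe, Set.mem_singleton_iff, forall_eq]
  constructor
  · intro h
    exact h x (mem_zpowers x)
  · intro h g hg
    obtain ⟨k, rfl⟩ := mem_zpowers_iff.mp hg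
    exact (Commute.zpow_left (show Commute x y from h) k).eq

/-- (PK2b) pure group theory: `x` a `q'`-element, `Q` a normal `q`-subgroup, `C_Q(x)` abelian of
index `q` in `Q`: then `Q` is abelian. -/
theorem PK2b {G : Type*} [Group G] [Finite G] (q : ℕ) [Fact q.Prime]
    (Q : Subgroup G) [Q.Normal] (hQ : IsPGroup q Q) (x : G) (hx : (orderOf x).Coprime q)
    (hidx : (centralizer ({x} : Set G)).relIndex Q = q)
    (hab : ∀ y ∈ Q ⊓ centralizer ({x} : Set G), ∀ z ∈ Q ⊓ centralizer ({x} : Set G),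
      y * z = z * y) :
    IsMulCommutative Q := by
  have hCA : centralizer ((zpowers x : Subgroup G) : Set G) = centralizer ({x} : Set G) :=
    PK2b_aux_centralizer_zpowers x
  have hAQ : zpowers x ≤ normalizer (Q : Set G) := by
    rw [normalizer_eq_top]; exact le_top
  have hcop : (Nat.card (zpowers x)).Coprime (Nat.card Q) := by
    rw [Nat.card_zpowers]
    obtain ⟨n, hn⟩ := IsPGroup.iff_card.mp hQ
    rw [hn]
    exact Nat.Coprime.pow_right n hx
  have hsolv : Group.IsSolvable (zpowers x) ∨ Group.IsSolvable Q := by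
    left
    apply Group.isSolvable_of_comm
    rintro ⟨a, ha⟩ ⟨b, hb⟩
    obtain ⟨i, rfl⟩ := mem_zpowers_iff.mp ha
    obtain ⟨j, rfl⟩ := mem_zpowers_iff.mp hb
    apply Subtype.ext
    exact (Commute.zpow_zpow_self x i j).eq
  have hsup : ⁅Q, zpowers x⁆ ⊔ (Q ⊓ centralizer ({x} : Set G)) = Q := by
    have := Cfsg.Agent.Lead.coprime_commutator_sup_centralizer (zpowers x) Q hAQ hcop hsolv
    rw [hCA] at this
    exact this
  have hCQ : Q ⊓ centralizer ({x} : Set G) ≤ Q := inf_le_left
  have hCi : (Q ⊓ centralizer ({x} : Set G)).relIndex Q = q := by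
    rw [inf_relIndex_left]; exact hidx
  have hQN : Q ≤ normalizer ((Q ⊓ centralizer ({x} : Set G) : Subgroup G) : Set G) :=
    Cfsg.Agent.Helper25.Oliver.le_normalizer_of_index_prime hQ hCQ hCi
  have hCAbot : ⁅Q ⊓ centralizer ({x} : Set G), zpowers x⁆ = ⊥ := by
    rw [commutator_eq_bot_iff_le_centralizer, hCA]; exact inf_le_right
  have hQC : ⁅Q, Q ⊓ centralizer ({x} : Set G)⁆ ≤ Q ⊓ centralizer ({x} : Set G) := by
    rw [commutator_le]
    intro g hg c hc
    rw [commutatorElement_def]
    exact Subgroup.mul_mem _ ((mem_normalizer_iff.mp (hQN hg) c).mp hc) (Subgroup.inv_mem _ hc)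
  have h1 : ⁅⁅Q, Q ⊓ centralizer ({x} : Set G)⁆, zpowers x⁆ = ⊥ := by
    rw [eq_bot_iff, ← hCAbot]; exact commutator_mono hQC le_rfl
  have h2 : ⁅⁅Q ⊓ centralizer ({x} : Set G), zpowers x⁆, Q⁆ = ⊥ := by
    rw [hCAbot]; exact commutator_bot_left Q
  have h3 : ⁅⁅zpowers x, Q⁆, Q ⊓ centralizer ({x} : Set G)⁆ = ⊥ :=
    commutator_commutator_eq_bot_of_rotate h1 h2
  have hCZ : Q ⊓ centralizer ({x} : Set G) ≤ centralizer (Q : Set G) := by
    have e1 : Q ⊓ centralizer ({x} : Set G) ≤ centralizer ((⁅Q, zpowers x⁆ : Subgroup G) : Set G) := by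
      rw [commutator_comm Q (zpowers x), le_centralizer_iff, ← commutator_eq_bot_iff_le_centralizer]
      exact h3
    have e2 : Q ⊓ centralizer ({x} : Set G) ≤
        centralizer ((Q ⊓ centralizer ({x} : Set G) : Subgroup G) : Set G) := by
      intro y hy
      rw [mem_centralizer_iff]
      intro z hz
      exact hab z hz y hy
    have := le_inf e1 e2
    rw [← Cfsg.Agent.Helper26.centralizer_sup_eq, hsup] at this
    exact this
  have hCn : ((Q ⊓ centralizer ({x} : Set G)).subgroupOf Q).Normal :=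
    (normal_subgroupOf_iff_le_normalizer hCQ).mpr hQN
  have hcard : Nat.card (↥Q ⧸ (Q ⊓ centralizer ({x} : Set G)).subgroupOf Q) = q := by
    rw [← Subgroup.index_eq_card]; exact hCi
  have : IsCyclic (↥Q ⧸ (Q ⊓ centralizer ({x} : Set G)).subgroupOf Q) := isCyclic_of_prime_card hcard
  refine MonoidHom.isMulCommutative_of_isCyclic_of_ker_le_center
    (QuotientGroup.mk' ((Q ⊓ centralizer ({x} : Set G)).subgroupOf Q)) ?_
  rw [QuotientGroup.ker_mk']
  intro c hc
  rw [mem_center_iff]
  intro g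
  apply Subtype.ext
  have := mem_centralizer_iff.mp (hCZ (mem_subgroupOf.mp hc)) g g.2
  simpa using this

end Cfsg.Agent.Helper6.S4130PK2balt
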