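import Mathlib
import Cfsg.Agent.Helper6.S4414Defs

/-! Board `s4414pieces`, row EQV. -/

set_option autoImplicit false
set_option linter.unusedSectionVars false

namespace Cfsg.Agent.S4414P

open Module TensorProduct Cfsg.Agent.Helper5.FrobMod Cfsg.Agent.S4414P

variable {K : Type*} [Field K] {W : Type*} [AddCommGroup W] [Module K W]
variable {G : Type*} [Group G] (σ : Representation K G W)

/-- EQV (S): `σ g` maps the `χ`-eigenspace into the `g • χ`-eigenspace. -/
theorem EQV (A : Subgroup G) [A.Normal] (g : G) (χ : ↥A → K) :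
    (eigS σ A χ).map (σ g) ≤ eigS σ A (wtSmul A g χ) := by
  rintro _ ⟨w, hw, rfl⟩
  intro a
  have h1 := hw (MulAut.conjNormal g⁻¹ a)
  rw [coe_conjNormal_inv] at h1
  have h2 : σ (a : G) (σ g w) = σ g (σ (g⁻¹ * (a : G) * g) w) := by
    rw [← Module.End.mul_apply, ← map_mul, ← Module.End.mul_apply, ← map_mul]
    congr 2
    group
  rw [h2, h1, map_smul, wtSmul_apply]

end Cfsg.Agent.S4414P
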