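import Mathlib
import Cfsg.Agent.Helper6.S4414Defs

/-! Board `s4414pieces`, row STAB2. -/

set_option autoImplicit false
set_option linter.unusedSectionVars false
set_option linter.unusedVariables false

namespace Cfsg.Agent.S4414P

open Module TensorProduct Cfsg.Agent.Helper5.FrobMod Cfsg.Agent.S4414P

variable {K : Type*} [Field K] {W : Type*} [AddCommGroup W] [Module K W]
variable {G : Type*} [Group G] (σ : Representation K G W)

variable {I : Type*}

/-- STAB2 (S/M): the stabiliser of `i` in `H` is a `2`-group (its order divides `|T| q` and is prime to `q` by Cauchy). -/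
theorem STAB2 [Finite G] [MulAction G I] (T H : Subgroup G) (hT : IsPGroup 2 ↥T) {q : ℕ} (hq : q.Prime)
    (hcard : Nat.card ↥H = Nat.card ↥T * q) (i : I)
    (hstab : ∀ g ∈ H, g • i = i → orderOf g ≠ q) : IsPGroup 2 ↥(H ⊓ MulAction.stabilizer G i) := by
  haveI : Fact q.Prime := ⟨hq⟩
  have hdvd : Nat.card ↥(H ⊓ MulAction.stabilizer G i) ∣ Nat.card ↥T * q := by
    rw [← hcard]; exact Subgroup.card_dvd_of_le inf_le_left
  have hnq : ¬ q ∣ Nat.card ↥(H ⊓ MulAction.stabilizer G i) := by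
    intro hd
    obtain ⟨x, hx⟩ := exists_prime_orderOf_dvd_card' q hd
    have hxm := x.2
    rw [Subgroup.mem_inf, MulAction.mem_stabilizer_iff] at hxm
    apply hstab (x : G) hxm.1 hxm.2
    rw [Subgroup.orderOf_coe]; exact hx
  have hcop : Nat.Coprime (Nat.card ↥(H ⊓ MulAction.stabilizer G i)) q :=
    ((Nat.Prime.coprime_iff_not_dvd hq).mpr hnq).symm
  have hdvdT : Nat.card ↥(H ⊓ MulAction.stabilizer G i) ∣ Nat.card ↥T := hcop.dvd_of_dvd_mul_right hdvd
  obtain ⟨k, hk⟩ := IsPGroup.iff_card.mp hT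
  rw [hk] at hdvdT
  obtain ⟨j, _, hj⟩ := (Nat.dvd_prime_pow Nat.prime_two).mp hdvdT
  exact IsPGroup.of_card hj

end Cfsg.Agent.S4414P
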