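import Mathlib
import Cfsg.Agent.Helper6.S4414Defs
import Cfsg.Agent.Helper10.S4414ORB
import Cfsg.Agent.Helper17.S4414TRANSFER
import Cfsg.Agent.Helper4.S4414FIXORB
import Cfsg.Agent.Helper4.S4414IND
import Cfsg.Agent.Helper6.S4414STAB2
import Cfsg.Agent.Helper9.S4414UPPER

/-! Board `s4414pieces`: the module lemma `ML` (assembly). -/

set_option autoImplicit false
set_option linter.unusedSectionVars false
set_option linter.unusedVariables false

namespace Cfsg.Agent.S4414P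

open Module TensorProduct Cfsg.Agent.Helper5.FrobMod Cfsg.Agent.S4414P

variable {K : Type*} [Field K] {W : Type*} [AddCommGroup W] [Module K W]
variable {G : Type*} [Group G] (σ : Representation K G W)
variable {I : Type*}

theorem ML_aux_orb_disjoint [MulAction G I] (T : Subgroup G) {i i' : I} (h : i' ∉ orbS T i) :
    Disjoint (orbS T i) (orbS T i') := by
  rw [Set.disjoint_left]
  rintro j ⟨t, ht, rfl⟩ ⟨t', ht', h2⟩
  apply h
  refine ⟨t'⁻¹ * t, T.mul_mem (T.inv_mem ht') ht, ?_⟩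
  rw [mul_smul, ← h2, inv_smul_smul]

theorem ML_aux_orb_finite [Finite G] [MulAction G I] (T : Subgroup G) (i : I) : (orbS T i).Finite := by
  apply Set.Finite.subset (Set.finite_range (fun g : G => g • i))
  rintro j ⟨t, _, rfl⟩
  exact ⟨t, rfl⟩

theorem ML_aux_self_mem [MulAction G I] (T : Subgroup G) (i : I) : i ∈ orbS T i := ⟨1, T.one_mem, one_smul _ _⟩

theorem ML_aux_ne_bot [MulAction G I] {Wf : I → Submodule K W} (hG : Graded σ Wf) (g : G) {i : I} (hi : Wf i ≠ ⊥) :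
    Wf (g • i) ≠ ⊥ := by
  intro h
  apply hi
  rw [eq_bot_iff]
  intro w hw
  have h1 : σ g w ∈ Wf (g • i) := hG.map g i ⟨w, hw, rfl⟩
  rw [h] at h1
  have h2 : σ g w = 0 := (Submodule.mem_bot K).mp h1
  have h3 : w = 0 := by
    have := rho_inv_apply σ g w
    rw [h2, map_zero] at this
    exact this.symm
  rw [h3]; exact Submodule.zero_mem _

/-- ML (assembly): the module lemma. -/
theorem ML [CharP K 2] [Finite G] [FiniteDimensional K W] [Nontrivial W] [MulAction G I] {Wf : I → Submodule K W}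
    (hG : Graded σ Wf) (T H : Subgroup G) (hTH : T ≤ H) (hT : IsPGroup 2 ↥T) {q : ℕ} (hq : q.Prime) (hq2 : q ≠ 2)
    (hcard : Nat.card ↥H = Nat.card ↥T * q)
    (hstab : ∀ i, Wf i ≠ ⊥ → ∀ g ∈ H, g • i = i → orderOf g ≠ q) :
    2 ≤ finrank K (fixOf σ T) ∧ (finrank K (fixOf σ T) ≤ 2 → finrank K (fixOf σ H) = 1) := by
  obtain ⟨i₀, hi₀⟩ : ∃ i, Wf i ≠ ⊥ := by
    by_contra hcon
    push Not at hcon
    have h1 : (⨆ i, Wf i) = ⊥ := by simp [hcon]
    rw [hG.top] at h1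
    exact top_ne_bot h1
  obtain ⟨h₁, hh₁, hi₁⟩ := ORB T H hTH hT hq hq2 hcard i₀ (hstab i₀ hi₀)
  have hWi₁ : Wf (h₁ • i₀) ≠ ⊥ := ML_aux_ne_bot σ hG h₁ hi₀
  obtain ⟨f₁, hf₁Q, hf₁0, hf₁T⟩ := FIXORB σ hG T hT hi₀
  obtain ⟨f₂, hf₂Q, hf₂0, hf₂T⟩ := FIXORB σ hG T hT hWi₁
  have hdisj : Disjoint (orbS T i₀) (orbS T (h₁ • i₀)) := ML_aux_orb_disjoint T hi₁
  have h2 : 2 ≤ finrank K (fixOf σ T) := by
    refine IND hG.ind ![orbS T i₀, orbS T (h₁ • i₀)] ?_ ![f₁, f₂] ?_ ?_ (fixOf σ T) ?_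
    · intro a b hab
      fin_cases a <;> fin_cases b <;> first | exact absurd rfl hab | exact hdisj | exact hdisj.symm
    · intro a; fin_cases a
      · exact hf₁Q
      · exact hf₂Q
    · intro a; fin_cases a
      · exact hf₁0
      · exact hf₂0
    · intro a; fin_cases a
      · exact hf₁T
      · exact hf₂T
  refine ⟨h2, fun hle => ?_⟩
  have hne : fixOf σ H ≠ ⊥ := TRANSFER σ hG H hi₀ (STAB2 T H hT hq hcard i₀ (hstab i₀ hi₀))
  have hpos : 1 ≤ finrank K (fixOf σ H) := by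
    rw [Nat.one_le_iff_ne_zero, Ne, Submodule.finrank_eq_zero]; exact hne
  have hHT : fixOf σ H ≤ fixOf σ T := fun v hv t ht => hv t (hTH ht)
  have hle2 : finrank K (fixOf σ H) ≤ finrank K (fixOf σ T) := Submodule.finrank_mono hHT
  have hne2 : finrank K (fixOf σ H) ≠ 2 := by
    intro h2'
    have heq : fixOf σ H = fixOf σ T := Submodule.eq_of_le_of_finrank_eq hHT (by omega)
    have hf₁H : f₁ ∈ fixOf σ H := heq ▸ hf₁T
    refine hf₁0 (UPPER σ hG H (orbS T i₀) (ML_aux_orb_finite T i₀) ?_ hf₁Q hf₁H)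
    rintro j ⟨t, ht, rfl⟩
    refine ⟨h₁ * t⁻¹, H.mul_mem hh₁ (H.inv_mem (hTH ht)), ?_⟩
    rw [mul_smul, inv_smul_smul]
    exact hi₁
  omega

end Cfsg.Agent.S4414P
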