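import Cfsg.Agent.Helper23.S5700NONPERP
import Cfsg.Agent.Helper5.S5700EXK

set_option autoImplicit false
set_option linter.unusedSectionVars false
set_option linter.unusedVariables false

namespace Cfsg.Agent.S5700P

open Matrix Module Cfsg.Agent.Helper28.Sg Cfsg.Agent.Helper28.Spin Cfsg.Agent.Helper12.OrthGen

variable {F : Type*} [Field F] [Fintype F] {ι : Type} [Fintype ι] [DecidableEq ι]
  {Q : QuadraticForm F (ι → F)} {J : Matrix ι ι F} {t p : F}

namespace TYPE0

/-- the core step: conjugating `a` by the unitary transvection with centre `y` -/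
theorem aux (U : UData Q J t p) (M : Subgroup ↥(Cfsg.isometryGroup F ⇑Q)) (hM : KPt J M)
    {b : ι → F} (hb : Q b = 0) {a : ι → F} (ha : a ∈ RR M b hb)
    {y : ι → F} (hy : Q y = 0) (hyb : hperp Q J y b) (hya : ¬ hperp Q J y a)
    (hyK : ¬ InK J b y) :
    ∃ v : ι → F, Q v = 0 ∧ hperp Q J v b ∧ ¬ InK J b v ∧ v ∈ RR M b hb := by
  have hvR : B Q y a • J *ᵥ y - B Q (J *ᵥ y) a • y ∈ RR M b hb := RR_tau U hM ha hy hyb
  set v := B Q y a • J *ᵥ y - B Q (J *ᵥ y) a • y with hv
  have hveq : v = (-(B Q (J *ᵥ y) a)) • y + (B Q y a) • J *ᵥ y := by rw [hv]; module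
  have hKv : InK J y v := ⟨_, _, hveq⟩
  have hy0 : y ≠ 0 := by
    intro h0
    apply hya
    rw [h0]; exact hperp.zero_left a
  have hv0 : v ≠ 0 := by
    intro h0
    rw [h0] at hveq
    obtain ⟨h1, h2⟩ := U.comb_eq_zero hy0 hveq.symm
    apply hya
    exact ⟨h2, by linear_combination -h1⟩
  refine ⟨v, hKv.Q_eq_zero U hy, hyb.of_InK_left U hKv, ?_, hvR⟩
  intro hbv
  exact hyK (hbv.trans U (hKv.symm U hv0))

end TYPE0

theorem TYPE0.exists_type0 (U : UData Q J t p) (hQ : (QuadraticMap.polarBilin Q).Nondegenerate)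
    (hn : 14 ≤ Fintype.card ι) (M : Subgroup ↥(Cfsg.isometryGroup F ⇑Q)) (hM : KPt J M)
    {b : ι → F} (hb : Q b = 0) (hb0 : b ≠ 0) {a : ι → F} (ha : a ∈ RR M b hb)
    (haK : ¬ InK J b a) :
    ∃ v : ι → F, Q v = 0 ∧ hperp Q J v b ∧ ¬ InK J b v ∧ v ∈ RR M b hb := by
  have hba : B Q b a = 0 := RR_perp ha
  by_cases hJ : B Q (J *ᵥ b) a = 0
  · -- `hperp b a`
    have hpba : hperp Q J b a := ⟨hba, hJ⟩
    obtain ⟨y, hy, hyb, hya⟩ := NONPERP.exists_nonperp U hQ hn hb haK
    refine TYPE0.aux U M hM hb ha hy hyb (fun h => hya h.1) ?_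
    intro hby
    exact hya (hpba.of_InK_left U hby).1
  · obtain ⟨w₁, w₂, h1, h2, h12, hbw1, hbw2⟩ := EXK.K1 hQ hn J b
    have hw1K : ¬ InK J b w₁ := by
      rintro ⟨α, β, hw⟩
      have : B Q w₁ w₂ = 0 := by
        rw [hw, B_add_left, B_smul_left, B_smul_left, hbw2.1, hbw2.2]; ring
      rw [h12] at this
      exact one_ne_zero this
    have hw1b : hperp Q J w₁ b := hbw1.symm U
    by_cases hw1a : hperp Q J w₁ a
    · -- `y = w₁ + b`
      have hyQ : Q (w₁ + b) = 0 := by rw [hw1b.Q_add, h1, hb, add_zero]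
      have hyb : hperp Q J (w₁ + b) b := hw1b.add_left (hperp.self U hb)
      refine TYPE0.aux U M hM hb ha hyQ hyb ?_ ?_
      · intro h
        apply hJ
        have := h.2
        rw [Matrix.mulVec_add, B_add_left, hw1a.2, zero_add] at this
        exact this
      · intro h
        apply hw1K
        have := h.sub (InK.refl J b)
        rwa [add_sub_cancel_right] at this
    · exact TYPE0.aux U M hM hb ha h1 hw1b hw1a hw1K

end Cfsg.Agent.S5700P
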