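import Mathlib
import Cfsg.Agent.Helper28.S5704SDefs
import Cfsg.Agent.Helper28.OrthMax3
import Cfsg.Agent.Helper28.NonMax
import Cfsg.Agent.Helper14.S5704SEXCROSS
import Cfsg.Agent.Helper18.S5704SEXONE

set_option autoImplicit false
set_option linter.unusedSectionVars false
set_option linter.unusedVariables false

/-! # S5704, chapter (7) PROPER (helper6): `Ω` is not contained in the Kronecker group `Kr e`.

Setting of the middle chapters: `P = 1`, `hT : TData Q e 1 GU GW`.  The Siegel element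
`ρ(u ⊗ z, u ⊗ z')` (`u ≠ 0`, `z ⟂ z'` independent) lies in `Ω` and not in `Kr e`. -/

namespace Cfsg.Agent.S5704P

open Matrix Cfsg.Agent.Helper28.Sg Cfsg.Agent.S5637P Cfsg.Agent.S5704S

variable {F : Type*} [Field F] {n a b : ℕ} {e : Fin n ≃ Fin a × Fin b}
  {Q : QuadraticForm F (Fin n → F)} {GU : Matrix (Fin a) (Fin a) F} {GW : Matrix (Fin b) (Fin b) F}

/-- equal pure tensors have proportional factors. -/
theorem PROPER.tn_eq_tn {s s' : Fin a → F} {t t' : Fin b → F} (h : tn e s t = tn e s' t')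
    (hs' : s' ≠ 0) (ht' : t' ≠ 0) : ∃ κ : F, κ ≠ 0 ∧ s = κ • s' ∧ t = κ⁻¹ • t' := by
  classical
  -- a functional with `ψ ⬝ᵥ t' = 1`
  obtain ⟨j, hj⟩ := Function.ne_iff.mp ht'
  set ψ : Fin b → F := Pi.single j (t' j)⁻¹ with hψ
  have hψt' : ψ ⬝ᵥ t' = 1 := by
    rw [hψ, single_dotProduct]
    exact inv_mul_cancel₀ hj
  have h1 := congrArg (cps e ψ) h
  rw [cps_tn, cps_tn, hψt', one_smul] at h1
  have hc : ψ ⬝ᵥ t ≠ 0 := by
    intro h0
    rw [h0, zero_smul] at h1
    exact hs' h1.symm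
  refine ⟨(ψ ⬝ᵥ t)⁻¹, inv_ne_zero hc, ?_, ?_⟩
  · rw [← h1, smul_smul, inv_mul_cancel₀ hc, one_smul]
  · rw [inv_inv]
    have h2 : tn e s' ((ψ ⬝ᵥ t)⁻¹ • t) = tn e s' t' := by
      rw [tn_smul_right, ← tn_smul_left, ← h]
      congr 1
      rw [← h1, smul_smul, inv_mul_cancel₀ hc, one_smul]
    have h3 := tn_right_injective e hs' h2
    rw [← h3, smul_smul, mul_inv_cancel₀ hc, one_smul]

/-- the polar form on pure tensors, `P = 1`. -/
theorem PROPER.B_tn (hT : TData Q e 1 GU GW) (u s : Fin a → F) (z t : Fin b → F) :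
    B Q (tn e u z) (tn e s t) = bf GU u s * bf GW z t := by
  have := hT.pol u z s t
  unfold pt at this
  rw [one_mulVec, one_mulVec] at this
  exact this

theorem PROPER.Q_tn (hT : TData Q e 1 GU GW) (u : Fin a → F) (z : Fin b → F) :
    Q (tn e u z) = 0 := by
  have := hT.sing u z
  unfold pt at this
  rw [one_mulVec] at this
  exact this

/-- the Siegel element `ρ(u ⊗ z, u ⊗ z')` is not a Kronecker product. -/
theorem PROPER.not_mem_Kr (hT : TData Q e 1 GU GW) {u : Fin a → F} {z z' y : Fin b → F}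
    (hu : u ≠ 0) (hzz' : bf GW z z' = 0) (hy1 : bf GW z y = 1) (hy2 : bf GW z' y = 0)
    (hz' : z' ≠ 0) (hp : Q (tn e u z) = 0) (hpp' : B Q (tn e u z) (tn e u z') = 0) :
    ((siegO Q (tn e u z) (tn e u z') hp hpp' : ↥(Cfsg.isometryGroup F ⇑Q)) : GL (Fin n) F) ∉
      Kr e := by
  classical
  rintro ⟨A, Bm, hg⟩
  have hz : z ≠ 0 := by
    intro h0
    rw [h0, bf_zero_left] at hy1
    exact zero_ne_one hy1
  have hQp' : Q (tn e u z') = 0 := PROPER.Q_tn hT u z'
  -- the action on pure tensors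
  have hact : ∀ (s : Fin a → F) (t : Fin b → F),
      tn e ((A : Matrix (Fin a) (Fin a) F) *ᵥ s) ((Bm : Matrix (Fin b) (Fin b) F) *ᵥ t) =
        tn e s t + (bf GU u s * bf GW z t) • tn e u z' - (bf GU u s * bf GW z' t) • tn e u z := by
    intro s t
    rw [← krg_mulVec_tn, ← hg]
    have := siegO_mulVec Q (tn e u z) (tn e u z') hp hpp' (tn e s t)
    rw [hQp', zero_mul, zero_smul, sub_zero, PROPER.B_tn hT, PROPER.B_tn hT] at this
    exact this
  have hUalt : bf GU u u = 0 := hT.sympU.alt u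
  have hWz : bf GW z z = 0 := hT.sympW.alt z
  have hWz'z : bf GW z' z = 0 := hT.sympW.eq_zero_symm hzz'
  obtain ⟨x, hx⟩ := EX.one hT.sympU hu
  -- (1) `s = u`, `t = z`
  have e1 := hact u z
  simp only [hUalt, zero_mul, zero_smul, add_zero, sub_zero] at e1
  obtain ⟨κ, hκ, hAu, hBz⟩ := PROPER.tn_eq_tn e1 hu hz
  -- (2) `s = u`, `t = y`
  have e2 := hact u y
  simp only [hUalt, zero_mul, zero_smul, add_zero, sub_zero] at e2
  rw [hAu, tn_smul_left, ← tn_smul_right] at e2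
  have hBy : κ • ((Bm : Matrix (Fin b) (Fin b) F) *ᵥ y) = y := tn_right_injective e hu e2
  -- (3) `s = x`, `t = z`
  have e3 := hact x z
  simp only [hWz, hWz'z, mul_zero, zero_smul, add_zero, sub_zero] at e3
  rw [hBz, tn_smul_right, ← tn_smul_left] at e3
  have hAx : κ⁻¹ • ((A : Matrix (Fin a) (Fin a) F) *ᵥ x) = x := tn_left_injective e hz e3
  -- (4) `s = x`, `t = y`
  have e4 := hact x y
  simp only [hx, hy1, hy2, mul_zero, zero_smul, sub_zero, one_mul, one_smul] at e4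
  have hAx' : (A : Matrix (Fin a) (Fin a) F) *ᵥ x = κ • x := by
    have := congrArg (fun v => κ • v) hAx
    simp only [smul_smul, mul_inv_cancel₀ hκ, one_smul] at this
    exact this
  have hBy' : (Bm : Matrix (Fin b) (Fin b) F) *ᵥ y = κ⁻¹ • y := by
    have := congrArg (fun v => κ⁻¹ • v) hBy
    simp only [smul_smul, inv_mul_cancel₀ hκ, one_smul] at this
    exact this
  rw [hAx', hBy', tn_smul_left, tn_smul_right, smul_smul, mul_inv_cancel₀ hκ, one_smul] at e4
  have h0 : tn e u z' = 0 := by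
    have := e4
    rwa [left_eq_add] at this
  rcases (tn_eq_zero_iff e u z').mp h0 with h | h
  · exact hu h
  · exact hz' h

/-- every Siegel element is in `omegaGL`. -/
theorem PROPER.siegO_mem_omegaGL [Fintype F] (hQ : (QuadraticMap.polarBilin Q).Nondegenerate)
    (hn : 8 ≤ n) {p v : Fin n → F} (hp : Q p = 0) (hpv : B Q p v = 0) :
    ((siegO Q p v hp hpv : ↥(Cfsg.isometryGroup F ⇑Q)) : GL (Fin n) F) ∈ Cfsg.Geo.omegaGL ⇑Q := by
  obtain ⟨fr⟩ := Cfsg.Agent.Helper28.OM.exists_frame3 hQ (by rw [Fintype.card_fin]; exact hn)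
  rw [Cfsg.Agent.Helper28.NM.mem_omegaGL_iff]
  exact ⟨siegO Q p v hp hpv, S_le_Omega hQ fr (siegO_mem_S Q p v hp hpv), rfl⟩

/-- **PROPER**: `Ω` is not contained in `Kr e`. -/
theorem PROPER.main [Fintype F] (hQ : (QuadraticMap.polarBilin Q).Nondegenerate) (hn : 8 ≤ n)
    (hT : TData Q e 1 GU GW) (ha : 1 ≤ a) (hb : 4 ≤ b) :
    ∃ g ∈ Cfsg.Geo.omegaGL ⇑Q, g ∉ Kr e := by
  classical
  -- a non-zero `u`
  set u : Fin a → F := Pi.single (⟨0, by omega⟩ : Fin a) (1 : F) with hudef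
  have hu : u ≠ 0 := by
    intro h0
    have := congrFun h0 ⟨0, by omega⟩
    rw [hudef, Pi.single_eq_same, Pi.zero_apply] at this
    exact one_ne_zero this
  -- a non-zero `z'`
  set t : Fin b → F := Pi.single (⟨0, by omega⟩ : Fin b) (1 : F) with htdef
  have ht : t ≠ 0 := by
    intro h0
    have := congrFun h0 ⟨0, by omega⟩
    rw [htdef, Pi.single_eq_same, Pi.zero_apply] at this
    exact one_ne_zero this
  obtain ⟨z, y, h1, h2, h3⟩ := EX.cross hT.sympW hb t t
  have hzz' : bf GW z t = 0 := hT.sympW.eq_zero_symm h1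
  have hp : Q (tn e u z) = 0 := PROPER.Q_tn hT u z
  have hpp' : B Q (tn e u z) (tn e u t) = 0 := by
    rw [PROPER.B_tn hT, hzz', mul_zero]
  exact ⟨_, PROPER.siegO_mem_omegaGL hQ hn hp hpp',
    PROPER.not_mem_Kr hT hu hzz' h3 h2 ht hp hpp'⟩

end Cfsg.Agent.S5704P
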