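import Mathlib

set_option autoImplicit false

/-! # S5950, piece J-ARITH2: partitions with parts `≤ 2` containing a partition of `m` -/

namespace Cfsg.Agent.S5949P

namespace JARITH2

/-- a multiset with parts in `{1, 2}`: the sum in terms of the multiplicities -/
theorem sum_eq_count (μ : Multiset ℕ) (hμ : ∀ a ∈ μ, 0 < a ∧ a ≤ 2) :
    μ.sum = 2 * μ.count 2 + μ.count 1 := by
  induction μ using Multiset.induction_on with
  | empty => simp
  | cons x μ ih =>
    have hx := hμ x (Multiset.mem_cons_self x μ)
    have ih' := ih (fun a ha => hμ a (Multiset.mem_cons_of_mem ha))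
    rw [Multiset.sum_cons, ih', Multiset.count_cons, Multiset.count_cons]
    have hx' : x = 1 ∨ x = 2 := by omega
    rcases hx' with rfl | rfl
    · simp
      omega
    · simp
      omega

theorem sum_replicate_two (ν : Multiset ℕ) (h : ∀ a ∈ ν, a = 2) : ν.sum = 2 * Multiset.card ν := by
  rw [Multiset.eq_replicate_card.2 h, Multiset.sum_replicate, Multiset.card_replicate]
  simp [mul_comm]

end JARITH2

open JARITH2

/-- J-ARITH2 -/
theorem part_two_iff (n m : ℕ) (hm : m < n) :
    (∀ μ : Multiset ℕ, (∀ a ∈ μ, 0 < a ∧ a ≤ 2) → μ.sum = n →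
      ∃ ν : Multiset ℕ, ν ≤ μ ∧ ν.sum = m) ↔ (Odd n ∨ Even m) := by
  constructor
  · intro h
    by_contra hno
    push Not at hno
    obtain ⟨hn, hmo⟩ := hno
    rw [Nat.not_odd_iff_even] at hn
    rw [Nat.not_even_iff_odd] at hmo
    obtain ⟨k, hk⟩ := hn
    obtain ⟨ν, hν, hsum⟩ := h (Multiset.replicate k 2)
      (fun a ha => by rw [Multiset.eq_of_mem_replicate ha]; omega)
      (by rw [Multiset.sum_replicate]; simp; omega)
    have h2 : ∀ a ∈ ν, a = 2 := fun a ha =>
      Multiset.eq_of_mem_replicate (Multiset.mem_of_le hν ha)
    rw [sum_replicate_two ν h2] at hsum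
    obtain ⟨l, hl⟩ := hmo
    omega
  · intro h μ hμ hsum
    have hs := sum_eq_count μ hμ
    rw [hsum] at hs
    set a := μ.count 2 with ha
    set b := μ.count 1 with hb
    set j := min a (m / 2) with hj
    have hja : j ≤ a := min_le_left _ _
    have hjm : j ≤ m / 2 := min_le_right _ _
    have hones : m - 2 * j ≤ b := by
      rcases le_total a (m / 2) with h1 | h1
      · have : j = a := min_eq_left h1
        omega
      · have hj' : j = m / 2 := min_eq_right h1
        rcases h with hodd | heven
        · obtain ⟨l, hl⟩ := hodd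
          have : 1 ≤ b := by omega
          omega
        · obtain ⟨l, hl⟩ := heven
          omega
    refine ⟨Multiset.replicate j 2 + Multiset.replicate (m - 2 * j) 1, ?_, ?_⟩
    · rw [Multiset.le_iff_count]
      intro x
      rw [Multiset.count_add, Multiset.count_replicate, Multiset.count_replicate]
      by_cases hx2 : x = 2
      · subst hx2
        simp
        exact hja
      · by_cases hx1 : x = 1
        · subst hx1
          simp
          omega
        · rw [if_neg (Ne.symm hx2), if_neg (Ne.symm hx1)]
          simp
    · rw [Multiset.sum_add, Multiset.sum_replicate, Multiset.sum_replicate]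
      simp
      omega

end Cfsg.Agent.S5949P
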