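import Mathlib
import Cfsg.Agent.Helper15.S5950SPLIT

set_option autoImplicit false

/-! # S5950, piece J-EXIST: a nilpotent operator has a "Jordan type" all of whose sub-multisets are
realised by invariant direct summands -/

namespace Cfsg.Agent.S5949P

namespace JT

namespace JEXIST

universe u v

variable {F : Type u} [Field F] {V : Type v} [AddCommGroup V] [Module F V]

/-- lattice lemma: `Z ⊕ V' = V`, `X ⊕ Y = V'`  ⟹  `(Z ⊔ X) ⊕ Y = V` -/
theorem isCompl_sup_left {Z V' X Y : Submodule F V} (hZ : IsCompl Z V') (hsup : X ⊔ Y = V')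
    (hinf : X ⊓ Y = ⊥) : IsCompl (Z ⊔ X) Y := by
  have hXV : X ≤ V' := hsup ▸ le_sup_left
  have hYV : Y ≤ V' := hsup ▸ le_sup_right
  constructor
  · rw [disjoint_iff]
    have h1 : (X ⊔ Z) ⊓ V' = X := by
      rw [sup_inf_assoc_of_le Z hXV, hZ.inf_eq_bot, sup_bot_eq]
    calc (Z ⊔ X) ⊓ Y = (X ⊔ Z) ⊓ (V' ⊓ Y) := by rw [sup_comm, inf_eq_right.2 hYV]
      _ = ((X ⊔ Z) ⊓ V') ⊓ Y := by rw [inf_assoc]
      _ = ⊥ := by rw [h1, hinf]
  · rw [codisjoint_iff, sup_assoc, hsup, hZ.sup_eq_top]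

/-- lattice lemma: `Z ⊕ V' = V`, `X ⊕ Y = V'`  ⟹  `X ⊕ (Z ⊔ Y) = V` -/
theorem isCompl_sup_right {Z V' X Y : Submodule F V} (hZ : IsCompl Z V') (hsup : X ⊔ Y = V')
    (hinf : X ⊓ Y = ⊥) : IsCompl X (Z ⊔ Y) := by
  have h := isCompl_sup_left hZ (by rw [sup_comm]; exact hsup) (by rw [inf_comm]; exact hinf)
  exact h.symm

theorem finrank_sup_of_le [FiniteDimensional F V] {Z V' X : Submodule F V} (hZ : IsCompl Z V')
    (hX : X ≤ V') : Module.finrank F ↥(Z ⊔ X) = Module.finrank F ↥Z + Module.finrank F ↥X := by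
  have h1 := Submodule.finrank_sup_add_finrank_inf_eq Z X
  have h2 : Z ⊓ X = ⊥ := by
    apply le_bot_iff.1
    calc Z ⊓ X ≤ Z ⊓ V' := inf_le_inf_left Z hX
      _ = ⊥ := hZ.inf_eq_bot
  rw [h2, finrank_bot, add_zero] at h1
  exact h1

/-- invariance of the image of an invariant subspace of `V'` -/
theorem map_subtype_invariant (N : Module.End F V) {V' : Submodule F V}
    (hV' : ∀ v ∈ V', N v ∈ V') (U' : Submodule F ↥V') (hU' : U'.map (N.restrict hV') ≤ U') :
    (U'.map V'.subtype).map N ≤ U'.map V'.subtype := by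
  rintro _ ⟨_, ⟨u, hu, rfl⟩, rfl⟩
  refine ⟨N.restrict hV' u, hU' ⟨u, hu, rfl⟩, ?_⟩
  rfl

theorem main (B : ℕ) : ∀ (d : ℕ) (V : Type v) [AddCommGroup V] [Module F V]
    [FiniteDimensional F V] (N : Module.End F V), N ^ B = 0 → Module.finrank F V = d →
    ∃ μ : Multiset ℕ, (∀ a ∈ μ, 0 < a ∧ a ≤ B) ∧ μ.sum = Module.finrank F V ∧
      ∀ ν : Multiset ℕ, ν ≤ μ → ∃ U W : Submodule F V, IsCompl U W ∧ U.map N ≤ U ∧
        W.map N ≤ W ∧ Module.finrank F U = ν.sum := by
  intro d
  induction d using Nat.strong_induction_on with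
  | _ d ih =>
    intro V _ _ _ N hN hd
    by_cases hV : Nontrivial V
    · obtain ⟨Z, V', hZV, hZN, hV'N, hZpos, hZB⟩ := exists_split N B hN hV
      have hV'mem : ∀ v ∈ V', N v ∈ V' := fun v hv => hV'N ⟨v, hv, rfl⟩
      have hZmem : ∀ v ∈ Z, N v ∈ Z := fun v hv => hZN ⟨v, hv, rfl⟩
      have hdim : Module.finrank F ↥Z + Module.finrank F ↥V' = Module.finrank F V :=
        Submodule.finrank_add_eq_of_isCompl hZV
      have hN' : (N.restrict hV'mem) ^ B = 0 := by
        rw [Module.End.pow_restrict B hV'mem]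
        ext x
        simp [hN]
      obtain ⟨μ', hμ'1, hμ'2, hμ'3⟩ := ih (Module.finrank F ↥V') (by omega) ↥V'
        (N.restrict hV'mem) hN' rfl
      refine ⟨Module.finrank F ↥Z ::ₘ μ', ?_, ?_, ?_⟩
      · intro a ha
        rcases Multiset.mem_cons.1 ha with rfl | ha
        · exact ⟨hZpos, hZB⟩
        · exact hμ'1 a ha
      · rw [Multiset.sum_cons, hμ'2, hdim]
      · intro ν hν
        by_cases haν : Module.finrank F ↥Z ∈ ν
        · have hν' : ν.erase (Module.finrank F ↥Z) ≤ μ' := Multiset.erase_le_iff_le_cons.2 hν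
          obtain ⟨U', W', hUW, hU'N, hW'N, hU'd⟩ := hμ'3 _ hν'
          have hsup : U'.map V'.subtype ⊔ W'.map V'.subtype = V' := by
            rw [← Submodule.map_sup, hUW.sup_eq_top, Submodule.map_subtype_top]
          have hinf : U'.map V'.subtype ⊓ W'.map V'.subtype = ⊥ := by
            rw [← Submodule.map_inf _ V'.injective_subtype, hUW.inf_eq_bot, Submodule.map_bot]
          refine ⟨Z ⊔ U'.map V'.subtype, W'.map V'.subtype, isCompl_sup_left hZV hsup hinf, ?_,
            map_subtype_invariant N hV'mem W' hW'N, ?_⟩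
          · rw [Submodule.map_sup]
            exact sup_le_sup hZN (map_subtype_invariant N hV'mem U' hU'N)
          · rw [finrank_sup_of_le hZV (Submodule.map_subtype_le V' U'),
              Submodule.finrank_map_subtype_eq, hU'd]
            have := Multiset.sum_erase haν
            omega
        · have hν' : ν ≤ μ' := (Multiset.le_cons_of_notMem haν).1 hν
          obtain ⟨U', W', hUW, hU'N, hW'N, hU'd⟩ := hμ'3 _ hν'
          have hsup : U'.map V'.subtype ⊔ W'.map V'.subtype = V' := by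
            rw [← Submodule.map_sup, hUW.sup_eq_top, Submodule.map_subtype_top]
          have hinf : U'.map V'.subtype ⊓ W'.map V'.subtype = ⊥ := by
            rw [← Submodule.map_inf _ V'.injective_subtype, hUW.inf_eq_bot, Submodule.map_bot]
          refine ⟨U'.map V'.subtype, Z ⊔ W'.map V'.subtype, isCompl_sup_right hZV hsup hinf,
            map_subtype_invariant N hV'mem U' hU'N, ?_, ?_⟩
          · rw [Submodule.map_sup]
            exact sup_le_sup hZN (map_subtype_invariant N hV'mem W' hW'N)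
          · rw [Submodule.finrank_map_subtype_eq, hU'd]
    · rw [not_nontrivial_iff_subsingleton] at hV
      refine ⟨0, by simp, ?_, ?_⟩
      · rw [Multiset.sum_zero]
        exact (Module.finrank_zero_of_subsingleton).symm
      · intro ν hν
        have hν0 : ν = 0 := le_bot_iff.1 hν
        refine ⟨⊥, ⊤, isCompl_bot_top, ?_, le_top, ?_⟩
        · rw [Submodule.map_bot]
        · rw [hν0, Multiset.sum_zero, finrank_bot]

end JEXIST

/-- J-EXIST (uses J-SPLIT) -/
theorem exists_jordan_type {F V : Type*} [Field F] [AddCommGroup V] [Module F V]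
    [FiniteDimensional F V] (N : Module.End F V) (B : ℕ) (hN : N ^ B = 0) :
    ∃ μ : Multiset ℕ, (∀ a ∈ μ, 0 < a ∧ a ≤ B) ∧ μ.sum = Module.finrank F V ∧
      ∀ ν : Multiset ℕ, ν ≤ μ → ∃ U W : Submodule F V, IsCompl U W ∧ U.map N ≤ U ∧
        W.map N ≤ W ∧ Module.finrank F U = ν.sum :=
  JEXIST.main B _ V N hN rfl

end JT

end Cfsg.Agent.S5949P
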