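import Mathlib
import Cfsg.Agent.Helper25.S5949GAUSS

set_option autoImplicit false

/-! # S5951, piece F-COUNT: counting the flags `U ≤ W` by fibring over `W` -/

namespace Cfsg.Agent.S5949P

open Polynomial

namespace FCOUNT

variable {F : Type*} [Field F] {V : Type*} [AddCommGroup V] [Module F V]

/-- flags `U ≤ W` of dimensions `a`, `b` versus pairs (`W`, subspace of `W`) -/
def flagEquiv (a b : ℕ) :
    {P : Submodule F V × Submodule F V //
        P.1 ≤ P.2 ∧ Module.finrank F ↥P.1 = a ∧ Module.finrank F ↥P.2 = b} ≃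
    Σ W : {W : Submodule F V // Module.finrank F ↥W = b},
      {U : Submodule F ↥W.1 // Module.finrank F ↥U = a} where
  toFun P := ⟨⟨P.1.2, P.2.2.2⟩, ⟨P.1.1.comap P.1.2.subtype, by
    rw [(Submodule.comapSubtypeEquivOfLe P.2.1).finrank_eq]
    exact P.2.2.1⟩⟩
  invFun S := ⟨(S.2.1.map S.1.1.subtype, S.1.1), Submodule.map_subtype_le _ _, by
    show Module.finrank F ↥(S.2.1.map S.1.1.subtype) = a
    rw [Submodule.finrank_map_subtype_eq]
    exact S.2.2, S.1.2⟩
  left_inv P := by
    apply Subtype.ext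
    apply Prod.ext
    · show (P.1.1.comap P.1.2.subtype).map P.1.2.subtype = P.1.1
      rw [Submodule.map_comap_subtype]
      exact inf_eq_right.2 P.2.1
    · rfl
  right_inv S := by
    obtain ⟨⟨W, hW⟩, ⟨U, hU⟩⟩ := S
    refine Sigma.ext rfl (heq_of_eq (Subtype.ext ?_))
    show (U.map W.subtype).comap W.subtype = U
    exact Submodule.comap_map_eq_of_injective W.injective_subtype U

end FCOUNT

open FCOUNT GAUSSaux

/-- F-COUNT (uses GAUSSaux.gauss_count_gen) -/
theorem flag_count {F : Type*} [Field F] [Fintype F] (n m : ℕ) (hmn : 2 * m ≤ n) :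
    Nat.card {P : Submodule F (Fin n → F) × Submodule F (Fin n → F) //
        P.1 ≤ P.2 ∧ Module.finrank F ↥P.1 = m ∧ Module.finrank F ↥P.2 = n - m} *
      ∏ j : Fin m, (Fintype.card F ^ m - Fintype.card F ^ (j : ℕ)) =
    Nat.card {W : Submodule F (Fin n → F) // Module.finrank F ↥W = n - m} *
      ∏ j : Fin m, (Fintype.card F ^ (n - m) - Fintype.card F ^ (j : ℕ)) := by
  classical
  haveI : Finite {W : Submodule F (Fin n → F) // Module.finrank F ↥W = n - m} :=
    Subtype.finite
  haveI : Fintype {W : Submodule F (Fin n → F) // Module.finrank F ↥W = n - m} :=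
    Fintype.ofFinite _
  rw [Nat.card_congr (flagEquiv (F := F) (V := Fin n → F) m (n - m)), Nat.card_sigma,
    Finset.sum_mul]
  have h1 : ∀ W : {W : Submodule F (Fin n → F) // Module.finrank F ↥W = n - m},
      Nat.card {U : Submodule F ↥W.1 // Module.finrank F ↥U = m} *
        ∏ j : Fin m, (Fintype.card F ^ m - Fintype.card F ^ (j : ℕ)) =
      ∏ j : Fin m, (Fintype.card F ^ (n - m) - Fintype.card F ^ (j : ℕ)) := by
    intro W
    have h2 := gauss_count_gen (F := F) (V := ↥W.1) m (by rw [W.2]; omega)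
    rw [W.2] at h2
    exact h2
  rw [Finset.sum_congr rfl (fun W _ => h1 W), Finset.sum_const, Finset.card_univ,
    Nat.card_eq_fintype_card, smul_eq_mul]

end Cfsg.Agent.S5949P
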