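import Mathlib
import Cfsg.Agent.Helper25.S5949GAUSS
import Cfsg.Agent.Helper3.S5949NT1
import Cfsg.Agent.Helper6.S5951COUNT
import Cfsg.Agent.Helper15.S5951SYMM

set_option autoImplicit false

/-! # S5951, piece F-NT1: a prime dividing the number of flags -/

namespace Cfsg.Agent.S5949P

open Polynomial

namespace FNT1

/-- the flag count with the powers of `q` cancelled -/
theorem flag_cancelled {F : Type*} [Field F] [Fintype F] (n m : ℕ) (hmn : 2 * m ≤ n) :
    Nat.card {P : Submodule F (Fin n → F) × Submodule F (Fin n → F) //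
        P.1 ≤ P.2 ∧ Module.finrank F ↥P.1 = m ∧ Module.finrank F ↥P.2 = n - m} *
      ∏ j : Fin m, (Fintype.card F ^ (m - (j : ℕ)) - 1) =
    Nat.card {W : Submodule F (Fin n → F) // Module.finrank F ↥W = m} *
      ∏ j : Fin m, (Fintype.card F ^ (n - m - (j : ℕ)) - 1) := by
  have hq : 0 < Fintype.card F := Fintype.card_pos
  have h := flag_count (F := F) n m hmn
  rw [card_subspaces_symm (F := F) n m (by omega)] at h
  have key : ∀ (N : ℕ), m ≤ N → ∏ j : Fin m, (Fintype.card F ^ N - Fintype.card F ^ (j : ℕ)) =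
      (∏ j : Fin m, Fintype.card F ^ (j : ℕ)) *
        ∏ j : Fin m, (Fintype.card F ^ (N - (j : ℕ)) - 1) := by
    intro N hN
    rw [← Finset.prod_mul_distrib]
    apply Finset.prod_congr rfl
    intro j _
    have hj : (j : ℕ) ≤ N := le_trans (le_of_lt j.2) hN
    rw [Nat.mul_sub, mul_one, ← pow_add, Nat.add_sub_cancel' hj]
  rw [key (n - m) (by omega), key m le_rfl] at h
  have hpos : 0 < ∏ j : Fin m, Fintype.card F ^ (j : ℕ) :=
    Finset.prod_pos fun j _ => pow_pos hq _
  apply Nat.eq_of_mul_eq_mul_left hpos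
  calc (∏ j : Fin m, Fintype.card F ^ (j : ℕ)) * (_ * _) = _ := by ring
    _ = _ := h
    _ = _ := by ring

end FNT1

open FNT1

/-- F-NT1 (uses F-COUNT, F-SYMM, GAUSS / NT1) -/
theorem nt_of_dvd_card_flags {F : Type*} [Field F] [Fintype F] {p : ℕ} [Fact p.Prime] [CharP F p]
    (n m : ℕ) (hm : 1 ≤ m) (hmn : 2 * m ≤ n) (r : ℕ) [Fact r.Prime]
    (hr : r ∣ Nat.card {P : Submodule F (Fin n → F) × Submodule F (Fin n → F) //
        P.1 ≤ P.2 ∧ Module.finrank F ↥P.1 = m ∧ Module.finrank F ↥P.2 = n - m}) :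
    r ≠ p ∧ ((∃ k, n - m < k ∧ k ≤ n ∧ orderOf ((Fintype.card F : ℕ) : ZMod r) ∣ k) ∨
      (∃ k, n - 2 * m < k ∧ k ≤ n - m ∧ orderOf ((Fintype.card F : ℕ) : ZMod r) ∣ k)) := by
  have hrp : r.Prime := Fact.out
  have hq : 0 < Fintype.card F := Fintype.card_pos
  have h := flag_cancelled (F := F) n m hmn
  have hmn' : m ≤ n := by omega
  constructor
  · rintro rfl
    obtain ⟨f, -, hf⟩ := FiniteField.card F r
    have hq0 : ((Fintype.card F : ℕ) : ZMod r) = 0 := by
      rw [ZMod.natCast_eq_zero_iff, hf]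
      exact dvd_pow_self r f.ne_zero
    have hcast : ∀ k : ℕ, 1 ≤ k → (((Fintype.card F ^ k - 1 : ℕ)) : ZMod r) = -1 := by
      intro k hk
      rw [Nat.cast_sub (Nat.one_le_pow _ _ hq), Nat.cast_pow, hq0, zero_pow (by omega)]
      simp
    have h' := congrArg (fun x : ℕ => (x : ZMod r)) h
    simp only [Nat.cast_mul, Nat.cast_prod] at h'
    have e2 : ∏ i : Fin m, ((Fintype.card F ^ (n - m - (i : ℕ)) - 1 : ℕ) : ZMod r) =
        ∏ _i : Fin m, (-1 : ZMod r) :=
      Finset.prod_congr rfl (fun j _ => hcast (n - m - (j : ℕ)) (by have := j.2; omega))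
    rw [e2, (ZMod.natCast_eq_zero_iff _ _).mpr hr, zero_mul] at h'
    simp only [Finset.prod_const, Finset.card_univ, Fintype.card_fin] at h'
    -- so `r ∣ N(n,m)`
    have hN : ((Nat.card {W : Submodule F (Fin n → F) // Module.finrank F ↥W = m} : ℕ) :
        ZMod r) = 0 := by
      have h2 : ((-1 : ZMod r) ^ m) * ((-1 : ZMod r) ^ m) = 1 := by
        rw [← mul_pow]; simp
      calc ((Nat.card {W : Submodule F (Fin n → F) // Module.finrank F ↥W = m} : ℕ) : ZMod r)
          = ((Nat.card {W : Submodule F (Fin n → F) // Module.finrank F ↥W = m} : ℕ) : ZMod r) *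
            (((-1 : ZMod r) ^ m) * ((-1 : ZMod r) ^ m)) := by rw [h2, mul_one]
        _ = (((Nat.card {W : Submodule F (Fin n → F) // Module.finrank F ↥W = m} : ℕ) : ZMod r) *
            ((-1 : ZMod r) ^ m)) * ((-1 : ZMod r) ^ m) := by ring
        _ = 0 := by rw [← h', zero_mul]
    have hdvd : r ∣ Nat.card {W : Submodule F (Fin n → F) // Module.finrank F ↥W = m} :=
      (ZMod.natCast_eq_zero_iff _ _).mp hN
    exact (nt_of_dvd_card (F := F) (p := r) n m hm hmn' r hdvd).1 rfl
  · have hdvd : r ∣ Nat.card {W : Submodule F (Fin n → F) // Module.finrank F ↥W = m} *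
        ∏ j : Fin m, (Fintype.card F ^ (n - m - (j : ℕ)) - 1) := by
      rw [← h]; exact dvd_mul_of_dvd_left hr _
    rcases (Nat.Prime.dvd_mul hrp).1 hdvd with h1 | h1
    · left
      exact (nt_of_dvd_card (F := F) (p := p) n m hm hmn' r h1).2
    · right
      obtain ⟨j, -, hj⟩ := (Prime.dvd_finsetProd_iff hrp.prime _).mp h1
      refine ⟨n - m - (j : ℕ), by have := j.2; omega, Nat.sub_le _ _, ?_⟩
      apply orderOf_dvd_of_pow_eq_one
      have h3 := (ZMod.natCast_eq_zero_iff _ _).mpr hj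
      rw [Nat.cast_sub (Nat.one_le_pow _ _ hq), Nat.cast_pow, Nat.cast_one, sub_eq_zero] at h3
      exact h3

end Cfsg.Agent.S5949P
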