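import Mathlib
import Cfsg.Prelude.Def_GeometricClasses
import Cfsg.Prelude.Def_Classical
import Cfsg.Prelude.Def_LieClassical
import Cfsg.Agent.Helper16.S5974Defs
import Cfsg.Agent.Helper6.S5974CARDOQ
import Cfsg.Agent.Helper15.S5974TYPESUMQ
import Cfsg.Agent.Helper29.S5989STABDVD
import Cfsg.Agent.Helper13.S5973HYPISO
import Cfsg.Agent.Helper13.S5973HCANCEL

/-! S5974 / S5988 / S5990 piece STABDVDQ (helper6): the isometry group of the orthogonal complement
of a nondegenerate even-dimensional subspace `W₀` of type `θ` has order `ordO (ε == θ) q (d - s)` and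
embeds in the stabilizer of `W₀`; every characteristic. -/

set_option autoImplicit false
open scoped MatrixGroups
universe u

namespace Cfsg.Agent.S5974P

open Module Cfsg.Agent.S5973P Cfsg.Agent.Helper2.SympInvol Cfsg.Agent.Helper2.SympUnits
  Cfsg.Agent.S5961P
open Cfsg.Agent.S5992P (PB Plus IsTy TS)
open Cfsg.Agent.S5989P (stabW ordO epsFac R2cond)

namespace STABDVDQ

open Cfsg.Agent.S5989P.STABDVD

/-- the isometry group of the orthogonal complement embeds in the stabilizer -/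
theorem card_dvd_stab_of_compl {F : Type*} [Field F] [Fintype F] {ι κ : Type} [Fintype ι]
    [DecidableEq ι] [Fintype κ] [DecidableEq κ] (Q : QuadraticForm F (ι → F))
    (W₀ U : Submodule F (ι → F)) (hWU : Orth (PB Q) W₀ U) (hcompl : IsCompl W₀ U)
    (θ : U ≃ₗ[F] (κ → F)) (Q'' : QuadraticForm F (κ → F))
    (hθ : ∀ b : κ → F, Q ((θ.symm b : U) : ι → F) = Q'' b) :
    Nat.card ↥(Cfsg.isometryGroup F ⇑Q'') ∣ Nat.card ↥(stabW Q W₀) := by
  classical
  let bW : W₀ ≃ₗ[F] (Fin (finrank F W₀) → F) := (Module.finBasis F W₀).equivFun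
  let Φ : (Fin (finrank F W₀) ⊕ κ → F) ≃ₗ[F] (ι → F) :=
    (LinearEquiv.sumArrowLequivProdArrow (Fin (finrank F W₀)) κ F F).trans
      ((bW.symm.prodCongr θ.symm).trans (Submodule.prodEquivOfIsCompl W₀ U hcompl))
  have hΦ : ∀ (a : Fin (finrank F W₀) → F) (b : κ → F),
      Φ (Sum.elim a b) = ((bW.symm a : W₀) : ι → F) + ((θ.symm b : U) : ι → F) := by
    intro a b
    rfl
  have hsurj : ∀ v : ι → F, ∃ a b, v = Φ (Sum.elim a b) := by
    intro v
    refine ⟨(Φ.symm v) ∘ Sum.inl, (Φ.symm v) ∘ Sum.inr, ?_⟩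
    have : Sum.elim ((Φ.symm v) ∘ Sum.inl) ((Φ.symm v) ∘ Sum.inr) = Φ.symm v := by
      funext s; rcases s with s | s <;> rfl
    rw [this, LinearEquiv.apply_symm_apply]
  have hQΦ : ∀ (a : Fin (finrank F W₀) → F) (b : κ → F),
      Q (Φ (Sum.elim a b)) = Q ((bW.symm a : W₀) : ι → F) + Q'' b := by
    intro a b
    rw [hΦ, ← hθ]
    have horth : QuadraticMap.polar (⇑Q) ((bW.symm a : W₀) : ι → F) ((θ.symm b : U) : ι → F) = 0 :=
      hWU _ (bW.symm a).2 _ (θ.symm b).2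
    have := horth
    unfold QuadraticMap.polar at this
    linear_combination this
  obtain ⟨ρ, hρinj, hρ⟩ := Cfsg.Agent.S5975P.exists_restrict_hom (F := F) (L := F) Φ
  let ψ : GL κ F →* GL ι F :=
    ρ.comp (Units.map (blockHom (F := F) (Fin (finrank F W₀)) κ))
  have hψinj : Function.Injective ψ :=
    hρinj.comp (Units.map_injective (blockHom_injective _ _))
  have hψ : ∀ (g : GL κ F) (a : Fin (finrank F W₀) → F) (b : κ → F),
      ((ψ g : GL ι F) : Matrix ι ι F).mulVec (Φ (Sum.elim a b)) =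
        Φ (Sum.elim a ((g : Matrix _ _ F).mulVec b)) := by
    intro g a b
    show ((ρ _ : GL ι F) : Matrix ι ι F).mulVec _ = _
    rw [hρ, Units.coe_map]
    show Φ ((blockMat (g : Matrix _ _ F)).mulVec (Sum.elim a b)) = _
    rw [blockMat_mulVec]
  -- isometries
  have hiso : ∀ g : GL κ F, g ∈ Cfsg.isometryGroup F ⇑Q'' →
      ψ g ∈ Cfsg.isometryGroup F ⇑Q := by
    intro g hg
    rw [Cfsg.Agent.Helper28.IsoTransport.mem_isometryGroup_iff] at hg ⊢
    intro v
    obtain ⟨a, b, rfl⟩ := hsurj v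
    rw [hψ, hQΦ, hQΦ, hg]
  have hfix : ∀ (g : GL κ F) (w : ι → F), w ∈ W₀ →
      ((ψ g : GL ι F) : Matrix ι ι F).mulVec w = w := by
    intro g w hw
    have hw' : w = Φ (Sum.elim (bW ⟨w, hw⟩) 0) := by
      rw [hΦ, LinearEquiv.symm_apply_apply, map_zero]
      simp
    rw [hw', hψ, Matrix.mulVec_zero]
  let ψ₁ : ↥(Cfsg.isometryGroup F ⇑Q'') →* ↥(Cfsg.isometryGroup F ⇑Q) :=
    (ψ.comp (Subgroup.subtype _)).codRestrict (Cfsg.isometryGroup F ⇑Q) (fun g => hiso g g.2)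
  have hψ₁ : ∀ g, ((ψ₁ g : ↥(Cfsg.isometryGroup F ⇑Q)) : GL ι F) = ψ g := fun g => rfl
  let ψ₂ : ↥(Cfsg.isometryGroup F ⇑Q'') →* ↥(stabW Q W₀) :=
    ψ₁.codRestrict (stabW Q W₀) (fun g => by
      rw [Cfsg.Agent.S5989P.mem_stabW, hψ₁]
      ext x
      constructor
      · rintro ⟨w, hw, rfl⟩
        rw [Matrix.toLin'_apply, hfix g w hw]
        exact hw
      · intro hx
        exact ⟨x, hx, by rw [Matrix.toLin'_apply, hfix g x hx]⟩)
  have hinj₂ : Function.Injective ψ₂ := by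
    intro g h hgh
    have h1 : (ψ₁ g : ↥(Cfsg.isometryGroup F ⇑Q)) = ψ₁ h := congrArg Subtype.val hgh
    have h2 : ψ (g : GL _ F) = ψ (h : GL _ F) := congrArg Subtype.val h1
    exact Subtype.ext (hψinj h2)
  exact Subgroup.card_dvd_of_injective ψ₂ hinj₂

end STABDVDQ

/-- STABDVDQ -/
theorem card_compl_dvd_stab {F : Type*} [Field F] [Fintype F] {q : ℕ}
    (hq : Fintype.card F = q) {ι : Type} [Fintype ι] [DecidableEq ι]
    (Q : QuadraticForm F (ι → F)) (hQ : ND Q) (d : ℕ) (hι : Fintype.card ι = 2 * d) (ε : Bool)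
    (hε : IsHyp Q ↔ ε = true) (θ : Bool) (s : ℕ) (hs : s + 1 ≤ d)
    (W₀ : Submodule F (ι → F)) (hW₀ : IsTy Q θ (2 * s) W₀) :
    ordO (ε == θ) q (d - s) ∣ Nat.card ↥(stabW Q W₀) := by
  classical
  obtain ⟨hdimW, hndW, htyW⟩ := hW₀
  have hndtop : Nondeg (PB Q) ⊤ := nondeg_top_of_nd Q hQ
  obtain ⟨U, -, hU, hWU, hsup, hdisj, hfin, -⟩ :=
    Cfsg.Agent.S5992P.orth_compl_sym Q ⊤ W₀ le_top hndtop hndW
  have hcompl : IsCompl W₀ U := ⟨hdisj, codisjoint_iff.mpr hsup⟩
  have hfinU : finrank F U = 2 * (d - s) := by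
    rw [finrank_top, Module.finrank_fintype_fun_eq_card] at hfin
    omega
  -- the type of `U`
  have htyU : Plus Q U ↔ (ε == θ) = true := by
    have h1 := plus_sup_iff_q Q W₀ U hndW hU hWU (by rw [hdimW]; exact ⟨s, by ring⟩)
      (by rw [hfinU]; exact ⟨d - s, by ring⟩)
    rw [hsup, ← isHyp_iff_plus_top, hε, htyW] at h1
    generalize Plus Q U = P at h1 ⊢
    cases ε <;> cases θ <;> simp at h1 ⊢ <;> tauto
  -- coordinates on `U`
  let e₀ : U ≃ₗ[F] (Fin (2 * (d - s)) → F) := (Module.finBasisOfFinrankEq F U hfinU).equivFun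
  let Q'' : QuadraticForm F (Fin (2 * (d - s)) → F) := Q.comp (U.subtype ∘ₗ e₀.symm.toLinearMap)
  have hQ'' : ∀ b, Q ((e₀.symm b : U) : ι → F) = Q'' b := fun b => rfl
  have hpol : ∀ b c, QuadraticMap.polar Q'' b c =
      QuadraticMap.polar Q ((e₀.symm b : U) : ι → F) ((e₀.symm c : U) : ι → F) := by
    intro b c
    unfold QuadraticMap.polar
    rw [← hQ'', ← hQ'', ← hQ'', map_add, Submodule.coe_add]
  have hndQ'' : ND Q'' := by
    apply HCANCEL.nd_of_left
    intro b hb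
    by_contra hb0
    have hne : ((e₀.symm b : U) : ι → F) ≠ 0 := by
      intro h
      apply hb0
      have : e₀.symm b = 0 := Subtype.ext h
      simpa using this
    obtain ⟨v, hv, hv0⟩ := hU _ (e₀.symm b).2 hne
    apply hv0
    have := hb (e₀ ⟨v, hv⟩)
    rw [hpol, LinearEquiv.symm_apply_apply] at this
    exact this
  have hhypQ'' : IsHyp Q'' ↔ (ε == θ) = true := by
    rw [← htyU, ← isHyp_resQ_iff]
    symm
    apply isHyp_of_isometry (resQ Q U) Q'' e₀
    intro v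
    rw [← hQ'', LinearEquiv.symm_apply_apply, resQ_apply]
  have hcard := card_isometryGroup_of_type hq Q'' hndQ'' (d - s) (by omega)
    (by rw [Fintype.card_fin]) (ε == θ) hhypQ''
  rw [← hcard]
  exact STABDVDQ.card_dvd_stab_of_compl Q W₀ U hWU hcompl e₀ Q'' hQ''

end Cfsg.Agent.S5974P
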