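import Mathlib
import Cfsg.Prelude.Def_GeometricClasses

set_option autoImplicit false
open scoped MatrixGroups Kronecker TensorProduct

/-! S5979 piece LINKB: a basis in which `x` is a Kronecker product, together with centralizer elements
of every determinant, gives a conjugate of `x` by a matrix of determinant one in the tensor product
subgroup. -/

namespace Cfsg.Agent.S5979P

/-- LINKB: a basis in which `x` is a Kronecker product, and centralizer elements of every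
determinant, give a conjugate of `x` by a matrix of determinant one in the tensor product subgroup -/
theorem mem_tensor_of_basis {F : Type*} [Field F] (n a b : ℕ) (e : Fin n ≃ Fin a × Fin b)
    (P x : GL (Fin n) F) (β : Module.Basis (Fin a × Fin b) F (Fin n → F))
    (A : GL (Fin a) F) (B : GL (Fin b) F)
    (hβ : LinearMap.toMatrix β β (Matrix.toLin' (x : Matrix (Fin n) (Fin n) F)) =
      (A : Matrix (Fin a) (Fin a) F) ⊗ₖ (B : Matrix (Fin b) (Fin b) F))
    (hcent : ∀ δ : F, δ ≠ 0 → ∃ C : Module.End F (Fin n → F),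
      C * Matrix.toLin' (x : Matrix (Fin n) (Fin n) F) =
        Matrix.toLin' (x : Matrix (Fin n) (Fin n) F) * C ∧ LinearMap.det C = δ) :
    ∃ g ∈ Cfsg.Geo.specialLinear (Fin n) F, g⁻¹ * x * g ∈ Cfsg.Geo.tensorProductSubgroup a b e P := by
  classical
  -- the Kronecker product as an element of `GL`
  have hK1 : ((A : Matrix (Fin a) (Fin a) F) ⊗ₖ (B : Matrix (Fin b) (Fin b) F)) *
      (((A⁻¹ : GL (Fin a) F) : Matrix (Fin a) (Fin a) F) ⊗ₖ
        ((B⁻¹ : GL (Fin b) F) : Matrix (Fin b) (Fin b) F)) = 1 := by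
    rw [← Matrix.mul_kronecker_mul, ← Units.val_mul, ← Units.val_mul, mul_inv_cancel,
      mul_inv_cancel]
    simp
  have hK2 : (((A⁻¹ : GL (Fin a) F) : Matrix (Fin a) (Fin a) F) ⊗ₖ
        ((B⁻¹ : GL (Fin b) F) : Matrix (Fin b) (Fin b) F)) *
      ((A : Matrix (Fin a) (Fin a) F) ⊗ₖ (B : Matrix (Fin b) (Fin b) F)) = 1 := by
    rw [← Matrix.mul_kronecker_mul, ← Units.val_mul, ← Units.val_mul, inv_mul_cancel,
      inv_mul_cancel]
    simp
  obtain ⟨K, hK⟩ : ∃ K : GL (Fin a × Fin b) F, (K : Matrix (Fin a × Fin b) (Fin a × Fin b) F) =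
      (A : Matrix (Fin a) (Fin a) F) ⊗ₖ (B : Matrix (Fin b) (Fin b) F) := ⟨⟨_, _, hK1, hK2⟩, rfl⟩
  have hKmem : K ∈ Cfsg.Geo.kroneckerSubgroup a b F := ⟨A, B, hK⟩
  obtain ⟨Mg, hMgdef⟩ : ∃ Mg : GL (Fin n) F, Mg = Cfsg.Geo.glReindex e.symm K := ⟨_, rfl⟩
  have hMg : ∀ k k', (Mg : Matrix (Fin n) (Fin n) F) k k' =
      ((A : Matrix (Fin a) (Fin a) F) ⊗ₖ (B : Matrix (Fin b) (Fin b) F)) (e k) (e k') := by
    intro k k'
    rw [hMgdef, ← hK]
    rfl
  -- the change of basis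
  obtain ⟨β', hβ'⟩ : ∃ β' : Module.Basis (Fin n) F (Fin n → F), β' = β.reindex e.symm := ⟨_, rfl⟩
  have hQ1 : (Pi.basisFun F (Fin n)).toMatrix β' * β'.toMatrix (Pi.basisFun F (Fin n)) = 1 :=
    Module.Basis.toMatrix_mul_toMatrix_flip _ _
  have hQ2 : β'.toMatrix (Pi.basisFun F (Fin n)) * (Pi.basisFun F (Fin n)).toMatrix β' = 1 :=
    Module.Basis.toMatrix_mul_toMatrix_flip _ _
  obtain ⟨Q0, hQ0, hQ0i⟩ : ∃ Q0 : GL (Fin n) F,
      (Q0 : Matrix (Fin n) (Fin n) F) = (Pi.basisFun F (Fin n)).toMatrix β' ∧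
      ((Q0⁻¹ : GL (Fin n) F) : Matrix (Fin n) (Fin n) F) =
        β'.toMatrix (Pi.basisFun F (Fin n)) := ⟨⟨_, _, hQ1, hQ2⟩, rfl, rfl⟩
  have hM' : LinearMap.toMatrix β' β' (Matrix.toLin' (x : Matrix (Fin n) (Fin n) F)) =
      (Mg : Matrix (Fin n) (Fin n) F) := by
    ext k k'
    rw [LinearMap.toMatrix_apply, hMg, hβ', Module.Basis.repr_reindex_apply,
      Module.Basis.reindex_apply, Equiv.symm_symm, ← hβ, LinearMap.toMatrix_apply]
  have hx : x = Q0 * Mg * Q0⁻¹ := by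
    apply Units.ext
    rw [Units.val_mul, Units.val_mul, hQ0, hQ0i, ← hM',
      basis_toMatrix_mul_linearMap_toMatrix_mul_basis_toMatrix, LinearMap.toMatrix_eq_toMatrix',
      LinearMap.toMatrix'_toLin']
  -- the centralizer element
  have hdQ : ((Q0 : Matrix (Fin n) (Fin n) F)).det ≠ 0 := by
    intro h0
    have h1 : ((Q0 : Matrix (Fin n) (Fin n) F) *
        ((Q0⁻¹ : GL (Fin n) F) : Matrix (Fin n) (Fin n) F)).det = 1 := by
      rw [← Units.val_mul, mul_inv_cancel]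
      simp
    rw [Matrix.det_mul, h0, zero_mul] at h1
    exact zero_ne_one h1
  have hdP : ((P : Matrix (Fin n) (Fin n) F)).det ≠ 0 := by
    intro h0
    have h1 : ((P : Matrix (Fin n) (Fin n) F) *
        ((P⁻¹ : GL (Fin n) F) : Matrix (Fin n) (Fin n) F)).det = 1 := by
      rw [← Units.val_mul, mul_inv_cancel]
      simp
    rw [Matrix.det_mul, h0, zero_mul] at h1
    exact zero_ne_one h1
  have hδ : ((P : Matrix (Fin n) (Fin n) F)).det * ((Q0 : Matrix (Fin n) (Fin n) F)).det⁻¹ ≠ 0 :=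
    mul_ne_zero hdP (inv_ne_zero hdQ)
  obtain ⟨C, hC, hdetC⟩ := hcent _ hδ
  have hdetCm : (LinearMap.toMatrix' C).det =
      ((P : Matrix (Fin n) (Fin n) F)).det * ((Q0 : Matrix (Fin n) (Fin n) F)).det⁻¹ := by
    rw [LinearMap.det_toMatrix', hdetC]
  have hCm : LinearMap.toMatrix' C * (x : Matrix (Fin n) (Fin n) F) =
      (x : Matrix (Fin n) (Fin n) F) * LinearMap.toMatrix' C := by
    have h1 := congrArg LinearMap.toMatrix' hC
    rw [LinearMap.toMatrix'_mul, LinearMap.toMatrix'_mul, LinearMap.toMatrix'_toLin'] at h1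
    exact h1
  obtain ⟨Cg, hCg⟩ : ∃ Cg : GL (Fin n) F,
      (Cg : Matrix (Fin n) (Fin n) F) = LinearMap.toMatrix' C :=
    ⟨Matrix.GeneralLinearGroup.mkOfDetNeZero _ (by rw [hdetCm]; exact hδ), rfl⟩
  have hCgx : Cg * x = x * Cg := by
    apply Units.ext
    rw [Units.val_mul, Units.val_mul, hCg, hCm]
  have hconj : Cg⁻¹ * x * Cg = x := by
    rw [mul_assoc, ← hCgx, ← mul_assoc, inv_mul_cancel, one_mul]
  refine ⟨Cg * Q0 * P⁻¹, ?_, ?_⟩
  · rw [Cfsg.Geo.specialLinear, MonoidHom.mem_ker]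
    apply Units.ext
    rw [Matrix.GeneralLinearGroup.val_det_apply, Units.val_mul, Units.val_mul, Matrix.det_mul,
      Matrix.det_mul, hCg, hdetCm]
    have h1 : ((P : Matrix (Fin n) (Fin n) F) *
        ((P⁻¹ : GL (Fin n) F) : Matrix (Fin n) (Fin n) F)).det = 1 := by
      rw [← Units.val_mul, mul_inv_cancel]
      simp
    rw [Matrix.det_mul] at h1
    have h2 : ((P⁻¹ : GL (Fin n) F) : Matrix (Fin n) (Fin n) F).det =
        ((P : Matrix (Fin n) (Fin n) F)).det⁻¹ := eq_inv_of_mul_eq_one_right h1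
    rw [h2]
    simp only [Units.val_one]
    field_simp
  · have h1 : (Cg * Q0 * P⁻¹)⁻¹ * x * (Cg * Q0 * P⁻¹) =
        P * (Q0⁻¹ * (Cg⁻¹ * x * Cg) * Q0) * P⁻¹ := by group
    rw [h1, hconj, hx]
    have h2 : Q0⁻¹ * (Q0 * Mg * Q0⁻¹) * Q0 = Mg := by group
    rw [h2]
    rw [Cfsg.Geo.tensorProductSubgroup]
    refine Subgroup.mem_map.mpr ⟨Mg, Subgroup.mem_map.mpr ⟨K, hKmem, hMgdef.symm⟩, ?_⟩
    rfl

end Cfsg.Agent.S5979P
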