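import Mathlib
import Cfsg.Prelude.Def_GeometricClasses
import Cfsg.Agent.Helper21.S5958FREE
import Cfsg.Agent.Helper6.S5965CENTDET

set_option autoImplicit false
open scoped MatrixGroups Kronecker TensorProduct

/-! S5979 piece TYPE2: `f ^ 2 = z • 1` with `z` a non-square: in the basis `f ^ i (w j)` the matrix of `f`
is `!![0, z; 1, 0] ⊗ₖ 1`, and `f` commutes with endomorphisms of every determinant. -/

namespace Cfsg.Agent.S5979P

open Polynomial

/-- TYPE2: `f ^ 2 = z`, `z` not a square -/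
theorem type_two {F V : Type*} [Field F] [Fintype F] [AddCommGroup V] [Module F V]
    [FiniteDimensional F V] (h2 : (2 : F) ≠ 0) (f : Module.End F V) (z : F)
    (hz : ∀ d : F, d ^ 2 ≠ z) (hf : f ^ 2 = z • (1 : Module.End F V)) (b : ℕ) (hb : 1 ≤ b)
    (hV : Module.finrank F V = 2 * b) :
    ∃ (β : Module.Basis (Fin 2 × Fin b) F V) (A : GL (Fin 2) F) (B : GL (Fin b) F),
      LinearMap.toMatrix β β f = (A : Matrix (Fin 2) (Fin 2) F) ⊗ₖ (B : Matrix (Fin b) (Fin b) F) ∧
      ∀ δ : F, δ ≠ 0 → ∃ C : Module.End F V, C * f = f * C ∧ LinearMap.det C = δ := by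
  have hz0 : z ≠ 0 := by
    intro h
    exact hz 0 (by rw [h]; ring)
  have hirr : Irreducible (X ^ 2 - C z : F[X]) :=
    X_pow_sub_C_irreducible_of_prime Nat.prime_two hz
  have hgf : aeval f (X ^ 2 - C z : F[X]) = 0 := by
    rw [map_sub, map_pow, aeval_X, aeval_C, hf, Algebra.algebraMap_eq_smul_one, sub_self]
  obtain ⟨s, bb, w, hbw⟩ := Cfsg.Agent.S5958P.free_of_irreducible f _ hirr hgf
  have hdeg : (X ^ 2 - C z : F[X]).natDegree = 2 := natDegree_X_pow_sub_C
  have hs : s = b := by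
    have h1 := Module.finrank_eq_card_basis bb
    rw [Fintype.card_prod, Fintype.card_fin, Fintype.card_fin, hdeg, hV] at h1
    omega
  subst hs
  obtain ⟨β, hβ⟩ : ∃ β : Module.Basis (Fin 2 × Fin s) F V,
      ∀ (i : Fin 2) (j : Fin s), β (i, j) = (f ^ (i : ℕ)) (w j) := by
    refine ⟨bb.reindex ((finCongr hdeg).prodCongr (Equiv.refl _)), ?_⟩
    intro i j
    rw [Module.Basis.reindex_apply]
    simp only [Equiv.prodCongr_symm, Equiv.prodCongr_apply, Equiv.refl_symm]
    rw [hbw]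
    rfl
  have h0 : ∀ j, f (β (0, j)) = β (1, j) := by
    intro j
    rw [hβ, hβ]
    simp
  have h1 : ∀ j, f (β (1, j)) = z • β (0, j) := by
    intro j
    rw [hβ, hβ]
    have : f ((f ^ ((1 : Fin 2) : ℕ)) (w j)) = (f ^ 2) (w j) := by
      simp [pow_two]
    rw [this, hf]
    simp
  have hdetA : (!![0, z; 1, 0] : Matrix (Fin 2) (Fin 2) F).det ≠ 0 := by
    rw [Matrix.det_fin_two_of]
    simpa using hz0
  refine ⟨β, Matrix.GeneralLinearGroup.mkOfDetNeZero _ hdetA, 1, ?_, ?_⟩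
  · ext ⟨i', j'⟩ ⟨i, j⟩
    rw [LinearMap.toMatrix_apply, Matrix.kroneckerMap_apply]
    show _ = (!![0, z; 1, 0] : Matrix (Fin 2) (Fin 2) F) i' i * (1 : Matrix (Fin s) (Fin s) F) j' j
    fin_cases i
    · show (β.repr (f (β (0, j)))) (i', j') = _
      rw [h0, Module.Basis.repr_self, Finsupp.single_apply, Matrix.one_apply]
      fin_cases i' <;> simp [Prod.ext_iff, eq_comm]
    · show (β.repr (f (β (1, j)))) (i', j') = _
      rw [h1, map_smul, Module.Basis.repr_self, Finsupp.smul_apply, Finsupp.single_apply,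
        Matrix.one_apply]
      fin_cases i' <;> simp [Prod.ext_iff, eq_comm]
  · intro δ _
    have hr : ((2 : ℕ) : F) ≠ 0 := by exact_mod_cast h2
    have hpos : 0 < Module.finrank F V := by omega
    exact Cfsg.Agent.S5965P.CENTDET.main 2 hr z hz0 f hf hpos δ

end Cfsg.Agent.S5979P
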