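import Mathlib
import Cfsg.Prelude.Def_GeometricClasses
import Cfsg.Prelude.Def_Classical
import Cfsg.Prelude.Def_LieClassical
import Cfsg.Agent.Helper3.S5949NTS
import Cfsg.Agent.Helper26.S5958NTGL
import Cfsg.Agent.Helper20.S5965E23
import Cfsg.Agent.Helper24.S5965SYM
import Cfsg.Agent.Helper24.S5965DETKUM
import Cfsg.Agent.Helper15.S5965DIAG
import Cfsg.Agent.Helper6.S5965CENTDET
import Cfsg.Agent.Helper29.S5965ASMD
import Cfsg.Agent.Helper20.S5979NT
import Cfsg.Agent.Helper6.S5982BLK0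
import Cfsg.Agent.Helper15.S5982CONJFORM
import Cfsg.Agent.Helper15.S5982GL2SL
import Cfsg.Agent.Helper15.S5982POSPERM
import Cfsg.Agent.Helper20.S5982POSDIAG
import Cfsg.Agent.Helper24.S5982DETDIAG
import Cfsg.Agent.Helper24.S5982SUMZERO
import Cfsg.Agent.Helper26.S5982PAIRINV
import Cfsg.Agent.Helper26.S5982UDIAGDER
import Cfsg.Agent.Helper28.S5982CENT2
import Cfsg.Agent.Helper3.S5982NONSQ
import Cfsg.Agent.Helper7.S5982PERMBASIS
import Cfsg.Agent.Helper8.S5982FORMCONJa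
import Cfsg.Agent.Helper8.S5982NORMPOW
import Cfsg.Agent.Helper8.S5982NTROOT
import Cfsg.Agent.Helper19.S5982IDXEMB
import Cfsg.Agent.Helper25.S5982IDXNT
import Cfsg.Agent.Helper7.S5982KUMEX

set_option autoImplicit false
open scoped MatrixGroups Matrix

/-! S5982: the assembly of the pieces (both directions). -/

namespace Cfsg.Agent.S5982P

open Cfsg.Agent.S5949P Cfsg.Agent.S5958P Cfsg.Agent.S5965P

namespace ASM

/-- there is a derangement -/
def HasDer {F : Type*} [Field F] (q₀ n r : ℕ) : Prop :=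
  ∃ x : GL (Fin n) F, x ∈ Cfsg.Geo.specialLinear (Fin n) F ∧
    (∃ z : F, ((x ^ r : GL (Fin n) F) : Matrix (Fin n) (Fin n) F) =
      z • (1 : Matrix (Fin n) (Fin n) F)) ∧
    (∀ z : F, (x : Matrix (Fin n) (Fin n) F) ≠ z • (1 : Matrix (Fin n) (Fin n) F)) ∧
    ∀ f' : (Fin n → F) → (Fin n → F) → F, Cfsg.Geo.IsUnitaryFormPow q₀ f' →
      x ∉ Cfsg.Geo.similarityGroup f'

section

variable {F : Type*} [Field F] [Fintype F] {q₀ : ℕ}

theorem q₀_pos (hF : Fintype.card F = q₀ ^ 2) : 1 ≤ q₀ := by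
  rcases Nat.eq_zero_or_pos q₀ with h | h
  · rw [h] at hF
    have := Fintype.card_pos (α := F)
    simp at hF
  · exact h

theorem card_sub_one (hF : Fintype.card F = q₀ ^ 2) :
    Fintype.card F - 1 = (q₀ - 1) * (q₀ + 1) := by
  have h := q₀_pos hF
  rw [hF]
  obtain ⟨k, rfl⟩ : ∃ k, q₀ = k + 1 := ⟨q₀ - 1, by omega⟩
  simp only [Nat.add_sub_cancel]
  ring_nf
  omega

/-- Kummer-type derangements -/
theorem der_kummer (hF : Fintype.card F = q₀ ^ 2) (n : ℕ) (hn : 1 ≤ n) (r : ℕ) [Fact r.Prime]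
    (hr0 : r ∣ q₀ - 1) (h4 : r = 2 → 4 ∣ Fintype.card F - 1)
    (hv : padicValNat r (Fintype.card F - 1) < padicValNat r n) : HasDer (F := F) q₀ n r := by
  have hr : r ∣ Fintype.card F - 1 := by
    rw [card_sub_one hF]
    exact Dvd.dvd.mul_right hr0 _
  obtain ⟨x, z, hx, hz, hxz⟩ := exists_kummer (F := F) r n hn hr h4 hv
  refine ⟨x, hx, ⟨z, hxz⟩, ?_, ?_⟩
  · intro d hd
    rw [Units.val_pow_eq_pow_val, hd, smul_pow, one_pow] at hxz
    have h1 := congrFun (congrFun hxz ⟨0, by omega⟩) ⟨0, by omega⟩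
    simp only [Matrix.smul_apply, Matrix.one_apply_eq, smul_eq_mul, mul_one] at h1
    exact hz d h1
  · rintro f' hf' ⟨c, hc⟩
    obtain ⟨hcq, hcr⟩ := factor_pow hF n hn f' hf' x (c : F) hc r z hxz
    obtain ⟨d, hd⟩ := exists_root_of_norm hF r hr0 (c : F) z c.ne_zero hcq hcr
    exact hz d hd

theorem neg_one_ne_one (r : ℕ) [Fact r.Prime] (hr2 : r ≠ 2) : (-1 : ZMod r) ≠ 1 := by
  intro h
  have h2 : (2 : ZMod r) = 0 := by
    have : (1 : ZMod r) + 1 = 0 := by
      nth_rewrite 1 [← h]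
      ring
    rw [← this]; ring
  have h3 : ((2 : ℕ) : ZMod r) = 0 := by exact_mod_cast h2
  rw [ZMod.natCast_eq_zero_iff] at h3
  exact hr2 ((Nat.prime_dvd_prime_iff_eq (Fact.out : r.Prime) Nat.prime_two).1 h3)

/-- the diagonal derangement `μ * diag(ξ, 1, …, 1)` -/
theorem der_D1 (hF : Fintype.card F = q₀ ^ 2) (n : ℕ) (hn : 3 ≤ n) (r : ℕ) [Fact r.Prime]
    (hr2 : r ≠ 2) (hr0 : r ∣ q₀ - 1)
    (hv : padicValNat r n < padicValNat r (Fintype.card F - 1)) : HasDer (F := F) q₀ n r := by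
  have hr : r.Prime := Fact.out
  have : Fact (1 < r) := ⟨hr.one_lt⟩
  have hrq : r ∣ Fintype.card F - 1 := by
    rw [card_sub_one hF]
    exact Dvd.dvd.mul_right hr0 _
  obtain ⟨ξ, hξ⟩ := ASMD.exists_orderOf_eq (F := F) r hrq
  obtain ⟨μ, hμ⟩ := exists_mu (F := F) r n (by omega) hv ξ hξ
  obtain ⟨eN, heN⟩ : ∃ eN : ℕ → ZMod r, eN = fun i => if i = 0 then 1 else 0 := ⟨_, rfl⟩
  have h0 : eN 0 = 1 := by rw [heN]; simp
  have h1 : ∀ i, 1 ≤ i → eN i = 0 := by
    intro i hi
    rw [heN]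
    have : i ≠ 0 := by omega
    simp [*]
  have hsum : ∑ j : Fin n, eN (j : ℕ) = 1 := by
    rw [ASMD.sum_fin_eq n 1 (by omega) eN h1, Finset.sum_range_one, h0]
  apply udiag_derangement hF n (by omega) r hr2 hr0 ξ hξ μ (fun j => eN (j : ℕ))
  · rw [ASMD.pow_sum_val r ξ hξ, hsum, ZMod.val_one, pow_one, hμ]
  · exact ⟨⟨0, by omega⟩, ⟨1, by omega⟩, by
      change eN 0 ≠ eN 1
      rw [h0, h1 1 le_rfl]; exact one_ne_zero⟩
  · exact star_E2 r hr2 n hn (-1) (neg_ne_zero.2 one_ne_zero) (neg_one_ne_one r hr2)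
      (fun j => eN (j : ℕ)) h0 (fun j hj => h1 _ hj)

/-- the diagonal derangement `diag(ξ, ξ, ξ⁻², 1, …, 1)` -/
theorem der_D3 (hF : Fintype.card F = q₀ ^ 2) (n : ℕ) (hn : 6 ≤ n) (r : ℕ) [Fact r.Prime]
    (hr2 : r ≠ 2) (hn3 : r = 3 → 7 ≤ n) (hr0 : r ∣ q₀ - 1) : HasDer (F := F) q₀ n r := by
  have hr : r.Prime := Fact.out
  have : Fact (1 < r) := ⟨hr.one_lt⟩
  have hrq : r ∣ Fintype.card F - 1 := by
    rw [card_sub_one hF]
    exact Dvd.dvd.mul_right hr0 _
  obtain ⟨ξ, hξ⟩ := ASMD.exists_orderOf_eq (F := F) r hrq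
  obtain ⟨eN, heN⟩ : ∃ eN : ℕ → ZMod r,
      eN = fun i => if i = 0 then 1 else if i = 1 then 1 else if i = 2 then -2 else 0 := ⟨_, rfl⟩
  have h0 : eN 0 = 1 := by rw [heN]; simp
  have h1 : eN 1 = 1 := by rw [heN]; simp
  have h2 : eN 2 = -2 := by rw [heN]; simp
  have h3 : ∀ i, 3 ≤ i → eN i = 0 := by
    intro i hi
    rw [heN]
    have : i ≠ 0 := by omega
    have : i ≠ 1 := by omega
    have : i ≠ 2 := by omega
    simp [*]
  have hsum : ∑ j : Fin n, eN (j : ℕ) = 0 := by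
    rw [ASMD.sum_fin_eq n 3 (by omega) eN h3, Finset.sum_range_succ, Finset.sum_range_succ,
      Finset.sum_range_one, h0, h1, h2]
    ring
  apply udiag_derangement hF n (by omega) r hr2 hr0 ξ hξ 1 (fun j => eN (j : ℕ))
  · rw [one_pow, one_mul, ASMD.pow_sum_val r ξ hξ, hsum, ZMod.val_zero, pow_zero]
  · exact ⟨⟨0, by omega⟩, ⟨3, by omega⟩, by
      change eN 0 ≠ eN 3
      rw [h0, h3 3 le_rfl]; exact one_ne_zero⟩
  · exact star_E3 r hr2 n hn hn3 (fun j => eN (j : ℕ)) h0 h1 h2 (fun j hj => h3 _ hj)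

/-- the direction `⇒` -/
theorem right_of_all {p : ℕ} [Fact p.Prime] [CharP F p] (hF : Fintype.card F = q₀ ^ 2) (n : ℕ)
    (hn : 3 ≤ n) (f : (Fin n → F) → (Fin n → F) → F) (hf : Cfsg.Geo.IsUnitaryFormPow q₀ f)
    (r : ℕ) [Fact r.Prime] (hr : r = 2 ∨ r ≠ p) (hgap : ¬ (n = 6 ∧ r = 3))
    (hΩ : r ∣ (Cfsg.Geo.similarityGroup f).relIndex (Cfsg.Geo.specialLinear (Fin n) F))
    (hall : ¬ HasDer (F := F) q₀ n r) :
    (r = 2 ∧ (p = 2 ∨ padicValNat 2 n ≤ padicValNat 2 (Fintype.card F - 1))) ∨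
      ((r = 3 ∨ r = 5) ∧ n = r ∧ padicValNat r (q₀ - 1) = 1) := by
  classical
  have hrpr : r.Prime := Fact.out
  have hp : p.Prime := Fact.out
  have hq₀pos := q₀_pos hF
  have hcs := card_sub_one hF
  have hcard2 : 2 ≤ Fintype.card F := Fintype.one_lt_card
  by_contra hR
  rw [not_or] at hR
  obtain ⟨hR1, hR2⟩ := hR
  by_cases hr2 : r = 2
  · subst hr2
    have hcond : ¬ (p = 2 ∨ padicValNat 2 n ≤ padicValNat 2 (Fintype.card F - 1)) :=
      fun h => hR1 ⟨rfl, h⟩
    rw [not_or] at hcond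
    obtain ⟨hp2, hv⟩ := hcond
    push Not at hv
    have hodd : Odd (Fintype.card F) := Cfsg.Agent.S5979P.odd_card_of_char (p := p) hp2
    have hq₀odd : Odd q₀ := by
      rw [hF] at hodd
      exact Nat.Odd.of_mul_right (by rw [← pow_two]; exact hodd)
    obtain ⟨k, hk⟩ := hq₀odd
    have h20 : 2 ∣ q₀ - 1 := ⟨k, by omega⟩
    have h4 : 4 ∣ Fintype.card F - 1 := by
      rw [hcs]
      have h1 : q₀ - 1 = 2 * k := by omega
      have h2 : q₀ + 1 = 2 * (k + 1) := by omega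
      rw [h1, h2]
      exact ⟨k * (k + 1), by ring⟩
    exact hall (der_kummer hF n (by omega) 2 h20 (fun _ => h4) hv)
  · have hrp : r ≠ p := hr.resolve_left hr2
    have hrq : ¬ r ∣ q₀ := by
      intro hd
      obtain ⟨k, -, hk⟩ := FiniteField.card F p
      have h1 : r ∣ p ^ (k : ℕ) := by
        rw [← hk, hF]
        exact Dvd.dvd.pow hd two_ne_zero
      exact hrp ((Nat.prime_dvd_prime_iff_eq hrpr hp).mp (hrpr.dvd_of_dvd_pow h1))
    obtain ⟨i, hi⟩ : ∃ i : ℕ, i = orderOf ((Fintype.card F : ℕ) : ZMod r) := ⟨_, rfl⟩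
    have hi' : i = orderOf (((q₀ ^ 2 : ℕ) : ℕ) : ZMod r) := by rw [hi, hF]
    have hipos : 0 < i := by rw [hi]; exact orderOf_card_pos (p := p) r hrp
    by_cases hU : Odd i ∧ r ∣ q₀ ^ i + 1
    · exact not_dvd_relIndex hF n (by omega) f hf r
        (val_SL_le_val_SU hF n (by omega) r hr2 hrq i hi' hU.1 hU.2) hΩ
    by_cases hi1 : r ∣ Fintype.card F - 1
    · have hione : i = 1 := by rw [hi]; exact (orderOf_card_eq_one_iff (F := F) r).2 hi1
      have hnp : ¬ r ∣ q₀ + 1 := by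
        intro h
        apply hU
        rw [hione, pow_one]
        exact ⟨odd_one, h⟩
      have hr0 : r ∣ q₀ - 1 := by
        rw [hcs] at hi1
        exact ((Nat.Prime.dvd_mul hrpr).1 hi1).resolve_right hnp
      rcases lt_trichotomy (padicValNat r n) (padicValNat r (Fintype.card F - 1)) with hlt | heq | hgt
      · exact hall (der_D1 hF n hn r hr2 hr0 hlt)
      · by_cases hn6 : 6 ≤ n
        · refine hall (der_D3 hF n hn6 r hr2 ?_ hr0)
          intro h3
          by_contra h7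
          exact hgap ⟨by omega, h3⟩
        · exfalso
          have hc0 : Fintype.card F - 1 ≠ 0 := by omega
          have hv1 : 1 ≤ padicValNat r (Fintype.card F - 1) :=
            one_le_padicValNat_of_dvd hc0 hi1
          have hrn : r ∣ n := by
            apply dvd_of_one_le_padicValNat
            omega
          have hq1 : q₀ - 1 ≠ 0 := by
            intro h0
            have : q₀ = 1 := by omega
            rw [this] at hF
            omega
          have hsplit : padicValNat r (Fintype.card F - 1) = padicValNat r (q₀ - 1) := by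
            rw [hcs, padicValNat.mul hq1 (by omega),
              padicValNat.eq_zero_of_not_dvd hnp, add_zero]
          have hn5 : n ≤ 5 := by omega
          interval_cases n
          · have h3 : r = 3 := (Nat.prime_dvd_prime_iff_eq hrpr Nat.prime_three).1 hrn
            subst h3
            refine hR2 ⟨Or.inl rfl, rfl, ?_⟩
            rw [← hsplit, ← heq]
            exact padicValNat_self
          · have h2 : r ∣ 2 ^ 2 := by norm_num; exact hrn
            exact hr2 ((Nat.prime_dvd_prime_iff_eq hrpr Nat.prime_two).1 (hrpr.dvd_of_dvd_pow h2))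
          · have h5 : r = 5 := (Nat.prime_dvd_prime_iff_eq hrpr Nat.prime_five).1 hrn
            subst h5
            refine hR2 ⟨Or.inr rfl, rfl, ?_⟩
            rw [← hsplit, ← heq]
            exact padicValNat_self
      · exact hall (der_kummer hF n (by omega) r hr0 (fun h => absurd h hr2) hgt)
    · have hi2 : 2 ≤ i := by
        have : i ≠ 1 := fun h => hi1 ((orderOf_card_eq_one_iff (F := F) r).1 (by rw [← hi]; exact h))
        omega
      have hin : i ≤ n := by
        rw [hi]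
        apply order_le_of_dvd_card_GL (p := p) r hrp n
        exact dvd_trans hΩ (dvd_trans (Subgroup.relIndex_dvd_card _ _)
          (Subgroup.card_subgroup_dvd_card _))
      rw [hi] at hi2 hin hU
      exact hall (block_derangement hF n r hr2 hrp hi2 hin hU)

/-- conclusion of the positive direction from a form and centralizer elements -/
theorem pos_finish (hF : Fintype.card F = q₀ ^ 2) (n : ℕ) (f : (Fin n → F) → (Fin n → F) → F)
    (hf : Cfsg.Geo.IsUnitaryFormPow q₀ f) (x : GL (Fin n) F)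
    (h : ∃ f' : (Fin n → F) → (Fin n → F) → F, Cfsg.Geo.IsUnitaryFormPow q₀ f' ∧
      x ∈ Cfsg.Geo.similarityGroup f')
    (hcent : ∀ δ : F, δ ≠ 0 → ∃ C : Module.End F (Fin n → F),
      C * Matrix.toLin' (x : Matrix (Fin n) (Fin n) F) =
        Matrix.toLin' (x : Matrix (Fin n) (Fin n) F) * C ∧ LinearMap.det C = δ) :
    ∃ g ∈ Cfsg.Geo.specialLinear (Fin n) F, g⁻¹ * x * g ∈ Cfsg.Geo.similarityGroup f := by
  obtain ⟨f', hf', hx⟩ := h
  obtain ⟨P, hP⟩ := exists_std_pow hF n f hf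
  obtain ⟨P', hP'⟩ := exists_std_pow hF n f' hf'
  obtain ⟨g, hg⟩ := FORMCONJ.core f f' (Cfsg.hermForm n F q₀) P P' hP hP' x hx
  exact exists_sl_conj n _ x g hg hcent

/-- `x ^ r = z` as endomorphisms -/
theorem toLin_pow (n : ℕ) (x : GL (Fin n) F) (r : ℕ) (z : F)
    (hxz : ((x ^ r : GL (Fin n) F) : Matrix (Fin n) (Fin n) F) =
      z • (1 : Matrix (Fin n) (Fin n) F)) :
    (Matrix.toLin' (x : Matrix (Fin n) (Fin n) F)) ^ r = z • (1 : Module.End F (Fin n → F)) := by
  rw [← Matrix.toLin'_pow, ← Units.val_pow_eq_pow_val, hxz, map_smul, Matrix.toLin'_one]; rfl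

theorem scalar_ne_zero (n : ℕ) (hn : 1 ≤ n) (x : GL (Fin n) F) (r : ℕ) (z : F)
    (hxz : ((x ^ r : GL (Fin n) F) : Matrix (Fin n) (Fin n) F) =
      z • (1 : Matrix (Fin n) (Fin n) F)) : z ≠ 0 := by
  intro h0
  rw [h0, zero_smul] at hxz
  have h1 : ((x ^ r : GL (Fin n) F) : Matrix (Fin n) (Fin n) F) *
      (((x ^ r)⁻¹ : GL (Fin n) F) : Matrix (Fin n) (Fin n) F) = 1 := by
    rw [← Units.val_mul, mul_inv_cancel]; rfl
  rw [hxz, zero_mul] at h1
  have h2 := congrFun (congrFun h1 ⟨0, by omega⟩) ⟨0, by omega⟩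
  simp at h2

/-- the semisimple case of the positive direction -/
theorem pos_diag (hF : Fintype.card F = q₀ ^ 2) (n : ℕ) (hn : 1 ≤ n)
    (f : (Fin n → F) → (Fin n → F) → F) (hf : Cfsg.Geo.IsUnitaryFormPow q₀ f) (r : ℕ)
    [Fact r.Prime] (hrF : (r : F) ≠ 0) (ξ : F) (hξ : orderOf ξ = r) (hξq : ξ ^ q₀ = ξ)
    (x : GL (Fin n) F) (μ : F)
    (hxz : ((x ^ r : GL (Fin n) F) : Matrix (Fin n) (Fin n) F) =
      (μ ^ r) • (1 : Matrix (Fin n) (Fin n) F))
    (hcen : ∀ e : Fin n → ZMod r,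
      μ ^ n * ∏ j, ξ ^ (e j).val = (x : Matrix (Fin n) (Fin n) F).det →
      ∃ (π : Equiv.Perm (Fin n)) (c₀ : ZMod r), (∀ j, π (π j) = j) ∧ ∀ j, e (π j) = c₀ - e j) :
    ∃ g ∈ Cfsg.Geo.specialLinear (Fin n) F, g⁻¹ * x * g ∈ Cfsg.Geo.similarityGroup f := by
  classical
  have hr : r.Prime := Fact.out
  have hz0 : μ ^ r ≠ 0 := scalar_ne_zero n hn x r _ hxz
  have hμ : μ ≠ 0 := fun h => hz0 (by rw [h, zero_pow hr.ne_zero])
  obtain ⟨T, hT⟩ : ∃ T : Module.End F (Fin n → F),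
      T = Matrix.toLin' (x : Matrix (Fin n) (Fin n) F) := ⟨_, rfl⟩
  have hTr : T ^ r = (μ ^ r) • (1 : Module.End F (Fin n → F)) := by
    rw [hT]; exact toLin_pow n x r _ hxz
  have hy : (μ⁻¹ • T) ^ r = 1 := by
    rw [smul_pow, hTr, smul_smul, inv_pow, inv_mul_cancel₀ hz0, one_smul]
  have hnV : Module.finrank F (Fin n → F) = n := Module.finrank_fin_fun F
  obtain ⟨b, e, hbe⟩ := exists_eigenbasis r ξ hξ (μ⁻¹ • T) hy n hnV
  have hb : ∀ j, T (b j) = (μ * ξ ^ (e j).val) • b j := by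
    intro j
    have h1 := hbe j
    rw [LinearMap.smul_apply] at h1
    have h2 : T (b j) = μ • (μ⁻¹ • T (b j)) := by
      rw [smul_smul, mul_inv_cancel₀ hμ, one_smul]
    rw [h2, h1, smul_smul]
  have hdet : μ ^ n * ∏ j, ξ ^ (e j).val = (x : Matrix (Fin n) (Fin n) F).det := by
    have h1 := det_of_eigenbasis b T (fun j => μ * ξ ^ (e j).val) hb
    rw [hT, LinearMap.det_toLin'] at h1
    rw [h1, Finset.prod_mul_distrib, Finset.prod_const, Finset.card_univ, Fintype.card_fin]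
  obtain ⟨π, c₀, hπ2, hπ⟩ := hcen e hdet
  have hξr : ξ ^ r = 1 := by rw [← hξ]; exact pow_orderOf_eq_one ξ
  apply pos_finish hF n f hf x
  · exact exists_form_of_diag hF n r ξ hξq hξr μ hμ x b e (by rw [← hT]; exact hb) π hπ2 c₀ hπ
  · intro δ _
    rw [← hT]
    have hpos : 0 < Module.finrank F (Fin n → F) := by rw [hnV]; omega
    exact CENTDET.main r hrF (μ ^ r) hz0 T hTr hpos δ

/-- the direction `⇐` -/
theorem all_of_right {p : ℕ} [Fact p.Prime] [CharP F p] (hF : Fintype.card F = q₀ ^ 2) (n : ℕ)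
    (hn : 3 ≤ n) (f : (Fin n → F) → (Fin n → F) → F) (hf : Cfsg.Geo.IsUnitaryFormPow q₀ f)
    (r : ℕ) [Fact r.Prime]
    (hR : (r = 2 ∧ (p = 2 ∨ padicValNat 2 n ≤ padicValNat 2 (Fintype.card F - 1))) ∨
      ((r = 3 ∨ r = 5) ∧ n = r ∧ padicValNat r (q₀ - 1) = 1))
    (x : GL (Fin n) F) (hx : x ∈ Cfsg.Geo.specialLinear (Fin n) F) (z : F)
    (hxz : ((x ^ r : GL (Fin n) F) : Matrix (Fin n) (Fin n) F) =
      z • (1 : Matrix (Fin n) (Fin n) F)) :
    ∃ g ∈ Cfsg.Geo.specialLinear (Fin n) F, g⁻¹ * x * g ∈ Cfsg.Geo.similarityGroup f := by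
  classical
  have hp : p.Prime := Fact.out
  have hq₀pos := q₀_pos hF
  have hcs := card_sub_one hF
  have hnV : Module.finrank F (Fin n → F) = n := Module.finrank_fin_fun F
  have hdetx : (x : Matrix (Fin n) (Fin n) F).det = 1 := by
    have h1 : Matrix.GeneralLinearGroup.det x = 1 := hx
    have h2 := congrArg Units.val h1
    rwa [Matrix.GeneralLinearGroup.val_det_apply] at h2
  have hz0 : z ≠ 0 := scalar_ne_zero n (by omega) x r z hxz
  obtain ⟨T, hT⟩ : ∃ T : Module.End F (Fin n → F),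
      T = Matrix.toLin' (x : Matrix (Fin n) (Fin n) F) := ⟨_, rfl⟩
  have hTr : T ^ r = z • (1 : Module.End F (Fin n → F)) := by
    rw [hT]; exact toLin_pow n x r z hxz
  have hdetT : LinearMap.det T = 1 := by rw [hT, LinearMap.det_toLin']; exact hdetx
  rcases hR with ⟨hr2, hcond⟩ | ⟨hr35, hnr, hv⟩
  · subst hr2
    by_cases hp2 : p = 2
    · -- characteristic two
      subst hp2
      have hch : ringChar F = 2 := ringChar.eq F 2
      obtain ⟨μ, hμ⟩ := FiniteField.isSquare_of_char_two hch z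
      have hμ0 : μ ≠ 0 := by
        rintro rfl
        rw [mul_zero] at hμ
        exact hz0 hμ
      have hy : (μ⁻¹ • T) ^ 2 = 1 := by
        rw [smul_pow, hTr, smul_smul, hμ, inv_pow, pow_two, inv_mul_cancel₀ (mul_ne_zero hμ0 hμ0),
          one_smul]
      obtain ⟨b, π, hπ2, hyb⟩ := exists_perm_basis n (μ⁻¹ • T) hy
      have hb : ∀ j, T (b j) = μ • b (π j) := by
        intro j
        have h1 := hyb j
        rw [LinearMap.smul_apply] at h1
        have h2 : T (b j) = μ • (μ⁻¹ • T (b j)) := by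
          rw [smul_smul, mul_inv_cancel₀ hμ0, one_smul]
        rw [h2, h1]
      apply pos_finish hF n f hf x
      · exact exists_form_of_perm hF n μ hμ0 x b π (by rw [← hT]; exact hb)
      · intro δ hδ
        rw [← hT]
        exact exists_commute_det_of_perm n (by omega) T μ b π hπ2 hb δ hδ
    · -- odd characteristic
      have hv : padicValNat 2 n ≤ padicValNat 2 (Fintype.card F - 1) := hcond.resolve_left hp2
      have hodd : Odd (Fintype.card F) := Cfsg.Agent.S5979P.odd_card_of_char (p := p) hp2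
      have hq₀odd : Odd q₀ := by
        rw [hF] at hodd
        exact Nat.Odd.of_mul_right (by rw [← pow_two]; exact hodd)
      obtain ⟨μ, hμ⟩ := sq_of_sq_eq hF hq₀odd n (by omega) hv T z hTr hdetT
      have h2F : ((2 : ℕ) : F) ≠ 0 := by
        intro h0
        have hdvd : p ∣ 2 := (CharP.cast_eq_zero_iff F p 2).1 h0
        exact hp2 ((Nat.prime_dvd_prime_iff_eq hp Nat.prime_two).1 hdvd)
      have hneg : (-1 : F) ≠ 1 := by
        intro h
        apply h2F
        have : (1 : F) + 1 = 0 := by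
          nth_rewrite 1 [← h]
          ring
        rw [← this]; norm_num
      have hξ : orderOf (-1 : F) = 2 := orderOf_eq_prime (by norm_num) hneg
      have hξq : (-1 : F) ^ q₀ = -1 := hq₀odd.neg_one_pow
      rw [← hμ] at hxz
      apply pos_diag hF n (by omega) f hf 2 h2F (-1) hξ hξq x μ hxz
      intro e _
      refine ⟨1, 0, fun j => rfl, fun j => ?_⟩
      rw [Equiv.Perm.one_apply, zero_sub]
      exact (CharTwo.neg_eq (e j)).symm
  · -- `r ∈ {3, 5}`, `n = r`
    have hr : r.Prime := Fact.out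
    have hr2 : r ≠ 2 := by rcases hr35 with h | h <;> omega
    have hr0 : r ∣ q₀ - 1 := by
      apply dvd_of_one_le_padicValNat
      omega
    have hrq : r ∣ Fintype.card F - 1 := by
      rw [hcs]
      exact Dvd.dvd.mul_right hr0 _
    have hq1 : q₀ - 1 ≠ 0 := by
      intro h0
      rw [h0] at hv
      simp at hv
    have hnp : ¬ r ∣ q₀ + 1 := by
      intro h
      have h2 : r ∣ (q₀ + 1) - (q₀ - 1) := Nat.dvd_sub h hr0
      have h3 : (q₀ + 1) - (q₀ - 1) = 2 := by omega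
      rw [h3] at h2
      exact hr2 ((Nat.prime_dvd_prime_iff_eq hr Nat.prime_two).1 h2)
    have hvq : padicValNat r (Fintype.card F - 1) = 1 := by
      rw [hcs, padicValNat.mul hq1 (by omega), padicValNat.eq_zero_of_not_dvd hnp, add_zero, hv]
    have hrF : (r : F) ≠ 0 := by
      intro h0
      have hdvd : p ∣ r := (CharP.cast_eq_zero_iff F p r).1 h0
      have hpr : p = r := (Nat.prime_dvd_prime_iff_eq hp hr).1 hdvd
      obtain ⟨k, -, hk⟩ := FiniteField.card F p
      have h1 : r ∣ Fintype.card F := by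
        rw [hk, hpr]
        exact dvd_pow_self _ (by positivity)
      have h2 : r ∣ Fintype.card F - (Fintype.card F - 1) := Nat.dvd_sub h1 hrq
      have hc : 1 ≤ Fintype.card F := Fintype.card_pos
      have h3 : Fintype.card F - (Fintype.card F - 1) = 1 := by omega
      rw [h3] at h2
      exact hr.one_lt.ne' (Nat.dvd_one.1 h2)
    obtain ⟨ξ, hξ⟩ := ASMD.exists_orderOf_eq (F := F) r hrq
    have hξq : ξ ^ q₀ = ξ := by
      obtain ⟨m, hm⟩ := hr0
      have h1 : ξ ^ (q₀ - 1) = 1 := by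
        rw [hm, pow_mul, ← hξ, pow_orderOf_eq_one, one_pow]
      have h2 : q₀ = (q₀ - 1) + 1 := by omega
      rw [h2, pow_succ, h1, one_mul]
    -- `z` is an `r`-th power
    have hzpow : ∃ μ : F, μ ^ r = z := by
      by_contra hne
      push Not at hne
      obtain ⟨s, hs, hdet⟩ := det_of_pow_eq_nonpower r hr2 T z hTr hne
      rw [hnV, hnr] at hs
      have hs1 : s = 1 := by
        have : r * s = r * 1 := by rw [mul_one]; exact hs.symm
        exact Nat.eq_of_mul_eq_mul_left hr.pos this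
      rw [hs1, pow_one, hdetT] at hdet
      exact hne 1 (by rw [one_pow, hdet])
    obtain ⟨μ, hμ⟩ := hzpow
    rw [← hμ] at hxz
    apply pos_diag hF n (by omega) f hf r hrF ξ hξ hξq x μ hxz
    intro e hdet
    rw [hdetx] at hdet
    rcases hr35 with h3 | h5
    · subst h3
      subst hnr
      have hsum := sum_eq_zero_of_det (F := F) 3 hvq ξ hξ μ e hdet
      obtain ⟨c, hc⟩ := exists_center_three e hsum
      obtain ⟨π, hπ2, hπ⟩ := exists_pairing e c hc
      exact ⟨π, c + c, hπ2, hπ⟩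
    · subst h5
      subst hnr
      have hsum := sum_eq_zero_of_det (F := F) 5 hvq ξ hξ μ e hdet
      obtain ⟨c, hc⟩ := exists_center_five e hsum
      obtain ⟨π, hπ2, hπ⟩ := exists_pairing e c hc
      exact ⟨π, c + c, hπ2, hπ⟩

end

end ASM

end Cfsg.Agent.S5982P
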