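import Mathlib
import Cfsg.Prelude.Def_GeometricClasses
import Cfsg.Prelude.Def_Classical
import Cfsg.Prelude.Def_LieClassical
import Cfsg.Agent.Helper3.S5949NTS
import Cfsg.Agent.Helper21.S5958MODEL2
import Cfsg.Agent.Helper2.UnitaryGU
import Cfsg.Agent.Helper24.S5982SIMPOW
import Cfsg.Agent.Helper8.S5982BLK1
import Cfsg.Agent.Helper8.S5982NTGU
import Cfsg.Agent.Helper19.S5982STD
import Cfsg.Agent.Helper23.S5982BLK2

set_option autoImplicit false
open scoped MatrixGroups Matrix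

/-! S5982 piece BLK0: for `i = ord_r(q) ≥ 2` and unless `i` is odd with `q₀ ^ i ≡ -1 (mod r)`, the element
of `SL_n(q)` of order `r` with a single non-trivial block is a similitude of no unitary form. -/

namespace Cfsg.Agent.S5982P

open Cfsg.Agent.S5949P Cfsg.Agent.S5958P

/-- BLK0 -/
theorem block_derangement {F : Type*} [Field F] [Fintype F] {p : ℕ} [Fact p.Prime] [CharP F p]
    {q₀ : ℕ} (hF : Fintype.card F = q₀ ^ 2) (n : ℕ) (r : ℕ) [Fact r.Prime] (hr2 : r ≠ 2)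
    (hrp : r ≠ p) (hi2 : 2 ≤ orderOf ((Fintype.card F : ℕ) : ZMod r))
    (hin : orderOf ((Fintype.card F : ℕ) : ZMod r) ≤ n)
    (hU : ¬ (Odd (orderOf ((Fintype.card F : ℕ) : ZMod r)) ∧
      r ∣ q₀ ^ orderOf ((Fintype.card F : ℕ) : ZMod r) + 1)) :
    ∃ x : GL (Fin n) F, x ∈ Cfsg.Geo.specialLinear (Fin n) F ∧
      (∃ z : F, ((x ^ r : GL (Fin n) F) : Matrix (Fin n) (Fin n) F) =
        z • (1 : Matrix (Fin n) (Fin n) F)) ∧
      (∀ z : F, (x : Matrix (Fin n) (Fin n) F) ≠ z • (1 : Matrix (Fin n) (Fin n) F)) ∧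
      ∀ f' : (Fin n → F) → (Fin n → F) → F, Cfsg.Geo.IsUnitaryFormPow q₀ f' →
        x ∉ Cfsg.Geo.similarityGroup f' := by
  classical
  have hr : r.Prime := Fact.out
  have hp : p.Prime := Fact.out
  obtain ⟨i, hi⟩ : ∃ i : ℕ, i = orderOf ((Fintype.card F : ℕ) : ZMod r) := ⟨_, rfl⟩
  rw [← hi] at hi2 hin hU
  have hnV : Module.finrank F (Fin n → F) = n := Module.finrank_fin_fun F
  -- `r` does not divide `q - 1`, `q₀ - 1`, `q₀`
  have hnd : ¬ r ∣ Fintype.card F - 1 := by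
    intro h
    have := (orderOf_card_eq_one_iff (F := F) r).mpr h
    omega
  have hq₀pos : 1 ≤ q₀ := by
    rcases Nat.eq_zero_or_pos q₀ with h | h
    · rw [h] at hF
      have := Fintype.card_pos (α := F)
      simp at hF
    · exact h
  have hnd₀ : ¬ r ∣ q₀ - 1 := by
    intro h
    apply hnd
    rw [hF]
    have : q₀ ^ 2 - 1 = (q₀ - 1) * (q₀ + 1) := by
      obtain ⟨k, rfl⟩ : ∃ k, q₀ = k + 1 := ⟨q₀ - 1, by omega⟩
      simp only [Nat.add_sub_cancel]
      ring_nf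
      omega
    rw [this]
    exact Dvd.dvd.mul_right h _
  have hrq : ¬ r ∣ q₀ := by
    intro hd
    obtain ⟨k, -, hk⟩ := FiniteField.card F p
    have h1 : r ∣ p ^ (k : ℕ) := by
      rw [← hk, hF]
      exact Dvd.dvd.pow hd two_ne_zero
    exact hrp ((Nat.prime_dvd_prime_iff_eq hr hp).mp (hr.dvd_of_dvd_pow h1))
  have hrF : (r : F) ≠ 0 := by
    intro h0
    have hdvd : p ∣ r := (CharP.cast_eq_zero_iff F p r).1 h0
    exact hrp ((Nat.prime_dvd_prime_iff_eq hp hr).1 hdvd).symm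
  -- the model element
  obtain ⟨xs, g, -, -, -, hx1, hxns, hker, -⟩ :=
    model_single (p := p) r hrp n 1 (hi ▸ hi2) le_rfl (by rw [mul_one, ← hi]; exact hin)
  rw [mul_one, ← hi] at hker
  obtain ⟨x, hxdef⟩ : ∃ x : GL (Fin n) F, x = Matrix.SpecialLinearGroup.toGL xs := ⟨_, rfl⟩
  have hxcoe : (x : Matrix (Fin n) (Fin n) F) = (xs : Matrix (Fin n) (Fin n) F) := by
    rw [hxdef]; rfl
  have hx : x ∈ Cfsg.Geo.specialLinear (Fin n) F := by
    show Matrix.GeneralLinearGroup.det x = 1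
    apply Units.ext
    rw [Matrix.GeneralLinearGroup.val_det_apply, hxcoe]
    exact xs.2
  have hxr1 : (x : Matrix (Fin n) (Fin n) F) ^ r = 1 := by rw [hxcoe]; exact hx1
  have hxr : ((x ^ r : GL (Fin n) F) : Matrix (Fin n) (Fin n) F) =
      (1 : F) • (1 : Matrix (Fin n) (Fin n) F) := by
    rw [Units.val_pow_eq_pow_val, hxr1, one_smul]
  refine ⟨x, hx, ⟨1, hxr⟩, by rw [hxcoe]; exact hxns, ?_⟩
  rintro f' hf' ⟨c, hc⟩
  -- the factor is `1`
  obtain ⟨hcq, hcr⟩ := factor_pow hF n (by omega) f' hf' x (c : F) hc r 1 hxr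
  rw [one_pow] at hcr
  have hc0 : (c : F) ≠ 0 := c.ne_zero
  have hc1 : (c : F) = 1 := by
    have h1 : (c : F) ^ (q₀ - 1) = 1 := by
      have h2 : (c : F) ^ (q₀ - 1) * (c : F) = 1 * (c : F) := by
        rw [← pow_succ, Nat.sub_add_cancel hq₀pos, hcq, one_mul]
      exact mul_right_cancel₀ hc0 h2
    have h3 := pow_gcd_eq_one.2 ⟨hcr, h1⟩
    have h4 : Nat.gcd r (q₀ - 1) = 1 := (Nat.Prime.coprime_iff_not_dvd hr).2 hnd₀
    rw [h4, pow_one] at h3
    exact h3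
  have hiso : ∀ u v, f' ((x : Matrix (Fin n) (Fin n) F) *ᵥ u) ((x : Matrix (Fin n) (Fin n) F) *ᵥ v) =
      f' u v := by
    intro u v
    rw [hc, hc1, one_mul]
  -- the range of `x - 1`
  obtain ⟨T, hT⟩ : ∃ T : Module.End F (Fin n → F),
      T = Matrix.toLin' (x : Matrix (Fin n) (Fin n) F) := ⟨_, rfl⟩
  have hTv : ∀ v, T v = (x : Matrix (Fin n) (Fin n) F) *ᵥ v := by
    intro v; rw [hT, Matrix.toLin'_apply]
  have hnondeg := isometry_range_nondeg (q₀ := q₀) n f' hf' x hiso r hrF hxr1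
  rw [← hT] at hnondeg
  have hrank : Module.finrank F (LinearMap.range (T - 1)) = i := by
    have h1 := LinearMap.finrank_range_add_finrank_ker (T - 1)
    rw [hT, hxcoe, hker, hnV] at h1
    rw [hT, hxcoe]
    omega
  have hWx : ∀ w ∈ LinearMap.range (T - 1), (x : Matrix (Fin n) (Fin n) F) *ᵥ w ∈
      LinearMap.range (T - 1) := by
    rintro _ ⟨u, rfl⟩
    refine ⟨T u, ?_⟩
    rw [← hTv]
    simp only [LinearMap.sub_apply, Module.End.one_apply, map_sub]
  have horth : ∀ w' ∈ LinearMap.range (T - 1), ∀ w, (x : Matrix (Fin n) (Fin n) F) *ᵥ w = w →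
      f' w' w = 0 := by
    rintro _ ⟨u, rfl⟩ w hw
    simp only [LinearMap.sub_apply, Module.End.one_apply]
    have h1 : f' (T u - u) w = f' (T u + (-1 : F) • u) w := by
      congr 1
      rw [neg_smul, one_smul, sub_eq_add_neg]
    rw [h1, hf'.add_left, hf'.smul_left, hTv]
    nth_rewrite 1 [← hw]
    rw [hiso]
    ring
  have hne : ∃ w ∈ LinearMap.range (T - 1), (x : Matrix (Fin n) (Fin n) F) *ᵥ w ≠ w := by
    have hpos : 0 < Module.finrank F (LinearMap.range (T - 1)) := by omega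
    obtain ⟨w, hw0⟩ := Module.finrank_pos_iff_exists_ne_zero.1 hpos
    have hw0' : (w : Fin n → F) ≠ 0 := fun h => hw0 (Subtype.ext h)
    refine ⟨w, w.2, fun hfix => ?_⟩
    obtain ⟨w', hw', hne'⟩ := hnondeg w w.2 hw0'
    exact hne' (horth w' hw' w hfix)
  have hdvd := BLK2.dvd_card_GU_of_isometry_of_std hF (fun m f₁ hf₁ => exists_std_pow hF m f₁ hf₁) n f' hf'
    x hiso r hxr1 (LinearMap.range (T - 1)) hWx hnondeg hne i hrank
  rw [Cfsg.Agent.Helper2.Herm.card_GU_closed hF i] at hdvd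
  have hi' : i = orderOf (((q₀ ^ 2 : ℕ) : ℕ) : ZMod r) := by rw [hi, hF]
  exact hU (nt_gu r q₀ hr2 hrq i hi' hdvd)

end Cfsg.Agent.S5982P
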