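import Mathlib
import Cfsg.Agent.Helper6.S5992Defs
import Cfsg.Agent.Helper28.S5992TRANS
import Cfsg.Agent.Helper28.S5992EMB
import Cfsg.Agent.Helper15.S5992NT
import Cfsg.Agent.S0286
import Cfsg.Agent.S0292

/-! S5992 piece COUNT: `r` does not divide the number of hyperbolic `m`-spaces when
`m < (2d+1) % c`. -/

set_option autoImplicit false
open scoped MatrixGroups

namespace Cfsg.Agent.S5992P

open Cfsg.Agent.Helper2.SympInvol Cfsg.Agent.Helper2.SympUnits Cfsg.Agent.S5961P Cfsg.Agent.S2614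

namespace COUNT

variable {F : Type*} [Field F] {ι : Type} [Fintype ι] [DecidableEq ι]

/-- an isometry maps hyperbolic `m`-spaces to hyperbolic `m`-spaces -/
theorem isTy_map (Q : QuadraticForm F (ι → F)) (g : GL ι F) (hg : g ∈ Cfsg.isometryGroup F ⇑Q)
    (m : ℕ) (W : Submodule F (ι → F)) (hW : IsTy Q true m W) :
    IsTy Q true m (W.map (Matrix.toLin' (g : Matrix ι ι F))) := by
  have hiso : ∀ v, Q (Matrix.toLin' (g : Matrix ι ι F) v) = Q v := by
    intro v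
    have := hg v v
    simpa [Matrix.toLin'_apply] using this
  have hinj : Function.Injective (Matrix.toLin' (g : Matrix ι ι F)) := by
    intro u v huv
    have h1 : Matrix.toLin' ((g⁻¹ : GL ι F) : Matrix ι ι F) (Matrix.toLin' (g : Matrix ι ι F) u) =
        Matrix.toLin' ((g⁻¹ : GL ι F) : Matrix ι ι F) (Matrix.toLin' (g : Matrix ι ι F) v) := by
      rw [huv]
    simpa [Matrix.toLin'_apply, Matrix.mulVec_mulVec] using h1
  have hfr : ∀ U : Submodule F (ι → F),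
      Module.finrank F (U.map (Matrix.toLin' (g : Matrix ι ι F))) = Module.finrank F U := by
    intro U
    exact (LinearEquiv.finrank_eq (Submodule.equivMapOfInjective _ hinj U)).symm
  obtain ⟨hdim, hnd, hty⟩ := hW
  refine ⟨by rw [hfr, hdim], ?_, ?_⟩
  · rintro _ ⟨w, hw, rfl⟩ hw0
    have hw0' : w ≠ 0 := by
      intro h; apply hw0; rw [h, map_zero]
    obtain ⟨v, hv, hwv⟩ := hnd w hw hw0'
    refine ⟨_, ⟨v, hv, rfl⟩, ?_⟩
    rw [PB_isom Q hiso]
    exact hwv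
  · simp only [iff_true]
    obtain ⟨U, hUW, hUts, hUdim⟩ := hty.mpr rfl
    refine ⟨U.map (Matrix.toLin' (g : Matrix ι ι F)), Submodule.map_mono hUW, ?_, ?_⟩
    · rintro _ ⟨u, hu, rfl⟩
      rw [hiso]; exact hUts u hu
    · rw [hfr, hfr]; exact hUdim

end COUNT

open COUNT

/-- COUNT -/
theorem not_dvd_card_hyp {F : Type*} [Field F] [Fintype F] {p : ℕ} [Fact p.Prime] [CharP F p]
    {q : ℕ} (hq : Fintype.card F = q) (hqodd : Odd q) (d m : ℕ) (hme : Even m)
    (hmn : m ≤ 2 * d) (r : ℕ) [Fact r.Prime] (hr2 : r ≠ 2) (hrp : r ≠ p)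
    (hmk : m < (2 * d + 1) % cc F r) :
    ¬ r ∣ Nat.card {W : Submodule F (Unit ⊕ (Fin d ⊕ Fin d) → F) //
      IsTy (QfOdd d F) true m W} := by
  classical
  have hrprime : r.Prime := Fact.out
  -- characteristic is odd
  have hpq : p ∣ q := by
    rw [← hq]
    have : ((Fintype.card F : ℕ) : F) = 0 := Nat.cast_card_eq_zero F
    exact (CharP.cast_eq_zero_iff F p _).mp this
  have h2 : (2 : F) ≠ 0 := by
    intro h
    have hp2 : p ∣ 2 := by
      have : ((2 : ℕ) : F) = 0 := by exact_mod_cast h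
      exact (CharP.cast_eq_zero_iff F p 2).mp this
    have hp : p = 2 := (Nat.prime_dvd_prime_iff_eq Fact.out Nat.prime_two).mp hp2
    rw [hp] at hpq
    exact (Nat.not_even_iff_odd.mpr hqodd) (even_iff_two_dvd.mpr hpq)
  have hrq : ¬ r ∣ q := by
    intro hrq
    obtain ⟨n, hn, hqn⟩ := FiniteField.card F p
    rw [hq] at hqn
    rw [hqn] at hrq
    have := hrprime.dvd_of_dvd_pow hrq
    exact hrp ((Nat.prime_dvd_prime_iff_eq hrprime Fact.out).mp this)
  obtain ⟨a, ha⟩ := hme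
  have ha2 : m = 2 * a := by omega
  have had : a ≤ d := by omega
  obtain ⟨φ, W₀, hφinj, hW₀, hφfix⟩ := exists_emb_fix (F := F) h2 d a had
  rw [← ha2] at hW₀
  set G := ↥(Cfsg.isometryGroup F (Cfsg.quadFormOdd d F)) with hG
  set X := {W : Submodule F (Unit ⊕ (Fin d ⊕ Fin d) → F) // IsTy (QfOdd d F) true m W} with hX
  have hmemG : ∀ g : G, (g : GL (Unit ⊕ (Fin d ⊕ Fin d)) F) ∈
      Cfsg.isometryGroup F ⇑(QfOdd d F) := by
    intro g
    rw [QfOdd_coe]
    exact g.2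
  let _inst : MulAction G X :=
    { smul := fun g W => ⟨W.1.map (Matrix.toLin' ((g : GL (Unit ⊕ (Fin d ⊕ Fin d)) F) :
          Matrix (Unit ⊕ (Fin d ⊕ Fin d)) (Unit ⊕ (Fin d ⊕ Fin d)) F)),
          isTy_map (QfOdd d F) _ (hmemG g) m W.1 W.2⟩
      one_smul := by
        intro W
        apply Subtype.ext
        show W.1.map (Matrix.toLin' (((1 : G) : GL (Unit ⊕ (Fin d ⊕ Fin d)) F) :
          Matrix (Unit ⊕ (Fin d ⊕ Fin d)) (Unit ⊕ (Fin d ⊕ Fin d)) F)) = W.1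
        simp
      mul_smul := by
        intro g h W
        apply Subtype.ext
        show W.1.map (Matrix.toLin' (((g * h : G) : GL (Unit ⊕ (Fin d ⊕ Fin d)) F) :
          Matrix (Unit ⊕ (Fin d ⊕ Fin d)) (Unit ⊕ (Fin d ⊕ Fin d)) F)) =
          (W.1.map (Matrix.toLin' ((h : GL (Unit ⊕ (Fin d ⊕ Fin d)) F) :
          Matrix (Unit ⊕ (Fin d ⊕ Fin d)) (Unit ⊕ (Fin d ⊕ Fin d)) F))).map
          (Matrix.toLin' ((g : GL (Unit ⊕ (Fin d ⊕ Fin d)) F) :
          Matrix (Unit ⊕ (Fin d ⊕ Fin d)) (Unit ⊕ (Fin d ⊕ Fin d)) F))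
        have hgh : Matrix.toLin' (((g * h : G) : GL (Unit ⊕ (Fin d ⊕ Fin d)) F) :
            Matrix (Unit ⊕ (Fin d ⊕ Fin d)) (Unit ⊕ (Fin d ⊕ Fin d)) F) =
            (Matrix.toLin' ((g : GL (Unit ⊕ (Fin d ⊕ Fin d)) F) :
              Matrix (Unit ⊕ (Fin d ⊕ Fin d)) (Unit ⊕ (Fin d ⊕ Fin d)) F)).comp
            (Matrix.toLin' ((h : GL (Unit ⊕ (Fin d ⊕ Fin d)) F) :
              Matrix (Unit ⊕ (Fin d ⊕ Fin d)) (Unit ⊕ (Fin d ⊕ Fin d)) F)) := by
          rw [Subgroup.coe_mul, Units.val_mul, Matrix.toLin'_mul]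
        rw [hgh, Submodule.map_comp] }
  have hsmul : ∀ (g : G) (W : X), ((g • W : X) : Submodule F (Unit ⊕ (Fin d ⊕ Fin d) → F)) =
      W.1.map (Matrix.toLin' ((g : GL (Unit ⊕ (Fin d ⊕ Fin d)) F) :
          Matrix (Unit ⊕ (Fin d ⊕ Fin d)) (Unit ⊕ (Fin d ⊕ Fin d)) F)) := fun _ _ => rfl
  have _pt : MulAction.IsPretransitive G X := by
    constructor
    intro W W'
    obtain ⟨g, hg, hgW⟩ := isometry_trans_ty h2 (QfOdd d F)
      (Cfsg.Agent.S0292.QfOdd_nondeg h2 d) true m ⟨a, ha⟩ W.1 W'.1 W.2 W'.2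
    rw [QfOdd_coe] at hg
    refine ⟨⟨g, hg⟩, ?_⟩
    apply Subtype.ext
    rw [hsmul]
    exact hgW
  set x₀ : X := ⟨W₀, hW₀⟩ with hx₀
  have hidx : (MulAction.stabilizer G x₀).index = Nat.card X :=
    MulAction.index_stabilizer_of_transitive G x₀
  have hmul := Subgroup.index_mul_card (MulAction.stabilizer G x₀)
  -- the embedded subgroup lies in the stabiliser
  have hφstab : ∀ g, φ g ∈ MulAction.stabilizer G x₀ := by
    intro g
    rw [MulAction.mem_stabilizer_iff]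
    apply Subtype.ext
    rw [hsmul]
    exact hφfix g
  have hdvd : Nat.card ↥(Cfsg.isometryGroup F (Cfsg.quadFormOdd (d - a) F)) ∣
      Nat.card (MulAction.stabilizer G x₀) := by
    apply Subgroup.card_dvd_of_injective (φ.codRestrict (MulAction.stabilizer G x₀) hφstab)
    intro g h hgh
    apply hφinj
    have := congrArg Subtype.val hgh
    exact this
  obtain ⟨t, ht⟩ := hdvd
  have hG' : Nat.card G = 2 * q ^ (d ^ 2) * ∏ i ∈ Finset.range d, (q ^ (2 * (i + 1)) - 1) :=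
    Cfsg.Agent.S0286.result hq hqodd d
  have hH' := Cfsg.Agent.S0286.result (F := F) hq hqodd (d - a)
  have hHpos : 0 < Nat.card ↥(Cfsg.isometryGroup F (Cfsg.quadFormOdd (d - a) F)) := Nat.card_pos
  -- arithmetic
  have hprod := Finset.prod_range_mul_prod_Ico (fun i => q ^ (2 * (i + 1)) - 1)
    (Nat.sub_le d a)
  have hsq : (d - a) ^ 2 ≤ d ^ 2 := Nat.pow_le_pow_left (Nat.sub_le d a) 2
  have hK : Nat.card G = Nat.card ↥(Cfsg.isometryGroup F (Cfsg.quadFormOdd (d - a) F)) *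
      (q ^ (d ^ 2 - (d - a) ^ 2) * ∏ j ∈ Finset.Ico (d - a) d, (q ^ (2 * (j + 1)) - 1)) := by
    rw [hG', hH', ← hprod]
    have : q ^ (d ^ 2) = q ^ ((d - a) ^ 2) * q ^ (d ^ 2 - (d - a) ^ 2) := by
      rw [← pow_add]; congr 1; omega
    rw [this]
    ring
  rw [ht, hidx, hK] at hmul
  have hfinal : Nat.card X * t =
      q ^ (d ^ 2 - (d - a) ^ 2) * ∏ j ∈ Finset.Ico (d - a) d, (q ^ (2 * (j + 1)) - 1) := by
    apply Nat.eq_of_mul_eq_mul_left hHpos
    rw [← hmul]; ring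
  intro hr
  have hnt := Cfsg.Agent.S5992P.nt_count (q := q) (r := r) hr2 hrq d a (cc F r)
    (by rw [cc_def, hq]) had (by rw [← ha2]; exact hmk)
  apply hnt
  rw [← hfinal]
  exact Dvd.dvd.mul_right hr t

end Cfsg.Agent.S5992P
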