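import Mathlib
import Cfsg.Agent.Helper6.S5992Defs
import Cfsg.Agent.Helper3.S5992NTYPEEVEN
import Cfsg.Agent.Helper15.S5992SUPND
import Cfsg.Agent.Helper15.S5992TYPESUM
import Cfsg.Agent.Helper7.S5992EXC
import Cfsg.Agent.Helper8.S5992SPLITW
import Cfsg.Agent.Helper8.S5992DVDC
import Cfsg.Agent.Helper25.S5992BLOCKS
import Cfsg.Agent.Helper25.S5992NTYPEODD
import Cfsg.Agent.Helper18.S5961ARITH
import Cfsg.Agent.Helper10.S5961FIXSPLIT

/-! S5992 pieces SUFF and NECSTR (assemblies). -/

set_option autoImplicit false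

namespace Cfsg.Agent.S5992P

open Cfsg.Agent.Helper2.SympInvol Cfsg.Agent.Helper2.SympUnits Cfsg.Agent.S5961P

namespace SUFF

variable {F V : Type*} [Field F] [AddCommGroup V] [Module F V]

theorem map_biSup_le {ι : Type*} (y : Module.End F V) (E : ι → Submodule F V) (s : Finset ι)
    (h : ∀ j, (E j).map y ≤ E j) : (⨆ j ∈ s, E j).map y ≤ ⨆ j ∈ s, E j := by
  rw [Submodule.map_iSup]
  apply iSup_mono
  intro j
  rw [Submodule.map_iSup]
  apply iSup_mono
  intro _
  exact h j

theorem map_le_of_le_ker (y : Module.End F V) (W : Submodule F V)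
    (h : W ≤ LinearMap.ker (y - 1)) : W.map y ≤ W := by
  rintro _ ⟨w, hw, rfl⟩
  have := h hw
  rw [LinearMap.mem_ker, LinearMap.sub_apply, Module.End.one_apply, sub_eq_zero] at this
  rw [this]
  exact hw

theorem orth_mono {B : LinearMap.BilinForm F V} {M N M' N' : Submodule F V} (h : Orth B M N)
    (hM : M' ≤ M) (hN : N' ≤ N) : Orth B M' N' := fun u hu v hv => h u (hM hu) v (hN hv)

theorem plus_of_eq_bot (Q : QuadraticForm F V) (W : Submodule F V) (h : Module.finrank F W = 0)
    [FiniteDimensional F V] : Plus Q W := by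
  have : W = ⊥ := Submodule.finrank_eq_zero.mp h
  rw [this]
  exact plus_bot Q

end SUFF

open SUFF

/-- SUFF -/
theorem exists_ty_invariant {F V : Type*} [Field F] [Fintype F] [AddCommGroup V] [Module F V]
    [FiniteDimensional F V] {p : ℕ} [Fact p.Prime] [CharP F p] (r : ℕ) [Fact r.Prime]
    (hr2 : r ≠ 2) (hrp : r ≠ p) (h2 : (2 : F) ≠ 0) (Q : QuadraticForm F V)
    (y : Module.End F V) (hY : IsYO Q y r) (ε : Bool) (m : ℕ)
    (hme : Even m) (hmn : m + 1 ≤ Module.finrank F V) (i c : ℕ)
    (hi : i = orderOf ((Fintype.card F : ℕ) : ZMod r)) (hc : c = cc F r)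
    (h1 : m % c < Module.finrank F V % c)
    (h2o : Odd i → (ε = true ∨ 0 < m % c))
    (h2e : Even i → (0 < m % c ∨ (Even (m / i) ↔ ε = true))) :
    ∃ W : Submodule F V, IsTy Q ε m W ∧ W.map y ≤ W := by
  classical
  obtain ⟨hipos, hcpos, hceven, -, -, -, -, -⟩ := cc_arith (F := F) (p := p) r hr2 hrp
  rw [← hi] at hipos
  rw [← hc] at hcpos hceven
  obtain ⟨hCnd, hNnd, hCN, hdim⟩ := fix_nondeg (p := p) r hrp Q y hY
  obtain ⟨hcompl, -, -, -, -⟩ := fix_split (p := p) r hrp (PB Q) y (PB_isom Q hY.isom) hY.pow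
  obtain ⟨b, E, hEinv, hEnd, hEfr, hEorth, hEind, hEsup⟩ :=
    exists_blocks_sym (p := p) r hr2 hrp h2 Q y hY
  set C := LinearMap.ker (y - 1) with hCdef
  set N := LinearMap.range (y - 1) with hNdef
  set k := Module.finrank F C with hk
  set n := Module.finrank F V with hn
  -- dimension of `N`
  have hNdim : Module.finrank F N = b * c := by
    have h3 : (⨆ j ∈ (Finset.univ : Finset (Fin b)), E j) = ⨆ j, E j := by simp
    have := finrank_biSup E hEind Finset.univ
    rw [h3, hEsup] at this
    rw [this]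
    simp [hEfr, hc]
  have hnk : n = k + b * c := by rw [← hNdim]; exact hdim.symm
  have hkmod : n % c ≤ k := by
    rw [hnk, Nat.add_mul_mod_self_right]
    exact Nat.mod_le _ _
  -- the number of blocks used
  set a := min b (m / c) with ha
  have hab : a ≤ b := min_le_left _ _
  have hamc : a ≤ m / c := min_le_right _ _
  have hcam : c * a ≤ m := le_trans (Nat.mul_le_mul_left c hamc) (Nat.mul_div_le m c)
  set e := m - c * a with he
  have hmea : m = e + c * a := by omega
  have heeven : Even e := by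
    rw [he]
    exact (Nat.even_sub hcam).mpr ⟨fun _ => hceven.mul_right a, fun _ => hme⟩
  have hek : e + 1 ≤ k := by
    rcases le_total b (m / c) with hle | hle
    · have : a = b := min_eq_left hle
      rw [this] at hmea hcam
      have : b * c = c * b := mul_comm _ _
      omega
    · have hamc' : a = m / c := min_eq_right hle
      have : e = m % c := by
        rw [he, hamc']
        have := Nat.div_add_mod m c
        omega
      omega
  have he0 : e = 0 → m % c = 0 ∧ a = m / c := by
    intro h0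
    have hm' : m = c * a := by omega
    constructor
    · rw [hm']; exact Nat.mul_mod_right c a
    · rw [hm', Nat.mul_div_cancel_left a hcpos]
  -- the part in `N`
  set s : Finset (Fin b) := Finset.univ.filter (fun j => j.val < a) with hs
  have hscard : s.card = a := by
    rw [hs]
    have : (Finset.univ.filter (fun j : Fin b => j.val < a)) =
        (Finset.univ : Finset (Fin a)).map ⟨Fin.castLE hab, Fin.castLE_injective hab⟩ := by
      ext j
      simp only [Finset.mem_filter, Finset.mem_univ, true_and, Finset.mem_map,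
        Function.Embedding.coeFn_mk]
      constructor
      · intro hj
        exact ⟨⟨j.val, hj⟩, by ext; simp⟩
      · rintro ⟨j', rfl⟩
        simp
    rw [this, Finset.card_map, Finset.card_univ, Fintype.card_fin]
  set WN : Submodule F V := ⨆ j ∈ s, E j with hWN
  have hWNdim : Module.finrank F WN = c * a := by
    rw [hWN, finrank_biSup E hEind s]
    simp [hEfr, hscard, ← hc, mul_comm]
  have hWNnd : Nondeg (PB Q) WN :=
    nondeg_biSup E s (fun j _ => hEnd j) (fun j _ j' _ hjj' => hEorth j j' hjj')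
  have hWNinv : WN.map y ≤ WN := map_biSup_le y E s hEinv
  have hWNle : WN ≤ N := by
    rw [hWN, ← hEsup]
    exact iSup₂_le (fun j _ => le_iSup E j)
  have hWNfix : WN ⊓ LinearMap.ker (y - 1) = ⊥ := by
    apply le_bot_iff.mp
    intro v hv
    have : v ∈ C ⊓ N := ⟨hv.2, hWNle hv.1⟩
    rw [hcompl.inf_eq_bot] at this
    exact this
  have hWNeven : Even (Module.finrank F WN) := by rw [hWNdim]; exact hceven.mul_right a
  -- the type of the `N`-part when `e = 0`
  have hP0 : e = 0 → (Plus Q WN ↔ ε = true) := by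
    intro h0
    obtain ⟨hm0, hamc'⟩ := he0 h0
    rcases Nat.even_or_odd i with hie | hio
    · have hci : c = i := by rw [hc, cc_def, ← hi, if_pos hie]
      have := plus_iff_even_of_fpf (p := p) r hr2 hrp h2 Q y hY (by rw [← hi]; exact hie) WN
        hWNinv hWNnd hWNfix
      rw [this, ← hi, hWNdim, hci, Nat.mul_div_cancel_left a hipos]
      rcases h2e hie with h | h
      · omega
      · rw [hamc', hci]; exact h
    · have := plus_of_fpf_odd (p := p) r hr2 hrp h2 Q y hY (by rw [← hi]; exact hio) WN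
        hWNinv hWNnd hWNfix
      rcases h2o hio with h | h
      · exact ⟨fun _ => h, fun _ => this⟩
      · omega
  -- the part in `C`
  set εC : Bool := decide (Plus Q WN ↔ ε = true) with hεC
  have hεC' : εC = true ↔ (Plus Q WN ↔ ε = true) := by rw [hεC]; exact decide_eq_true_iff
  obtain ⟨WC, hWCle, hWCdim, hWCnd, hWCty⟩ := exists_sub_ty h2 Q C hCnd εC e heeven
    (by
      intro hf
      by_contra hlt
      have h0 : e = 0 := by
        obtain ⟨t, ht⟩ := heeven
        omega
      have := hεC'.mpr (hP0 h0)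
      rw [hf] at this
      exact Bool.false_ne_true this) hek
  have hWCinv : WC.map y ≤ WC := map_le_of_le_ker y WC hWCle
  have horth : Orth (PB Q) WC WN := orth_mono hCN hWCle hWNle
  obtain ⟨hnd, -, hfr⟩ := nondeg_sup_orth Q WC WN hWCnd hWNnd horth
  refine ⟨WC ⊔ WN, ⟨?_, hnd, ?_⟩, ?_⟩
  · rw [hfr, hWCdim, hWNdim]; omega
  · rw [plus_sup_iff h2 Q WC WN hWCnd hWNnd horth (by rw [hWCdim]; exact heeven) hWNeven,
      hWCty, hεC']
    tauto
  · rw [Submodule.map_sup]
    exact sup_le_sup hWCinv hWNinv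

/-- NECSTR -/
theorem ty_invariant_arith {F V : Type*} [Field F] [Fintype F] [AddCommGroup V] [Module F V]
    [FiniteDimensional F V] {p : ℕ} [Fact p.Prime] [CharP F p] (r : ℕ) [Fact r.Prime]
    (hr2 : r ≠ 2) (hrp : r ≠ p) (h2 : (2 : F) ≠ 0) (Q : QuadraticForm F V)
    (y : Module.End F V) (hY : IsYO Q y r) (ε : Bool) (m : ℕ) (hme : Even m)
    (W : Submodule F V) (hW : IsTy Q ε m W) (hWy : W.map y ≤ W) (i c : ℕ)
    (hi : i = orderOf ((Fintype.card F : ℕ) : ZMod r)) (hc : c = cc F r) :
    ∃ a e : ℕ, m = e + c * a ∧ Even e ∧ e ≤ Module.finrank F (LinearMap.ker (y - 1)) ∧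
      (Odd i → (ε = true ∨ 0 < e)) ∧ (Even i → (0 < e ∨ (Even a ↔ ε = true))) := by
  classical
  obtain ⟨hipos, hcpos, hceven, -, -, -, -, -⟩ := cc_arith (F := F) (p := p) r hr2 hrp
  rw [← hi] at hipos
  rw [← hc] at hcpos hceven
  obtain ⟨hcompl, -, -, -, -⟩ := fix_split (p := p) r hrp (PB Q) y (PB_isom Q hY.isom) hY.pow
  obtain ⟨hWdim, hWnd, hWty⟩ := hW
  obtain ⟨hWCnd, hWNnd, horth, hsup, hWNinv⟩ := inv_split_nd (p := p) r hrp Q y hY W hWy hWnd
  set WC := W ⊓ LinearMap.ker (y - 1) with hWC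
  set WN := W ⊓ LinearMap.range (y - 1) with hWN
  have hWNfix : WN ⊓ LinearMap.ker (y - 1) = ⊥ := by
    apply le_bot_iff.mp
    intro v hv
    have : v ∈ LinearMap.ker (y - 1) ⊓ LinearMap.range (y - 1) := ⟨hv.2, hv.1.2⟩
    rw [hcompl.inf_eq_bot] at this
    exact this
  obtain ⟨a, ha⟩ := cc_dvd_of_fpf (p := p) r hr2 hrp h2 Q y hY WN hWNinv hWNnd hWNfix
  rw [← hc] at ha
  obtain ⟨-, -, hfr⟩ := nondeg_sup_orth Q WC WN hWCnd hWNnd horth
  rw [hsup, hWdim, ha] at hfr
  set e := Module.finrank F WC with he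
  have heeven : Even e := by
    have : e = m - c * a := by omega
    rw [this]
    exact (Nat.even_sub (by omega)).mpr ⟨fun _ => hceven.mul_right a, fun _ => hme⟩
  have hWNeven : Even (Module.finrank F WN) := by rw [ha]; exact hceven.mul_right a
  have hty := plus_sup_iff h2 Q WC WN hWCnd hWNnd horth heeven hWNeven
  rw [hsup] at hty
  refine ⟨a, e, hfr, heeven, Submodule.finrank_mono inf_le_right, ?_, ?_⟩
  · intro hio
    rcases Nat.eq_zero_or_pos e with h0 | h0
    · left
      have hpC : Plus Q WC := plus_of_eq_bot Q WC h0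
      have hpN := plus_of_fpf_odd (p := p) r hr2 hrp h2 Q y hY (by rw [← hi]; exact hio) WN
        hWNinv hWNnd hWNfix
      exact hWty.mp (hty.mpr ⟨fun _ => hpN, fun _ => hpC⟩)
    · right; exact h0
  · intro hie
    rcases Nat.eq_zero_or_pos e with h0 | h0
    · right
      have hpC : Plus Q WC := plus_of_eq_bot Q WC h0
      have hci : c = i := by rw [hc, cc_def, ← hi, if_pos hie]
      have hpN := plus_iff_even_of_fpf (p := p) r hr2 hrp h2 Q y hY (by rw [← hi]; exact hie) WN
        hWNinv hWNnd hWNfix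
      rw [← hi, ha, hci, Nat.mul_div_cancel_left a hipos] at hpN
      rw [← hWty, hty, ← hpN]
      tauto
    · left; exact h0

end Cfsg.Agent.S5992P
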