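import Mathlib

/-!
Subgroups of symmetric groups generated by few transpositions: orbits of the subgroup generated by
`m` transpositions have at most `m + 1` points.  Also: nontrivial normal subgroups of `Perm α`
are transitive, so their order is divisible by `card α`.
-/

set_option autoImplicit false

namespace Cfsg.Agent.Helper6

open Equiv

section orbit

variable {α : Type*} [DecidableEq α] [Finite α]

/-- Orbits of a group generated by `m` transpositions have at most `m + 1` points. -/
theorem orbit_card_le {m : ℕ} (t : Fin m → Perm α) (ht : ∀ i, (t i).IsSwap) (x : α) :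
    Nat.card (MulAction.orbit (Subgroup.closure (Set.range t)) x) ≤ m + 1 := by
  classical
  choose a b hab ht' using ht
  let E : Set (Sym2 α) := Set.range (fun i => s(a i, b i))
  let Gr : SimpleGraph α := SimpleGraph.fromEdgeSet E
  have hadj : ∀ i, Gr.Adj (a i) (b i) := by
    intro i
    rw [SimpleGraph.fromEdgeSet_adj]
    exact ⟨⟨i, rfl⟩, hab i⟩
  have hreach : ∀ g ∈ Subgroup.closure (Set.range t), ∀ y : α, Gr.Reachable y (g y) := by
    intro g hg
    induction hg using Subgroup.closure_induction with
    | mem g hg =>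
      obtain ⟨i, rfl⟩ := hg
      intro y
      rw [ht' i]
      by_cases h1 : y = a i
      · rw [h1, swap_apply_left]; exact (hadj i).reachable
      · by_cases h2 : y = b i
        · rw [h2, swap_apply_right]; exact (hadj i).symm.reachable
        · rw [swap_apply_of_ne_of_ne h1 h2]
    | one => intro y; exact SimpleGraph.Reachable.refl _
    | mul g h _ _ ihg ihh =>
      intro y
      exact (ihh y).trans (ihg (h y))
    | inv g _ ih =>
      intro y
      have h := ih (g⁻¹ y)
      have e : g (g⁻¹ y) = y := by
        rw [Perm.inv_def]; exact g.apply_symm_apply y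
      rw [e] at h
      exact h.symm
  let C := Gr.connectedComponentMk x
  have hsub : MulAction.orbit (Subgroup.closure (Set.range t)) x ⊆ C.supp := by
    rintro y ⟨⟨g, hg⟩, rfl⟩
    show Gr.connectedComponentMk _ = Gr.connectedComponentMk x
    rw [SimpleGraph.ConnectedComponent.eq]
    exact (hreach g hg x).symm
  have h1 : Nat.card (MulAction.orbit (Subgroup.closure (Set.range t)) x) ≤ Nat.card C.supp :=
    Nat.card_mono (Set.toFinite _) hsub
  have h2 : Nat.card C.supp ≤ Nat.card C.toSimpleGraph.edgeSet + 1 :=
    C.connected_toSimpleGraph.card_vert_le_card_edgeSet_add_one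
  have h3 : Nat.card C.toSimpleGraph.edgeSet ≤ Nat.card Gr.edgeSet := by
    apply Nat.card_le_card_of_injective C.toSimpleGraph_hom.mapEdgeSet
    apply SimpleGraph.Hom.mapEdgeSet.injective
    intro u v huv
    exact Subtype.ext huv
  have h4 : Nat.card Gr.edgeSet ≤ m := by
    have h5 : Gr.edgeSet ⊆ E := by
      rw [SimpleGraph.edgeSet_fromEdgeSet]
      exact Set.sdiff_subset
    have h6 : Nat.card Gr.edgeSet ≤ Nat.card E := Nat.card_mono (Set.toFinite _) h5
    have h7 : Nat.card E ≤ Nat.card (Fin m) := Finite.card_range_le _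
    rw [Nat.card_fin] at h7
    omega
  omega

end orbit

section cauchy

variable {α : Type*} [Finite α]

/-- If all orbits of a permutation group have fewer than `p` points, `p` does not divide its order. -/
theorem not_dvd_card_of_orbit_lt (H : Subgroup (Perm α)) (p : ℕ) [Fact p.Prime]
    (h : ∀ x : α, Nat.card (MulAction.orbit H x) < p) : ¬ p ∣ Nat.card H := by
  intro hdvd
  have hp : p.Prime := Fact.out
  obtain ⟨⟨g, hg⟩, hord⟩ := exists_prime_orderOf_dvd_card' p hdvd
  have hord' : orderOf g = p := by
    rw [← hord]; exact (Subgroup.orderOf_mk g hg).symm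
  have hg1 : g ≠ 1 := by
    rintro rfl
    rw [orderOf_one] at hord'
    exact hp.one_lt.ne hord'
  obtain ⟨x, hx⟩ : ∃ x, g x ≠ x := by
    by_contra hcon
    push Not at hcon
    exact hg1 (Perm.ext hcon)
  have hper : MulAction.period g x = p := by
    have h1 := MulAction.period_dvd_orderOf g x
    rw [hord'] at h1
    rcases (Nat.dvd_prime hp).mp h1 with h2 | h2
    · exfalso
      have h3 := MulAction.pow_period_smul g x
      rw [h2, pow_one] at h3
      exact hx h3
    · exact h2
  have hcard : Nat.card (MulAction.orbit (Subgroup.zpowers g) x) = p := by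
    rw [Nat.card_congr (MulAction.orbitZPowersEquiv g x), Nat.card_zmod]
    exact hper
  have hsub : MulAction.orbit (Subgroup.zpowers g) x ⊆ MulAction.orbit H x := by
    rintro y ⟨⟨k, hk⟩, rfl⟩
    have hkH : k ∈ H := by
      obtain ⟨n, rfl⟩ := Subgroup.mem_zpowers_iff.mp hk
      exact H.zpow_mem hg n
    exact ⟨⟨k, hkH⟩, rfl⟩
  have hle := Nat.card_mono (Set.toFinite _) hsub
  have := h x
  omega

end cauchy

section normal

variable {α : Type*} [DecidableEq α]

/-- A nontrivial normal subgroup of `Perm α` is transitive, hence its order is divisible by the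
number of points. -/
theorem card_dvd_card_of_normal (N : Subgroup (Perm α)) [N.Normal] (hN : N ≠ ⊥) :
    Nat.card α ∣ Nat.card N := by
  obtain ⟨σ, hσN, hσ1⟩ : ∃ σ ∈ N, σ ≠ 1 := by
    obtain ⟨⟨σ, hσ⟩, h⟩ := (Subgroup.ne_bot_iff_exists_ne_one (H := N)).mp hN
    exact ⟨σ, hσ, fun h1 => h (Subtype.ext h1)⟩
  obtain ⟨x, hx⟩ : ∃ x, σ x ≠ x := by
    by_contra hcon
    push Not at hcon
    exact hσ1 (Perm.ext hcon)
  have horb : MulAction.orbit N x = Set.univ := by
    rw [Set.eq_univ_iff_forall]
    intro v
    by_cases hv : v = x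
    · rw [hv]; exact MulAction.mem_orbit_self x
    · -- conjugate σ by the swap of σ x and v
      let τ : Perm α := swap (σ x) v
      have hτx : τ x = x := swap_apply_of_ne_of_ne (Ne.symm hx) (Ne.symm hv)
      have hτx' : τ⁻¹ x = x := by
        rw [Perm.inv_eq_iff_eq, hτx]
      have hmem : τ * σ * τ⁻¹ ∈ N := ‹N.Normal›.conj_mem σ hσN τ
      refine ⟨⟨_, hmem⟩, ?_⟩
      show (τ * σ * τ⁻¹) x = v
      simp only [Perm.coe_mul, Function.comp_apply, hτx']
      exact swap_apply_left _ _
  have h2 : Nat.card (MulAction.orbit N x) = Nat.card α := by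
    rw [horb]; exact Nat.card_congr (Equiv.Set.univ α)
  have h3 : Nat.card (MulAction.orbit N x) * Nat.card (MulAction.stabilizer N x) = Nat.card N := by
    have := Nat.card_congr (MulAction.orbitProdStabilizerEquivGroup N x)
    rw [Nat.card_prod] at this
    exact this
  rw [← h3, h2]
  exact dvd_mul_right _ _

end normal

end Cfsg.Agent.Helper6
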